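import Mathlib

set_option autoImplicit false
set_option linter.style.haveILetI false

universe v u

open CategoryTheory CategoryTheory.Limits

namespace Groth.Agent.Helper6.AbNoeth

variable {C : Type u} [Category.{v} C] [Abelian C]

/-- In an abelian category, a morphism killed by the cokernel of a subobject factors through it. -/
lemma factors_of_comp_cokernel_zero {X Y : C} (S : Subobject X) (h : Y ⟶ X)
    (w : h ≫ cokernel.π S.arrow = 0) : S.Factors h := by
  have hk := Abelian.monoIsKernelOfCokernel
    (CokernelCofork.ofπ (cokernel.π S.arrow) (cokernel.condition S.arrow))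
    (cokernelIsCokernel S.arrow)
  obtain ⟨l, hl⟩ := KernelFork.IsLimit.lift' hk h w
  have hl' : l ≫ S.arrow = h := hl
  rw [← hl']
  exact Subobject.factors_comp_arrow l

/-- preimage of a subobject, as a kernel subobject -/
noncomputable def pre {X Y : C} (g : X ⟶ Y) (T : Subobject Y) : Subobject X :=
  kernelSubobject (g ≫ cokernel.π T.arrow)

lemma pre_mono {X Y : C} (g : X ⟶ Y) {T T' : Subobject Y} (h : T ≤ T') : pre g T ≤ pre g T' := by
  have w : T.arrow ≫ cokernel.π T'.arrow = 0 := by
    rw [← Subobject.ofLE_arrow h, Category.assoc, cokernel.condition, comp_zero]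
  have e : g ≫ cokernel.π T'.arrow =
      (g ≫ cokernel.π T.arrow) ≫ cokernel.desc T.arrow (cokernel.π T'.arrow) w := by
    rw [Category.assoc, cokernel.π_desc]
  unfold pre
  apply le_kernelSubobject
  rw [e, ← Category.assoc, kernelSubobject_arrow_comp, zero_comp]

lemma pre_factors_iff {X Y W : C} (g : X ⟶ Y) (T : Subobject Y) (h : W ⟶ X) :
    (pre g T).Factors h ↔ h ≫ g ≫ cokernel.π T.arrow = 0 :=
  kernelSubobject_factors_iff _ _

/-- Lemma A: for an epimorphism, preimages reflect the order. -/
lemma le_of_pre_le {X Y : C} (g : X ⟶ Y) [Epi g] {T T' : Subobject Y}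
    (hle : pre g T' ≤ pre g T) : T' ≤ T := by
  apply Subobject.le_of_factors
  apply factors_of_comp_cokernel_zero
  have hsnd : Epi (pullback.snd g T'.arrow) := inferInstance
  rw [← cancel_epi (pullback.snd g T'.arrow), comp_zero, ← Category.assoc, ← pullback.condition,
    Category.assoc]
  have h1 : (pre g T').Factors (pullback.fst g T'.arrow) := by
    rw [pre_factors_iff, ← Category.assoc, pullback.condition, Category.assoc,
      cokernel.condition, comp_zero]
  have h2 := Subobject.factors_of_le _ hle h1
  exact (pre_factors_iff _ _ _).mp h2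

/-- image of a subobject -/
noncomputable def img {X Y : C} (g : X ⟶ Y) (T : Subobject X) : Subobject Y :=
  imageSubobject (T.arrow ≫ g)

lemma img_mono {X Y : C} (g : X ⟶ Y) {T T' : Subobject X} (h : T ≤ T') : img g T ≤ img g T' := by
  unfold img
  refine imageSubobject_le _ (Subobject.ofLE T T' h ≫ factorThruImageSubobject (T'.arrow ≫ g)) ?_
  rw [Category.assoc, imageSubobject_arrow_comp, ← Category.assoc, Subobject.ofLE_arrow]

/-- Lemma B: in a short exact sequence, a subobject of the middle term is determined, among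
comparable ones, by its preimage in the kernel and its image in the cokernel. -/
lemma le_of_pre_le_of_img_le (S : ShortComplex C) (hS : S.ShortExact) {T T' : Subobject S.X₂}
    (hTT' : T ≤ T') (h1 : pre S.f T' ≤ pre S.f T) (h3 : img S.g T' ≤ img S.g T) : T' ≤ T := by
  haveI := hS.mono_f
  unfold img at h3
  apply Subobject.le_of_factors
  apply factors_of_comp_cokernel_zero
  -- w : T' ⟶ image of T
  have hw : (imageSubobject (T.arrow ≫ S.g)).Factors (T'.arrow ≫ S.g) := by
    apply Subobject.factors_of_le _ h3
    have := Subobject.factors_comp_arrow (P := imageSubobject (T'.arrow ≫ S.g))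
      (factorThruImageSubobject (T'.arrow ≫ S.g))
    rwa [imageSubobject_arrow_comp] at this
  obtain ⟨w, hw'⟩ : ∃ w : (T' : C) ⟶ (imageSubobject (T.arrow ≫ S.g) : C),
      w ≫ (imageSubobject (T.arrow ≫ S.g)).arrow = T'.arrow ≫ S.g :=
    ⟨(imageSubobject (T.arrow ≫ S.g)).factorThru _ hw, Subobject.factorThru_arrow _ _ hw⟩
  have he0 : Epi (factorThruImageSubobject (T.arrow ≫ S.g)) := inferInstance
  obtain ⟨e, he, hee⟩ : ∃ e : (T : C) ⟶ (imageSubobject (T.arrow ≫ S.g) : C), Epi e ∧
      e ≫ (imageSubobject (T.arrow ≫ S.g)).arrow = T.arrow ≫ S.g :=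
    ⟨factorThruImageSubobject (T.arrow ≫ S.g), he0, imageSubobject_arrow_comp _⟩
  haveI := he
  have ha : Epi (pullback.fst w e) := inferInstance
  rw [← cancel_epi (pullback.fst w e), comp_zero]
  -- δ
  have hδ : (pullback.fst w e ≫ T'.arrow - pullback.snd w e ≫ T.arrow) ≫ S.g = 0 := by
    have e1 : pullback.fst w e ≫ T'.arrow ≫ S.g =
        pullback.fst w e ≫ w ≫ (imageSubobject (T.arrow ≫ S.g)).arrow := by rw [hw']
    have e2 : pullback.snd w e ≫ T.arrow ≫ S.g =
        pullback.snd w e ≫ e ≫ (imageSubobject (T.arrow ≫ S.g)).arrow := by rw [hee]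
    rw [Preadditive.sub_comp, Category.assoc, Category.assoc, e1, e2, ← Category.assoc,
      ← Category.assoc, pullback.condition, sub_self]
  obtain ⟨c, hc⟩ := hS.exact.lift' _ hδ
  have hTT'0 : T.arrow ≫ cokernel.π T'.arrow = 0 := by
    rw [← Subobject.ofLE_arrow hTT', Category.assoc, cokernel.condition, comp_zero]
  have hc1 : (pre S.f T').Factors c := by
    rw [pre_factors_iff, ← Category.assoc, hc, Preadditive.sub_comp, Category.assoc,
      Category.assoc, cokernel.condition, comp_zero, hTT'0, comp_zero, sub_self]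
  have hc2 := (pre_factors_iff _ _ _).mp (Subobject.factors_of_le _ h1 hc1)
  rw [← Category.assoc, hc, Preadditive.sub_comp, Category.assoc, Category.assoc,
    cokernel.condition, comp_zero, sub_zero] at hc2
  exact hc2

lemma strictMono_of_reflects {α β : Type*} [Preorder α] [Preorder β] (F : α → β)
    (hmono : Monotone F) (hrefl : ∀ a a', a ≤ a' → F a' ≤ F a → a' ≤ a) : StrictMono F := by
  intro a a' h
  exact lt_of_le_not_ge (hmono h.le) (fun h' => h.not_ge (hrefl a a' h.le h'))

lemma strictMono_pre {X Y : C} (g : X ⟶ Y) [Epi g] : StrictMono (pre g) :=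
  strictMono_of_reflects _ (fun _ _ h => pre_mono g h) (fun _ _ _ h => le_of_pre_le g h)

lemma strictMono_pair (S : ShortComplex C) (hS : S.ShortExact) :
    StrictMono (fun T : Subobject S.X₂ => (pre S.f T, img S.g T)) :=
  strictMono_of_reflects _ (fun _ _ h => ⟨pre_mono S.f h, img_mono S.g h⟩)
    (fun _ _ h h' => le_of_pre_le_of_img_le S hS h h'.1 h'.2)

theorem noeth_of_epi {X Y : C} (g : X ⟶ Y) [Epi g] (h : IsNoetherianObject X) :
    IsNoetherianObject Y := by
  haveI : WellFoundedGT (Subobject X) := inferInstance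
  exact (isNoetherianObject.is_iff Y).mpr (strictMono_pre g).wellFoundedGT

theorem art_of_epi {X Y : C} (g : X ⟶ Y) [Epi g] (h : IsArtinianObject X) :
    IsArtinianObject Y := by
  haveI : WellFoundedLT (Subobject X) := inferInstance
  exact (isArtinianObject.is_iff Y).mpr (strictMono_pre g).wellFoundedLT

theorem noeth_of_shortExact (S : ShortComplex C) (hS : S.ShortExact)
    (h1 : IsNoetherianObject S.X₁) (h3 : IsNoetherianObject S.X₃) : IsNoetherianObject S.X₂ := by
  haveI : WellFoundedGT (Subobject S.X₁) := inferInstance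
  haveI : WellFoundedGT (Subobject S.X₃) := inferInstance
  exact (isNoetherianObject.is_iff S.X₂).mpr (strictMono_pair S hS).wellFoundedGT

theorem art_of_shortExact (S : ShortComplex C) (hS : S.ShortExact)
    (h1 : IsArtinianObject S.X₁) (h3 : IsArtinianObject S.X₃) : IsArtinianObject S.X₂ := by
  haveI : WellFoundedLT (Subobject S.X₁) := inferInstance
  haveI : WellFoundedLT (Subobject S.X₃) := inferInstance
  exact (isArtinianObject.is_iff S.X₂).mpr (strictMono_pair S hS).wellFoundedLT

lemma shortExact_biprod (X Y : C) :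
    (ShortComplex.mk (biprod.inl : X ⟶ X ⊞ Y) biprod.snd biprod.inl_snd).ShortExact :=
  ShortComplex.Splitting.shortExact
    { r := biprod.fst
      s := biprod.inr
      f_r := biprod.inl_fst
      s_g := biprod.inr_snd
      id := biprod.total }

end Groth.Agent.Helper6.AbNoeth
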