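import Mathlib
import Groth.Prelude.Def_ARSys
import Groth.Agent.Lib.Helper6.AbNoeth

set_option autoImplicit false
set_option linter.style.haveILetI false

universe w v u

open CategoryTheory CategoryTheory.Limits Opposite ARSys ZeroObject

namespace Groth.Agent.Helper6.ARAdicTerms

variable {C : Type u} [Category.{v} C] [Abelian C] {A : Type w} [CommRing A] [Linear A C]

lemma se_kernel {L B : C} (p : L ⟶ B) [Epi p] :
    (ShortComplex.mk (kernel.ι p) p (kernel.condition p)).ShortExact :=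
  ShortComplex.ShortExact.mk' (ShortComplex.exact_of_f_is_kernel _ (kernelIsKernel p))
    (inferInstanceAs (Mono (kernel.ι p))) (inferInstanceAs (Epi p))

lemma isQuot_epi {I : Ideal A} {X Q : C} {p : X ⟶ Q} (h : IsQuot I p) : Epi p := by
  constructor
  intro Y ψ₁ ψ₂ hψ
  have hk : HomKilledBy I (p ≫ ψ₁) := by
    intro a ha
    have e : a • ψ₁ = (a • 𝟙 Q) ≫ ψ₁ := by rw [Linear.smul_comp, Category.id_comp]
    rw [← Linear.comp_smul, e, h.1 a ha, zero_comp, comp_zero]
  obtain ⟨ψ, _, huniq⟩ := h.2 Y (p ≫ ψ₁) hk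
  rw [huniq ψ₁ rfl, huniq ψ₂ hψ.symm]

lemma killed_span (s : Finset A) (I : Ideal A) (hs : Submodule.span A (↑s : Set A) = I)
    {X Y : C} (φ : X ⟶ Y) (h : ∀ a ∈ s, a • φ = 0) : HomKilledBy I φ := by
  intro a ha
  rw [← hs] at ha
  refine Submodule.span_induction (p := fun a _ => a • φ = 0)
    (fun x hx => h x (Finset.mem_coe.mp hx)) (zero_smul _ _)
    (fun x y _ _ hx hy => by rw [add_smul, hx, hy, add_zero])
    (fun c x _ hx => by rw [smul_eq_mul, mul_smul, hx, smul_zero]) ha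

lemma exists_cover (P : C → Prop) (hzero : ∀ X : C, IsZero X → P X)
    (hext : ∀ S : ShortComplex C, S.ShortExact → P S.X₁ → P S.X₃ → P S.X₂)
    {X0 X1 : C} (t : X1 ⟶ X0) [Epi t] (h0 : P X0) (s : Finset A)
    (hs : ∀ a ∈ s, ∃ ψ : X0 ⟶ X1, t ≫ ψ = a • 𝟙 X1) :
    ∃ (W : C) (τ : W ⟶ X1), P W ∧ ∀ (Y : C) (φ : X1 ⟶ Y), τ ≫ φ = 0 ↔ ∀ a ∈ s, a • φ = 0 := by
  classical
  induction s using Finset.induction_on with
  | empty =>
    refine ⟨0, 0, hzero _ (isZero_zero C), fun Y φ => ?_⟩
    simp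
  | insert a s' ha ih =>
    obtain ⟨W', τ', hW', hτ'⟩ := ih (fun b hb => hs b (Finset.mem_insert_of_mem hb))
    obtain ⟨ψ, hψ⟩ := hs a (Finset.mem_insert_self a s')
    refine ⟨X0 ⊞ W', biprod.desc ψ τ', hext _ (AbNoeth.shortExact_biprod X0 W') h0 hW',
      fun Y φ => ?_⟩
    have key : ψ ≫ φ = 0 ↔ a • φ = 0 := by
      have e : t ≫ ψ ≫ φ = a • φ := by
        rw [← Category.assoc, hψ, Linear.smul_comp, Category.id_comp]
      constructor
      · intro h
        rw [← e, h, comp_zero]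
      · intro h
        rw [← cancel_epi t, e, h, comp_zero]
    constructor
    · intro h b hb
      rcases Finset.mem_insert.mp hb with h_eq | hb'
      · rw [h_eq]
        apply key.mp
        have := congrArg (fun x => biprod.inl ≫ x) h
        simpa using this
      · apply (hτ' Y φ).mp _ b hb'
        have := congrArg (fun x => biprod.inr ≫ x) h
        simpa using this
    · intro h
      apply biprod.hom_ext'
      · rw [← Category.assoc, biprod.inl_desc, comp_zero]
        exact key.mpr (h a (Finset.mem_insert_self a s'))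
      · rw [← Category.assoc, biprod.inr_desc, comp_zero]
        exact (hτ' Y φ).mpr (fun b hb => h b (Finset.mem_insert_of_mem hb))

theorem adic_terms (P : C → Prop) (hzero : ∀ X : C, IsZero X → P X)
    (hquot : ∀ {X Y : C} (g : X ⟶ Y) [Epi g], P X → P Y)
    (hext : ∀ S : ShortComplex C, S.ShortExact → P S.X₁ → P S.X₃ → P S.X₂)
    [IsNoetherianRing A] (J : Ideal A) (X : PS C) (hX : IsAdic J X)
    (h0 : P (X.obj (op 0))) : ∀ n : ℕ, P (X.obj (op n)) := by
  intro n
  induction n with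
  | zero => exact h0
  | succ n ih =>
    obtain ⟨hk, hq⟩ := hX
    have hp := hq n (n + 1) (Nat.le_succ n)
    have ht := hq 0 (n + 1) (Nat.zero_le _)
    haveI : Epi (tr X (Nat.zero_le (n + 1))) := isQuot_epi ht
    obtain ⟨s, hs⟩ := (isNoetherianRing_iff_ideal_fg A).mp inferInstance (J ^ (n + 1))
    have hψ : ∀ a ∈ s, ∃ ψ : X.obj (op 0) ⟶ X.obj (op (n + 1)),
        tr X (Nat.zero_le (n + 1)) ≫ ψ = a • 𝟙 _ := by
      intro a ha
      have haJ : a ∈ J ^ (n + 1) := by
        rw [← hs]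
        exact Submodule.subset_span (Finset.mem_coe.mpr ha)
      have hkill : HomKilledBy (J ^ (0 + 1)) (a • 𝟙 (X.obj (op (n + 1)))) := by
        intro b hb
        rw [smul_smul]
        apply hk (n + 1)
        have h1 : b * a ∈ J ^ (0 + 1) * J ^ (n + 1) := Ideal.mul_mem_mul hb haJ
        rw [← pow_add] at h1
        have e : 0 + 1 + (n + 1) = n + 1 + 1 := by omega
        rwa [e] at h1
      obtain ⟨ψ, hψ, _⟩ := ht.2 _ _ hkill
      exact ⟨ψ, hψ⟩
    obtain ⟨W, τ, hW, hτ⟩ := exists_cover P hzero hext (tr X (Nat.zero_le (n + 1))) h0 s hψ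
    have hπ : HomKilledBy (J ^ (n + 1)) (cokernel.π τ) :=
      killed_span s _ hs _ ((hτ _ _).mp (cokernel.condition τ))
    obtain ⟨ψ', hψ', _⟩ := hp.2 _ _ hπ
    haveI : Epi ψ' := epi_of_epi_fac hψ'
    have hQ : P (cokernel τ) := hquot ψ' ih
    have hK : P (kernel (cokernel.π τ)) := hquot (Abelian.factorThruImage τ) hW
    exact hext _ (se_kernel (cokernel.π τ)) hK hQ

end Groth.Agent.Helper6.ARAdicTerms
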