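import Mathlib
import Groth.Prelude.Def_ARSys

set_option autoImplicit false
set_option linter.style.haveILetI false

universe w v u

open CategoryTheory CategoryTheory.Limits Opposite ARSys

namespace Groth.Agent.Helper6.ARSysBasic

variable {C : Type u} [Category.{v} C]

lemma hom_eq {k l : ℕᵒᵖ} (f g : k ⟶ l) : f = g :=
  Quiver.Hom.unop_inj (Subsingleton.elim _ _)

lemma tr_comp (X : PS C) {n m k : ℕ} (h₁ : n ≤ m) (h₂ : m ≤ k) :
    tr X h₂ ≫ tr X h₁ = tr X (h₁.trans h₂) := by
  unfold tr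
  rw [← X.map_comp]
  congr 1

lemma tr_self (X : PS C) (n : ℕ) : tr X (le_refl n) = 𝟙 _ := by
  unfold tr
  rw [← X.map_id]
  congr 1

/-- The canonical morphism `X[r] ⟶ X`. -/
def shiftNat (X : PS C) (r : ℕ) : (shift C r).obj X ⟶ X where
  app k := X.map (homOfLE (Nat.le_add_right k.unop r)).op
  naturality k l f := by
    show X.map ((addF r).op.map f) ≫ X.map _ = X.map _ ≫ X.map f
    rw [← X.map_comp, ← X.map_comp]
    congr 1

lemma shiftNat_app (X : PS C) (r n : ℕ) : (shiftNat X r).app (op n) = shiftMap X r n := rfl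

lemma nat_tr {X Y : PS C} (u : X ⟶ Y) {n m : ℕ} (h : n ≤ m) :
    tr X h ≫ u.app (op n) = u.app (op m) ≫ tr Y h :=
  u.naturality _

section Abelian

variable [Abelian C]

lemma image_tr_congr (X : PS C) {n a b : ℕ} (hab : a = b) (h₁ : n ≤ a) (h₂ : n ≤ b) :
    imageSubobject (tr X h₁) = imageSubobject (tr X h₂) := by
  subst hab
  rfl

/-- (I1) -/
lemma image_le_of_comp_cokernel_zero {T A B : C} (z : T ⟶ B) (f : A ⟶ B)
    (h : z ≫ cokernel.π f = 0) : imageSubobject z ≤ imageSubobject f := by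
  have h0 : f ≫ cokernel.π (imageSubobject f).arrow = 0 := by
    have e : factorThruImageSubobject f ≫ (imageSubobject f).arrow ≫
        cokernel.π (imageSubobject f).arrow = 0 := by rw [cokernel.condition, comp_zero]
    rwa [← Category.assoc, imageSubobject_arrow_comp] at e
  have h1 : cokernel.π (imageSubobject f).arrow =
      cokernel.π f ≫ cokernel.desc f (cokernel.π (imageSubobject f).arrow) h0 := by
    rw [cokernel.π_desc]
  have h2 : z ≫ cokernel.π (imageSubobject f).arrow = 0 := by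
    rw [h1, ← Category.assoc, h, zero_comp]
  have hk := Abelian.monoIsKernelOfCokernel
    (CokernelCofork.ofπ (cokernel.π (imageSubobject f).arrow)
      (cokernel.condition (imageSubobject f).arrow))
    (cokernelIsCokernel (imageSubobject f).arrow)
  obtain ⟨l, hl⟩ := KernelFork.IsLimit.lift' hk z h2
  exact imageSubobject_le z l hl

/-- (I2) -/
lemma image_le_image_epi_comp {A' A B : C} (e : A' ⟶ A) [Epi e] (f : A ⟶ B) :
    imageSubobject f ≤ imageSubobject (e ≫ f) := by
  apply image_le_of_comp_cokernel_zero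
  rw [← cancel_epi e, comp_zero, ← Category.assoc, cokernel.condition]

lemma image_epi_comp {A' A B : C} (e : A' ⟶ A) [Epi e] (f : A ⟶ B) :
    imageSubobject (e ≫ f) = imageSubobject f :=
  le_antisymm (imageSubobject_comp_le e f) (image_le_image_epi_comp e f)

lemma image_factors_self {A B : C} (f : A ⟶ B) : (imageSubobject f).Factors f := by
  have := Subobject.factors_comp_arrow (P := imageSubobject f) (factorThruImageSubobject f)
  rwa [imageSubobject_arrow_comp] at this

lemma epi_of_image_le {T X' Y Z : C} (g : T ⟶ Y) (e : X' ⟶ Y) [Epi e] (m : Y ⟶ Z) [Mono m]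
    (h : imageSubobject (e ≫ m) ≤ imageSubobject (g ≫ m)) : Epi g := by
  apply Preadditive.epi_of_cancel_zero
  intro Z' φ hφ
  have hf : (imageSubobject (g ≫ m)).Factors (e ≫ m) :=
    Subobject.factors_of_le _ h (image_factors_self _)
  obtain ⟨k, hk⟩ : ∃ k, k ≫ (imageSubobject (g ≫ m)).arrow = e ≫ m :=
    ⟨_, Subobject.factorThru_arrow _ _ hf⟩
  obtain ⟨P, π, hπ, b, hb⟩ :=
    surjective_up_to_refinements_of_epi (factorThruImageSubobject (g ≫ m)) k
  haveI := hπ
  have h1 : π ≫ e ≫ m = b ≫ g ≫ m := by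
    rw [← hk, ← Category.assoc, hb, Category.assoc, imageSubobject_arrow_comp]
  have h2 : π ≫ e = b ≫ g := by
    rw [← cancel_mono m, Category.assoc, Category.assoc, h1]
  have h3 : π ≫ e ≫ φ = 0 := by
    rw [← Category.assoc, h2, Category.assoc, hφ, comp_zero]
  exact zero_of_epi_comp e (zero_of_epi_comp π h3)

lemma kernel_app_lift {X Y : PS C} (u : X ⟶ Y) (k : ℕᵒᵖ) {T : C} (x : T ⟶ X.obj k)
    (hx : x ≫ u.app k = 0) : ∃ l : T ⟶ (kernel u).obj k, l ≫ (kernel.ι u).app k = x := by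
  have h1 : kernelComparison u ((evaluation ℕᵒᵖ C).obj k) ≫
      kernel.ι (((evaluation ℕᵒᵖ C).obj k).map u) =
      ((evaluation ℕᵒᵖ C).obj k).map (kernel.ι u) := kernelComparison_comp_ι u _
  refine ⟨kernel.lift (((evaluation ℕᵒᵖ C).obj k).map u) x hx ≫
    inv (kernelComparison u ((evaluation ℕᵒᵖ C).obj k)), ?_⟩
  have h2 : (kernel.ι u).app k = ((evaluation ℕᵒᵖ C).obj k).map (kernel.ι u) := rfl
  rw [h2, ← h1, Category.assoc, IsIso.inv_hom_id_assoc, kernel.lift_ι]

lemma kernel_app_condition {X Y : PS C} (u : X ⟶ Y) (k : ℕᵒᵖ) :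
    (kernel.ι u).app k ≫ u.app k = 0 := by
  rw [← NatTrans.comp_app, kernel.condition]
  rfl

lemma cokernel_app_condition {X Y : PS C} (u : X ⟶ Y) (k : ℕᵒᵖ) :
    u.app k ≫ (cokernel.π u).app k = 0 := by
  rw [← NatTrans.comp_app, cokernel.condition]
  rfl

lemma cokernel_app_zero {X Y : PS C} (u : X ⟶ Y) (k : ℕᵒᵖ) {T : C} (z : T ⟶ Y.obj k) :
    z ≫ (cokernel.π u).app k = 0 ↔ z ≫ cokernel.π (u.app k) = 0 := by
  have h1 : cokernel.π (((evaluation ℕᵒᵖ C).obj k).map u) ≫
      cokernelComparison u ((evaluation ℕᵒᵖ C).obj k) =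
      ((evaluation ℕᵒᵖ C).obj k).map (cokernel.π u) := π_comp_cokernelComparison u _
  have h2 : (cokernel.π u).app k = ((evaluation ℕᵒᵖ C).obj k).map (cokernel.π u) := rfl
  rw [h2, ← h1]
  constructor
  · intro h
    rw [← Category.assoc] at h
    have h' : (z ≫ cokernel.π (((evaluation ℕᵒᵖ C).obj k).map u)) ≫
        cokernelComparison u ((evaluation ℕᵒᵖ C).obj k) =
        0 ≫ cokernelComparison u ((evaluation ℕᵒᵖ C).obj k) := by rw [h, zero_comp]
    exact (cancel_mono _).mp h'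
  · intro h
    have h' : z ≫ cokernel.π (((evaluation ℕᵒᵖ C).obj k).map u) = 0 := h
    rw [← Category.assoc, h', zero_comp]

lemma shiftMap_eq_tr (X : PS C) (r n : ℕ) : shiftMap X r n = tr X (Nat.le_add_right n r) := rfl

/-- (N1) -/
lemma arNull_kernel_iff {X Y : PS C} (u : X ⟶ Y) :
    IsARNull (kernel u) ↔ ∃ r : ℕ, ∀ (n : ℕ) (T : C) (x : T ⟶ X.obj (op (n + r))),
      x ≫ u.app (op (n + r)) = 0 → x ≫ tr X (Nat.le_add_right n r) = 0 := by
  have hnat : ∀ r n, tr (kernel u) (Nat.le_add_right n r) ≫ (kernel.ι u).app (op n) =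
      (kernel.ι u).app (op (n + r)) ≫ tr X (Nat.le_add_right n r) := fun r n =>
    (kernel.ι u).naturality _
  constructor
  · rintro ⟨r, hr⟩
    refine ⟨r, fun n T x hx => ?_⟩
    obtain ⟨l, hl⟩ := kernel_app_lift u (op (n + r)) x hx
    have hr' : tr (kernel u) (Nat.le_add_right n r) = 0 := hr n
    rw [← hl, Category.assoc, ← hnat, hr', zero_comp, comp_zero]
  · rintro ⟨r, hr⟩
    refine ⟨r, fun n => ?_⟩
    show tr (kernel u) (Nat.le_add_right n r) = 0
    rw [← cancel_mono ((kernel.ι u).app (op n)), zero_comp, hnat]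
    exact hr n _ _ (kernel_app_condition u _)

/-- (N2) -/
lemma arNull_cokernel_iff {X Y : PS C} (u : X ⟶ Y) :
    IsARNull (cokernel u) ↔ ∃ r : ℕ, ∀ n : ℕ,
      tr Y (Nat.le_add_right n r) ≫ (cokernel.π u).app (op n) = 0 := by
  have hnat : ∀ r n, (cokernel.π u).app (op (n + r)) ≫ tr (cokernel u) (Nat.le_add_right n r) =
      tr Y (Nat.le_add_right n r) ≫ (cokernel.π u).app (op n) := fun r n =>
    ((cokernel.π u).naturality _).symm
  constructor
  · rintro ⟨r, hr⟩
    refine ⟨r, fun n => ?_⟩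
    have hr' : tr (cokernel u) (Nat.le_add_right n r) = 0 := hr n
    rw [← hnat, hr', comp_zero]
  · rintro ⟨r, hr⟩
    refine ⟨r, fun n => ?_⟩
    show tr (cokernel u) (Nat.le_add_right n r) = 0
    rw [← cancel_epi ((cokernel.π u).app (op (n + r))), comp_zero, hnat, hr n]

end Abelian

end Groth.Agent.Helper6.ARSysBasic
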