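import Mathlib
import Groth.Prelude.Def_ARSys
import Groth.Agent.Lib.Helper6.ARSysBasic
import Groth.Agent.Lib.Helper6.ARAdicTerms

set_option autoImplicit false
set_option linter.style.haveILetI false

universe w v u

open CategoryTheory CategoryTheory.Limits Opposite ARSys
open Groth.Agent.Helper6.ARSysBasic

namespace Groth.Agent.Helper6.ARSysML

variable {C : Type u} [Category.{v} C]

/-- Build a morphism of projective systems from components. -/
def mkNat (X Y : PS C) (f : ∀ n : ℕ, X.obj (op n) ⟶ Y.obj (op n))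
    (h : ∀ (n m : ℕ) (hnm : n ≤ m), tr X hnm ≫ f n = f m ≫ tr Y hnm) : X ⟶ Y where
  app k := f k.unop
  naturality k l g := by
    have hg : g = (homOfLE (leOfHom g.unop)).op := hom_eq _ _
    rw [hg]
    exact h l.unop k.unop (leOfHom g.unop)

lemma mkNat_app (X Y : PS C) (f : ∀ n : ℕ, X.obj (op n) ⟶ Y.obj (op n))
    (h : ∀ (n m : ℕ) (hnm : n ≤ m), tr X hnm ≫ f n = f m ≫ tr Y hnm) (n : ℕ) :
    (mkNat X Y f h).app (op n) = f n := rfl

section Abelian

variable [Abelian C]

lemma image_congr {A B : C} {f g : A ⟶ B} (h : f = g) : imageSubobject f = imageSubobject g := by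
  subst h
  rfl

lemma image_tr_antitone (X : PS C) {n a b : ℕ} (h₁ : n ≤ a) (h₂ : a ≤ b) :
    imageSubobject (tr X (h₁.trans h₂)) ≤ imageSubobject (tr X h₁) := by
  rw [image_congr (tr_comp X h₁ h₂).symm]
  exact imageSubobject_comp_le _ _

theorem mlar_of_strict (X Y : PS C) (u : Y ⟶ X) (hY : IsStrict Y) (hc : IsARNull (cokernel u)) :
    IsMLAR X := by
  obtain ⟨r, hr⟩ := (arNull_cokernel_iff u).mp hc
  have key : ∀ s, r ≤ s → ∀ n, imageSubobject (tr X (Nat.le_add_right n s)) =
      imageSubobject (u.app (op n)) := by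
    intro s hs n
    apply le_antisymm
    · apply image_le_of_comp_cokernel_zero
      rw [← cokernel_app_zero]
      have h1 : tr X (Nat.le_add_right n s) =
          tr X (Nat.add_le_add_left hs n) ≫ tr X (Nat.le_add_right n r) := (tr_comp X _ _).symm
      rw [h1, Category.assoc, hr n, comp_zero]
    · haveI : Epi (tr Y (Nat.le_add_right n s)) := hY _ _ _
      rw [← image_epi_comp (tr Y (Nat.le_add_right n s)) (u.app (op n)),
        image_congr (nat_tr u (Nat.le_add_right n s))]
      exact imageSubobject_comp_le _ _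
  refine ⟨r, fun s hs n => ?_⟩
  show imageSubobject (tr X (Nat.le_add_right n s)) = imageSubobject (tr X (Nat.le_add_right n r))
  rw [key s hs n, key r le_rfl n]

/-- Components of `factorThruImage (shiftNat X r)` with explicit types. -/
noncomputable def eN (X : PS C) (r k : ℕ) :
    X.obj (op (k + r)) ⟶ (Limits.image (shiftNat X r)).obj (op k) :=
  (factorThruImage (shiftNat X r)).app (op k)

instance (X : PS C) (r k : ℕ) : Epi (eN X r k) :=
  inferInstanceAs (Epi ((factorThruImage (shiftNat X r)).app (op k)))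

lemma image_fac (X : PS C) (r k : ℕ) :
    eN X r k ≫ (Limits.image.ι (shiftNat X r)).app (op k) = tr X (Nat.le_add_right k r) := by
  have h : (factorThruImage (shiftNat X r)).app (op k) ≫
      (Limits.image.ι (shiftNat X r)).app (op k) = (shiftNat X r).app (op k) := by
    rw [← NatTrans.comp_app, image.fac]
  exact h

lemma image_arNull_kernel (X : PS C) (r : ℕ) :
    IsARNull (kernel (Limits.image.ι (shiftNat X r))) := by
  rw [arNull_kernel_iff]
  refine ⟨0, fun n T x hx => ?_⟩
  have : x = 0 := zero_of_comp_mono _ hx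
  rw [this, zero_comp]

lemma image_arNull_cokernel (X : PS C) (r : ℕ) :
    IsARNull (cokernel (Limits.image.ι (shiftNat X r))) := by
  rw [arNull_cokernel_iff]
  refine ⟨r, fun n => ?_⟩
  rw [← image_fac X r n, Category.assoc, cokernel_app_condition, comp_zero]

lemma image_strict (X : PS C) (r : ℕ)
    (hr : ∀ s : ℕ, r ≤ s → ∀ n : ℕ,
      imageSubobject (shiftMap X s n) = imageSubobject (shiftMap X r n)) :
    IsStrict (Limits.image (shiftNat X r)) := by
  intro n m h
  obtain ⟨d, rfl⟩ := Nat.exists_eq_add_of_le h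
  apply epi_of_image_le (tr (Limits.image (shiftNat X r)) h)
    (eN X r n) ((Limits.image.ι (shiftNat X r)).app (op n))
  have h1 : tr (Limits.image (shiftNat X r)) h ≫ (Limits.image.ι (shiftNat X r)).app (op n) =
      (Limits.image.ι (shiftNat X r)).app (op (n + d)) ≫ tr X h := nat_tr _ h
  have h2 : imageSubobject (eN X r (n + d) ≫
      (Limits.image.ι (shiftNat X r)).app (op (n + d)) ≫ tr X h) =
      imageSubobject ((Limits.image.ι (shiftNat X r)).app (op (n + d)) ≫ tr X h) :=
    image_epi_comp _ _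
  have h3 : eN X r (n + d) ≫
      (Limits.image.ι (shiftNat X r)).app (op (n + d)) ≫ tr X h =
      tr X (h.trans (Nat.le_add_right (n + d) r)) := by
    rw [← Category.assoc, image_fac, tr_comp]
  have h4 : imageSubobject (tr X (h.trans (Nat.le_add_right (n + d) r))) =
      imageSubobject (tr X (Nat.le_add_right n (d + r))) :=
    image_tr_congr X (Nat.add_assoc n d r) _ _
  have h5 : imageSubobject (tr X (Nat.le_add_right n (d + r))) =
      imageSubobject (tr X (Nat.le_add_right n r)) := hr (d + r) (Nat.le_add_left r d) n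
  rw [image_congr (image_fac X r n), image_congr h1, ← h2, image_congr h3, h4, h5]

theorem strict_of_mlar (X : PS C) (h : IsMLAR X) :
    ∃ (Y : PS C) (u : Y ⟶ X), IsStrict Y ∧ IsARIso u := by
  obtain ⟨r, hr⟩ := h
  exact ⟨Limits.image (shiftNat X r), Limits.image.ι (shiftNat X r), image_strict X r hr,
    image_arNull_kernel X r, image_arNull_cokernel X r⟩

theorem mlar_iff_strict (X : PS C) :
    IsMLAR X ↔ ∃ (Y : PS C) (u : Y ⟶ X), IsStrict Y ∧ IsARIso u :=
  ⟨strict_of_mlar X, fun ⟨Y, u, hY, _, hc⟩ => mlar_of_strict X Y u hY hc⟩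

/-- S3188 -/
theorem mlar_iff_univ_image (X : PS C) :
    IsMLAR X ↔ (IsML X ∧ ∃ (X' : PS C) (ι : X' ⟶ X), Mono ι ∧
      (∀ n : ℕ, ∃ r₀ : ℕ, ∀ r : ℕ, r₀ ≤ r →
        imageSubobject (ι.app (op n)) = imageSubobject (shiftMap X r n)) ∧
      IsARNull (cokernel ι)) := by
  constructor
  · rintro ⟨r, hr⟩
    refine ⟨fun n => ⟨r, fun s hs => hr s hs n⟩, Limits.image (shiftNat X r),
      Limits.image.ι (shiftNat X r), inferInstance, fun n => ⟨r, fun r' hr' => ?_⟩,
      image_arNull_cokernel X r⟩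
    have h1 : imageSubobject (shiftMap X r' n) = imageSubobject (tr X (Nat.le_add_right n r)) :=
      hr r' hr' n
    rw [h1, ← image_congr (image_fac X r n), image_epi_comp]
  · rintro ⟨_, X', ι, _, hstab, hc⟩
    obtain ⟨r₂, hr₂⟩ := (arNull_cokernel_iff ι).mp hc
    refine ⟨r₂, fun s hs n => ?_⟩
    show imageSubobject (tr X (Nat.le_add_right n s)) =
      imageSubobject (tr X (Nat.le_add_right n r₂))
    apply le_antisymm
    · exact image_tr_antitone X (Nat.le_add_right n r₂) (Nat.add_le_add_left hs n)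
    · obtain ⟨r₀, hr₀⟩ := hstab n
      have h1 : imageSubobject (tr X (Nat.le_add_right n r₂)) ≤ imageSubobject (ι.app (op n)) := by
        apply image_le_of_comp_cokernel_zero
        rw [← cokernel_app_zero]
        exact hr₂ n
      have h2 : imageSubobject (ι.app (op n)) =
          imageSubobject (tr X (Nat.le_add_right n (max r₀ s))) := hr₀ _ (le_max_left _ _)
      have h3 : imageSubobject (tr X (Nat.le_add_right n (max r₀ s))) ≤
          imageSubobject (tr X (Nat.le_add_right n s)) :=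
        image_tr_antitone X (Nat.le_add_right n s) (Nat.add_le_add_left (le_max_right r₀ s) n)
      exact h1.trans (h2.le.trans h3)

end Abelian

section Linear

variable [Abelian C] {A : Type w} [CommRing A] [Linear A C]

open Groth.Agent.Helper6.ARAdicTerms

/-- Components of a morphism out of a translate, with explicit types. -/
def vN {X Y : PS C} {r : ℕ} (v : (shift C r).obj Y ⟶ X) (n : ℕ) :
    Y.obj (op (n + r)) ⟶ X.obj (op n) := v.app (op n)

lemma vN_nat {X Y : PS C} {r : ℕ} (v : (shift C r).obj Y ⟶ X) (n m : ℕ) (h : n ≤ m) :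
    tr Y (Nat.add_le_add_right h r) ≫ vN v n = vN v m ≫ tr X h :=
  v.naturality (homOfLE h).op

lemma shift_kernel {X Y : PS C} {r : ℕ} (v : (shift C r).obj Y ⟶ X) (h : IsARNull (kernel v)) :
    ∃ r₁ : ℕ, ∀ (n : ℕ) (T : C) (x : T ⟶ Y.obj (op (n + r₁ + r))),
      x ≫ vN v (n + r₁) = 0 →
      x ≫ tr Y (Nat.add_le_add_right (Nat.le_add_right n r₁) r) = 0 := by
  obtain ⟨r₁, hr₁⟩ := (arNull_kernel_iff v).mp h
  exact ⟨r₁, fun n T x hx => hr₁ n T x hx⟩

lemma shift_cokernel {X Y : PS C} {r : ℕ} (v : (shift C r).obj Y ⟶ X)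
    (h : IsARNull (cokernel v)) :
    ∃ r₂ : ℕ, ∀ n : ℕ, tr X (Nat.le_add_right n r₂) ≫ cokernel.π (vN v n) = 0 := by
  obtain ⟨r₂, hr₂⟩ := (arNull_cokernel_iff v).mp h
  exact ⟨r₂, fun n => (cokernel_app_zero v (op n) (tr X (Nat.le_add_right n r₂))).mp (hr₂ n)⟩

/-- S3178 -/
theorem shift_descend (J : Ideal A) (X Y : PS C) (kX : TermKilled J X) (hY : IsAdic J Y) (r : ℕ)
    (v : (shift C r).obj Y ⟶ X) (hv : IsARIso v) : ∃ u : Y ⟶ X, IsARIso u := by
  have hvk : ∀ n : ℕ, HomKilledBy (J ^ (n + 1)) (vN v n) := by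
    intro n a ha
    have e : a • vN v n = vN v n ≫ (a • 𝟙 (X.obj (op n))) := by
      rw [Linear.comp_smul, Category.comp_id]
    rw [e, kX n a ha, comp_zero]
  have hex : ∀ n : ℕ, ∃! ψ : Y.obj (op n) ⟶ X.obj (op n),
      tr Y (Nat.le_add_right n r) ≫ ψ = vN v n :=
    fun n => (hY.2 n (n + r) (Nat.le_add_right n r)).2 _ (vN v n) (hvk n)
  choose f hf _ using hex
  have hepi : ∀ n : ℕ, Epi (tr Y (Nat.le_add_right n r)) :=
    fun n => isQuot_epi (hY.2 n (n + r) (Nat.le_add_right n r))
  have hf' : ∀ n : ℕ, tr Y (Nat.le_add_right n r) ≫ f n = vN v n := hf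
  have hnat : ∀ (n m : ℕ) (h : n ≤ m), tr Y h ≫ f n = f m ≫ tr X h := by
    intro n m h
    haveI := hepi m
    rw [← cancel_epi (tr Y (Nat.le_add_right m r)), ← Category.assoc, ← Category.assoc, hf' m,
      ← vN_nat v n m h, ← hf' n, ← Category.assoc, tr_comp, tr_comp]
  refine ⟨mkNat Y X f hnat, ?_, ?_⟩
  · obtain ⟨r₁, hr₁⟩ := shift_kernel v hv.1
    rw [arNull_kernel_iff]
    refine ⟨r₁, fun n T x hx => ?_⟩
    haveI := hepi (n + r₁)
    obtain ⟨T', π, hπ, x', hx'⟩ :=
      surjective_up_to_refinements_of_epi (tr Y (Nat.le_add_right (n + r₁) r)) x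
    haveI := hπ
    have hx0 : x ≫ f (n + r₁) = 0 := hx
    have h1 : x' ≫ vN v (n + r₁) = 0 := by
      rw [← hf' (n + r₁), ← Category.assoc, ← hx', Category.assoc, hx0, comp_zero]
    have h2 : x' ≫ tr Y (Nat.add_le_add_right (Nat.le_add_right n r₁) r) = 0 :=
      hr₁ n T' x' h1
    rw [← cancel_epi π, comp_zero, ← Category.assoc, hx', Category.assoc, tr_comp]
    have h3 : tr Y ((Nat.le_add_right n r₁).trans (Nat.le_add_right (n + r₁) r)) =
        tr Y (Nat.add_le_add_right (Nat.le_add_right n r₁) r) ≫ tr Y (Nat.le_add_right n r) :=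
      (tr_comp Y _ _).symm
    rw [h3, ← Category.assoc, h2, zero_comp]
  · obtain ⟨r₂, hr₂⟩ := shift_cokernel v hv.2
    rw [arNull_cokernel_iff]
    refine ⟨r₂, fun n => ?_⟩
    rw [cokernel_app_zero]
    have hz : vN v n ≫ cokernel.π ((mkNat Y X f hnat).app (op n)) = 0 := by
      rw [← hf' n, Category.assoc]
      have : f n ≫ cokernel.π ((mkNat Y X f hnat).app (op n)) = 0 := cokernel.condition _
      rw [this, comp_zero]
    have h4 : cokernel.π ((mkNat Y X f hnat).app (op n)) =
        cokernel.π (vN v n) ≫ cokernel.desc (vN v n) _ hz := by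
      rw [cokernel.π_desc]
    rw [h4, ← Category.assoc, hr₂ n, zero_comp]

end Linear

end Groth.Agent.Helper6.ARSysML
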