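import Mathlib
import Groth.Prelude.Def_ARSys
import Groth.Agent.Lib.Helper6.ARSysBasic
import Groth.Agent.Lib.Helper6.ARSysML
import Groth.Agent.Lib.Helper6.ARAdicTerms

set_option autoImplicit false
set_option linter.style.haveILetI false
set_option linter.unusedSectionVars false

universe w v u

open CategoryTheory CategoryTheory.Limits Opposite ARSys
open Groth.Agent.Helper6.ARSysBasic Groth.Agent.Helper6.ARSysML Groth.Agent.Helper6.ARAdicTerms

namespace Groth.Agent.Helper6.ARIdeal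

variable {C : Type u} [Category.{v} C] [Abelian C] {A : Type w} [CommRing A] [Linear A C]

/-- `τ : W ⟶ X` generates `I • X`: a map out of `X` kills `τ` iff it is killed by `I`. -/
def IsGen (I : Ideal A) {W X : C} (τ : W ⟶ X) : Prop :=
  ∀ (Y : C) (φ : X ⟶ Y), τ ≫ φ = 0 ↔ HomKilledBy I φ

lemma homKilledBy_of_tgt {I : Ideal A} {X Y : C} (φ : X ⟶ Y) (h : KilledBy I Y) :
    HomKilledBy I φ := by
  intro a ha
  have e : a • φ = φ ≫ (a • 𝟙 Y) := by rw [Linear.comp_smul, Category.comp_id]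
  rw [e, h a ha, comp_zero]

lemma homKilledBy_of_src {I : Ideal A} {X Y : C} (φ : X ⟶ Y) (h : KilledBy I X) :
    HomKilledBy I φ := by
  intro a ha
  have e : a • φ = (a • 𝟙 X) ≫ φ := by rw [Linear.smul_comp, Category.id_comp]
  rw [e, h a ha, zero_comp]

lemma homKilledBy_comp_right {I : Ideal A} {X Y Z : C} {φ : X ⟶ Y} (h : HomKilledBy I φ)
    (ψ : Y ⟶ Z) : HomKilledBy I (φ ≫ ψ) := by
  intro a ha
  rw [← Linear.smul_comp, h a ha, zero_comp]

lemma homKilledBy_comp_left {I : Ideal A} {W X Y : C} (ψ : W ⟶ X) {φ : X ⟶ Y}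
    (h : HomKilledBy I φ) : HomKilledBy I (ψ ≫ φ) := by
  intro a ha
  rw [← Linear.comp_smul, h a ha, comp_zero]

lemma homKilledBy_of_epi_comp {I : Ideal A} {W X Y : C} (e : W ⟶ X) [Epi e] {φ : X ⟶ Y}
    (h : HomKilledBy I (e ≫ φ)) : HomKilledBy I φ := by
  intro a ha
  rw [← cancel_epi e, comp_zero, Linear.comp_smul, h a ha]

lemma homKilledBy_mono {I I' : Ideal A} (hI : I ≤ I') {X Y : C} {φ : X ⟶ Y}
    (h : HomKilledBy I' φ) : HomKilledBy I φ := fun a ha => h a (hI ha)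

lemma killedBy_of_epi {I : Ideal A} {X Q : C} (p : X ⟶ Q) [Epi p] (h : HomKilledBy I p) :
    KilledBy I Q := by
  intro a ha
  rw [← cancel_epi p, comp_zero, Linear.comp_smul, Category.comp_id, h a ha]

lemma killedBy_mono {I I' : Ideal A} (hI : I ≤ I') {X : C} (h : KilledBy I' X) : KilledBy I X :=
  fun a ha => h a (hI ha)

theorem exists_gen_fg (I : Ideal A) (hI : I.FG) (X : C) :
    ∃ (W : C) (τ : W ⟶ X), IsGen I τ := by
  obtain ⟨s, hs⟩ := hI
  haveI : HasFiniteBiproducts C := Abelian.hasFiniteBiproducts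
  refine ⟨⨁ (fun _ : s => X), biproduct.desc (fun a : s => (a : A) • 𝟙 X), fun Y φ => ?_⟩
  constructor
  · intro h
    apply killed_span s I hs φ
    intro a ha
    have h1 : biproduct.ι (fun _ : s => X) ⟨a, ha⟩ ≫
        biproduct.desc (fun b : s => (b : A) • 𝟙 X) ≫ φ = 0 := by rw [h, comp_zero]
    rw [← Category.assoc, biproduct.ι_desc, Linear.smul_comp, Category.id_comp] at h1
    exact h1
  · intro h
    apply biproduct.hom_ext'
    intro a
    rw [← Category.assoc, biproduct.ι_desc, comp_zero, Linear.smul_comp, Category.id_comp]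
    exact h a (hs ▸ Ideal.subset_span a.2)

theorem exists_gen_coprod [HasCoproducts.{w} C] (I : Ideal A) (X : C) :
    ∃ (W : C) (τ : W ⟶ X), IsGen I τ := by
  refine ⟨∐ (fun _ : I => X), Sigma.desc (fun a : I => (a : A) • 𝟙 X), fun Y φ => ?_⟩
  constructor
  · intro h a ha
    have h1 : Sigma.ι (fun _ : I => X) ⟨a, ha⟩ ≫
        Sigma.desc (fun b : I => (b : A) • 𝟙 X) ≫ φ = 0 := by rw [h, comp_zero]
    rw [← Category.assoc, Sigma.ι_desc, Linear.smul_comp, Category.id_comp] at h1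
    exact h1
  · intro h
    apply Sigma.hom_ext
    intro a
    rw [← Category.assoc, Sigma.ι_desc, comp_zero, Linear.smul_comp, Category.id_comp]
    exact h a a.2

theorem exists_gen (J : Ideal A) (hJ : J.FG ∨ HasCoproducts.{w} C) (k : ℕ) (X : C) :
    ∃ (W : C) (τ : W ⟶ X), IsGen (J ^ k) τ := by
  rcases hJ with h | h
  · exact exists_gen_fg (J ^ k) (Ideal.FG.pow h) X
  · haveI := h
    exact exists_gen_coprod (J ^ k) X

lemma IsGen.comp_eq_zero {I : Ideal A} {W X : C} {τ : W ⟶ X} (hτ : IsGen I τ) {Y : C}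
    (φ : X ⟶ Y) (h : HomKilledBy I φ) : τ ≫ φ = 0 := (hτ Y φ).mpr h

lemma IsGen.comp_eq_zero_of_tgt {I : Ideal A} {W X : C} {τ : W ⟶ X} (hτ : IsGen I τ) {Y : C}
    (φ : X ⟶ Y) (h : KilledBy I Y) : τ ≫ φ = 0 := (hτ Y φ).mpr (homKilledBy_of_tgt φ h)

lemma IsGen.isQuot_cokernel {I : Ideal A} {W X : C} {τ : W ⟶ X} (hτ : IsGen I τ) :
    IsQuot I (cokernel.π τ) := by
  have hk : HomKilledBy I (cokernel.π τ) := (hτ _ _).mp (cokernel.condition τ)
  refine ⟨killedBy_of_epi _ hk, fun Y φ hφ =>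
    ⟨cokernel.desc τ φ ((hτ Y φ).mpr hφ), cokernel.π_desc _ _ _, ?_⟩⟩
  intro ψ hψ
  rw [← cancel_epi (cokernel.π τ), hψ, cokernel.π_desc]

/-- Elements of the kernel of a quotient map mod `I` come from `τ`. -/
lemma IsGen.lift_of_isQuot {I : Ideal A} {W X : C} {τ : W ⟶ X} (hτ : IsGen I τ) {Q : C}
    {p : X ⟶ Q} (hp : IsQuot I p) {T : C} (y : T ⟶ X) (hy : y ≫ p = 0) :
    ∃ (T' : C) (π : T' ⟶ T) (_ : Epi π) (w : T' ⟶ W), π ≫ y = w ≫ τ := by
  obtain ⟨ψ, hψ, _⟩ := hp.2 _ (cokernel.π τ) ((hτ _ _).mp (cokernel.condition τ))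
  have h0 : y ≫ cokernel.π τ = 0 := by rw [← hψ, ← Category.assoc, hy, zero_comp]
  exact (ShortComplex.exact_cokernel τ).exact_up_to_refinements y h0

lemma isQuot_comp_zero {I : Ideal A} {W X : C} {τ : W ⟶ X} (hτ : IsGen I τ) {Q : C}
    {p : X ⟶ Q} (hp : IsQuot I p) : τ ≫ p = 0 :=
  hτ.comp_eq_zero_of_tgt p hp.1

/-- (T3) lifting ideal multiples along an epimorphism. -/
lemma lift_ideal (S : ShortComplex C) (hS : S.Exact) [Epi S.g] {I : Ideal A} {W : C}
    (τ : W ⟶ S.X₂) (hτ : IsGen I τ) {Q : C} (p : S.X₃ ⟶ Q) (hp : IsQuot I p) {T : C}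
    (y : T ⟶ S.X₂) (hy : y ≫ S.g ≫ p = 0) :
    ∃ (T' : C) (π : T' ⟶ T) (_ : Epi π) (x : T' ⟶ S.X₁) (w : T' ⟶ W),
      π ≫ y = x ≫ S.f + w ≫ τ := by
  have hf : S.f ≫ cokernel.π (biprod.desc S.f τ) = 0 := by
    have h : biprod.inl ≫ biprod.desc S.f τ ≫ cokernel.π (biprod.desc S.f τ) = 0 := by
      rw [cokernel.condition, comp_zero]
    rwa [← Category.assoc, biprod.inl_desc] at h
  have ht : τ ≫ cokernel.π (biprod.desc S.f τ) = 0 := by
    have h : biprod.inr ≫ biprod.desc S.f τ ≫ cokernel.π (biprod.desc S.f τ) = 0 := by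
      rw [cokernel.condition, comp_zero]
    rwa [← Category.assoc, biprod.inr_desc] at h
  obtain ⟨c', hc'⟩ := hS.desc' (cokernel.π (biprod.desc S.f τ)) hf
  have hk' : HomKilledBy I c' := by
    apply homKilledBy_of_epi_comp S.g
    rw [hc']
    exact (hτ _ _).mp ht
  obtain ⟨c'', hc'', _⟩ := hp.2 _ c' hk'
  have h0 : y ≫ cokernel.π (biprod.desc S.f τ) = 0 := by
    rw [← hc', ← hc'', ← Category.assoc S.g, ← Category.assoc y, hy, zero_comp]
  obtain ⟨T', π, hπ, z, hz⟩ :=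
    (ShortComplex.exact_cokernel (biprod.desc S.f τ)).exact_up_to_refinements y h0
  refine ⟨T', π, hπ, z ≫ biprod.fst, z ≫ biprod.snd, ?_⟩
  have hz' : π ≫ y = z ≫ biprod.desc S.f τ := hz
  rw [hz', biprod.desc_eq, Preadditive.comp_add, Category.assoc, Category.assoc]

lemma desc_of_epi {X Q Y : C} (p : X ⟶ Q) [Epi p] (φ : X ⟶ Y) (h : kernel.ι p ≫ φ = 0) :
    ∃ ψ : Q ⟶ Y, p ≫ ψ = φ := by
  have hcok := Abelian.epiIsCokernelOfKernel
    (KernelFork.ofι (kernel.ι p) (kernel.condition p)) (kernelIsKernel p)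
  obtain ⟨ψ, hψ⟩ := CokernelCofork.IsColimit.desc' hcok φ h
  exact ⟨ψ, hψ⟩

end Groth.Agent.Helper6.ARIdeal
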