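import Mathlib
import Groth.Prelude.Def_ARSys
import Groth.Agent.Lib.Helper6.ARSysBasic
import Groth.Agent.Lib.Helper6.ARSysML

set_option autoImplicit false
set_option linter.style.haveILetI false
set_option linter.unusedSectionVars false

universe w v u

open CategoryTheory CategoryTheory.Limits Opposite ARSys
open Groth.Agent.Helper6.ARSysBasic Groth.Agent.Helper6.ARSysML

namespace Groth.Agent.Helper6.ARSysIdx

variable {C : Type u} [Category.{v} C]

@[reassoc]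
lemma trc (X : PS C) {n m k : ℕ} (h₁ : n ≤ m) (h₂ : m ≤ k) :
    tr X h₂ ≫ tr X h₁ = tr X (h₁.trans h₂) := tr_comp X h₁ h₂

@[reassoc]
lemma ntr {X Y : PS C} (u : X ⟶ Y) {n m : ℕ} (h : n ≤ m) :
    tr X h ≫ u.app (op n) = u.app (op m) ≫ tr Y h := nat_tr u h

@[reassoc]
lemma ntr' {X Y : PS C} (u : X ⟶ Y) {n m : ℕ} (h : n ≤ m) :
    u.app (op m) ≫ tr Y h = tr X h ≫ u.app (op n) := (nat_tr u h).symm

variable [Abelian C]

lemma lift_of_image_le {A A' B : C} {f : A ⟶ B} {g : A' ⟶ B}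
    (h : imageSubobject f ≤ imageSubobject g) {T : C} (x : T ⟶ A) :
    ∃ (T' : C) (π : T' ⟶ T) (_ : Epi π) (x' : T' ⟶ A'), π ≫ x ≫ f = x' ≫ g := by
  have hf : (imageSubobject g).Factors (x ≫ f) :=
    Subobject.factors_of_le _ h (Subobject.factors_of_factors_right x (image_factors_self f))
  obtain ⟨k, hk⟩ : ∃ k, k ≫ (imageSubobject g).arrow = x ≫ f :=
    ⟨_, Subobject.factorThru_arrow _ _ hf⟩
  obtain ⟨T', π, hπ, x', hx'⟩ :=
    surjective_up_to_refinements_of_epi (factorThruImageSubobject g) k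
  refine ⟨T', π, hπ, x', ?_⟩
  rw [← hk, ← Category.assoc, hx', Category.assoc, imageSubobject_arrow_comp]

lemma image_le_of_lift {A A' B : C} {f : A ⟶ B} {g : A' ⟶ B}
    (h : ∃ (T' : C) (π : T' ⟶ A) (_ : Epi π) (x' : T' ⟶ A'), π ≫ f = x' ≫ g) :
    imageSubobject f ≤ imageSubobject g := by
  obtain ⟨T', π, hπ, x', hx'⟩ := h
  haveI := hπ
  rw [← image_epi_comp π f, image_congr hx']
  exact imageSubobject_comp_le _ _

lemma arNull_idx {X : PS C} (h : IsARNull X) :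
    ∃ r : ℕ, ∀ (a b : ℕ) (hab : a ≤ b), a + r ≤ b → tr X hab = 0 := by
  obtain ⟨r, hr⟩ := h
  refine ⟨r, fun a b hab h' => ?_⟩
  have h1 : tr X (Nat.le_add_right a r) = 0 := hr a
  rw [← trc X (Nat.le_add_right a r) h', h1, comp_zero]

lemma kernel_idx {X Y : PS C} (u : X ⟶ Y) (h : IsARNull (kernel u)) :
    ∃ r : ℕ, ∀ (a b : ℕ) (hab : a ≤ b), a + r ≤ b → ∀ (T : C) (x : T ⟶ X.obj (op b)),
      x ≫ u.app (op b) = 0 → x ≫ tr X hab = 0 := by
  obtain ⟨r, hr⟩ := (arNull_kernel_iff u).mp h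
  refine ⟨r, fun a b hab h' T x hx => ?_⟩
  have h1 : (x ≫ tr X h') ≫ u.app (op (a + r)) = 0 := by
    rw [Category.assoc, ntr, ← Category.assoc, hx, zero_comp]
  have h2 := hr a T (x ≫ tr X h') h1
  rw [Category.assoc, trc] at h2
  exact h2

lemma kernel_null_of_idx {X Y : PS C} (u : X ⟶ Y)
    (h : ∃ r : ℕ, ∀ (a b : ℕ) (hab : a ≤ b), a + r ≤ b → ∀ (T : C) (x : T ⟶ X.obj (op b)),
      x ≫ u.app (op b) = 0 → x ≫ tr X hab = 0) : IsARNull (kernel u) := by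
  obtain ⟨r, hr⟩ := h
  rw [arNull_kernel_iff]
  exact ⟨r, fun n T x hx => hr n (n + r) _ le_rfl T x hx⟩

lemma cokernel_idx {X Y : PS C} (u : X ⟶ Y) (h : IsARNull (cokernel u)) :
    ∃ r : ℕ, ∀ (a b : ℕ) (hab : a ≤ b), a + r ≤ b → ∀ (T : C) (y : T ⟶ Y.obj (op b)),
      ∃ (T' : C) (π : T' ⟶ T) (_ : Epi π) (x : T' ⟶ X.obj (op a)),
        π ≫ y ≫ tr Y hab = x ≫ u.app (op a) := by
  obtain ⟨r, hr⟩ := (arNull_cokernel_iff u).mp h
  refine ⟨r, fun a b hab h' T y => ?_⟩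
  have h1 : tr Y (Nat.le_add_right a r) ≫ cokernel.π (u.app (op a)) = 0 :=
    (cokernel_app_zero u (op a) _).mp (hr a)
  have h2 : (y ≫ tr Y hab) ≫ cokernel.π (u.app (op a)) = 0 := by
    rw [← trc Y (Nat.le_add_right a r) h', Category.assoc, Category.assoc, h1, comp_zero,
      comp_zero]
  exact (ShortComplex.exact_cokernel (u.app (op a))).exact_up_to_refinements _ h2

lemma cokernel_null_of_idx {X Y : PS C} (u : X ⟶ Y)
    (h : ∃ r : ℕ, ∀ (a b : ℕ) (hab : a ≤ b), a + r ≤ b → ∀ (T : C) (y : T ⟶ Y.obj (op b)),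
      ∃ (T' : C) (π : T' ⟶ T) (_ : Epi π) (x : T' ⟶ X.obj (op a)),
        π ≫ y ≫ tr Y hab = x ≫ u.app (op a)) : IsARNull (cokernel u) := by
  obtain ⟨r, hr⟩ := h
  rw [arNull_cokernel_iff]
  refine ⟨r, fun n => ?_⟩
  rw [cokernel_app_zero]
  obtain ⟨T', π, hπ, x, hx⟩ := hr n (n + r) (Nat.le_add_right n r) le_rfl _ (𝟙 _)
  haveI := hπ
  rw [Category.id_comp] at hx
  rw [← cancel_epi π, comp_zero, ← Category.assoc, hx, Category.assoc, cokernel.condition,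
    comp_zero]

lemma mlar_idx {X : PS C} (h : IsMLAR X) :
    ∃ r : ℕ, ∀ (a b c : ℕ) (hab : a ≤ b) (hac : a ≤ c), a + r ≤ b → b ≤ c →
      ∀ (T : C) (x : T ⟶ X.obj (op b)),
        ∃ (T' : C) (π : T' ⟶ T) (_ : Epi π) (x' : T' ⟶ X.obj (op c)),
          π ≫ x ≫ tr X hab = x' ≫ tr X hac := by
  obtain ⟨r, hr⟩ := h
  refine ⟨r, fun a b c hab hac h1 h2 T x => ?_⟩
  apply lift_of_image_le
  have e1 : imageSubobject (tr X hab) ≤ imageSubobject (tr X (Nat.le_add_right a r)) :=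
    image_tr_antitone X (Nat.le_add_right a r) h1
  have e2 : imageSubobject (tr X (Nat.le_add_right a (c - a))) =
      imageSubobject (tr X (Nat.le_add_right a r)) := hr (c - a) (by omega) a
  have e3 : imageSubobject (tr X (Nat.le_add_right a (c - a))) = imageSubobject (tr X hac) :=
    image_tr_congr X (by omega) _ _
  rw [← e3, e2]
  exact e1

lemma mlar_of_idx {X : PS C}
    (h : ∃ r : ℕ, ∀ (n b c : ℕ) (hnb : n ≤ b) (hnc : n ≤ c), n + r ≤ b → b ≤ c →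
      ∀ (T : C) (x : T ⟶ X.obj (op b)),
        ∃ (T' : C) (π : T' ⟶ T) (_ : Epi π) (x' : T' ⟶ X.obj (op c)),
          π ≫ x ≫ tr X hnb = x' ≫ tr X hnc) : IsMLAR X := by
  obtain ⟨r, hr⟩ := h
  refine ⟨r, fun s hs n => ?_⟩
  show imageSubobject (tr X (Nat.le_add_right n s)) =
    imageSubobject (tr X (Nat.le_add_right n r))
  apply le_antisymm
  · exact image_tr_antitone X (Nat.le_add_right n r) (Nat.add_le_add_left hs n)
  · apply image_le_of_lift
    obtain ⟨T', π, hπ, x', hx'⟩ := hr n (n + r) (n + s) (Nat.le_add_right n r)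
      (Nat.le_add_right n s) le_rfl (Nat.add_le_add_left hs n) _ (𝟙 _)
    rw [Category.id_comp] at hx'
    exact ⟨T', π, hπ, x', hx'⟩

/-- Pointwise short complexes. -/
def ptS (S : ShortComplex (PS C)) (n : ℕ) : ShortComplex C :=
  ShortComplex.mk (S.f.app (op n)) (S.g.app (op n)) (by
    rw [← NatTrans.comp_app, S.zero]
    rfl)

lemma ptS_exact {S : ShortComplex (PS C)} (hS : S.ShortExact) (n : ℕ) : (ptS S n).Exact :=
  (hS.map_of_exact ((evaluation ℕᵒᵖ C).obj (op n))).exact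

lemma mono_f {S : ShortComplex (PS C)} (hS : S.ShortExact) (n : ℕ) : Mono (S.f.app (op n)) :=
  (hS.map_of_exact ((evaluation ℕᵒᵖ C).obj (op n))).mono_f

lemma epi_g {S : ShortComplex (PS C)} (hS : S.ShortExact) (n : ℕ) : Epi (S.g.app (op n)) :=
  (hS.map_of_exact ((evaluation ℕᵒᵖ C).obj (op n))).epi_g

@[reassoc]
lemma fg0 (S : ShortComplex (PS C)) (n : ℕ) : S.f.app (op n) ≫ S.g.app (op n) = 0 :=
  (ptS S n).zero

end Groth.Agent.Helper6.ARSysIdx
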