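import Mathlib
import Groth.Prelude.Def_ARSys
import Groth.Agent.Lib.Helper6.ARSysBasic
import Groth.Agent.Lib.Helper6.ARSysML
import Groth.Agent.Lib.Helper6.ARAdicTerms
import Groth.Agent.Lib.Helper6.ARIdeal
import Groth.Agent.Lib.Helper6.ARSysIdx

set_option autoImplicit false
set_option linter.style.haveILetI false
set_option linter.unusedSectionVars false
set_option linter.unusedVariables false

universe w v u

open CategoryTheory CategoryTheory.Limits Opposite ARSys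
open Groth.Agent.Helper6.ARSysBasic Groth.Agent.Helper6.ARSysML Groth.Agent.Helper6.ARAdicTerms
open Groth.Agent.Helper6.ARIdeal Groth.Agent.Helper6.ARSysIdx

namespace Groth.Agent.Helper6.ARSysSES

variable {C : Type u} [Category.{v} C] [Abelian C] {A : Type w} [CommRing A] [Linear A C]

lemma lift_ideal_pt (S : ShortComplex (PS C)) (hS : S.ShortExact) (m : ℕ) {I : Ideal A} {W : C}
    (τ : W ⟶ S.X₂.obj (op m)) (hτ : IsGen I τ) {Q : C} (p : S.X₃.obj (op m) ⟶ Q)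
    (hp : IsQuot I p) {T : C} (y : T ⟶ S.X₂.obj (op m)) (hy : y ≫ S.g.app (op m) ≫ p = 0) :
    ∃ (T' : C) (π : T' ⟶ T) (_ : Epi π) (x : T' ⟶ S.X₁.obj (op m)) (w : T' ⟶ W),
      π ≫ y = x ≫ S.f.app (op m) + w ≫ τ := by
  haveI : Epi (ptS S m).g := epi_g hS m
  exact lift_ideal (ptS S m) (ptS_exact hS m) τ hτ p hp y hy

/-- S3153 -/
theorem strict_X₁ (J : Ideal A) (hJ : J.FG ∨ HasCoproducts.{w} C) (S : ShortComplex (PS C))
    (hS : S.ShortExact) (k₂ : TermKilled J S.X₂) (h₂ : IsStrict S.X₂) (h₃ : IsAdic J S.X₃) :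
    IsStrict S.X₁ := by
  intro n m h
  rw [epi_iff_surjective_up_to_refinements]
  intro T x
  haveI := mono_f hS n
  haveI := epi_g hS m
  haveI : Epi (ptS S m).g := epi_g hS m
  haveI : Epi (tr S.X₂ h) := h₂ n m h
  obtain ⟨T₁, π₁, hπ₁, y, hy⟩ :=
    surjective_up_to_refinements_of_epi (tr S.X₂ h) (x ≫ S.f.app (op n))
  have hy' : π₁ ≫ x ≫ S.f.app (op n) = y ≫ tr S.X₂ h := hy
  obtain ⟨W, τ, hτ⟩ := exists_gen J hJ (n + 1) (S.X₂.obj (op m))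
  have hy0 : y ≫ S.g.app (op m) ≫ tr S.X₃ h = 0 := by
    rw [ntr', ← Category.assoc, ← hy']
    simp only [Category.assoc]
    rw [fg0, comp_zero, comp_zero]
  obtain ⟨T₂, π₂, hπ₂, x₂, w₂, hxw'⟩ :=
    lift_ideal_pt S hS m τ hτ (tr S.X₃ h) (h₃.2 n m h) y hy0
  haveI := hπ₁
  haveI := hπ₂
  refine ⟨T₂, π₂ ≫ π₁, epi_comp _ _, x₂, ?_⟩
  have hτ0 : τ ≫ tr S.X₂ h = 0 := hτ.comp_eq_zero_of_tgt _ (k₂ n)
  rw [← cancel_mono (S.f.app (op n))]
  simp only [Category.assoc]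
  rw [hy', ← Category.assoc, hxw', Preadditive.add_comp, Category.assoc, Category.assoc, hτ0,
    comp_zero, add_zero, ntr']

/-- S3154 -/
theorem adic_X₂ (J : Ideal A) (hJ : J.FG ∨ HasCoproducts.{w} C) (S : ShortComplex (PS C))
    (hS : S.ShortExact) (k₂ : TermKilled J S.X₂) (h₁ : IsAdic J S.X₁) (h₃ : IsAdic J S.X₃) :
    IsAdic J S.X₂ := by
  refine ⟨k₂, fun n m h => ?_⟩
  haveI := mono_f hS n
  haveI : Epi (ptS S m).g := epi_g hS m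
  haveI : Epi (ptS S n).g := epi_g hS n
  haveI hepi : Epi (tr S.X₂ h) := by
    let φ : ptS S m ⟶ ptS S n :=
      { τ₁ := tr S.X₁ h
        τ₂ := tr S.X₂ h
        τ₃ := tr S.X₃ h
        comm₁₂ := ntr S.f h
        comm₂₃ := ntr S.g h }
    haveI : Epi φ.τ₁ := isQuot_epi (h₁.2 n m h)
    haveI : Epi φ.τ₃ := isQuot_epi (h₃.2 n m h)
    exact ShortComplex.epi_τ₂_of_exact_of_epi φ (ptS_exact hS n)
  refine ⟨k₂ n, fun Y φ hφ => ?_⟩
  obtain ⟨W₂, τ₂, hτ₂⟩ := exists_gen J hJ (n + 1) (S.X₂.obj (op m))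
  obtain ⟨W₁, τ₁, hτ₁⟩ := exists_gen J hJ (n + 1) (S.X₁.obj (op m))
  have hker : kernel.ι (tr S.X₂ h) ≫ φ = 0 := by
    have hy : kernel.ι (tr S.X₂ h) ≫ tr S.X₂ h = 0 := kernel.condition _
    have hy0 : kernel.ι (tr S.X₂ h) ≫ S.g.app (op m) ≫ tr S.X₃ h = 0 := by
      rw [ntr', ← Category.assoc, hy, zero_comp]
    obtain ⟨T₂, π₂, hπ₂, x, w, hxw'⟩ := lift_ideal_pt S hS m τ₂ hτ₂
      (tr S.X₃ h) (h₃.2 n m h) (kernel.ι (tr S.X₂ h)) hy0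
    have hτ0 : τ₂ ≫ tr S.X₂ h = 0 := hτ₂.comp_eq_zero_of_tgt _ (k₂ n)
    have hx0 : x ≫ tr S.X₁ h = 0 := by
      rw [← cancel_mono (S.f.app (op n)), zero_comp, Category.assoc, ntr, ← Category.assoc]
      have e : x ≫ S.f.app (op m) = π₂ ≫ kernel.ι (tr S.X₂ h) - w ≫ τ₂ := by
        rw [hxw', add_sub_cancel_right]
      rw [e, Preadditive.sub_comp, Category.assoc, hy, comp_zero, Category.assoc, hτ0, comp_zero,
        sub_zero]
    obtain ⟨T₃, π₃, hπ₃, w₁, hw₁⟩ := hτ₁.lift_of_isQuot (h₁.2 n m h) x hx0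
    haveI := hπ₂
    haveI := hπ₃
    have e1 : τ₂ ≫ φ = 0 := hτ₂.comp_eq_zero _ hφ
    have e2 : τ₁ ≫ S.f.app (op m) ≫ φ = 0 := hτ₁.comp_eq_zero _ (homKilledBy_comp_left _ hφ)
    rw [← cancel_epi π₂, ← cancel_epi π₃, comp_zero, comp_zero, ← Category.assoc π₂, hxw',
      Preadditive.add_comp, Preadditive.comp_add, Category.assoc w, e1, comp_zero, comp_zero,
      add_zero, Category.assoc, ← Category.assoc π₃, hw₁, Category.assoc, e2, comp_zero]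
  obtain ⟨ψ, hψ⟩ := desc_of_epi (tr S.X₂ h) φ hker
  refine ⟨ψ, hψ, fun ψ' hψ' => ?_⟩
  have hψ'' : tr S.X₂ h ≫ ψ' = φ := hψ'
  rw [← cancel_epi (tr S.X₂ h), hψ'', hψ]

/-- S3156 -/
theorem mlar_X₁ (J : Ideal A) (hJ : J.FG ∨ HasCoproducts.{w} C) (S : ShortComplex (PS C))
    (hS : S.ShortExact) (k₂ : TermKilled J S.X₂) (h₂ : IsMLAR S.X₂) (h₃ : IsARAdic J S.X₃) :
    IsMLAR S.X₁ := by
  obtain ⟨_, Y, u, hY, hu⟩ := h₃
  obtain ⟨r₂, hr₂⟩ := mlar_idx h₂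
  obtain ⟨rK, hrK⟩ := kernel_idx u hu.1
  obtain ⟨rL, hrL⟩ := cokernel_idx u hu.2
  apply mlar_of_idx
  refine ⟨r₂ + rK, fun n b c hnb hnc hb hbc T x => ?_⟩
  have hna : n ≤ n + rK := Nat.le_add_right _ _
  have hab : n + rK ≤ b := by omega
  have hac : n + rK ≤ c := by omega
  have hcN : c ≤ c + rL := Nat.le_add_right _ _
  have haN : n + rK ≤ c + rL := by omega
  have hnN : n ≤ c + rL := by omega
  have hbN : b ≤ c + rL := by omega
  haveI := mono_f hS n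
  haveI : Epi (ptS S c).g := epi_g hS c
  -- step 1
  obtain ⟨T₁, π₁, hπ₁, y, hy⟩ :=
    hr₂ (n + rK) b (c + rL) hab haN (by omega) hbN T (x ≫ S.f.app (op b))
  have hy' : π₁ ≫ x ≫ S.f.app (op b) ≫ tr S.X₂ hab = y ≫ tr S.X₂ haN := by
    simpa only [Category.assoc] using hy
  -- step 2
  have hz : y ≫ S.g.app (op (c + rL)) ≫ tr S.X₃ haN = 0 := by
    rw [ntr', ← Category.assoc, ← hy']
    simp only [Category.assoc]
    rw [ntr'_assoc, fg0, comp_zero, comp_zero, comp_zero]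
  -- step 3
  obtain ⟨T₂, π₂, hπ₂, η, hη⟩ := hrL c (c + rL) hcN le_rfl T₁ (y ≫ S.g.app (op (c + rL)))
  have hη' : π₂ ≫ y ≫ S.g.app (op (c + rL)) ≫ tr S.X₃ hcN = η ≫ u.app (op c) := by
    simpa only [Category.assoc] using hη
  -- step 4
  have h4 : (η ≫ tr Y hac) ≫ u.app (op (n + rK)) = 0 := by
    rw [Category.assoc, ntr, ← Category.assoc, ← hη']
    simp only [Category.assoc]
    rw [trc, hz, comp_zero]
  have hη0 : η ≫ tr Y hnc = 0 := by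
    have := hrK n (n + rK) hna le_rfl T₂ (η ≫ tr Y hac) h4
    rw [Category.assoc, trc] at this
    exact this
  -- step 5
  obtain ⟨WY, τY, hτY⟩ := exists_gen J hJ (n + 1) (Y.obj (op c))
  obtain ⟨T₃, π₃, hπ₃, w, hw⟩ := hτY.lift_of_isQuot (hY.2 n c hnc) η hη0
  -- step 6
  obtain ⟨W₃, τ₃, hτ₃⟩ := exists_gen J hJ (n + 1) (S.X₃.obj (op c))
  obtain ⟨W₂, τ₂, hτ₂⟩ := exists_gen J hJ (n + 1) (S.X₂.obj (op c))
  have h6 : (π₃ ≫ π₂ ≫ y ≫ tr S.X₂ hcN) ≫ S.g.app (op c) ≫ cokernel.π τ₃ = 0 := by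
    simp only [Category.assoc]
    rw [ntr_assoc, reassoc_of% hη', reassoc_of% hw,
      hτY.comp_eq_zero_of_tgt _ hτ₃.isQuot_cokernel.1, comp_zero]
  obtain ⟨T₄, π₄, hπ₄, x', w₂, hxw⟩ := lift_ideal_pt S hS c τ₂ hτ₂
    (cokernel.π τ₃) hτ₃.isQuot_cokernel (π₃ ≫ π₂ ≫ y ≫ tr S.X₂ hcN) h6
  have hxw' : π₄ ≫ π₃ ≫ π₂ ≫ y ≫ tr S.X₂ hcN = x' ≫ S.f.app (op c) + w₂ ≫ τ₂ := hxw
  -- step 7
  haveI := hπ₁
  haveI := hπ₂
  haveI := hπ₃
  haveI := hπ₄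
  refine ⟨T₄, π₄ ≫ π₃ ≫ π₂ ≫ π₁, inferInstance, x', ?_⟩
  have hτ0 : τ₂ ≫ tr S.X₂ hnc = 0 := hτ₂.comp_eq_zero_of_tgt _ (k₂ n)
  have e1 : x' ≫ S.f.app (op c) = π₄ ≫ π₃ ≫ π₂ ≫ y ≫ tr S.X₂ hcN - w₂ ≫ τ₂ := by
    rw [hxw', add_sub_cancel_right]
  rw [← cancel_mono (S.f.app (op n))]
  simp only [Category.assoc]
  rw [← ntr' S.f hnc, reassoc_of% e1]
  simp only [Preadditive.sub_comp, Category.assoc]
  rw [hτ0, comp_zero, sub_zero, trc, ← trc S.X₂ hna haN, ← reassoc_of% hy', trc, ntr']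

/-- Transfer of the uniform Mittag-Leffler condition along an isomorphism up to translation. -/
theorem mlar_transfer {P X : PS C} (π : P ⟶ X) (hK : IsARNull (kernel π))
    (hL : IsARNull (cokernel π)) (hX : IsMLAR X) : IsMLAR P := by
  obtain ⟨r₁, hr₁⟩ := mlar_idx hX
  obtain ⟨rK, hrK⟩ := kernel_idx π hK
  obtain ⟨rL, hrL⟩ := cokernel_idx π hL
  apply mlar_of_idx
  refine ⟨r₁ + rK, fun n b c hnb hnc hb hbc T x => ?_⟩
  have hna : n ≤ n + rK := Nat.le_add_right _ _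
  have hab : n + rK ≤ b := by omega
  have hac : n + rK ≤ c := by omega
  have hcN : c ≤ c + rL := Nat.le_add_right _ _
  have haN : n + rK ≤ c + rL := by omega
  have hbN : b ≤ c + rL := by omega
  obtain ⟨T₁, π₁, hπ₁, z, hz⟩ :=
    hr₁ (n + rK) b (c + rL) hab haN (by omega) hbN T (x ≫ π.app (op b))
  have hz' : π₁ ≫ x ≫ π.app (op b) ≫ tr X hab = z ≫ tr X haN := by
    simpa only [Category.assoc] using hz
  obtain ⟨T₂, π₂, hπ₂, p', hp'⟩ := hrL c (c + rL) hcN le_rfl T₁ z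
  have h3 : (p' ≫ tr P hac - π₂ ≫ π₁ ≫ x ≫ tr P hab) ≫ π.app (op (n + rK)) = 0 := by
    simp only [Preadditive.sub_comp, Category.assoc]
    rw [ntr, ← reassoc_of% hp', trc, ntr π hab, hz', sub_self]
  have h4 := hrK n (n + rK) hna le_rfl T₂ _ h3
  simp only [Preadditive.sub_comp, Category.assoc] at h4
  rw [trc, trc, sub_eq_zero] at h4
  haveI := hπ₁
  haveI := hπ₂
  refine ⟨T₂, π₂ ≫ π₁, inferInstance, p', ?_⟩
  simp only [Category.assoc]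
  exact h4.symm

end Groth.Agent.Helper6.ARSysSES
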