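import Mathlib
import Groth.Prelude.Def_ARSys
import Groth.Agent.Lib.Helper6.ARSysBasic
import Groth.Agent.Lib.Helper6.ARSysML
import Groth.Agent.Lib.Helper6.ARAdicTerms
import Groth.Agent.Lib.Helper6.ARIdeal
import Groth.Agent.Lib.Helper6.ARSysIdx
import Groth.Agent.Lib.Helper6.ARSysSES
import Groth.Agent.S3152

set_option autoImplicit false
set_option linter.style.haveILetI false
set_option linter.unusedSectionVars false
set_option linter.unusedVariables false

universe w v u

open CategoryTheory CategoryTheory.Limits Opposite ARSys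
open Groth.Agent.Helper6.ARSysBasic Groth.Agent.Helper6.ARSysML Groth.Agent.Helper6.ARAdicTerms
open Groth.Agent.Helper6.ARIdeal Groth.Agent.Helper6.ARSysIdx Groth.Agent.Helper6.ARSysSES

namespace Groth.Agent.Helper6.ARSysSES2

variable {C : Type u} [Category.{v} C] [Abelian C] {A : Type w} [CommRing A] [Linear A C]

lemma cokernel_desc_app {Z Y X : PS C} (j : Z ⟶ Y) (v : Y ⟶ X) (hjv : j ≫ v = 0) (k : ℕ) :
    (cokernel.π j).app (op k) ≫ (cokernel.desc j v hjv).app (op k) = v.app (op k) := by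
  rw [← NatTrans.comp_app, cokernel.π_desc]

lemma kernel_desc_null {Z Y X : PS C} (j : Z ⟶ Y) (v : Y ⟶ X) (hjv : j ≫ v = 0) (R : ℕ)
    (hfac : ∀ (a : ℕ) (T : C) (l : T ⟶ (kernel v).obj (op (a + R))),
      ∃ z : T ⟶ Z.obj (op a), z ≫ j.app (op a) =
        l ≫ tr (kernel v) (Nat.le_add_right a R) ≫ (kernel.ι v).app (op a)) :
    IsARNull (kernel (cokernel.desc j v hjv)) := by
  apply kernel_null_of_idx
  refine ⟨R, fun a b hab h' T x hx => ?_⟩
  obtain ⟨T₁, π₁, hπ₁, y, hy⟩ :=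
    surjective_up_to_refinements_of_epi ((cokernel.π j).app (op b)) x
  have h1 : y ≫ v.app (op b) = 0 := by
    rw [← cokernel_desc_app j v hjv b, ← Category.assoc, ← hy, Category.assoc, hx, comp_zero]
  obtain ⟨l, hl⟩ := kernel_app_lift v (op b) y h1
  have e1 : π₁ ≫ x ≫ tr (cokernel j) hab =
      l ≫ tr (kernel v) hab ≫ (kernel.ι v).app (op a) ≫ (cokernel.π j).app (op a) := by
    rw [← Category.assoc, hy, Category.assoc, ntr' (cokernel.π j) hab, ← hl, Category.assoc,
      ntr'_assoc (kernel.ι v) hab]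
  have e2 : l ≫ tr (kernel v) hab ≫ (kernel.ι v).app (op a) ≫ (cokernel.π j).app (op a) = 0 := by
    obtain ⟨z, hz⟩ := hfac a T₁ (l ≫ tr (kernel v) h')
    have hz' : z ≫ j.app (op a) = l ≫ tr (kernel v) h' ≫
        tr (kernel v) (Nat.le_add_right a R) ≫ (kernel.ι v).app (op a) := by
      simpa only [Category.assoc] using hz
    rw [← trc (kernel v) (Nat.le_add_right a R) h']
    simp only [Category.assoc]
    rw [← reassoc_of% hz', cokernel_app_condition j (op a), comp_zero]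
  haveI := hπ₁
  rw [← cancel_epi π₁, comp_zero, e1, e2]

lemma cokernel_desc_null {Z Y X : PS C} (j : Z ⟶ Y) (v : Y ⟶ X) (hjv : j ≫ v = 0)
    (hL : IsARNull (cokernel v)) : IsARNull (cokernel (cokernel.desc j v hjv)) := by
  obtain ⟨rL, hrL⟩ := cokernel_idx v hL
  apply cokernel_null_of_idx
  refine ⟨rL, fun a b hab h' T z => ?_⟩
  obtain ⟨T', π, hπ, η, hη⟩ := hrL a b hab h' T z
  refine ⟨T', π, hπ, η ≫ (cokernel.π j).app (op a), ?_⟩
  rw [Category.assoc, cokernel_desc_app j v hjv a, hη]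

/-- If `Y` is adic and `v : Y ⟶ X` has uniformly Mittag-Leffler kernel and cokernel null up to
translation, then `X` is adic up to translation. -/
theorem aradic_of_kernel_mlar (J : Ideal A) (hJ : J.FG ∨ HasCoproducts.{w} C) {Y X : PS C}
    (v : Y ⟶ X) (hY : IsAdic J Y) (kX : TermKilled J X)
    (hK : IsMLAR (kernel v)) (hL : IsARNull (cokernel v)) : IsARAdic J X := by
  obtain ⟨R, hR⟩ := hK
  have hZs : IsStrict (Limits.image (shiftNat (kernel v) R)) := image_strict (kernel v) R hR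
  have hjv : (Limits.image.ι (shiftNat (kernel v) R) ≫ kernel.ι v) ≫ v = 0 := by
    rw [Category.assoc, kernel.condition, comp_zero]
  have hS' : (ShortComplex.mk (Limits.image.ι (shiftNat (kernel v) R) ≫ kernel.ι v)
      (cokernel.π _) (cokernel.condition _)).ShortExact :=
    { exact := ShortComplex.exact_cokernel _ }
  have hY₃ := Groth.Agent.S3152.result J hJ _ hS' hZs hY
  refine ⟨kX, _, cokernel.desc _ v hjv, hY₃, ?_, cokernel_desc_null _ v hjv hL⟩
  apply kernel_desc_null _ v hjv R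
  intro a T l
  refine ⟨l ≫ eN (kernel v) R a, ?_⟩
  rw [← image_fac (kernel v) R a]
  simp only [Category.assoc, NatTrans.comp_app]

/-- S3155 -/
theorem aradic_X₃ (J : Ideal A) (hJ : J.FG ∨ HasCoproducts.{w} C) (S : ShortComplex (PS C))
    (hS : S.ShortExact) (k₃ : TermKilled J S.X₃)
    (h₁ : IsMLAR S.X₁) (h₂ : IsARAdic J S.X₂) : IsARAdic J S.X₃ := by
  obtain ⟨_, Y, u, hY, hu⟩ := h₂
  obtain ⟨rK, hrK⟩ := kernel_idx u hu.1
  obtain ⟨rL, hrL⟩ := cokernel_idx u hu.2
  haveI := hS.mono_f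
  haveI := hS.epi_g
  obtain ⟨πP, hπP⟩ := hS.exact.lift' (kernel.ι (u ≫ S.g) ≫ u)
    (by rw [Category.assoc, kernel.condition])
  have hP1 : ∀ k : ℕ, πP.app (op k) ≫ S.f.app (op k) =
      (kernel.ι (u ≫ S.g)).app (op k) ≫ u.app (op k) := fun k => by
    rw [← NatTrans.comp_app, ← NatTrans.comp_app, hπP]
  have hv1 : ∀ k : ℕ, (u ≫ S.g).app (op k) = u.app (op k) ≫ S.g.app (op k) := fun k => rfl
  have hPK : IsARNull (kernel πP) := by
    apply kernel_null_of_idx
    refine ⟨rK, fun a b hab h' T x hx => ?_⟩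
    have h1 : (x ≫ (kernel.ι (u ≫ S.g)).app (op b)) ≫ u.app (op b) = 0 := by
      rw [Category.assoc, ← hP1, ← Category.assoc, hx, zero_comp]
    have h2 := hrK a b hab h' T _ h1
    rw [← cancel_mono ((kernel.ι (u ≫ S.g)).app (op a)), zero_comp, Category.assoc, ntr,
      ← Category.assoc]
    exact h2
  have hPL : IsARNull (cokernel πP) := by
    apply cokernel_null_of_idx
    refine ⟨rL, fun a b hab h' T x₁ => ?_⟩
    obtain ⟨T', π, hπ, η, hη⟩ := hrL a b hab h' T (x₁ ≫ S.f.app (op b))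
    have hη' : π ≫ x₁ ≫ S.f.app (op b) ≫ tr S.X₂ hab = η ≫ u.app (op a) := by
      simpa only [Category.assoc] using hη
    have h1 : η ≫ (u ≫ S.g).app (op a) = 0 := by
      rw [hv1, ← Category.assoc, ← hη']
      simp only [Category.assoc]
      rw [ntr'_assoc, fg0, comp_zero, comp_zero, comp_zero]
    obtain ⟨l, hl⟩ := kernel_app_lift (u ≫ S.g) (op a) η h1
    refine ⟨T', π, hπ, l, ?_⟩
    haveI := mono_f hS a
    rw [← cancel_mono (S.f.app (op a))]
    simp only [Category.assoc]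
    rw [hP1, reassoc_of% hl, ← hη', ntr']
  have hcok : IsARNull (cokernel (u ≫ S.g)) := by
    apply cokernel_null_of_idx
    refine ⟨rL, fun a b hab h' T z => ?_⟩
    haveI := epi_g hS b
    obtain ⟨T₁, π₁, hπ₁, x₂, hx₂⟩ := surjective_up_to_refinements_of_epi (S.g.app (op b)) z
    obtain ⟨T₂, π₂, hπ₂, η, hη⟩ := hrL a b hab h' T₁ x₂
    haveI := hπ₁
    haveI := hπ₂
    refine ⟨T₂, π₂ ≫ π₁, inferInstance, η, ?_⟩
    rw [hv1, ← Category.assoc η, ← hη]
    simp only [Category.assoc]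
    rw [← ntr' S.g hab, reassoc_of% hx₂]
  exact aradic_of_kernel_mlar J hJ (u ≫ S.g) hY k₃ (mlar_transfer πP hPK hPL h₁) hcok

end Groth.Agent.Helper6.ARSysSES2
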