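import Mathlib
import Groth.Prelude.Def_ARSys
import Groth.Agent.Lib.Helper6.ARSysBasic
import Groth.Agent.Lib.Helper6.ARSysML
import Groth.Agent.Lib.Helper6.ARAdicTerms
import Groth.Agent.Lib.Helper6.ARIdeal
import Groth.Agent.Lib.Helper6.ARSysIdx

set_option autoImplicit false
set_option linter.style.haveILetI false
set_option linter.unusedSectionVars false
set_option linter.unusedVariables false

universe w v u

open CategoryTheory CategoryTheory.Limits Opposite ARSys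
open Groth.Agent.Helper6.ARSysBasic Groth.Agent.Helper6.ARSysML Groth.Agent.Helper6.ARAdicTerms
open Groth.Agent.Helper6.ARIdeal Groth.Agent.Helper6.ARSysIdx

namespace Groth.Agent.Helper6.ARSysCrit

variable {C : Type u} [Category.{v} C]

/-- A projective system from objects and transition maps. -/
def mkPS (F : ℕ → C) (t : ∀ (n m : ℕ), n ≤ m → (F m ⟶ F n))
    (t_id : ∀ (n : ℕ) (h : n ≤ n), t n n h = 𝟙 _)
    (t_comp : ∀ (n m k : ℕ) (h₁ : n ≤ m) (h₂ : m ≤ k), t m k h₂ ≫ t n m h₁ = t n k (h₁.trans h₂)) :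
    PS C where
  obj k := F k.unop
  map {k l} f := t l.unop k.unop (leOfHom f.unop)
  map_id k := t_id _ _
  map_comp {a b c} f g := (t_comp _ _ _ _ _).symm

lemma mkPS_tr (F : ℕ → C) (t : ∀ (n m : ℕ), n ≤ m → (F m ⟶ F n))
    (t_id : ∀ (n : ℕ) (h : n ≤ n), t n n h = 𝟙 _)
    (t_comp : ∀ (n m k : ℕ) (h₁ : n ≤ m) (h₂ : m ≤ k), t m k h₂ ≫ t n m h₁ = t n k (h₁.trans h₂))
    {n m : ℕ} (h : n ≤ m) : tr (mkPS F t t_id t_comp) h = t n m h := rfl

variable [Abelian C] {A : Type w} [CommRing A] [Linear A C]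

lemma epi_of_strict_cokernel_null {Y X : PS C} (u : Y ⟶ X) (hX : IsStrict X)
    (hL : IsARNull (cokernel u)) (n : ℕ) : Epi (u.app (op n)) := by
  obtain ⟨rL, hrL⟩ := cokernel_idx u hL
  rw [epi_iff_surjective_up_to_refinements]
  intro T x
  haveI : Epi (tr X (Nat.le_add_right n rL)) := hX _ _ _
  obtain ⟨T₁, π₁, hπ₁, x', hx'⟩ :=
    surjective_up_to_refinements_of_epi (tr X (Nat.le_add_right n rL)) x
  obtain ⟨T₂, π₂, hπ₂, η, hη⟩ := hrL n (n + rL) (Nat.le_add_right n rL) le_rfl T₁ x'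
  haveI := hπ₁
  haveI := hπ₂
  refine ⟨T₂, π₂ ≫ π₁, inferInstance, η, ?_⟩
  rw [Category.assoc, hx', hη]

/-- S3157, forward direction. -/
theorem crit_quot_mp (J : Ideal A) (X : PS C) (hX : IsStrict X) (h : IsARAdic J X) :
    ∃ (r : ℕ) (Y : PS C) (q : (shift C r).obj X ⟶ Y),
      (∀ n : ℕ, IsQuot (J ^ (n + 1)) (q.app (op n))) ∧ IsAdic J Y := by
  obtain ⟨_, Y, u, hY, hu⟩ := h
  obtain ⟨r, hrK⟩ := kernel_idx u hu.1
  have hepi : ∀ n, Epi (u.app (op n)) := epi_of_strict_cokernel_null u hX hu.2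
  have hex : ∀ n : ℕ, ∃ qn : X.obj (op (n + r)) ⟶ Y.obj (op n),
      u.app (op (n + r)) ≫ qn = tr Y (Nat.le_add_right n r) := by
    intro n
    haveI := hepi (n + r)
    exact desc_of_epi _ _ (hrK n (n + r) _ le_rfl _ _ (kernel.condition _))
  choose qf hqf using hex
  have hnat : ∀ (n m : ℕ) (h : n ≤ m),
      tr X (Nat.add_le_add_right h r) ≫ qf n = qf m ≫ tr Y h := by
    intro n m h
    haveI := hepi (m + r)
    rw [← cancel_epi (u.app (op (m + r))), ← ntr_assoc u, hqf, trc, reassoc_of% (hqf m), trc]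
  refine ⟨r, Y, mkNat ((shift C r).obj X) Y (fun n => qf n) (fun n m h => hnat n m h), ?_, hY⟩
  intro n
  show IsQuot (J ^ (n + 1)) (qf n)
  haveI := hepi (n + r)
  refine ⟨hY.1 n, fun T φ hφ => ?_⟩
  obtain ⟨ψ, hψ, huniq⟩ := (hY.2 n (n + r) (Nat.le_add_right n r)).2 T
    (u.app (op (n + r)) ≫ φ) (homKilledBy_comp_left _ hφ)
  have hψ' : tr Y (Nat.le_add_right n r) ≫ ψ = u.app (op (n + r)) ≫ φ := hψ
  refine ⟨ψ, ?_, fun ψ' hψ' => ?_⟩
  · show qf n ≫ ψ = φ
    rw [← cancel_epi (u.app (op (n + r))), ← Category.assoc, hqf, hψ']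
  · apply huniq
    show tr Y (Nat.le_add_right n r) ≫ ψ' = u.app (op (n + r)) ≫ φ
    have h1 : qf n ≫ ψ' = φ := hψ'
    rw [← hqf, Category.assoc, h1]

/-- S3157, backward direction. -/
theorem crit_quot_mpr (J : Ideal A) (X : PS C) (hX : IsStrict X) (kX : TermKilled J X) (r : ℕ)
    (Y : PS C) (q : (shift C r).obj X ⟶ Y) (hq : ∀ n : ℕ, IsQuot (J ^ (n + 1)) (q.app (op n)))
    (hY : IsAdic J Y) : IsARAdic J X := by
  have hq' : ∀ n, IsQuot (J ^ (n + 1)) (vN q n) := hq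
  have hqe : ∀ n, Epi (vN q n) := fun n => isQuot_epi (hq' n)
  have hex : ∀ n : ℕ, ∃! un : Y.obj (op n) ⟶ X.obj (op n),
      vN q n ≫ un = tr X (Nat.le_add_right n r) :=
    fun n => (hq' n).2 _ _ (homKilledBy_of_tgt _ (kX n))
  choose uf huf _ using hex
  have huf' : ∀ n, vN q n ≫ uf n = tr X (Nat.le_add_right n r) := huf
  have hnat : ∀ (n m : ℕ) (h : n ≤ m), tr Y h ≫ uf n = uf m ≫ tr X h := by
    intro n m h
    haveI := hqe m
    rw [← cancel_epi (vN q m), ← reassoc_of% (vN_nat q n m h), huf', trc,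
      reassoc_of% (huf' m), trc]
  refine ⟨kX, Y, mkNat Y X uf hnat, hY, ?_, ?_⟩
  · apply kernel_null_of_idx
    refine ⟨r, fun a b hab h' T y hy => ?_⟩
    have hy' : y ≫ uf b = 0 := hy
    haveI := hqe b
    obtain ⟨T', π, hπ, x, hx⟩ := surjective_up_to_refinements_of_epi (vN q b) y
    have h1 : x ≫ tr X (Nat.le_add_right b r) = 0 := by
      rw [← huf', ← Category.assoc, ← hx, Category.assoc, hy', comp_zero]
    haveI := hπ
    rw [← cancel_epi π, comp_zero, ← Category.assoc, hx, Category.assoc, ← vN_nat q a b hab,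
      ← trc X h' (Nat.le_add_right b r)]
    simp only [Category.assoc]
    rw [reassoc_of% h1, zero_comp]
  · apply cokernel_null_of_idx
    refine ⟨0, fun a b hab _ T y => ?_⟩
    haveI : Epi (tr X (Nat.le_add_right b r)) := hX _ _ _
    obtain ⟨T', π, hπ, y', hy'⟩ :=
      surjective_up_to_refinements_of_epi (tr X (Nat.le_add_right b r)) y
    refine ⟨T', π, hπ, y' ≫ vN q b ≫ tr Y hab, ?_⟩
    show π ≫ y ≫ tr X hab = (y' ≫ vN q b ≫ tr Y hab) ≫ uf a
    simp only [Category.assoc]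
    rw [hnat a b hab, reassoc_of% (huf' b), reassoc_of% hy']

lemma top_case (J : Ideal A) {X Y' : C} (φ : X ⟶ Y') (h : HomKilledBy (J ^ 0) φ) : φ = 0 := by
  have h1 : (1 : A) ∈ J ^ 0 := by
    rw [pow_zero, Ideal.one_eq_top]
    exact Submodule.mem_top
  have h2 := h 1 h1
  rwa [one_smul] at h2

/-- S3158, forward direction. -/
theorem crit_fker_mp (J : Ideal A) (hJ : J.FG ∨ HasCoproducts.{w} C) (X : PS C) (hX : IsStrict X)
    (h : IsARAdic J X) :
    ∃ r : ℕ, 0 < r ∧ ∀ n : ℕ, SubLEIdeal (J ^ (n - r)) (Fker X n) := by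
  obtain ⟨_, Y, u, hY, hu⟩ := h
  obtain ⟨rK, hrK⟩ := kernel_idx u hu.1
  have hepi := epi_of_strict_cokernel_null u hX hu.2
  refine ⟨rK + 1, Nat.succ_pos _, fun n T' φ hφ => ?_⟩
  by_cases hn : n ≤ rK + 1
  · have e : n - (rK + 1) = 0 := Nat.sub_eq_zero_of_le hn
    rw [e] at hφ
    rw [top_case J φ hφ, comp_zero]
  · rw [not_le] at hn
    obtain ⟨k, rfl⟩ : ∃ k, n = k + 1 := ⟨n - 1, by omega⟩
    have hk : rK ≤ k := by omega
    have e : k + 1 - (rK + 1) = k - rK := by omega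
    rw [e] at hφ
    show (kernelSubobject (tr X (Nat.le_succ k))).arrow ≫ φ = 0
    have hι : (kernelSubobject (tr X (Nat.le_succ k))).arrow ≫ tr X (Nat.le_succ k) = 0 :=
      kernelSubobject_arrow_comp _
    haveI := hepi (k + 1)
    obtain ⟨T, π, hπ, y, hy⟩ := surjective_up_to_refinements_of_epi (u.app (op (k + 1)))
      (kernelSubobject (tr X (Nat.le_succ k))).arrow
    have h1 : (y ≫ tr Y (Nat.le_succ k)) ≫ u.app (op k) = 0 := by
      rw [Category.assoc, ntr, ← Category.assoc, ← hy, Category.assoc, hι, comp_zero]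
    have hm : k - rK ≤ k := Nat.sub_le _ _
    have hmk : k - rK + rK ≤ k := by omega
    have h2 := hrK (k - rK) k hm hmk _ _ h1
    rw [Category.assoc, trc] at h2
    obtain ⟨W, τ, hτ⟩ := exists_gen J hJ (k - rK + 1) (Y.obj (op (k + 1)))
    obtain ⟨T₂, π₂, hπ₂, w, hw⟩ := hτ.lift_of_isQuot (hY.2 (k - rK) (k + 1) _) y h2
    have hφ' : HomKilledBy (J ^ (k - rK + 1)) (u.app (op (k + 1)) ≫ φ) :=
      homKilledBy_comp_left _ (homKilledBy_mono (Ideal.pow_le_pow_right (Nat.le_succ _)) hφ)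
    haveI := hπ
    haveI := hπ₂
    rw [← cancel_epi π, ← cancel_epi π₂, comp_zero, comp_zero, ← Category.assoc π, hy,
      Category.assoc, ← Category.assoc π₂, hw, Category.assoc, hτ.comp_eq_zero _ hφ', comp_zero]

lemma lift_ideal_epi {X₂ X₃ : C} (g : X₂ ⟶ X₃) [Epi g] {I : Ideal A} {W : C} (τ : W ⟶ X₂)
    (hτ : IsGen I τ) {Q : C} (p : X₃ ⟶ Q) (hp : IsQuot I p) {T : C} (y : T ⟶ X₂)
    (hy : y ≫ g ≫ p = 0) :
    ∃ (T' : C) (π : T' ⟶ T) (_ : Epi π) (k : T' ⟶ X₂) (w : T' ⟶ W),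
      k ≫ g = 0 ∧ π ≫ y = k + w ≫ τ := by
  obtain ⟨T', π, hπ, x, w, hxw⟩ := lift_ideal
    (ShortComplex.mk (kernel.ι g) g (kernel.condition g)) (ShortComplex.exact_kernel g) τ hτ p hp
    y hy
  refine ⟨T', π, hπ, x ≫ kernel.ι g, w, ?_, hxw⟩
  rw [Category.assoc, kernel.condition, comp_zero]

/-- Kernels of transition maps lie in ideal multiples. -/
lemma ker_le_ideal (J : Ideal A) (hJ : J.FG ∨ HasCoproducts.{w} C) (X : PS C) (hX : IsStrict X)
    (r : ℕ) (hF : ∀ n : ℕ, SubLEIdeal (J ^ (n - r)) (Fker X n)) :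
    ∀ (d N M : ℕ) (h : N ≤ M), M ≤ N + d → ∀ (T' : C) (φ : X.obj (op M) ⟶ T'),
      HomKilledBy (J ^ (N + 1 - r)) φ →
      ∀ (T : C) (x : T ⟶ X.obj (op M)), x ≫ tr X h = 0 → x ≫ φ = 0 := by
  intro d
  induction d with
  | zero =>
    intro N M h hM T' φ hφ T x hx
    obtain rfl : M = N := by omega
    rw [tr_self, Category.comp_id] at hx
    rw [hx, zero_comp]
  | succ d ih =>
    intro N M h hM T' φ hφ T x hx
    by_cases hM' : M ≤ N + d
    · exact ih N M h hM' T' φ hφ T x hx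
    · have hN1 : N + 1 ≤ M := by omega
      have hM1 : M ≤ N + 1 + d := by omega
      have hx1 : (x ≫ tr X hN1) ≫ tr X (Nat.le_succ N) = 0 := by
        rw [Category.assoc, trc]
        exact hx
      obtain ⟨W₁, τ₁, hτ₁⟩ := exists_gen J hJ (N + 1 - r) (X.obj (op (N + 1)))
      obtain ⟨W, τ, hτ⟩ := exists_gen J hJ (N + 1 - r) (X.obj (op M))
      have hx2 : (x ≫ tr X hN1) ≫ cokernel.π τ₁ = 0 := by
        have hk : (kernelSubobject (tr X (Nat.le_succ N))).arrow ≫ cokernel.π τ₁ = 0 :=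
          hF (N + 1) _ _ ((hτ₁ _ _).mp (cokernel.condition τ₁))
        rw [← factorThruKernelSubobject_comp_arrow (tr X (Nat.le_succ N)) (x ≫ tr X hN1) hx1,
          Category.assoc, hk, comp_zero]
      haveI : Epi (tr X hN1) := hX _ _ _
      obtain ⟨T₂, π, hπ, k, w, hk0, hkw⟩ := lift_ideal_epi (tr X hN1) τ hτ (cokernel.π τ₁)
        hτ₁.isQuot_cokernel x (by simpa only [Category.assoc] using hx2)
      have hkφ : k ≫ φ = 0 := ih (N + 1) M hN1 hM1 T' φ
        (homKilledBy_mono (Ideal.pow_le_pow_right (by omega)) hφ) T₂ k hk0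
      haveI := hπ
      rw [← cancel_epi π, comp_zero, ← Category.assoc, hkw, Preadditive.add_comp, hkφ,
        Category.assoc, hτ.comp_eq_zero _ hφ, comp_zero, add_zero]

section Build

variable (J : Ideal A) (X : PS C) (r : ℕ) (W : ℕ → C) (τ : ∀ n : ℕ, W n ⟶ X.obj (op (n + r)))
  (hτ : ∀ n : ℕ, IsGen (J ^ (n + 1)) (τ n))

include hτ in
lemma quot_cond (n m : ℕ) (h : n ≤ m) :
    τ m ≫ tr X (Nat.add_le_add_right h r) ≫ cokernel.π (τ n) = 0 :=
  (hτ m).comp_eq_zero _ (homKilledBy_mono (Ideal.pow_le_pow_right (Nat.succ_le_succ h))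
    (homKilledBy_of_tgt _ (hτ n).isQuot_cokernel.1))

noncomputable def quotT (n m : ℕ) (h : n ≤ m) : cokernel (τ m) ⟶ cokernel (τ n) :=
  cokernel.desc (τ m) (tr X (Nat.add_le_add_right h r) ≫ cokernel.π (τ n))
    (quot_cond J X r W τ hτ n m h)

@[reassoc]
lemma quotT_fac (n m : ℕ) (h : n ≤ m) :
    cokernel.π (τ m) ≫ quotT J X r W τ hτ n m h =
      tr X (Nat.add_le_add_right h r) ≫ cokernel.π (τ n) :=
  cokernel.π_desc _ _ _

lemma quotT_id (n : ℕ) (h : n ≤ n) : quotT J X r W τ hτ n n h = 𝟙 _ := by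
  rw [← cancel_epi (cokernel.π (τ n)), quotT_fac, tr_self, Category.id_comp, Category.comp_id]

lemma quotT_comp (n m k : ℕ) (h₁ : n ≤ m) (h₂ : m ≤ k) :
    quotT J X r W τ hτ m k h₂ ≫ quotT J X r W τ hτ n m h₁ =
      quotT J X r W τ hτ n k (h₁.trans h₂) := by
  rw [← cancel_epi (cokernel.π (τ k)), quotT_fac_assoc, quotT_fac, trc_assoc, quotT_fac]

noncomputable def quotPS : PS C :=
  mkPS (fun n => cokernel (τ n)) (quotT J X r W τ hτ) (quotT_id J X r W τ hτ)
    (quotT_comp J X r W τ hτ)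

lemma quotPS_tr {n m : ℕ} (h : n ≤ m) :
    tr (quotPS J X r W τ hτ) h = quotT J X r W τ hτ n m h := rfl

noncomputable def quotMap : (shift C r).obj X ⟶ quotPS J X r W τ hτ :=
  mkNat ((shift C r).obj X) (quotPS J X r W τ hτ) (fun n => cokernel.π (τ n))
    (fun n m h => (quotT_fac J X r W τ hτ n m h).symm)

lemma quotMap_app (n : ℕ) : (quotMap J X r W τ hτ).app (op n) = cokernel.π (τ n) := rfl

end Build

/-- S3158, backward direction. -/
theorem crit_fker_mpr (J : Ideal A) (hJ : J.FG ∨ HasCoproducts.{w} C) (X : PS C)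
    (hX : IsStrict X) (kX : TermKilled J X) (r : ℕ)
    (hF : ∀ n : ℕ, SubLEIdeal (J ^ (n - r)) (Fker X n)) : IsARAdic J X := by
  choose W τ hτ using fun n : ℕ => exists_gen J hJ (n + 1) (X.obj (op (n + r)))
  have hp : ∀ n, IsQuot (J ^ (n + 1)) (cokernel.π (τ n)) := fun n => (hτ n).isQuot_cokernel
  have hYadic : IsAdic J (quotPS J X r W τ hτ) := by
    refine ⟨fun n => (hp n).1, fun n m h => ⟨(hp n).1, fun T' φ hφ => ?_⟩⟩
    haveI : Epi (tr X (Nat.add_le_add_right h r)) := hX _ _ _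
    haveI : Epi (tr X (Nat.add_le_add_right h r) ≫ cokernel.π (τ n)) := epi_comp _ _
    have hφ0 : HomKilledBy (J ^ (n + 1)) φ := hφ
    have hφ' : HomKilledBy (J ^ (n + 1)) (cokernel.π (τ m) ≫ φ) := homKilledBy_comp_left _ hφ0
    have hker : kernel.ι (tr X (Nat.add_le_add_right h r) ≫ cokernel.π (τ n)) ≫
        cokernel.π (τ m) ≫ φ = 0 := by
      obtain ⟨W', τ', hτ'⟩ := exists_gen J hJ (n + 1) (X.obj (op (m + r)))
      have hx : kernel.ι (tr X (Nat.add_le_add_right h r) ≫ cokernel.π (τ n)) ≫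
          tr X (Nat.add_le_add_right h r) ≫ cokernel.π (τ n) = 0 := kernel.condition _
      obtain ⟨T₂, π, hπ, k, w, hk0, hkw⟩ := lift_ideal_epi (tr X (Nat.add_le_add_right h r))
        τ' hτ' (cokernel.π (τ n)) (hp n) _ hx
      have e : n + r + 1 - r = n + 1 := by omega
      have hkφ : k ≫ cokernel.π (τ m) ≫ φ = 0 :=
        ker_le_ideal J hJ X hX r hF (m - n) (n + r) (m + r) _ (by omega) _ _
          (by rw [e]; exact hφ') _ k hk0
      haveI := hπ
      rw [← cancel_epi π, comp_zero, ← Category.assoc, hkw, Preadditive.add_comp, hkφ,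
        Category.assoc, hτ'.comp_eq_zero _ hφ', comp_zero, add_zero]
    obtain ⟨ψ, hψ⟩ := desc_of_epi _ _ hker
    have huniq : ∀ ψ₁ : cokernel (τ n) ⟶ T', quotT J X r W τ hτ n m h ≫ ψ₁ = φ → ψ₁ = ψ := by
      intro ψ₁ h1
      rw [← cancel_epi (tr X (Nat.add_le_add_right h r) ≫ cokernel.π (τ n)), hψ,
        ← quotT_fac J X r W τ hτ n m h, Category.assoc, h1]
    refine ⟨ψ, ?_, fun ψ' hψ' => huniq ψ' hψ'⟩
    show quotT J X r W τ hτ n m h ≫ ψ = φ
    rw [← cancel_epi (cokernel.π (τ m)), ← Category.assoc, quotT_fac, hψ]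
  exact crit_quot_mpr J X hX kX r _ (quotMap J X r W τ hτ) (fun n => hp n) hYadic

end Groth.Agent.Helper6.ARSysCrit
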