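import Mathlib
import Groth.Prelude.Def_ARSys
import Groth.Agent.Lib.Helper6.ARSysBasic
import Groth.Agent.Lib.Helper6.ARSysML
import Groth.Agent.Lib.Helper6.ARAdicTerms
import Groth.Agent.Lib.Helper6.ARIdeal
import Groth.Agent.Lib.Helper6.ARSysIdx
import Groth.Agent.Lib.Helper6.ARSysSES
import Groth.Agent.Lib.Helper6.ARSysCrit

set_option autoImplicit false
set_option linter.style.haveILetI false
set_option linter.unusedSectionVars false
set_option linter.unusedVariables false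

universe w v u

open CategoryTheory CategoryTheory.Limits Opposite ARSys
open Groth.Agent.Helper6.ARSysBasic Groth.Agent.Helper6.ARSysML Groth.Agent.Helper6.ARAdicTerms
open Groth.Agent.Helper6.ARIdeal Groth.Agent.Helper6.ARSysIdx Groth.Agent.Helper6.ARSysSES
open Groth.Agent.Helper6.ARSysCrit

namespace Groth.Agent.Helper6.ARSysExt

variable {C : Type u} [Category.{v} C] [Abelian C]

/-- Composition of isomorphisms up to translation. -/
theorem arIso_comp {Y P X : PS C} (a : Y ⟶ P) (b : P ⟶ X) (ha : IsARIso a) (hb : IsARIso b) :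
    IsARIso (a ≫ b) := by
  obtain ⟨raK, hraK⟩ := kernel_idx a ha.1
  obtain ⟨raL, hraL⟩ := cokernel_idx a ha.2
  obtain ⟨rbK, hrbK⟩ := kernel_idx b hb.1
  obtain ⟨rbL, hrbL⟩ := cokernel_idx b hb.2
  constructor
  · apply kernel_null_of_idx
    refine ⟨raK + rbK, fun c d hcd h' T x hx => ?_⟩
    have hx' : (x ≫ a.app (op d)) ≫ b.app (op d) = 0 := by
      rw [Category.assoc]
      exact hx
    have h1 : c + raK ≤ d := by omega
    have h2 := hrbK (c + raK) d h1 (by omega) T _ hx'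
    have h3 : (x ≫ tr Y h1) ≫ a.app (op (c + raK)) = 0 := by
      rw [Category.assoc, ntr, ← Category.assoc]
      exact h2
    have h4 := hraK c (c + raK) (Nat.le_add_right _ _) le_rfl T _ h3
    rw [Category.assoc, trc] at h4
    exact h4
  · apply cokernel_null_of_idx
    refine ⟨raL + rbL, fun c d hcd h' T z => ?_⟩
    have h1 : c + raL ≤ d := by omega
    obtain ⟨T₁, π₁, hπ₁, p, hp⟩ := hrbL (c + raL) d h1 (by omega) T z
    obtain ⟨T₂, π₂, hπ₂, y, hy⟩ := hraL c (c + raL) (Nat.le_add_right _ _) le_rfl T₁ p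
    haveI := hπ₁
    haveI := hπ₂
    refine ⟨T₂, π₂ ≫ π₁, inferInstance, y, ?_⟩
    show (π₂ ≫ π₁) ≫ z ≫ tr X hcd = y ≫ a.app (op c) ≫ b.app (op c)
    simp only [Category.assoc]
    rw [← trc X (Nat.le_add_right c raL) h1, reassoc_of% hp, ntr', reassoc_of% hy]

lemma mlar_idx' {X : PS C} (r : ℕ)
    (hr : ∀ s : ℕ, r ≤ s → ∀ n : ℕ,
      imageSubobject (shiftMap X s n) = imageSubobject (shiftMap X r n)) :
    ∀ (a b c : ℕ) (hab : a ≤ b) (hac : a ≤ c), a + r ≤ b → b ≤ c →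
      ∀ (T : C) (x : T ⟶ X.obj (op b)),
        ∃ (T' : C) (π : T' ⟶ T) (_ : Epi π) (x' : T' ⟶ X.obj (op c)),
          π ≫ x ≫ tr X hab = x' ≫ tr X hac := by
  intro a b c hab hac h1 h2 T x
  apply lift_of_image_le
  have e1 : imageSubobject (tr X hab) ≤ imageSubobject (tr X (Nat.le_add_right a r)) :=
    image_tr_antitone X (Nat.le_add_right a r) h1
  have e2 : imageSubobject (tr X (Nat.le_add_right a (c - a))) =
      imageSubobject (tr X (Nat.le_add_right a r)) := hr (c - a) (by omega) a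
  have e3 : imageSubobject (tr X (Nat.le_add_right a (c - a))) = imageSubobject (tr X hac) :=
    image_tr_congr X (by omega) _ _
  rw [← e3, e2]
  exact e1

/-- An extension of a strict system by a uniformly Mittag-Leffler system is uniformly
Mittag-Leffler. -/
theorem mlar_ext (S : ShortComplex (PS C)) (hS : S.ShortExact) (h₁ : IsMLAR S.X₁)
    (h₃ : IsStrict S.X₃) : IsMLAR S.X₂ := by
  obtain ⟨r₁, hr₁⟩ := mlar_idx h₁
  apply mlar_of_idx
  refine ⟨r₁, fun n b c hnb hnc hb hbc T z => ?_⟩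
  haveI : Epi (tr S.X₃ hbc) := h₃ _ _ _
  haveI := epi_g hS c
  haveI : Epi (S.g.app (op c) ≫ tr S.X₃ hbc) := epi_comp _ _
  obtain ⟨T₁, π₁, hπ₁, w, hw⟩ := surjective_up_to_refinements_of_epi
    (S.g.app (op c) ≫ tr S.X₃ hbc) (z ≫ S.g.app (op b))
  have hw' : π₁ ≫ z ≫ S.g.app (op b) = w ≫ S.g.app (op c) ≫ tr S.X₃ hbc := hw
  have h0 : (π₁ ≫ z - w ≫ tr S.X₂ hbc) ≫ (ptS S b).g = 0 := by
    show (π₁ ≫ z - w ≫ tr S.X₂ hbc) ≫ S.g.app (op b) = 0
    rw [Preadditive.sub_comp, Category.assoc, Category.assoc, hw', ntr S.g hbc, sub_self]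
  obtain ⟨T₂, π₂, hπ₂, x, hx⟩ :=
    (ptS_exact hS b).exact_up_to_refinements (π₁ ≫ z - w ≫ tr S.X₂ hbc) h0
  have hx0 : ∃ x0 : T₂ ⟶ S.X₁.obj (op b),
      π₂ ≫ (π₁ ≫ z - w ≫ tr S.X₂ hbc) = x0 ≫ S.f.app (op b) := ⟨x, hx⟩
  obtain ⟨x0, hx'⟩ := hx0
  obtain ⟨T₃, π₃, hπ₃, x', hx''⟩ := hr₁ n b c hnb hnc hb hbc T₂ x0
  haveI := hπ₁
  haveI := hπ₂
  haveI := hπ₃
  refine ⟨T₃, π₃ ≫ π₂ ≫ π₁, inferInstance, π₃ ≫ π₂ ≫ w + x' ≫ S.f.app (op c), ?_⟩
  have e1 : π₂ ≫ π₁ ≫ z = x0 ≫ S.f.app (op b) + π₂ ≫ w ≫ tr S.X₂ hbc := by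
    rw [← hx', Preadditive.comp_sub, sub_add_cancel]
  simp only [Category.assoc, Preadditive.add_comp]
  rw [reassoc_of% e1]
  simp only [Category.assoc, Preadditive.add_comp, Preadditive.comp_add]
  rw [ntr' S.f hnb, reassoc_of% hx'', trc, ntr' S.f hnc, add_comm]

variable {A : Type w} [CommRing A] [Linear A C]

lemma strict_of_adic {J : Ideal A} {Y : PS C} (hY : IsAdic J Y) : IsStrict Y :=
  fun n m h => isQuot_epi (hY.2 n m h)

lemma mlar_of_aradic {J : Ideal A} {X : PS C} (h : IsARAdic J X) : IsMLAR X := by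
  obtain ⟨_, Y, u, hY, hu⟩ := h
  exact mlar_of_strict X Y u (strict_of_adic hY) hu.2

lemma termKilled_of_mono {J : Ideal A} {X' X : PS C} (ι : X' ⟶ X) [Mono ι]
    (k : TermKilled J X) : TermKilled J X' := by
  intro n a ha
  rw [← cancel_mono (ι.app (op n)), zero_comp, Linear.smul_comp, Category.id_comp]
  have e : a • ι.app (op n) = ι.app (op n) ≫ (a • 𝟙 _) := by
    rw [Linear.comp_smul, Category.comp_id]
  rw [e, k n a ha, comp_zero]

/-- S3165 in the case where the third system is adic. -/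
theorem aradic_X₂_of_adic (J : Ideal A) (hJ : J.FG ∨ HasCoproducts.{w} C)
    (S : ShortComplex (PS C)) (hS : S.ShortExact) (k₂ : TermKilled J S.X₂)
    (h₁ : IsARAdic J S.X₁) (h₃ : IsAdic J S.X₃) : IsARAdic J S.X₂ := by
  have hml : IsMLAR S.X₂ := mlar_ext S hS (mlar_of_aradic h₁) (strict_of_adic h₃)
  obtain ⟨r₁, hr₁⟩ := hml
  obtain ⟨_, Y₁, u₁, hY₁, hu₁⟩ := h₁
  obtain ⟨rK, hrK⟩ := kernel_idx u₁ hu₁.1
  obtain ⟨rL, hrL⟩ := cokernel_idx u₁ hu₁.2
  have hP's : IsStrict (Limits.image (shiftNat S.X₂ r₁)) := image_strict S.X₂ r₁ hr₁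
  have hP'k : TermKilled J (Limits.image (shiftNat S.X₂ r₁)) :=
    termKilled_of_mono (Limits.image.ι (shiftNat S.X₂ r₁)) k₂
  have hι : IsARIso (Limits.image.ι (shiftNat S.X₂ r₁)) :=
    ⟨image_arNull_kernel S.X₂ r₁, image_arNull_cokernel S.X₂ r₁⟩
  have hcrit : ∀ n : ℕ, SubLEIdeal (J ^ (n - (rK + 1)))
      (Fker (Limits.image (shiftNat S.X₂ r₁)) n) := by
    intro n T' φ hφ
    by_cases hn : n ≤ rK + 1
    · have e : n - (rK + 1) = 0 := Nat.sub_eq_zero_of_le hn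
      rw [e] at hφ
      rw [top_case J φ hφ, comp_zero]
    · rw [not_le] at hn
      obtain ⟨k, rfl⟩ : ∃ k, n = k + 1 := ⟨n - 1, by omega⟩
      have hk : rK + 1 ≤ k := by omega
      have e : k + 1 - (rK + 1) = k - rK := by omega
      rw [e] at hφ
      show (kernelSubobject (tr (Limits.image (shiftNat S.X₂ r₁)) (Nat.le_succ k))).arrow ≫ φ = 0
      have hy₀ : (kernelSubobject (tr (Limits.image (shiftNat S.X₂ r₁)) (Nat.le_succ k))).arrow ≫
          tr (Limits.image (shiftNat S.X₂ r₁)) (Nat.le_succ k) = 0 :=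
        kernelSubobject_arrow_comp _
      -- levels
      have hnM : k + 1 ≤ k + 1 + r₁ := Nat.le_add_right _ _
      have hMN : k + 1 + r₁ ≤ k + 1 + r₁ + rL := Nat.le_add_right _ _
      have hnN : k + 1 ≤ k + 1 + r₁ + rL := by omega
      have hkn : k ≤ k + 1 := Nat.le_succ k
      have hkN : k ≤ k + 1 + r₁ + rL := by omega
      have hkM : k ≤ k + 1 + r₁ := by omega
      have hmk : k - rK ≤ k := Nat.sub_le _ _
      have hmM : k - rK ≤ k + 1 + r₁ := by omega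
      -- (i)
      obtain ⟨T₁, π₁, hπ₁, z₀, hz₀⟩ := surjective_up_to_refinements_of_epi (eN S.X₂ r₁ (k + 1))
        (kernelSubobject (tr (Limits.image (shiftNat S.X₂ r₁)) (Nat.le_succ k))).arrow
      obtain ⟨T₂, π₂, hπ₂, z, hz⟩ := mlar_idx' r₁ hr₁ (k + 1) (k + 1 + r₁) (k + 1 + r₁ + rL)
        hnM hnN le_rfl hMN T₁ z₀
      have hzy : π₂ ≫ π₁ ≫ (kernelSubobject
          (tr (Limits.image (shiftNat S.X₂ r₁)) (Nat.le_succ k))).arrow ≫
          (Limits.image.ι (shiftNat S.X₂ r₁)).app (op (k + 1)) = z ≫ tr S.X₂ hnN := by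
        rw [reassoc_of% hz₀, image_fac, hz]
      -- (ii)
      have hzk : z ≫ tr S.X₂ hkN = 0 := by
        rw [← trc S.X₂ hkn hnN, ← reassoc_of% hzy, ntr', reassoc_of% hy₀, zero_comp, comp_zero,
          comp_zero]
      -- (iii)
      obtain ⟨WN, τN, hτN⟩ := exists_gen J hJ (k + 1) (S.X₂.obj (op (k + 1 + r₁ + rL)))
      have hz3 : z ≫ S.g.app (op (k + 1 + r₁ + rL)) ≫ tr S.X₃ hkN = 0 := by
        rw [ntr', reassoc_of% hzk, zero_comp]
      obtain ⟨T₃, π₃, hπ₃, x, w, hxw⟩ := lift_ideal_pt S hS (k + 1 + r₁ + rL) τN hτN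
        (tr S.X₃ hkN) (h₃.2 k _ hkN) z hz3
      -- (iv)
      have hτN0 : τN ≫ tr S.X₂ hkN = 0 := hτN.comp_eq_zero_of_tgt _ (k₂ k)
      haveI := mono_f hS k
      have hx0 : x ≫ tr S.X₁ hkN = 0 := by
        rw [← cancel_mono (S.f.app (op k)), zero_comp, Category.assoc, ntr, ← Category.assoc]
        have e1 : x ≫ S.f.app (op (k + 1 + r₁ + rL)) = π₃ ≫ z - w ≫ τN := by
          rw [hxw, add_sub_cancel_right]
        rw [e1, Preadditive.sub_comp, Category.assoc, hzk, comp_zero, Category.assoc, hτN0,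
          comp_zero, sub_zero]
      -- (v)
      obtain ⟨T₄, π₄, hπ₄, η, hη⟩ := hrL (k + 1 + r₁) (k + 1 + r₁ + rL) hMN le_rfl T₃ x
      have hη1 : (η ≫ tr Y₁ hkM) ≫ u₁.app (op k) = 0 := by
        rw [Category.assoc, ntr, ← reassoc_of% hη, trc, hx0, comp_zero]
      have hη2 := hrK (k - rK) k hmk (by omega) T₄ _ hη1
      rw [Category.assoc, trc] at hη2
      obtain ⟨WY, τY, hτY⟩ := exists_gen J hJ (k - rK + 1) (Y₁.obj (op (k + 1 + r₁)))
      obtain ⟨T₅, π₅, hπ₅, w', hw'⟩ := hτY.lift_of_isQuot (hY₁.2 (k - rK) _ hmM) η hη2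
      -- (vi)
      have hφ1 : HomKilledBy (J ^ (k - rK + 1)) (u₁.app (op (k + 1 + r₁)) ≫
          S.f.app (op (k + 1 + r₁)) ≫ eN S.X₂ r₁ (k + 1) ≫ φ) :=
        homKilledBy_comp_left _ (homKilledBy_comp_left _ (homKilledBy_comp_left _
          (homKilledBy_mono (Ideal.pow_le_pow_right (Nat.le_succ _)) hφ)))
      have hφ2 : HomKilledBy (J ^ (k + 1)) (tr S.X₂ hMN ≫ eN S.X₂ r₁ (k + 1) ≫ φ) :=
        homKilledBy_comp_left _ (homKilledBy_comp_left _
          (homKilledBy_mono (Ideal.pow_le_pow_right (by omega)) hφ))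
      have h6 : π₅ ≫ π₄ ≫ π₃ ≫ z ≫ tr S.X₂ hMN ≫ eN S.X₂ r₁ (k + 1) ≫ φ = 0 := by
        rw [reassoc_of% hxw]
        simp only [Preadditive.add_comp, Preadditive.comp_add, Category.assoc]
        rw [hτN.comp_eq_zero _ hφ2, comp_zero, comp_zero, comp_zero, add_zero, ntr'_assoc S.f hMN,
          reassoc_of% hη, reassoc_of% hw', hτY.comp_eq_zero _ hφ1, comp_zero]
      -- (vii)
      have h7 : π₂ ≫ π₁ ≫ (kernelSubobject
          (tr (Limits.image (shiftNat S.X₂ r₁)) (Nat.le_succ k))).arrow =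
          z ≫ tr S.X₂ hMN ≫ eN S.X₂ r₁ (k + 1) := by
        rw [← cancel_mono ((Limits.image.ι (shiftNat S.X₂ r₁)).app (op (k + 1)))]
        simp only [Category.assoc]
        rw [hzy, image_fac, trc]
      haveI := hπ₁
      haveI := hπ₂
      haveI := hπ₃
      haveI := hπ₄
      haveI := hπ₅
      rw [← cancel_epi π₁, ← cancel_epi π₂, ← cancel_epi π₃, ← cancel_epi π₄, ← cancel_epi π₅]
      simp only [comp_zero]
      rw [reassoc_of% h7]
      exact h6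
  have hP'ad : IsARAdic J (Limits.image (shiftNat S.X₂ r₁)) :=
    crit_fker_mpr J hJ _ hP's hP'k (rK + 1) hcrit
  obtain ⟨_, Y₂, v, hY₂, hv⟩ := hP'ad
  exact ⟨k₂, Y₂, v ≫ Limits.image.ι (shiftNat S.X₂ r₁), hY₂, arIso_comp _ _ hv hι⟩

end Groth.Agent.Helper6.ARSysExt
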