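import Mathlib
import Groth.Agent.Lib.Helper6.AbNoeth

set_option autoImplicit false
set_option linter.style.haveILetI false
set_option linter.unusedSectionVars false
set_option linter.unusedVariables false

universe v u

open CategoryTheory CategoryTheory.Limits ZeroObject
open Groth.Agent.Helper6.AbNoeth

namespace Groth.Agent.Helper6.GradedHB

section Generic

lemma wfgt_monoSeq {P : Type*} [PartialOrder P] [WellFoundedGT P] : WellFoundedGT (ℕ →o P) := by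
  rw [wellFoundedGT_iff_monotone_chain_condition]
  intro F
  have hZ1 : ∀ {i j : ℕ} (_ : i ≤ j) (n : ℕ), F i n ≤ F j n := fun hij n => F.monotone hij n
  have hZ2 : ∀ (i : ℕ) {n m : ℕ} (_ : n ≤ m), F i n ≤ F i m := fun i _ _ hnm => (F i).monotone hnm
  let diag : ℕ →o P := ⟨fun k => F k k, fun k l hkl => (hZ1 hkl k).trans (hZ2 l hkl)⟩
  obtain ⟨N, hN⟩ := (wellFoundedGT_iff_monotone_chain_condition.mp inferInstance) diag
  have hcol : ∀ n : ℕ, ∃ Nn : ℕ, ∀ i, Nn ≤ i → F Nn n = F i n := by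
    intro n
    exact (wellFoundedGT_iff_monotone_chain_condition.mp inferInstance)
      (⟨fun i => F i n, fun i j hij => hZ1 hij n⟩ : ℕ →o P)
  choose Nn hNn using hcol
  refine ⟨max N ((Finset.range N).sup Nn), fun i hi => ?_⟩
  have hN1 : N ≤ max N ((Finset.range N).sup Nn) := le_max_left _ _
  have hN2 : ∀ n, n < N → Nn n ≤ max N ((Finset.range N).sup Nn) := fun n hn =>
    le_trans (Finset.le_sup (f := Nn) (Finset.mem_range.mpr hn)) (le_max_right _ _)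
  generalize max N ((Finset.range N).sup Nn) = N' at hi hN1 hN2 ⊢
  apply le_antisymm (F.monotone hi)
  intro n
  by_cases hn : n < N
  · have h1 : Nn n ≤ N' := hN2 n hn
    have e1 : F i n = F (Nn n) n := (hNn n i (h1.trans hi)).symm
    have e2 : F N' n = F (Nn n) n := (hNn n N' h1).symm
    show F i n ≤ F N' n
    rw [e1, e2]
  · rw [not_lt] at hn
    have h2 : F i n ≤ F (max i n) (max i n) :=
      (hZ1 (le_max_left i n) n).trans (hZ2 _ (le_max_right i n))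
    have h3 : F (max i n) (max i n) = F N N :=
      (hN (max i n) (hn.trans (le_max_right i n))).symm
    have h4 : F N N ≤ F N' n := (hZ1 hN1 N).trans (hZ2 _ hn)
    exact h2.trans (h3.le.trans h4)

end Generic

variable {C : Type u} [Category.{v} C] [Abelian C]

lemma factors_iff_comp_cokernel {T X : C} (S : Subobject X) (x : T ⟶ X) :
    S.Factors x ↔ x ≫ cokernel.π S.arrow = 0 := by
  constructor
  · intro h
    rw [← Subobject.factorThru_arrow S x h, Category.assoc, cokernel.condition, comp_zero]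
  · exact factors_of_comp_cokernel_zero S x

lemma factors_of_epi_comp {T' T X : C} (S : Subobject X) (π : T' ⟶ T) [Epi π] (x : T ⟶ X)
    (h : S.Factors (π ≫ x)) : S.Factors x := by
  rw [factors_iff_comp_cokernel] at h ⊢
  rw [← cancel_epi π, comp_zero, ← Category.assoc, h]

lemma factors_sub {T X : C} (S : Subobject X) (x y : T ⟶ X) (hx : S.Factors x)
    (hy : S.Factors y) : S.Factors (x - y) := by
  rw [factors_iff_comp_cokernel] at *
  rw [Preadditive.sub_comp, hx, hy, sub_self]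

lemma le_iff_factors {X : C} (S S' : Subobject X) :
    S ≤ S' ↔ ∀ (T : C) (x : T ⟶ X), S.Factors x → S'.Factors x :=
  ⟨fun h T x hx => Subobject.factors_of_le x h hx,
    fun h => Subobject.le_of_factors (h _ _ (Subobject.factors_self S))⟩

lemma pre_factors {X Y W : C} (g : X ⟶ Y) (T : Subobject Y) (h : W ⟶ X) :
    (pre g T).Factors h ↔ T.Factors (h ≫ g) := by
  rw [pre_factors_iff, factors_iff_comp_cokernel, Category.assoc]

lemma img_factors {X Y W : C} (g : X ⟶ Y) (T : Subobject X) (y : W ⟶ Y) :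
    (img g T).Factors y ↔ ∃ (W' : C) (π : W' ⟶ W) (_ : Epi π) (x : W' ⟶ X),
      T.Factors x ∧ π ≫ y = x ≫ g := by
  unfold img
  constructor
  · intro h
    obtain ⟨W', π, hπ, x₀, hx₀⟩ := surjective_up_to_refinements_of_epi
      (factorThruImageSubobject (T.arrow ≫ g)) ((imageSubobject (T.arrow ≫ g)).factorThru y h)
    refine ⟨W', π, hπ, x₀ ≫ T.arrow, Subobject.factors_comp_arrow x₀, ?_⟩
    rw [← Subobject.factorThru_arrow _ y h, ← Category.assoc, hx₀, Category.assoc,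
      imageSubobject_arrow_comp, Category.assoc]
  · rintro ⟨W', π, hπ, x, hx, hxy⟩
    haveI := hπ
    apply factors_of_epi_comp _ π
    rw [hxy, ← Subobject.factorThru_arrow T x hx, Category.assoc]
    have h1 := Subobject.factors_comp_arrow (P := imageSubobject (T.arrow ≫ g))
      (T.factorThru x hx ≫ factorThruImageSubobject (T.arrow ≫ g))
    rwa [Category.assoc, imageSubobject_arrow_comp] at h1

lemma img_mem {X Y W : C} (g : X ⟶ Y) (T : Subobject X) (x : W ⟶ X) (hx : T.Factors x) :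
    (img g T).Factors (x ≫ g) :=
  (img_factors g T _).mpr ⟨W, 𝟙 W, inferInstance, x, hx, Category.id_comp _⟩

/-- Graded objects with `k` commuting operators of degree one. -/
structure KMod (C : Type u) [Category.{v} C] (k : ℕ) where
  G : ℕ → C
  t : Fin k → ∀ q : ℕ, G q ⟶ G (q + 1)
  comm : ∀ (i j : Fin k) (q : ℕ), t i q ≫ t j (q + 1) = t j q ≫ t i (q + 1)

variable {k : ℕ}

/-- Graded submodules. -/
def IsSub (𝔊 : KMod C k) (S : ∀ q, Subobject (𝔊.G q)) : Prop :=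
  ∀ (i : Fin k) (q : ℕ) (T : C) (x : T ⟶ 𝔊.G q), (S q).Factors x →
    (S (q + 1)).Factors (x ≫ 𝔊.t i q)

/-- Generated in degree zero. -/
def Gen0 (𝔊 : KMod C k) : Prop :=
  ∀ (q : ℕ) (T : C) (x : T ⟶ 𝔊.G (q + 1)), ∃ (T' : C) (π : T' ⟶ T) (_ : Epi π)
    (y : Fin k → (T' ⟶ 𝔊.G q)), π ≫ x = ∑ i, y i ≫ 𝔊.t i q

abbrev SubMod (𝔊 : KMod C k) := {S : ∀ q, Subobject (𝔊.G q) // IsSub 𝔊 S}

lemma hb_zero (𝔊 : KMod C 0) (hg : Gen0 𝔊) (h0 : IsNoetherianObject (𝔊.G 0)) :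
    WellFoundedGT (SubMod 𝔊) := by
  have hzero : ∀ (q : ℕ) (T : C) (x : T ⟶ 𝔊.G (q + 1)), x = 0 := by
    intro q T x
    obtain ⟨T', π, hπ, y, hy⟩ := hg q T x
    haveI := hπ
    rw [Finset.univ_eq_empty, Finset.sum_empty] at hy
    rw [← cancel_epi π, hy, comp_zero]
  have hsub : ∀ (q : ℕ) (P Q : Subobject (𝔊.G (q + 1))), P ≤ Q := by
    intro q P Q
    apply Subobject.le_of_factors
    rw [hzero q _ P.arrow]
    exact Subobject.factors_zero
  haveI : WellFoundedGT (Subobject (𝔊.G 0)) := inferInstance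
  refine StrictMono.wellFoundedGT (f := fun S : SubMod 𝔊 => S.1 0) ?_
  apply strictMono_of_reflects
  · intro S S' h
    exact h 0
  · intro S S' hle h0' q
    cases q with
    | zero => exact h0'
    | succ q => exact hsub q _ _

section Step

variable (𝔊 : KMod C (k + 1))

/-- Source of the previous-degree last operator. -/
noncomputable def Pq : ℕ → C
  | 0 => 0
  | (q + 1) => 𝔊.G q

/-- The last operator, from the previous degree. -/
noncomputable def tprev : ∀ q : ℕ, Pq 𝔊 q ⟶ 𝔊.G q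
  | 0 => 0
  | (q + 1) => 𝔊.t (Fin.last k) q

lemma tprev_cond (i : Fin k) :
    ∀ q : ℕ, tprev 𝔊 q ≫ 𝔊.t i.castSucc q ≫ cokernel.π (tprev 𝔊 (q + 1)) = 0
  | 0 => by
    show (0 : Pq 𝔊 0 ⟶ 𝔊.G 0) ≫ _ = 0
    rw [zero_comp]
  | (q + 1) => by
    show 𝔊.t (Fin.last k) q ≫ 𝔊.t i.castSucc (q + 1) ≫
      cokernel.π (tprev 𝔊 (q + 1 + 1)) = 0
    rw [← Category.assoc, 𝔊.comm, Category.assoc]
    have h : 𝔊.t (Fin.last k) (q + 1) ≫ cokernel.π (tprev 𝔊 (q + 1 + 1)) = 0 :=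
      cokernel.condition (tprev 𝔊 (q + 1 + 1))
    rw [h, comp_zero]

noncomputable def quotT (i : Fin k) (q : ℕ) :
    cokernel (tprev 𝔊 q) ⟶ cokernel (tprev 𝔊 (q + 1)) :=
  cokernel.desc (tprev 𝔊 q) (𝔊.t i.castSucc q ≫ cokernel.π (tprev 𝔊 (q + 1)))
    (tprev_cond 𝔊 i q)

@[reassoc]
lemma quotT_fac (i : Fin k) (q : ℕ) :
    cokernel.π (tprev 𝔊 q) ≫ quotT 𝔊 i q =
      𝔊.t i.castSucc q ≫ cokernel.π (tprev 𝔊 (q + 1)) :=
  cokernel.π_desc _ _ _

lemma quotT_comm (i j : Fin k) (q : ℕ) :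
    quotT 𝔊 i q ≫ quotT 𝔊 j (q + 1) = quotT 𝔊 j q ≫ quotT 𝔊 i (q + 1) := by
  rw [← cancel_epi (cokernel.π (tprev 𝔊 q)), quotT_fac_assoc, quotT_fac, quotT_fac_assoc,
    quotT_fac, ← Category.assoc, 𝔊.comm, Category.assoc]

/-- The quotient by the last operator. -/
@[reducible] noncomputable def quot : KMod C k where
  G q := cokernel (tprev 𝔊 q)
  t i q := quotT 𝔊 i q
  comm i j q := quotT_comm 𝔊 i j q

lemma quot_exact (q : ℕ) {T : C} (x : T ⟶ 𝔊.G q) (hx : x ≫ cokernel.π (tprev 𝔊 q) = 0) :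
    ∃ (T' : C) (π : T' ⟶ T) (_ : Epi π) (y : T' ⟶ Pq 𝔊 q), π ≫ x = y ≫ tprev 𝔊 q :=
  (ShortComplex.exact_cokernel (tprev 𝔊 q)).exact_up_to_refinements x hx

lemma last_comp_π (q : ℕ) : 𝔊.t (Fin.last k) q ≫ cokernel.π (tprev 𝔊 (q + 1)) = 0 :=
  cokernel.condition (tprev 𝔊 (q + 1))

lemma gen0_quot (hg : Gen0 𝔊) : Gen0 (quot 𝔊) := by
  intro q T x
  obtain ⟨T₁, π₁, hπ₁, x', hx'⟩ :=
    surjective_up_to_refinements_of_epi (cokernel.π (tprev 𝔊 (q + 1))) x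
  obtain ⟨T₂, π₂, hπ₂, y, hy⟩ := hg q T₁ x'
  haveI := hπ₁
  haveI := hπ₂
  refine ⟨T₂, π₂ ≫ π₁, inferInstance, fun i => y i.castSucc ≫ cokernel.π (tprev 𝔊 q), ?_⟩
  rw [Category.assoc, hx', ← Category.assoc, hy, Fin.sum_univ_castSucc, Preadditive.add_comp,
    Category.assoc, last_comp_π, comp_zero, add_zero, Preadditive.sum_comp]
  apply Finset.sum_congr rfl
  intro i _
  show (y i.castSucc ≫ 𝔊.t i.castSucc q) ≫ cokernel.π (tprev 𝔊 (q + 1)) =
    (y i.castSucc ≫ cokernel.π (tprev 𝔊 q)) ≫ quotT 𝔊 i q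
  rw [Category.assoc, Category.assoc, quotT_fac]

lemma noeth_quot (h0 : IsNoetherianObject (𝔊.G 0)) : IsNoetherianObject ((quot 𝔊).G 0) := by
  show IsNoetherianObject (cokernel (tprev 𝔊 0))
  exact noeth_of_epi (cokernel.π (tprev 𝔊 0)) h0

/-- `N_j(S)_e`: elements whose `j`-fold image under the last operator lies in `S`. -/
noncomputable def N (S : ∀ q, Subobject (𝔊.G q)) : ℕ → ∀ e : ℕ, Subobject (𝔊.G e)
  | 0 => S
  | (j + 1) => fun e => pre (𝔊.t (Fin.last k) e) (N S j (e + 1))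

lemma N_succ_factors (S : ∀ q, Subobject (𝔊.G q)) (j e : ℕ) {T : C} (x : T ⟶ 𝔊.G e) :
    (N 𝔊 S (j + 1) e).Factors x ↔ (N 𝔊 S j (e + 1)).Factors (x ≫ 𝔊.t (Fin.last k) e) :=
  pre_factors _ _ _

lemma N_isSub (S : ∀ q, Subobject (𝔊.G q)) (hS : IsSub 𝔊 S) : ∀ j, IsSub 𝔊 (N 𝔊 S j)
  | 0 => hS
  | (j + 1) => by
    intro i e T x hx
    rw [N_succ_factors] at hx ⊢
    have h1 := N_isSub S hS j i (e + 1) T _ hx
    rwa [Category.assoc, 𝔊.comm, ← Category.assoc] at h1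

lemma N_le_succ (S : ∀ q, Subobject (𝔊.G q)) (hS : IsSub 𝔊 S) (j e : ℕ) :
    N 𝔊 S j e ≤ N 𝔊 S (j + 1) e := by
  rw [le_iff_factors]
  intro T x hx
  rw [N_succ_factors]
  exact N_isSub 𝔊 S hS j (Fin.last k) e T x hx

lemma N_mono_S {S S' : ∀ q, Subobject (𝔊.G q)} (h : ∀ q, S q ≤ S' q) :
    ∀ j e, N 𝔊 S j e ≤ N 𝔊 S' j e
  | 0, e => h e
  | (j + 1), e => by
    rw [le_iff_factors]
    intro T x hx
    rw [N_succ_factors] at hx ⊢
    exact Subobject.factors_of_le _ (N_mono_S h j (e + 1)) hx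

/-- Leading submodules. -/
noncomputable def L (S : ∀ q, Subobject (𝔊.G q)) (j e : ℕ) : Subobject ((quot 𝔊).G e) :=
  img (cokernel.π (tprev 𝔊 e)) (N 𝔊 S j e)

lemma L_isSub (S : ∀ q, Subobject (𝔊.G q)) (hS : IsSub 𝔊 S) (j : ℕ) :
    IsSub (quot 𝔊) (L 𝔊 S j) := by
  intro i e T y hy
  obtain ⟨T', π, hπ, x, hx, hxy⟩ := (img_factors _ _ _).mp hy
  apply (img_factors _ _ _).mpr
  refine ⟨T', π, hπ, x ≫ 𝔊.t i.castSucc e, N_isSub 𝔊 S hS j _ e T' x hx, ?_⟩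
  show π ≫ y ≫ quotT 𝔊 i e = (x ≫ 𝔊.t i.castSucc e) ≫ cokernel.π (tprev 𝔊 (e + 1))
  rw [← Category.assoc, hxy, Category.assoc, quotT_fac, Category.assoc]

lemma L_mono_j (S : ∀ q, Subobject (𝔊.G q)) (hS : IsSub 𝔊 S) (e : ℕ) :
    Monotone (fun j => L 𝔊 S j e) :=
  monotone_nat_of_le_succ (fun j => img_mono _ (N_le_succ 𝔊 S hS j e))

lemma L_mono_S {S S' : ∀ q, Subobject (𝔊.G q)} (h : ∀ q, S q ≤ S' q) (j e : ℕ) :
    L 𝔊 S j e ≤ L 𝔊 S' j e :=
  img_mono _ (N_mono_S 𝔊 h j e)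

lemma N_le_of_L_le {S S' : ∀ q, Subobject (𝔊.G q)} (hS : IsSub 𝔊 S) (hS' : IsSub 𝔊 S')
    (hle : ∀ q, S q ≤ S' q) (hL : ∀ j e, L 𝔊 S' j e ≤ L 𝔊 S j e) :
    ∀ e j, N 𝔊 S' j e ≤ N 𝔊 S j e := by
  intro e
  induction e with
  | zero =>
    intro j
    rw [le_iff_factors]
    intro T x hx
    have h1 : (L 𝔊 S' j 0).Factors (x ≫ cokernel.π (tprev 𝔊 0)) := img_mem _ _ x hx
    obtain ⟨T₁, π₁, hπ₁, y₁, hy₁, h2⟩ :=
      (img_factors _ _ _).mp (Subobject.factors_of_le _ (hL j 0) h1)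
    have h3 : (π₁ ≫ x - y₁) ≫ cokernel.π (tprev 𝔊 0) = 0 := by
      rw [Preadditive.sub_comp, Category.assoc, h2, sub_self]
    obtain ⟨T₂, π₂, hπ₂, y', hy'⟩ := quot_exact 𝔊 0 _ h3
    have h4 : π₂ ≫ (π₁ ≫ x - y₁) = 0 := by
      rw [hy']
      show y' ≫ (0 : Pq 𝔊 0 ⟶ 𝔊.G 0) = 0
      rw [comp_zero]
    haveI := hπ₁
    haveI := hπ₂
    apply factors_of_epi_comp _ (π₂ ≫ π₁)
    have h5 : (π₂ ≫ π₁) ≫ x = π₂ ≫ y₁ := by
      rw [Preadditive.comp_sub, sub_eq_zero] at h4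
      rw [Category.assoc]
      exact h4
    rw [h5]
    exact Subobject.factors_of_factors_right _ hy₁
  | succ e ih =>
    intro j
    rw [le_iff_factors]
    intro T x hx
    have h1 : (L 𝔊 S' j (e + 1)).Factors (x ≫ cokernel.π (tprev 𝔊 (e + 1))) :=
      img_mem _ _ x hx
    obtain ⟨T₁, π₁, hπ₁, y₁, hy₁, h2⟩ :=
      (img_factors _ _ _).mp (Subobject.factors_of_le _ (hL j (e + 1)) h1)
    have h3 : (π₁ ≫ x - y₁) ≫ cokernel.π (tprev 𝔊 (e + 1)) = 0 := by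
      rw [Preadditive.sub_comp, Category.assoc, h2, sub_self]
    obtain ⟨T₂, π₂, hπ₂, y', hy'⟩ := quot_exact 𝔊 (e + 1) _ h3
    obtain ⟨y'', hy''⟩ : ∃ y'' : T₂ ⟶ 𝔊.G e,
        π₂ ≫ (π₁ ≫ x - y₁) = y'' ≫ 𝔊.t (Fin.last k) e := ⟨y', hy'⟩
    have h6 : (N 𝔊 S' (j + 1) e).Factors y'' := by
      rw [N_succ_factors, ← hy'', Preadditive.comp_sub]
      apply factors_sub
      · exact Subobject.factors_of_factors_right _ (Subobject.factors_of_factors_right _ hx)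
      · exact Subobject.factors_of_factors_right _
          (Subobject.factors_of_le _ (N_mono_S 𝔊 hle j (e + 1)) hy₁)
    have h7 := Subobject.factors_of_le _ (ih (j + 1)) h6
    rw [N_succ_factors, ← hy''] at h7
    haveI := hπ₁
    haveI := hπ₂
    apply factors_of_epi_comp _ (π₂ ≫ π₁)
    have h8 : (π₂ ≫ π₁) ≫ x = π₂ ≫ (π₁ ≫ x - y₁) + π₂ ≫ y₁ := by
      rw [Preadditive.comp_sub, sub_add_cancel, Category.assoc]
    rw [h8]
    exact Subobject.factors_add _ _ h7 (Subobject.factors_of_factors_right _ hy₁)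

end Step

/-- Hilbert basis theorem for graded modules generated in degree zero by a Noetherian object. -/
theorem hb : ∀ (k : ℕ) (𝔊 : KMod C k), Gen0 𝔊 → IsNoetherianObject (𝔊.G 0) →
    WellFoundedGT (SubMod 𝔊)
  | 0, 𝔊, hg, h0 => hb_zero 𝔊 hg h0
  | (k + 1), 𝔊, hg, h0 => by
    haveI : WellFoundedGT (SubMod (quot 𝔊)) :=
      hb k (quot 𝔊) (gen0_quot 𝔊 hg) (noeth_quot 𝔊 h0)
    haveI : WellFoundedGT (ℕ →o SubMod (quot 𝔊)) := wfgt_monoSeq
    refine StrictMono.wellFoundedGT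
      (f := fun S : SubMod 𝔊 => (⟨fun j => ⟨L 𝔊 S.1 j, L_isSub 𝔊 S.1 S.2 j⟩,
        fun j j' hjj' e => L_mono_j 𝔊 S.1 S.2 e hjj'⟩ : ℕ →o SubMod (quot 𝔊)))
      (strictMono_of_reflects _ ?_ ?_)
    · intro S S' h j e
      exact L_mono_S 𝔊 h j e
    · intro S S' hle hΦ q
      exact N_le_of_L_le 𝔊 S.2 S'.2 hle (fun j e => hΦ j e) q 0

/-- Morphisms of graded modules. -/
structure KHom (𝔊 𝔊' : KMod C k) where
  f : ∀ q, 𝔊.G q ⟶ 𝔊'.G q
  comm : ∀ (i : Fin k) (q : ℕ), 𝔊.t i q ≫ f (q + 1) = f q ≫ 𝔊'.t i q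

theorem wf_of_mono {𝔊 𝔊' : KMod C k} (φ : KHom 𝔊 𝔊') (hm : ∀ q, Mono (φ.f q))
    [WellFoundedGT (SubMod 𝔊')] : WellFoundedGT (SubMod 𝔊) := by
  have hsub : ∀ S : SubMod 𝔊, IsSub 𝔊' (fun q => img (φ.f q) (S.1 q)) := by
    intro S i q T y hy
    obtain ⟨T', π, hπ, x, hx, hxy⟩ := (img_factors _ _ _).mp hy
    apply (img_factors _ _ _).mpr
    refine ⟨T', π, hπ, x ≫ 𝔊.t i q, S.2 i q T' x hx, ?_⟩
    rw [← Category.assoc, hxy, Category.assoc, Category.assoc, φ.comm]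
  refine StrictMono.wellFoundedGT
    (f := fun S : SubMod 𝔊 => (⟨fun q => img (φ.f q) (S.1 q), hsub S⟩ : SubMod 𝔊'))
    (strictMono_of_reflects _ ?_ ?_)
  · intro S S' h q
    exact img_mono _ (h q)
  · intro S S' hle hΦ q
    rw [le_iff_factors]
    intro T x hx
    have h1 : (img (φ.f q) (S'.1 q)).Factors (x ≫ φ.f q) := img_mem _ _ x hx
    obtain ⟨T', π, hπ, x₁, hx₁, h2⟩ :=
      (img_factors _ _ _).mp (Subobject.factors_of_le _ (hΦ q) h1)
    haveI := hm q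
    haveI := hπ
    have h3 : π ≫ x = x₁ := by
      rw [← cancel_mono (φ.f q), Category.assoc, h2]
    apply factors_of_epi_comp _ π
    rw [h3]
    exact hx₁

end Groth.Agent.Helper6.GradedHB
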