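import Mathlib
import Groth.Prelude.Def_ARSys
import Groth.Agent.Lib.Helper6.ARSysBasic
import Groth.Agent.Lib.Helper6.ARSysML
import Groth.Agent.Lib.Helper6.ARAdicTerms
import Groth.Agent.Lib.Helper6.ARIdeal
import Groth.Agent.Lib.Helper6.ARSysIdx
import Groth.Agent.Lib.Helper6.ARSysCrit
import Groth.Agent.Lib.Helper6.ARSysExt
import Groth.Agent.Lib.Helper6.AbNoeth
import Groth.Agent.Lib.Helper6.GradedHB

set_option autoImplicit false
set_option linter.style.haveILetI false
set_option linter.unusedSectionVars false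
set_option linter.unusedVariables false

universe w v u

open CategoryTheory CategoryTheory.Limits Opposite ARSys ZeroObject
open Groth.Agent.Helper6.ARSysBasic Groth.Agent.Helper6.ARSysML Groth.Agent.Helper6.ARAdicTerms
open Groth.Agent.Helper6.ARIdeal Groth.Agent.Helper6.ARSysIdx
open Groth.Agent.Helper6.ARSysCrit Groth.Agent.Helper6.ARSysExt
open Groth.Agent.Helper6.AbNoeth Groth.Agent.Helper6.GradedHB

namespace Groth.Agent.Helper6.GrMod

variable {C : Type u} [Category.{v} C] [Abelian C] {A : Type w} [CommRing A] [Linear A C]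

noncomputable def D (X : PS C) : ℕ → C
  | 0 => 0
  | (q + 1) => X.obj (op q)

noncomputable def δ (X : PS C) : ∀ q : ℕ, X.obj (op q) ⟶ D X q
  | 0 => 0
  | (q + 1) => tr X (Nat.le_succ q)

lemma fsub_eq (X : PS C) : ∀ q : ℕ, Fsub X q q = kernelSubobject (δ X q)
  | 0 => by
    show (⊤ : Subobject _) = kernelSubobject (0 : X.obj (op 0) ⟶ D X 0)
    rw [kernelSubobject_zero]
  | (q + 1) => by
    show (if h : q ≤ q + 1 then kernelSubobject (tr X h) else ⊥) =
      kernelSubobject (tr X (Nat.le_succ q))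
    rw [dif_pos (Nat.le_succ q)]

lemma fsub_succ (X : PS C) {k n : ℕ} (h : k ≤ n) :
    Fsub X (k + 1) n = kernelSubobject (tr X h) := by
  show (if h : k ≤ n then kernelSubobject (tr X h) else ⊥) = _
  rw [dif_pos h]

lemma fker_eq (X : PS C) : ∀ q : ℕ, Fker X q = Fsub X q q
  | 0 => rfl
  | (q + 1) => (fsub_succ X (Nat.le_succ q)).symm

lemma adapted_killed {J : Ideal A} {X : PS C} (hA : IsAdapted J X) : TermKilled J X := by
  intro n a ha
  have h := hA n (n + 1) le_rfl a ha
  rw [Nat.sub_self] at h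
  have h' : (⊤ : Subobject (X.obj (op n))).arrow ≫ (a • 𝟙 (X.obj (op n))) = 0 := h
  rwa [← cancel_epi (⊤ : Subobject (X.obj (op n))).arrow, comp_zero]

lemma adapted_zero {J : Ideal A} {X : PS C} (hA : IsAdapted J X) {k n : ℕ} (h : k ≤ n) (a : A)
    (ha : a ∈ J ^ (n - k)) {T : C} (y : T ⟶ X.obj (op n)) (hy : y ≫ tr X h = 0) :
    y ≫ (a • 𝟙 _) = 0 := by
  have h1 := hA n (n - k) (by omega) a ha
  have e : n + 1 - (n - k) = k + 1 := by omega
  rw [e, fsub_succ X h] at h1
  rw [← factorThruKernelSubobject_comp_arrow (tr X h) y hy, Category.assoc, h1, comp_zero]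

lemma smul_δ {J : Ideal A} {X : PS C} (hk : TermKilled J X) :
    ∀ (q : ℕ) (b : A), b ∈ J ^ q → (b • 𝟙 (X.obj (op q))) ≫ δ X q = 0
  | 0, b, _ => by
    show (b • 𝟙 (X.obj (op 0))) ≫ (0 : X.obj (op 0) ⟶ D X 0) = 0
    rw [comp_zero]
  | (q + 1), b, hb => by
    show (b • 𝟙 (X.obj (op (q + 1)))) ≫ tr X (Nat.le_succ q) = 0
    have e : (b • 𝟙 (X.obj (op (q + 1)))) ≫ tr X (Nat.le_succ q) =
        tr X (Nat.le_succ q) ≫ (b • 𝟙 (X.obj (op q))) := by
      rw [Linear.smul_comp, Linear.comp_smul, Category.id_comp, Category.comp_id]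
    rw [e, hk q b hb, comp_zero]

section Ops

variable {J : Ideal A} {X : PS C} (hX : IsStrict X) (hA : IsAdapted J X)

include hX hA in
lemma exists_m (a : A) (ha : a ∈ J) (q : ℕ) :
    ∃ m : X.obj (op q) ⟶ X.obj (op (q + 1)), tr X (Nat.le_succ q) ≫ m = a • 𝟙 _ := by
  haveI : Epi (tr X (Nat.le_succ q)) := hX _ _ _
  apply desc_of_epi
  apply adapted_zero hA (Nat.le_succ q) a _ _ (kernel.condition _)
  have e : q + 1 - q = 1 := by omega
  rw [e, pow_one]
  exact ha

noncomputable def mOp (a : A) (ha : a ∈ J) (q : ℕ) : X.obj (op q) ⟶ X.obj (op (q + 1)) :=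
  (exists_m hX hA a ha q).choose

@[reassoc]
lemma tr_mOp (a : A) (ha : a ∈ J) (q : ℕ) :
    tr X (Nat.le_succ q) ≫ mOp hX hA a ha q = a • 𝟙 _ :=
  (exists_m hX hA a ha q).choose_spec

@[reassoc]
lemma mOp_tr (a : A) (ha : a ∈ J) (q : ℕ) :
    mOp hX hA a ha q ≫ tr X (Nat.le_succ q) = a • 𝟙 _ := by
  haveI : Epi (tr X (Nat.le_succ q)) := hX _ _ _
  rw [← cancel_epi (tr X (Nat.le_succ q)), tr_mOp_assoc, Linear.smul_comp, Linear.comp_smul,
    Category.id_comp, Category.comp_id]

lemma mOp_comm (a b : A) (ha : a ∈ J) (hb : b ∈ J) (q : ℕ) :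
    mOp hX hA a ha q ≫ mOp hX hA b hb (q + 1) = mOp hX hA b hb q ≫ mOp hX hA a ha (q + 1) := by
  haveI : Epi (tr X (Nat.le_succ q)) := hX _ _ _
  haveI : Epi (tr X (Nat.le_succ (q + 1))) := hX _ _ _
  rw [← cancel_epi (tr X (Nat.le_succ q)), tr_mOp_assoc, tr_mOp_assoc, Linear.smul_comp,
    Linear.smul_comp, Category.id_comp, Category.id_comp,
    ← cancel_epi (tr X (Nat.le_succ (q + 1))), Linear.comp_smul, Linear.comp_smul, tr_mOp, tr_mOp,
    smul_smul, smul_smul, mul_comm]

include hA in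
lemma ι_smul (a : A) (ha : a ∈ J) : ∀ q : ℕ, kernel.ι (δ X q) ≫ (a • 𝟙 _) = 0
  | 0 => by
    rw [adapted_killed hA 0 a (by rw [zero_add, pow_one]; exact ha), comp_zero]
  | (q + 1) => by
    apply adapted_zero hA (Nat.le_succ q) a _ _ (kernel.condition (δ X (q + 1)))
    have e : q + 1 - q = 1 := by omega
    rw [e, pow_one]
    exact ha

noncomputable def tOp (a : A) (ha : a ∈ J) (q : ℕ) : kernel (δ X q) ⟶ kernel (δ X (q + 1)) :=
  kernel.lift (δ X (q + 1)) (kernel.ι (δ X q) ≫ mOp hX hA a ha q) (by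
    show (kernel.ι (δ X q) ≫ mOp hX hA a ha q) ≫ tr X (Nat.le_succ q) = 0
    rw [Category.assoc, mOp_tr, ι_smul hA a ha q])

@[reassoc]
lemma tOp_ι (a : A) (ha : a ∈ J) (q : ℕ) :
    tOp hX hA a ha q ≫ kernel.ι (δ X (q + 1)) = kernel.ι (δ X q) ≫ mOp hX hA a ha q :=
  kernel.lift_ι _ _ _

lemma tOp_comm (a b : A) (ha : a ∈ J) (hb : b ∈ J) (q : ℕ) :
    tOp hX hA a ha q ≫ tOp hX hA b hb (q + 1) = tOp hX hA b hb q ≫ tOp hX hA a ha (q + 1) := by
  rw [← cancel_mono (kernel.ι (δ X (q + 1 + 1)))]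
  simp only [Category.assoc]
  rw [tOp_ι, tOp_ι_assoc, tOp_ι, tOp_ι_assoc, mOp_comm]

/-- The graded module `(F^q(X_q))_q` with operators given by generators of `J`. -/
@[reducible] noncomputable def grMod {k : ℕ} (a : Fin k → A) (ha : ∀ i, a i ∈ J) : KMod C k where
  G q := kernel (δ X q)
  t i q := tOp hX hA (a i) (ha i) q
  comm i j q := tOp_comm hX hA (a i) (a j) (ha i) (ha j) q

end Ops

section Functorial

variable {J : Ideal A} {X' X : PS C} (hX' : IsStrict X') (hA' : IsAdapted J X')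
  (hX : IsStrict X) (hA : IsAdapted J X) (f : X' ⟶ X)

@[reassoc]
lemma f_mOp (a : A) (ha : a ∈ J) (q : ℕ) :
    mOp hX' hA' a ha q ≫ f.app (op (q + 1)) = f.app (op q) ≫ mOp hX hA a ha q := by
  haveI : Epi (tr X' (Nat.le_succ q)) := hX' _ _ _
  rw [← cancel_epi (tr X' (Nat.le_succ q)), tr_mOp_assoc, ntr_assoc f (Nat.le_succ q), tr_mOp,
    Linear.smul_comp, Linear.comp_smul, Category.id_comp, Category.comp_id]

lemma ι_f_δ : ∀ q : ℕ, (kernel.ι (δ X' q) ≫ f.app (op q)) ≫ δ X q = 0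
  | 0 => by
    show (kernel.ι (δ X' 0) ≫ f.app (op 0)) ≫ (0 : X.obj (op 0) ⟶ D X 0) = 0
    rw [comp_zero]
  | (q + 1) => by
    show (kernel.ι (δ X' (q + 1)) ≫ f.app (op (q + 1))) ≫ tr X (Nat.le_succ q) = 0
    rw [Category.assoc, ntr' f]
    have h : kernel.ι (δ X' (q + 1)) ≫ tr X' (Nat.le_succ q) = 0 :=
      kernel.condition (δ X' (q + 1))
    rw [← Category.assoc, h, zero_comp]

noncomputable def grMap (q : ℕ) : kernel (δ X' q) ⟶ kernel (δ X q) :=
  kernel.lift _ _ (ι_f_δ f q)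

@[reassoc]
lemma grMap_ι (q : ℕ) :
    grMap f q ≫ kernel.ι (δ X q) = kernel.ι (δ X' q) ≫ f.app (op q) :=
  kernel.lift_ι _ _ _

noncomputable def grHom {k : ℕ} (a : Fin k → A) (ha : ∀ i, a i ∈ J) :
    KHom (grMod hX' hA' a ha) (grMod hX hA a ha) where
  f q := grMap f q
  comm i q := by
    show tOp hX' hA' (a i) (ha i) q ≫ grMap f (q + 1) = grMap f q ≫ tOp hX hA (a i) (ha i) q
    rw [← cancel_mono (kernel.ι (δ X (q + 1)))]
    simp only [Category.assoc]
    rw [grMap_ι, tOp_ι_assoc, tOp_ι, grMap_ι_assoc, f_mOp hX' hA' hX hA f]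

lemma grMap_mono (hf : ∀ q, Mono (f.app (op q))) (q : ℕ) : Mono (grMap f q) := by
  haveI := hf q
  haveI : Mono (grMap f q ≫ kernel.ι (δ X q)) := by
    rw [grMap_ι]
    infer_instance
  exact mono_of_mono (grMap f q) (kernel.ι (δ X q))

end Functorial

theorem adapted_of_adic (J : Ideal A) (hJ : J.FG ∨ HasCoproducts.{w} C) (X : PS C)
    (hX : IsAdic J X) : IsAdapted J X := by
  intro n p hp a ha
  obtain ⟨q, hq⟩ : ∃ q, n + 1 - p = q := ⟨_, rfl⟩
  rw [hq]
  cases q with
  | zero =>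
    have hp' : p = n + 1 := by omega
    subst hp'
    rw [hX.1 n a ha, comp_zero]
  | succ k' =>
    have hk : k' ≤ n := by omega
    have hp' : k' + 1 + p = n + 1 := by omega
    rw [fsub_succ X hk]
    obtain ⟨W, τ, hτ⟩ := exists_gen J hJ (k' + 1) (X.obj (op n))
    obtain ⟨T', π, hπ, w, hw⟩ := hτ.lift_of_isQuot (hX.2 k' n hk)
      (kernelSubobject (tr X hk)).arrow (kernelSubobject_arrow_comp _)
    haveI := hπ
    have hk' : HomKilledBy (J ^ (k' + 1)) (a • 𝟙 (X.obj (op n))) := by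
      intro b hb
      rw [smul_smul]
      apply hX.1 n
      rw [← hp', pow_add]
      exact Ideal.mul_mem_mul hb ha
    rw [← cancel_epi π, comp_zero, ← Category.assoc, hw, Category.assoc,
      hτ.comp_eq_zero _ hk', comp_zero]

theorem gen0_of_adic (J : Ideal A) (hJ : J.FG ∨ HasCoproducts.{w} C) (X : PS C)
    (hX : IsAdic J X) {k : ℕ} (a : Fin k → A) (ha : ∀ i, a i ∈ J)
    (hspan : Ideal.span (Set.range a) = J) :
    Gen0 (grMod (strict_of_adic hX) (adapted_of_adic J hJ X hX) a ha) := by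
  intro q T x
  haveI : HasFiniteBiproducts C := Abelian.hasFiniteBiproducts
  have hep : Epi (biproduct.desc (fun i : Fin k =>
      tOp (strict_of_adic hX) (adapted_of_adic J hJ X hX) (a i) (ha i) q)) := by
    generalize hs : biproduct.desc (fun i : Fin k =>
      tOp (strict_of_adic hX) (adapted_of_adic J hJ X hX) (a i) (ha i) q) = s
    have hιs : ∀ i, tOp (strict_of_adic hX) (adapted_of_adic J hJ X hX) (a i) (ha i) q =
        biproduct.ι (fun _ : Fin k => kernel (δ X q)) i ≫ s := by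
      intro i
      rw [← hs, biproduct.ι_desc]
    have stepA : ∀ i, kernel.ι (δ X q) ≫
        mOp (strict_of_adic hX) (adapted_of_adic J hJ X hX) (a i) (ha i) q ≫
        cokernel.π (s ≫ kernel.ι (δ X (q + 1))) = 0 := by
      intro i
      rw [← tOp_ι_assoc, hιs i, Category.assoc, ← Category.assoc s, cokernel.condition, comp_zero]
    have core : ∀ b ∈ J ^ q, ∀ i,
        (b * a i) • cokernel.π (s ≫ kernel.ι (δ X (q + 1))) = 0 := by
      intro b hb i
      have hbδ := smul_δ hX.1 q b hb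
      have e1 : (b * a i) • cokernel.π (s ≫ kernel.ι (δ X (q + 1))) =
          tr X (Nat.le_succ q) ≫ (b • 𝟙 _) ≫
            mOp (strict_of_adic hX) (adapted_of_adic J hJ X hX) (a i) (ha i) q ≫
            cokernel.π (s ≫ kernel.ι (δ X (q + 1))) := by
        rw [Linear.smul_comp, Category.id_comp, Linear.comp_smul, ← Category.assoc, tr_mOp,
          Linear.smul_comp, Category.id_comp, smul_smul]
      rw [e1, ← kernel.lift_ι (δ X q) (b • 𝟙 _) hbδ, Category.assoc, stepA i, comp_zero,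
        comp_zero]
    have stepB : HomKilledBy (J ^ (q + 1)) (cokernel.π (s ≫ kernel.ι (δ X (q + 1)))) := by
      have hJ' : ∀ a' ∈ J, ∀ b ∈ J ^ q,
          (b * a') • cokernel.π (s ≫ kernel.ι (δ X (q + 1))) = 0 := by
        intro a' ha' b hb
        rw [← hspan] at ha'
        refine Submodule.span_induction
          (p := fun a' _ => (b * a') • cokernel.π (s ≫ kernel.ι (δ X (q + 1))) = 0)
          ?_ ?_ ?_ ?_ ha'
        · rintro _ ⟨i, rfl⟩
          exact core b hb i
        · rw [mul_zero, zero_smul]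
        · intro x y _ _ hx hy
          rw [mul_add, add_smul, hx, hy, add_zero]
        · intro r x _ hx
          rw [smul_eq_mul, mul_left_comm, mul_smul, hx, smul_zero]
      intro a'' ha''
      rw [pow_succ] at ha''
      refine Submodule.mul_induction_on ha'' (fun b hb a' ha' => hJ' a' ha' b hb)
        (fun x y hx hy => by rw [add_smul, hx, hy, add_zero])
    have stepC : kernel.ι (δ X (q + 1)) ≫ cokernel.π (s ≫ kernel.ι (δ X (q + 1))) = 0 := by
      obtain ⟨W, τ, hτ⟩ := exists_gen J hJ (q + 1) (X.obj (op (q + 1)))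
      obtain ⟨T', π, hπ, w, hw⟩ := hτ.lift_of_isQuot (hX.2 q (q + 1) (Nat.le_succ q))
        (kernel.ι (δ X (q + 1))) (kernel.condition (δ X (q + 1)))
      haveI := hπ
      rw [← cancel_epi π, comp_zero, ← Category.assoc, hw, Category.assoc,
        hτ.comp_eq_zero _ stepB, comp_zero]
    apply epi_of_image_le s (𝟙 _) (kernel.ι (δ X (q + 1)))
    apply image_le_of_comp_cokernel_zero
    rw [Category.id_comp]
    exact stepC
  haveI := hep
  obtain ⟨T', π, hπ, z, hz⟩ := surjective_up_to_refinements_of_epi (biproduct.desc (fun i : Fin k =>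
      tOp (strict_of_adic hX) (adapted_of_adic J hJ X hX) (a i) (ha i) q)) x
  refine ⟨T', π, hπ, fun i => z ≫ biproduct.π _ i, ?_⟩
  rw [hz, biproduct.desc_eq, Preadditive.comp_sum]
  apply Finset.sum_congr rfl
  intro i _
  rw [Category.assoc]

lemma noeth_G0 (X : PS C) (h0 : IsNoetherianObject (X.obj (op 0))) :
    IsNoetherianObject (kernel (δ X 0)) :=
  isNoetherianObject_of_mono (kernel.ι (δ X 0))

/-- The graded module of an adic system with Noetherian degree-zero term is Noetherian. -/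
theorem wf_of_adic (J : Ideal A) (hJ : J.FG ∨ HasCoproducts.{w} C) (X : PS C)
    (hX : IsAdic J X) (h0 : IsNoetherianObject (X.obj (op 0))) {k : ℕ} (a : Fin k → A)
    (ha : ∀ i, a i ∈ J) (hspan : Ideal.span (Set.range a) = J) :
    WellFoundedGT (SubMod (grMod (strict_of_adic hX) (adapted_of_adic J hJ X hX) a ha)) :=
  hb k _ (gen0_of_adic J hJ X hX a ha hspan) (noeth_G0 X h0)

lemma pullback_factors_iff {X Y : C} (f : X ⟶ Y) (S : Subobject Y) {T : C} (z : T ⟶ X) :
    ((Subobject.pullback f).obj S).Factors z ↔ S.Factors (z ≫ f) := by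
  constructor
  · intro h
    rw [← Subobject.factorThru_arrow _ z h, Category.assoc, ← (Subobject.isPullback f S).w,
      ← Category.assoc]
    exact Subobject.factors_comp_arrow _
  · intro h
    have hpb := Subobject.isPullback f S
    have hc : S.factorThru (z ≫ f) h ≫ S.arrow = z ≫ f := Subobject.factorThru_arrow _ _ h
    rw [← hpb.lift_snd _ _ hc]
    exact Subobject.factors_comp_arrow _

lemma grsub_elem {J : Ideal A} {X : PS C} {M : (q : ℕ) → Subobject (X.obj (op q))}
    (hM : IsGrSub J X M) (p q n : ℕ) (hn : p + q = n) (hqn : q ≤ n) (a : A) (ha : a ∈ J ^ p)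
    {T : C} (z : T ⟶ X.obj (op n)) (hz : (M q).Factors (z ≫ tr X hqn)) :
    (M n).Factors (z ≫ (a • 𝟙 _)) := by
  subst hn
  have h := hM.2 p q a ha
  have hzL := (pullback_factors_iff (tr X (Nat.le_add_left q p)) (M q) z).mpr hz
  apply Subobject.factors_of_le _ h
  rw [← Subobject.factorThru_arrow _ z hzL, Category.assoc]
  exact Subobject.factors_of_factors_right _ (image_factors_self _)

section Embed

variable {J : Ideal A} {X : PS C} (hX : IsStrict X) (hA : IsAdapted J X)

lemma mem_mOp {M : (q : ℕ) → Subobject (X.obj (op q))} (hM : IsGrSub J X M) (a : A)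
    (ha : a ∈ J) (q : ℕ) {T : C} (z : T ⟶ X.obj (op q)) (hz : (M q).Factors z) :
    (M (q + 1)).Factors (z ≫ mOp hX hA a ha q) := by
  haveI : Epi (tr X (Nat.le_succ q)) := hX _ _ _
  obtain ⟨T', π, hπ, z', hz'⟩ := surjective_up_to_refinements_of_epi (tr X (Nat.le_succ q)) z
  haveI := hπ
  apply factors_of_epi_comp _ π
  have h1 : (M (q + 1)).Factors (z' ≫ (a • 𝟙 _)) :=
    grsub_elem hM 1 q (q + 1) (Nat.add_comm 1 q) (Nat.le_succ q) a (by rw [pow_one]; exact ha) z'
      (by rw [← hz']; exact Subobject.factors_of_factors_right _ hz)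
  rw [← Category.assoc, hz', Category.assoc, tr_mOp]
  exact h1

noncomputable def toSub (M : (q : ℕ) → Subobject (X.obj (op q))) (q : ℕ) :
    Subobject (kernel (δ X q)) := pre (kernel.ι (δ X q)) (M q)

lemma toSub_factors (M : (q : ℕ) → Subobject (X.obj (op q))) (q : ℕ) {T : C}
    (x : T ⟶ kernel (δ X q)) : (toSub M q).Factors x ↔ (M q).Factors (x ≫ kernel.ι (δ X q)) :=
  pre_factors _ _ _

lemma toSub_isSub {k : ℕ} (a : Fin k → A) (ha : ∀ i, a i ∈ J)
    {M : (q : ℕ) → Subobject (X.obj (op q))} (hM : IsGrSub J X M) :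
    IsSub (grMod hX hA a ha) (toSub M) := by
  intro i q T x hx
  rw [toSub_factors] at hx ⊢
  show (M (q + 1)).Factors ((x ≫ tOp hX hA (a i) (ha i) q) ≫ kernel.ι (δ X (q + 1)))
  rw [Category.assoc, tOp_ι, ← Category.assoc]
  exact mem_mOp hX hA hM (a i) (ha i) q _ hx

lemma toSub_mono {M M' : (q : ℕ) → Subobject (X.obj (op q))} (h : ∀ q, M q ≤ M' q) (q : ℕ) :
    toSub M q ≤ toSub M' q := pre_mono _ (h q)

lemma le_of_toSub_le {M M' : (q : ℕ) → Subobject (X.obj (op q))}
    (hM' : ∀ q, M' q ≤ Fsub X q q) (h : ∀ q, toSub M' q ≤ toSub M q) (q : ℕ) : M' q ≤ M q := by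
  apply Subobject.le_of_factors
  have h1 : (kernelSubobject (δ X q)).Factors (M' q).arrow := by
    rw [← fsub_eq]
    exact Subobject.factors_of_le _ (hM' q) (Subobject.factors_self _)
  rw [kernelSubobject_factors_iff] at h1
  have h2 : (toSub M' q).Factors (kernel.lift (δ X q) (M' q).arrow h1) := by
    rw [toSub_factors, kernel.lift_ι]
    exact Subobject.factors_self _
  have h3 := Subobject.factors_of_le _ (h q) h2
  rw [toSub_factors, kernel.lift_ι] at h3
  exact h3

theorem grsFiniteType_of_wf {k : ℕ} (a : Fin k → A) (ha : ∀ i, a i ∈ J)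
    (hwf : WellFoundedGT (SubMod (grMod hX hA a ha))) : GrsFiniteType J X := by
  intro M hM hmono hlub
  obtain ⟨n, hn⟩ := (wellFoundedGT_iff_monotone_chain_condition.mp hwf)
    (⟨fun i => ⟨toSub (M i), toSub_isSub hX hA a ha (hM i)⟩,
      fun i j hij q => toSub_mono (fun q => hmono hij q) q⟩ :
      ℕ →o SubMod (grMod hX hA a ha))
  refine ⟨n, fun q => le_antisymm ((hM n).1 q) ?_⟩
  apply (hlub q).2
  rintro _ ⟨i, rfl⟩
  show M i q ≤ M n q
  by_cases hi : i ≤ n
  · exact hmono hi q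
  · have hle : n ≤ i := by omega
    have e := hn i hle
    apply le_of_toSub_le (hM i).1 _ q
    intro q'
    have e' : toSub (M n) q' = toSub (M i) q' := congrFun (congrArg Subtype.val e) q'
    rw [e']

end Embed

end Groth.Agent.Helper6.GrMod
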