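import Mathlib
import Groth.Prelude.Def_ARSys
import Groth.Agent.Lib.Helper6.GrMod

set_option autoImplicit false
set_option linter.style.haveILetI false
set_option linter.unusedSectionVars false
set_option linter.unusedVariables false

universe w v u

open CategoryTheory CategoryTheory.Limits Opposite ARSys ZeroObject
open Groth.Agent.Helper6.ARSysBasic Groth.Agent.Helper6.ARSysML Groth.Agent.Helper6.ARAdicTerms
open Groth.Agent.Helper6.ARIdeal Groth.Agent.Helper6.ARSysIdx
open Groth.Agent.Helper6.ARSysCrit Groth.Agent.Helper6.ARSysExt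
open Groth.Agent.Helper6.AbNoeth Groth.Agent.Helper6.GradedHB Groth.Agent.Helper6.GrMod

namespace Groth.Agent.Helper6.GrFT

variable {C : Type u} [Category.{v} C] [Abelian C] {A : Type w} [CommRing A] [Linear A C]

lemma exists_quot (J : Ideal A) (hJ : J.FG ∨ HasCoproducts.{w} C) (e : ℕ) (X : C) :
    ∃ (Q : C) (p : X ⟶ Q), IsQuot (J ^ e) p := by
  obtain ⟨W, τ, hτ⟩ := exists_gen J hJ e X
  exact ⟨_, cokernel.π τ, hτ.isQuot_cokernel⟩

section JX

variable (J : Ideal A) (hJ : J.FG ∨ HasCoproducts.{w} C) (X : PS C)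

noncomputable def Q (e n : ℕ) : C := (exists_quot J hJ e (X.obj (op n))).choose

noncomputable def qπ (e n : ℕ) : X.obj (op n) ⟶ Q J hJ X e n :=
  (exists_quot J hJ e (X.obj (op n))).choose_spec.choose

lemma qπ_isQuot (e n : ℕ) : IsQuot (J ^ e) (qπ J hJ X e n) :=
  (exists_quot J hJ e (X.obj (op n))).choose_spec.choose_spec

/-- The subobject `J^e X_n` of `X_n`. -/
noncomputable def JX (e n : ℕ) : Subobject (X.obj (op n)) := kernelSubobject (qπ J hJ X e n)

lemma JX_factors (e n : ℕ) {T : C} (z : T ⟶ X.obj (op n)) :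
    (JX J hJ X e n).Factors z ↔
      ∀ (T' : C) (φ : X.obj (op n) ⟶ T'), HomKilledBy (J ^ e) φ → z ≫ φ = 0 := by
  unfold JX
  rw [kernelSubobject_factors_iff]
  constructor
  · intro h T' φ hφ
    obtain ⟨ψ, hψ, _⟩ := (qπ_isQuot J hJ X e n).2 T' φ hφ
    rw [← hψ, ← Category.assoc, h, zero_comp]
  · intro h
    exact h _ _ (homKilledBy_of_tgt _ (qπ_isQuot J hJ X e n).1)

lemma JX_anti {e e' : ℕ} (h : e' ≤ e) (n : ℕ) : JX J hJ X e n ≤ JX J hJ X e' n := by
  rw [le_iff_factors]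
  intro T x hx
  rw [JX_factors] at hx ⊢
  intro T' φ hφ
  exact hx T' φ (homKilledBy_mono (Ideal.pow_le_pow_right h) hφ)

lemma JX_zero (n : ℕ) : JX J hJ X 0 n = ⊤ := by
  rw [eq_top_iff, le_iff_factors]
  intro T x _
  rw [JX_factors]
  intro T' φ hφ
  rw [top_case J φ hφ, comp_zero]

end JX

lemma mul_mem_fsub {J : Ideal A} {X : PS C} (hA : IsAdapted J X) (p q n : ℕ) (hn : p + q = n)
    (hqn : q ≤ n) (a : A) (ha : a ∈ J ^ p) {T : C} (z : T ⟶ X.obj (op n))
    (hz : (Fsub X q q).Factors (z ≫ tr X hqn)) : (Fsub X n n).Factors (z ≫ (a • 𝟙 _)) := by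
  rw [fsub_eq, kernelSubobject_factors_iff] at hz ⊢
  rcases n with _ | m
  · show (z ≫ (a • 𝟙 _)) ≫ (0 : X.obj (op 0) ⟶ D X 0) = 0
    rw [comp_zero]
  · show (z ≫ (a • 𝟙 _)) ≫ tr X (Nat.le_succ m) = 0
    have e : (z ≫ (a • 𝟙 _)) ≫ tr X (Nat.le_succ m) =
        (z ≫ tr X (Nat.le_succ m)) ≫ (a • 𝟙 _) := by
      simp only [Category.assoc, Linear.smul_comp, Linear.comp_smul, Category.id_comp,
        Category.comp_id]
    rw [e]
    rcases q with _ | q'
    · obtain rfl : p = m + 1 := by omega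
      rw [adapted_killed hA m a ha, comp_zero]
    · by_cases hq : q' + 1 = m + 1
      · obtain rfl : q' = m := by omega
        have hz' : z ≫ tr X (Nat.le_succ q') = 0 := by
          have h1 : (z ≫ tr X hqn) ≫ tr X (Nat.le_succ q') = 0 := hz
          rwa [tr_self, Category.comp_id] at h1
        rw [hz', zero_comp]
      · have hq'm : q' ≤ m := by omega
        apply adapted_zero hA hq'm a _ _ _
        · have e1 : m - q' = p := by omega
          rw [e1]
          exact ha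
        · have h1 : (z ≫ tr X hqn) ≫ tr X (Nat.le_succ q') = 0 := hz
          rw [Category.assoc, tr_comp] at h1
          rw [Category.assoc, tr_comp]
          exact h1

lemma mul_mem_JX (J : Ideal A) (hJ : J.FG ∨ HasCoproducts.{w} C) (X : PS C) (hX : IsStrict X)
    (hA : IsAdapted J X) (i p q n : ℕ) (hn : p + q = n) (hqn : q ≤ n) (a : A) (ha : a ∈ J ^ p)
    {T : C} (z : T ⟶ X.obj (op n)) (hz : (JX J hJ X (q - i) q).Factors (z ≫ tr X hqn)) :
    (JX J hJ X (n - i) n).Factors (z ≫ (a • 𝟙 _)) := by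
  haveI : Epi (tr X hqn) := hX _ _ _
  obtain ⟨W, τ, hτ⟩ := exists_gen J hJ (q - i) (X.obj (op n))
  have hz0 : z ≫ tr X hqn ≫ qπ J hJ X (q - i) q = 0 := by
    have h1 : (z ≫ tr X hqn) ≫ qπ J hJ X (q - i) q = 0 :=
      (kernelSubobject_factors_iff _ _).mp hz
    rw [← Category.assoc]
    exact h1
  obtain ⟨T', π, hπ, k, w, hk, hkw⟩ := lift_ideal_epi (tr X hqn) τ hτ (qπ J hJ X (q - i) q)
    (qπ_isQuot J hJ X (q - i) q) z hz0
  haveI := hπ
  apply factors_of_epi_comp _ π
  rw [JX_factors]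
  intro T'' φ hφ
  have h1 : k ≫ (a • 𝟙 _) = 0 := by
    apply adapted_zero hA hqn a _ k hk
    have e1 : n - q = p := by omega
    rw [e1]
    exact ha
  have h2 : τ ≫ ((a • 𝟙 _) ≫ φ) = 0 := by
    apply hτ.comp_eq_zero
    intro b hb
    have e : b • ((a • 𝟙 (X.obj (op n))) ≫ φ) = (b * a) • φ := by
      rw [Linear.smul_comp, Category.id_comp, smul_smul]
    rw [e]
    apply hφ
    have hle : J ^ ((q - i) + p) ≤ J ^ (n - i) := Ideal.pow_le_pow_right (by omega)
    apply hle
    rw [pow_add]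
    exact Ideal.mul_mem_mul hb ha
  rw [← Category.assoc, hkw, Preadditive.add_comp, Preadditive.add_comp, h1, zero_comp, zero_add,
    Category.assoc, Category.assoc, h2, comp_zero]

/-- The filtration of `grs(X)` by the `J^{q-i} X_q ∩ F^q(X_q)`. -/
noncomputable def Mfam (J : Ideal A) (hJ : J.FG ∨ HasCoproducts.{w} C) (X : PS C) (i q : ℕ) :
    Subobject (X.obj (op q)) := Fsub X q q ⊓ JX J hJ X (q - i) q

lemma Mfam_isGrSub (J : Ideal A) (hJ : J.FG ∨ HasCoproducts.{w} C) (X : PS C) (hX : IsStrict X)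
    (hA : IsAdapted J X) (i : ℕ) : IsGrSub J X (Mfam J hJ X i) := by
  refine ⟨fun q => inf_le_left, fun p q a ha => ?_⟩
  have hz := (GrMod.pullback_factors_iff (tr X (Nat.le_add_left q p)) (Mfam J hJ X i q) _).mp
    (Subobject.factors_self _)
  unfold Mfam at hz
  rw [Subobject.inf_factors] at hz
  have hF : (Mfam J hJ X i (p + q)).Factors
      (((Subobject.pullback (tr X (Nat.le_add_left q p))).obj (Mfam J hJ X i q)).arrow ≫
        (a • 𝟙 (X.obj (op (p + q))))) := by
    unfold Mfam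
    rw [Subobject.inf_factors]
    exact ⟨mul_mem_fsub hA p q (p + q) rfl _ a ha _ hz.1,
      mul_mem_JX J hJ X hX hA i p q (p + q) rfl _ a ha _ hz.2⟩
  exact imageSubobject_le _ (Subobject.factorThru _ _ hF) (Subobject.factorThru_arrow _ _ hF)

theorem aradic_of_grsFT (J : Ideal A) (hJ : J.FG ∨ HasCoproducts.{w} C) (X : PS C)
    (hX : IsStrict X) (hA : IsAdapted J X) (hft : GrsFiniteType J X) : IsARAdic J X := by
  obtain ⟨i, hi⟩ := hft (Mfam J hJ X) (Mfam_isGrSub J hJ X hX hA)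
    (fun i j hij q => inf_le_inf le_rfl (JX_anti J hJ X (by omega) q))
    (fun q => ⟨by
      rintro _ ⟨i, rfl⟩
      exact inf_le_left, fun b hb => by
      have h1 : Mfam J hJ X q q ≤ b := hb ⟨q, rfl⟩
      refine le_trans ?_ h1
      unfold Mfam
      rw [Nat.sub_self, JX_zero, inf_top_eq]⟩)
  apply crit_fker_mpr J hJ X hX (adapted_killed hA) i
  intro n T' φ hφ
  rw [fker_eq]
  have h1 : (JX J hJ X (n - i) n).Factors (Fsub X n n).arrow := by
    apply Subobject.factors_of_le _ (inf_le_right : Fsub X n n ⊓ JX J hJ X (n - i) n ≤ _)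
    have h2 : Mfam J hJ X i n = Fsub X n n := hi n
    unfold Mfam at h2
    rw [h2]
    exact Subobject.factors_self _
  exact (JX_factors J hJ X (n - i) n _).mp h1 T' φ hφ

end Groth.Agent.Helper6.GrFT
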