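import Mathlib

set_option autoImplicit false

namespace Groth.Agent.Helper6.BddProjLift

open CategoryTheory CategoryTheory.Limits CategoryTheory.Pretriangulated

universe v u
variable {A : Type u} [Category.{v} A] [Abelian A]

lemma epi_of_natIso {C D : Type*} [Category C] [Category D] {F G : C ⥤ D} (e : F ≅ G)
    {X Y : C} (f : X ⟶ Y) [Epi (G.map f)] : Epi (F.map f) := by
  have h1 : Epi (F.map f ≫ e.hom.app Y) := by
    rw [e.hom.naturality f]
    infer_instance
  have h2 : F.map f = (F.map f ≫ e.hom.app Y) ≫ e.inv.app Y := by simp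
  rw [h2]
  infer_instance

lemma mono_of_natIso {C D : Type*} [Category C] [Category D] {F G : C ⥤ D} (e : F ≅ G)
    {X Y : C} (f : X ⟶ Y) [Mono (G.map f)] : Mono (F.map f) := by
  have h1 : Mono (e.inv.app X ≫ F.map f) := by
    rw [← e.inv.naturality f]
    infer_instance
  have h2 : F.map f = e.hom.app X ≫ (e.inv.app X ≫ F.map f) := by simp
  rw [h2]
  infer_instance

lemma isLE_mappingCone {E L : CochainComplex A ℤ} (α : E ⟶ L) (n : ℤ)
    (hiso : ∀ i : ℤ, n < i → IsIso (HomologicalComplex.homologyMap α i))
    (hepi : Epi (HomologicalComplex.homologyMap α n)) :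
    (CochainComplex.mappingCone α).IsLE (n - 1) := by
  rw [CochainComplex.isLE_iff]
  intro i hi
  have hi' : n ≤ i := by lia
  let F := HomotopyCategory.homologyFunctor A (ComplexShape.up ℤ) 0
  let T := CochainComplex.mappingCone.triangleh α
  have hT : T ∈ distTriang _ := HomotopyCategory.mappingCone_triangleh_distinguished α
  have hE : Epi ((F.shift i).map T.mor₁) := by
    have : Epi ((HomologicalComplex.homologyFunctor A (ComplexShape.up ℤ) i).map α) := by
      show Epi (HomologicalComplex.homologyMap α i)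
      rcases hi'.eq_or_lt with h | h
      · subst h
        exact hepi
      · have := hiso i h
        infer_instance
    exact epi_of_natIso (HomotopyCategory.homologyFunctorFactors A (ComplexShape.up ℤ) i) α
  have hM : Mono ((F.shift (i + 1)).map T.mor₁) := by
    have : Mono ((HomologicalComplex.homologyFunctor A (ComplexShape.up ℤ) (i + 1)).map α) := by
      show Mono (HomologicalComplex.homologyMap α (i + 1))
      have := hiso (i + 1) (by lia)
      infer_instance
    exact mono_of_natIso (HomotopyCategory.homologyFunctorFactors A (ComplexShape.up ℤ) (i + 1)) α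
  have h1 := (F.homologySequence_epi_shift_map_mor₁_iff T hT i).1 hE
  have h2 := (F.homologySequence_mono_shift_map_mor₁_iff T hT i (i + 1) rfl).1 hM
  have h3 : IsZero ((F.shift i).obj T.obj₃) :=
    (F.homologySequence_exact₃ T hT i (i + 1) rfl).isZero_of_both_zeros h1 h2
  rw [HomologicalComplex.exactAt_iff_isZero_homology]
  exact h3.of_iso
    ((HomotopyCategory.homologyFunctorFactors A (ComplexShape.up ℤ) i).app _).symm

theorem main (P E L : CochainComplex A ℤ) (β : P ⟶ L) (α : E ⟶ L) (n b : ℤ)
    [P.IsStrictlyGE n] [P.IsStrictlyLE b]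
    (hP : ∀ i : ℤ, Projective (P.X i))
    (hiso : ∀ i : ℤ, n < i → IsIso (HomologicalComplex.homologyMap α i))
    (hepi : Epi (HomologicalComplex.homologyMap α n)) :
    ∃ γ : P ⟶ E, Nonempty (Homotopy (γ ≫ α) β) := by
  let Qf := HomotopyCategory.quotient A (ComplexShape.up ℤ)
  let C := CochainComplex.mappingCone α
  have : ∀ i, Projective (P.X i) := hP
  have hKP : P.IsKProjective := CochainComplex.isKProjective_of_projective P b
  have hC : C.IsLE (n - 1) := isLE_mappingCone α n hiso hepi
  have hι : QuasiIso (CochainComplex.ιTruncLE C (n - 1)) :=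
    (CochainComplex.quasiIso_ιTruncLE_iff (K := C) (n := n - 1)).2 hC
  have hzero : ∀ φ : P ⟶ C, Qf.map φ = 0 := by
    intro φ
    have hloc := CochainComplex.IsKProjective.leftOrthogonal P
    rw [← ObjectProperty.isColocal_trW] at hloc
    have hW : (HomotopyCategory.subcategoryAcyclic A).trW
        (Qf.map (CochainComplex.ιTruncLE C (n - 1))) := by
      rw [← HomotopyCategory.quasiIso_eq_trW_subcategoryAcyclic,
        HomotopyCategory.quotient_map_mem_quasiIso_iff, HomologicalComplex.mem_quasiIso_iff]
      exact hι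
    obtain ⟨g, hg⟩ := (hloc _ hW).2 (Qf.map φ)
    obtain ⟨g₀, rfl⟩ := Qf.map_surjective g
    have hg₀ : g₀ = 0 := by
      ext i
      by_cases hi : i < n
      · exact (P.isZero_of_isStrictlyGE n i hi).eq_of_src _ _
      · exact ((CochainComplex.truncLE C (n - 1)).isZero_of_isStrictlyLE (n - 1) i
          (by lia)).eq_of_tgt _ _
    have hg' : Qf.map g₀ ≫ Qf.map (CochainComplex.ιTruncLE C (n - 1)) = Qf.map φ := hg
    rw [← hg', hg₀, Functor.map_zero, zero_comp]
  have hT := HomotopyCategory.mappingCone_triangleh_distinguished α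
  have hcomp : Qf.map β ≫ (CochainComplex.mappingCone.triangleh α).mor₂ = 0 := by
    show Qf.map β ≫ Qf.map (CochainComplex.mappingCone.inr α) = 0
    rw [← Functor.map_comp]
    exact hzero _
  obtain ⟨γ', hγ'⟩ : ∃ g : Qf.obj P ⟶ Qf.obj E, Qf.map β = g ≫ Qf.map α :=
    Triangle.coyoneda_exact₂ _ hT (Qf.map β) hcomp
  obtain ⟨γ, rfl⟩ := Qf.map_surjective γ'
  refine ⟨γ, ⟨HomotopyCategory.homotopyOfEq _ _ ?_⟩⟩
  rw [Functor.map_comp]
  exact hγ'.symm

end Groth.Agent.Helper6.BddProjLift
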