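import Mathlib
import Groth.Agent.Lib.Helper6.PCm2

set_option autoImplicit false
set_option linter.style.haveILetI false

universe w v u

open CategoryTheory Category Limits Pretriangulated DerivedCategory ZeroObject

namespace Groth.Agent.Helper6.PCm

section Abelian

variable {C : Type u} [Category.{v} C] [Abelian C]

/-- In a bounded above complex with projective terms which is exact in degrees `> m`, the
cycles in degrees `≥ m` are retracts of the terms. -/
theorem exists_retraction_iCycles (E : CochainComplex C ℤ) (b : ℤ)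
    (hb : ∀ i : ℤ, b < i → IsZero (E.X i)) (hp : ∀ i : ℤ, Projective (E.X i)) (m : ℤ)
    (hex : ∀ i : ℤ, m < i → IsZero (E.homology i)) :
    ∀ (k : ℕ) (j : ℤ), m ≤ j → b < j + k → ∃ r : E.X j ⟶ E.cycles j, E.iCycles j ≫ r = 𝟙 _ := by
  intro k
  induction k with
  | zero =>
    intro j _ hj
    have hz : IsZero (E.cycles j) := IsZero.of_mono (E.iCycles j) (hb j (by simpa using hj))
    exact ⟨0, hz.eq_of_src _ _⟩
  | succ k ih =>
    intro j hmj hj
    obtain ⟨r', hr'⟩ := ih (j + 1) (by omega) (by push_cast at hj ⊢; omega)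
    haveI : Projective (E.X (j + 1)) := hp (j + 1)
    haveI : Projective (E.cycles (j + 1)) :=
      Retract.projective ⟨E.iCycles (j + 1), r', hr'⟩
    haveI : Epi (E.toCycles j (j + 1)) :=
      Preadditive.epi_of_isZero_cokernel' _ (E.homologyIsCokernel j (j + 1) (by simp))
        (hex (j + 1) (by omega))
    let s : E.cycles (j + 1) ⟶ E.X j :=
      Projective.factorThru (𝟙 (E.cycles (j + 1))) (E.toCycles j (j + 1))
    have hs : s ≫ E.toCycles j (j + 1) = 𝟙 _ := Projective.factorThru_comp _ _
    have h1 : (𝟙 (E.X j) - E.toCycles j (j + 1) ≫ s) ≫ E.d j (j + 1) = 0 := by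
      rw [Preadditive.sub_comp, id_comp, assoc, ← E.toCycles_i j (j + 1), reassoc_of% hs,
        sub_self]
    have h2 : E.iCycles j ≫ E.toCycles j (j + 1) = 0 := by
      rw [← cancel_mono (E.iCycles (j + 1)), assoc, E.toCycles_i, E.iCycles_d, zero_comp]
    refine ⟨E.liftCycles (𝟙 (E.X j) - E.toCycles j (j + 1) ≫ s) (j + 1) (by simp) h1, ?_⟩
    rw [← cancel_mono (E.iCycles j), assoc, E.liftCycles_i, Preadditive.comp_sub, comp_id,
      reassoc_of% h2, zero_comp, sub_zero, id_comp]

end Abelian

section Module

variable {R : Type u} [CommRing R]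

/-- cycles of a bounded above complex of finite projective modules, exact above `m`. -/
theorem cycles_finite_projective (E : CochainComplex (ModuleCat.{u} R) ℤ) (b : ℤ)
    (hb : ∀ i : ℤ, b < i → IsZero (E.X i))
    (hE : ∀ i : ℤ, Module.Finite R (E.X i) ∧ Module.Projective R (E.X i)) (m : ℤ)
    (hex : ∀ i : ℤ, m < i → IsZero (E.homology i)) :
    Module.Finite R (E.cycles m) ∧ Module.Projective R (E.cycles m) := by
  have hp : ∀ i : ℤ, Projective (E.X i) := fun i => by
    haveI := (hE i).2
    exact ModuleCat.projective_of_categoryTheory_projective _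
  have h0 := Int.self_le_toNat (b - m + 1)
  obtain ⟨r, hr⟩ := exists_retraction_iCycles E b hb hp m hex (b - m + 1).toNat m le_rfl
    (by omega)
  have hr' : ∀ y : E.cycles m, r.hom ((E.iCycles m).hom y) = y := fun y => by
    have := congrArg (fun f => f.hom y) hr
    simpa using this
  haveI := (hE m).1
  haveI := (hE m).2
  refine ⟨Module.Finite.of_surjective r.hom (fun y => ⟨_, hr' y⟩),
    Module.Projective.of_split (E.iCycles m).hom r.hom ?_⟩
  ext y
  exact hr' y

theorem homology_finite (E : CochainComplex (ModuleCat.{u} R) ℤ) (b : ℤ)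
    (hb : ∀ i : ℤ, b < i → IsZero (E.X i))
    (hE : ∀ i : ℤ, Module.Finite R (E.X i) ∧ Module.Projective R (E.X i)) (m : ℤ)
    (hex : ∀ i : ℤ, m < i → IsZero (E.homology i)) :
    Module.Finite R (E.homology m) := by
  haveI := (cycles_finite_projective E b hb hE m hex).1
  exact Module.Finite.of_surjective (E.homologyπ m).hom
    ((ModuleCat.epi_iff_surjective _).1 inferInstance)

theorem homology_finitePresentation (E : CochainComplex (ModuleCat.{u} R) ℤ) (b : ℤ)
    (hb : ∀ i : ℤ, b < i → IsZero (E.X i))
    (hE : ∀ i : ℤ, Module.Finite R (E.X i) ∧ Module.Projective R (E.X i)) (m : ℤ)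
    (hex : ∀ i : ℤ, m < i → IsZero (E.homology i)) :
    Module.FinitePresentation R (E.homology m) := by
  haveI := (cycles_finite_projective E b hb hE m hex).1
  haveI := (cycles_finite_projective E b hb hE m hex).2
  haveI : Module.FinitePresentation R (E.cycles m) := Module.finitePresentation_of_projective _ _
  haveI := (hE (m - 1)).1
  refine Module.finitePresentation_of_surjective (E.homologyπ m).hom
    ((ModuleCat.epi_iff_surjective _).1 inferInstance) ?_
  have hex' : (ShortComplex.mk (E.toCycles (m - 1) m) (E.homologyπ m)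
      (E.toCycles_comp_homologyπ (m - 1) m)).Exact :=
    ShortComplex.exact_of_g_is_cokernel _ (E.homologyIsCokernel (m - 1) m (by simp))
  rw [← hex'.moduleCat_range_eq_ker]
  exact Module.Finite.iff_fg.1 inferInstance

variable [HasDerivedCategory.{w} (ModuleCat.{u} R)]

/-- finiteness of the top cohomology of an `m`-pseudo-coherent object. -/
theorem finite_of_isPC {m : ℤ} {K : DerivedCategory (ModuleCat.{u} R)} (hK : IsPC m K)
    (hvan : ∀ i : ℤ, m < i → IsZero ((homologyFunctor (ModuleCat.{u} R) i).obj K)) :
    Module.Finite R ((homologyFunctor (ModuleCat.{u} R) m).obj K) := by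
  obtain ⟨E, a, b, α, hE0, hE, h1, h2⟩ := hK
  have hex : ∀ i : ℤ, m < i → IsZero (E.homology i) := fun i hi => by
    haveI := h1 i hi
    exact (hvan i hi).of_iso (((homologyFunctorFactors (ModuleCat.{u} R) i).app E).symm ≪≫
      asIso ((homologyFunctor (ModuleCat.{u} R) i).map α))
  haveI : Module.Finite R ((HomologicalComplex.homologyFunctor (ModuleCat.{u} R)
      (ComplexShape.up ℤ) m).obj E) := homology_finite E b (fun i hi => hE0 i (Or.inr hi))
    (fun i => ⟨(hE i).1, by haveI := (hE i).2; infer_instance⟩) m hex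
  haveI : Epi (((homologyFunctorFactors (ModuleCat.{u} R) m).app E).inv ≫
      (homologyFunctor (ModuleCat.{u} R) m).map α) := epi_comp _ _
  exact Module.Finite.of_surjective
    (((homologyFunctorFactors (ModuleCat.{u} R) m).app E).inv ≫
      (homologyFunctor (ModuleCat.{u} R) m).map α).hom
    ((ModuleCat.epi_iff_surjective _).1 inferInstance)

/-- finite presentation of the cohomology in degree `m + 1` of an `m`-pseudo-coherent object. -/
theorem finitePresentation_of_isPC {m : ℤ} {K : DerivedCategory (ModuleCat.{u} R)}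
    (hK : IsPC m K)
    (hvan : ∀ i : ℤ, m + 1 < i → IsZero ((homologyFunctor (ModuleCat.{u} R) i).obj K)) :
    Module.FinitePresentation R ((homologyFunctor (ModuleCat.{u} R) (m + 1)).obj K) := by
  obtain ⟨E, a, b, α, hE0, hE, h1, h2⟩ := hK
  have hex : ∀ i : ℤ, m + 1 < i → IsZero (E.homology i) := fun i hi => by
    haveI := h1 i (by omega)
    exact (hvan i hi).of_iso (((homologyFunctorFactors (ModuleCat.{u} R) i).app E).symm ≪≫
      asIso ((homologyFunctor (ModuleCat.{u} R) i).map α))
  haveI : Module.FinitePresentation R ((HomologicalComplex.homologyFunctor (ModuleCat.{u} R)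
      (ComplexShape.up ℤ) (m + 1)).obj E) :=
    homology_finitePresentation E b (fun i hi => hE0 i (Or.inr hi))
    (fun i => ⟨(hE i).1, by haveI := (hE i).2; infer_instance⟩) (m + 1) hex
  haveI := h1 (m + 1) (by omega)
  exact Module.FinitePresentation.of_equiv
    (((homologyFunctorFactors (ModuleCat.{u} R) (m + 1)).app E).symm ≪≫
      asIso ((homologyFunctor (ModuleCat.{u} R) (m + 1)).map α)).toLinearEquiv

end Module

end Groth.Agent.Helper6.PCm
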