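import Mathlib
import Groth.Agent.Lib.Helper6.PCm3
import Groth.Agent.Lib.Helper6.BddProjLift

set_option autoImplicit false
set_option linter.style.haveILetI false

universe w u

open CategoryTheory Category Limits Pretriangulated DerivedCategory ZeroObject

namespace Groth.Agent.Helper6.PCm

open Groth.Agent.Helper6.PerfTri

variable {R : Type u} [CommRing R] [HasDerivedCategory.{w} (ModuleCat.{u} R)]

lemma rep_single_free (F : ModuleCat.{u} R) [Module.Finite R F] [Module.Free R F] :
    Rep BF ((singleFunctor (ModuleCat.{u} R) 0).obj F) := by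
  refine ⟨(CochainComplex.singleFunctor (ModuleCat.{u} R) 0).obj F,
    ⟨0, 0, fun i hi => ?_, fun i => ?_⟩,
    ⟨((singleFunctorIsoCompQ (ModuleCat.{u} R) 0).app F).symm⟩⟩
  · exact HomologicalComplex.isZero_single_obj_X (ComplexShape.up ℤ) 0 F i (by omega)
  · by_cases hi : i = 0
    · subst hi
      let e := (HomologicalComplex.singleObjXSelf (ComplexShape.up ℤ) 0 F).toLinearEquiv
      exact ⟨Module.Finite.equiv e.symm, Module.Free.of_equiv e.symm⟩
    · haveI : Subsingleton (((CochainComplex.singleFunctor (ModuleCat.{u} R) 0).obj F).X i) :=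
        ModuleCat.subsingleton_of_isZero
          (HomologicalComplex.isZero_single_obj_X (ComplexShape.up ℤ) 0 F i hi)
      exact ⟨inferInstance, inferInstance⟩

lemma pcmap_single_of_epi {M N : ModuleCat.{u} R} (φ : M ⟶ N) [Epi φ] :
    PCmap 0 ((singleFunctor (ModuleCat.{u} R) 0).map φ) := by
  refine ⟨fun i hi => ?_, ?_⟩
  · have h1 : IsZero ((homologyFunctor (ModuleCat.{u} R) i).obj
        ((singleFunctor (ModuleCat.{u} R) 0).obj M)) :=
      ((singleFunctor (ModuleCat.{u} R) 0).obj M).isZero_of_isLE 0 i hi
    have h2 : IsZero ((homologyFunctor (ModuleCat.{u} R) i).obj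
        ((singleFunctor (ModuleCat.{u} R) 0).obj N)) :=
      ((singleFunctor (ModuleCat.{u} R) 0).obj N).isZero_of_isLE 0 i hi
    exact ⟨0, h1.eq_of_src _ _, h2.eq_of_src _ _⟩
  · haveI : Epi ((𝟭 (ModuleCat.{u} R)).map φ) := inferInstanceAs (Epi φ)
    exact BddProjLift.epi_of_natIso
      (singleFunctorCompHomologyFunctorIso (ModuleCat.{u} R) 0) φ

/-- a finite module is `0`-pseudo-coherent. -/
lemma isPC_single_of_finite (M : ModuleCat.{u} R) [Module.Finite R M] :
    IsPC 0 ((singleFunctor (ModuleCat.{u} R) 0).obj M) := by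
  obtain ⟨n, f, hf⟩ := Module.Finite.exists_fin' (R := R) (M := M)
  haveI : Epi (ModuleCat.ofHom f : ModuleCat.of R (Fin n → R) ⟶ M) :=
    (ModuleCat.epi_iff_surjective _).2 hf
  exact isPC_comp (isPC_of_rep 0 (rep_single_free (ModuleCat.of R (Fin n → R)))) _
    (pcmap_single_of_epi (ModuleCat.ofHom f))

/-- a finitely presented module is `(-1)`-pseudo-coherent. -/
lemma isPC_single_of_fp (M : ModuleCat.{u} R) [Module.FinitePresentation R M] :
    IsPC (-1) ((singleFunctor (ModuleCat.{u} R) 0).obj M) := by
  obtain ⟨n, f, hf⟩ := Module.Finite.exists_fin' (R := R) (M := M)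
  have hker : (LinearMap.ker f).FG := Module.FinitePresentation.fg_ker f hf
  haveI : Module.Finite R (ModuleCat.of R (LinearMap.ker f)) := Module.Finite.iff_fg.2 hker
  let S : ShortComplex (ModuleCat.{u} R) :=
    ShortComplex.mk (ModuleCat.ofHom (LinearMap.ker f).subtype)
      (ModuleCat.ofHom f : ModuleCat.of R (Fin n → R) ⟶ M) (by
        ext x
        exact x.2)
  have hS : S.ShortExact :=
    { exact := (ShortComplex.ShortExact.moduleCat_exact_iff_function_exact S).2
        (LinearMap.exact_subtype_ker_map f)
      mono_f := (ModuleCat.mono_iff_injective _).2 (Submodule.injective_subtype _)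
      epi_g := (ModuleCat.epi_iff_surjective _).2 hf }
  have hT := hS.singleTriangle_distinguished
  have h1 : IsPC (-1 + 1) hS.singleTriangle.obj₁ :=
    isPC_mono (by norm_num) (isPC_single_of_finite (ModuleCat.of R (LinearMap.ker f)))
  have h2 : IsPC (-1) hS.singleTriangle.obj₂ :=
    isPC_of_rep (-1) (rep_single_free (ModuleCat.of R (Fin n → R)))
  exact isPC_cone _ hT (-1) h1 h2

theorem finitePresentation_of_isPC' {m m' : ℤ} (hm : m' = m + 1)
    {K : DerivedCategory (ModuleCat.{u} R)} (hK : IsPC m K)
    (hvan : ∀ i : ℤ, m' < i → IsZero ((homologyFunctor (ModuleCat.{u} R) i).obj K)) :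
    Module.FinitePresentation R ((homologyFunctor (ModuleCat.{u} R) m').obj K) := by
  subst hm
  exact finitePresentation_of_isPC hK hvan

/-- dévissage: an object with cohomology bounded above whose cohomology modules `H^i` are
`(m - i)`-pseudo-coherent is `m`-pseudo-coherent. -/
theorem isPC_of_homology_aux (m : ℤ) (n : ℕ) :
    ∀ (K : DerivedCategory (ModuleCat.{u} R)) (b : ℤ), K.IsLE b → b < m + n →
    (∀ i : ℤ, IsPC (m - i) ((singleFunctor (ModuleCat.{u} R) 0).obj
      ((homologyFunctor (ModuleCat.{u} R) i).obj K))) → IsPC m K := by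
  induction n with
  | zero =>
    intro K b hb hbn _
    haveI : K.IsLE (m - 1) := TStructure.t.isLE_of_le K b (m - 1) (by omega)
    exact isPC_of_isLE m K
  | succ n ih =>
    intro K b hb hbn hK
    by_cases hlt : b < m
    · haveI : K.IsLE (m - 1) := TStructure.t.isLE_of_le K b (m - 1) (by omega)
      exact isPC_of_isLE m K
    · have hT := (TStructure.t (C := ModuleCat.{u} R)).triangleLTGE_distinguished b K
      have iA2 : (((TStructure.t (C := ModuleCat.{u} R)).truncLT b).obj K).IsLE (b - 1) :=
        inferInstance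
      have iB1 : (((TStructure.t (C := ModuleCat.{u} R)).truncGE b).obj K).IsGE b :=
        inferInstance
      have iB2 : (((TStructure.t (C := ModuleCat.{u} R)).truncGE b).obj K).IsLE b :=
        inferInstance
      have hA : ∀ i : ℤ, IsPC (m - i) ((singleFunctor (ModuleCat.{u} R) 0).obj
          ((homologyFunctor (ModuleCat.{u} R) i).obj
            (((TStructure.t (C := ModuleCat.{u} R)).truncLT b).obj K))) := by
        intro i
        by_cases hi : i < b
        · haveI : Mono ((homologyFunctor (ModuleCat.{u} R) i).map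
              (((TStructure.t (C := ModuleCat.{u} R)).truncLTι b).app K)) :=
            (HomologySequence.mono_homologyMap_mor₁_iff _ hT (i - 1) i (by omega)).2
              (((((TStructure.t (C := ModuleCat.{u} R)).truncGE b).obj K).isZero_of_isGE b (i - 1)
                (by omega)).eq_of_src _ _)
          haveI : Epi ((homologyFunctor (ModuleCat.{u} R) i).map
              (((TStructure.t (C := ModuleCat.{u} R)).truncLTι b).app K)) :=
            (HomologySequence.epi_homologyMap_mor₁_iff _ hT i).2
              (((((TStructure.t (C := ModuleCat.{u} R)).truncGE b).obj K).isZero_of_isGE b i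
                hi).eq_of_tgt _ _)
          haveI : IsIso ((homologyFunctor (ModuleCat.{u} R) i).map
              (((TStructure.t (C := ModuleCat.{u} R)).truncLTι b).app K)) :=
            isIso_of_mono_of_epi _
          exact isPC_of_iso ((singleFunctor (ModuleCat.{u} R) 0).mapIso
            (asIso ((homologyFunctor (ModuleCat.{u} R) i).map
              (((TStructure.t (C := ModuleCat.{u} R)).truncLTι b).app K))).symm) (hK i)
        · exact isPC_of_isZero _ _ (Functor.map_isZero _
            ((((TStructure.t (C := ModuleCat.{u} R)).truncLT b).obj K).isZero_of_isLE (b - 1) i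
              (by omega)))
      have rA := ih _ (b - 1) iA2 (by omega) hA
      obtain ⟨M, ⟨eB⟩⟩ := exists_iso_singleFunctor_obj_of_isGE_of_isLE
        (((TStructure.t (C := ModuleCat.{u} R)).truncGE b).obj K) b
      haveI : Mono ((homologyFunctor (ModuleCat.{u} R) b).map
          (((TStructure.t (C := ModuleCat.{u} R)).truncGEπ b).app K)) :=
        (HomologySequence.mono_homologyMap_mor₂_iff _ hT b).2
          (((((TStructure.t (C := ModuleCat.{u} R)).truncLT b).obj K).isZero_of_isLE (b - 1) b
            (by omega)).eq_of_src _ _)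
      haveI : Epi ((homologyFunctor (ModuleCat.{u} R) b).map
          (((TStructure.t (C := ModuleCat.{u} R)).truncGEπ b).app K)) :=
        (HomologySequence.epi_homologyMap_mor₂_iff _ hT b (b + 1) rfl).2
          (((((TStructure.t (C := ModuleCat.{u} R)).truncLT b).obj K).isZero_of_isLE (b - 1)
            (b + 1) (by omega)).eq_of_tgt _ _)
      haveI : IsIso ((homologyFunctor (ModuleCat.{u} R) b).map
          (((TStructure.t (C := ModuleCat.{u} R)).truncGEπ b).app K)) := isIso_of_mono_of_epi _
      have eM : (homologyFunctor (ModuleCat.{u} R) b).obj K ≅ M :=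
        asIso ((homologyFunctor (ModuleCat.{u} R) b).map
          (((TStructure.t (C := ModuleCat.{u} R)).truncGEπ b).app K)) ≪≫
          (homologyFunctor (ModuleCat.{u} R) b).mapIso eB ≪≫
            (singleFunctorCompHomologyFunctorIso (ModuleCat.{u} R) b).app M
      have rM : IsPC (m - b) ((singleFunctor (ModuleCat.{u} R) 0).obj M) :=
        isPC_of_iso ((singleFunctor (ModuleCat.{u} R) 0).mapIso eM) (hK b)
      have rB : IsPC m (((TStructure.t (C := ModuleCat.{u} R)).truncGE b).obj K) :=
        isPC_of_iso (((singleFunctors (ModuleCat.{u} R)).shiftIso (-b) b 0 (by omega)).app M ≪≫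
          eB.symm) (isPC_shift' (-b) rM (by ring))
      exact (two_of_three _ hT m).2.1 rA rB

theorem isPC_of_homology (m : ℤ) (K : DerivedCategory (ModuleCat.{u} R)) (b : ℤ)
    (hb : K.IsLE b)
    (hK : ∀ i : ℤ, IsPC (m - i) ((singleFunctor (ModuleCat.{u} R) 0).obj
      ((homologyFunctor (ModuleCat.{u} R) i).obj K))) : IsPC m K := by
  have h0 := Int.self_le_toNat (b - m + 1)
  exact isPC_of_homology_aux m (b - m + 1).toNat K b hb (by omega) hK

end Groth.Agent.Helper6.PCm
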