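import Mathlib
import Groth.Agent.Lib.Helper6.PCm1
import Groth.Agent.Lib.Helper6.BddProjLift

set_option autoImplicit false
set_option linter.style.haveILetI false

universe w v u

open CategoryTheory Category Limits Pretriangulated DerivedCategory ZeroObject

namespace Groth.Agent.Helper6.PCm

variable {C : Type u} [Category.{v} C] [Abelian C]

open CochainComplex HomComplex

/-- homotopy extension property for the inclusion into a mapping cone. -/
lemma hep {S F L : CochainComplex C ℤ} (φ : S ⟶ F) (f : mappingCone φ ⟶ L) (g : F ⟶ L)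
    (H : Homotopy (mappingCone.inr φ ≫ f) g) :
    ∃ f' : mappingCone φ ⟶ L, mappingCone.inr φ ≫ f' = g ∧ Nonempty (Homotopy f f') := by
  obtain ⟨γ₂, hγ₂⟩ := Cochain.equivHomotopy _ _ H
  have hα : δ (-1) 0 ((mappingCone.inl φ).comp (Cochain.ofHom f) (add_zero (-1))) =
      Cochain.ofHom (φ ≫ mappingCone.inr φ ≫ f) := by
    rw [δ_comp_ofHom, mappingCone.δ_inl, ← Cochain.ofHom_comp, assoc]
  have eq' : δ (-1) 0 ((mappingCone.inl φ).comp (Cochain.ofHom f) (add_zero (-1)) -
      (Cochain.ofHom φ).comp γ₂ (zero_add (-1))) = Cochain.ofHom (φ ≫ g) := by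
    rw [δ_sub, hα, δ_ofHom_comp]
    have h1 : δ (-1) 0 γ₂ = Cochain.ofHom (mappingCone.inr φ ≫ f) - Cochain.ofHom g := by
      rw [hγ₂]
      abel
    rw [h1, Cochain.comp_sub, ← Cochain.ofHom_comp, ← Cochain.ofHom_comp]
    abel
  refine ⟨mappingCone.desc φ _ g eq', mappingCone.inr_desc φ _ g eq', ⟨?_⟩⟩
  refine mappingCone.descHomotopy φ f _ 0 γ₂ ?_ ?_
  · rw [mappingCone.inl_desc, δ_zero, zero_add]
    abel
  · rw [mappingCone.inr_desc]
    exact hγ₂

/-- the inclusion into the mapping cone is an isomorphism in the degrees where the shifted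
source vanishes. -/
lemma isIso_inr_f {S F : CochainComplex C ℤ} (φ : S ⟶ F) (i : ℤ) (h : IsZero (S.X (i + 1))) :
    IsIso ((mappingCone.inr φ).f i) := by
  refine ⟨(mappingCone.snd φ).v i i (add_zero i), mappingCone.inr_f_snd_v φ i, ?_⟩
  have h1 := mappingCone.id_X φ i (i + 1) rfl
  have h2 : (mappingCone.fst φ).1.v i (i + 1) rfl ≫ (mappingCone.inl φ).v (i + 1) i (by omega) =
      0 := by
    rw [h.eq_of_tgt ((mappingCone.fst φ).1.v i (i + 1) rfl) 0, zero_comp]
  rw [h2, zero_add] at h1
  exact h1

/-- a chain map which is an isomorphism in three consecutive degrees induces an isomorphism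
in homology in the middle degree. -/
lemma isIso_homologyMap_of_isIso {K L : CochainComplex C ℤ} (φ : K ⟶ L) (i : ℤ)
    (h1 : IsIso (φ.f (i - 1))) (h2 : IsIso (φ.f i)) (h3 : IsIso (φ.f (i + 1))) :
    IsIso (HomologicalComplex.homologyMap φ i) := by
  haveI : IsIso ((HomologicalComplex.shortComplexFunctor C (ComplexShape.up ℤ) i).map φ).τ₁ := by
    show IsIso (φ.f ((ComplexShape.up ℤ).prev i))
    rw [CochainComplex.prev]
    exact h1
  haveI : IsIso ((HomologicalComplex.shortComplexFunctor C (ComplexShape.up ℤ) i).map φ).τ₂ :=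
    h2
  haveI : IsIso ((HomologicalComplex.shortComplexFunctor C (ComplexShape.up ℤ) i).map φ).τ₃ := by
    show IsIso (φ.f ((ComplexShape.up ℤ).next i))
    rw [CochainComplex.next]
    exact h3
  haveI : IsIso ((HomologicalComplex.shortComplexFunctor C (ComplexShape.up ℤ) i).map φ) :=
    ShortComplex.isIso_of_isIso _
  show IsIso (ShortComplex.homologyMap
    ((HomologicalComplex.shortComplexFunctor C (ComplexShape.up ℤ) i).map φ))
  infer_instance

variable [HasDerivedCategory.{w} C]

lemma homotopy_of_Q_map_eq (P : CochainComplex C ℤ) [P.IsKProjective] {K : CochainComplex C ℤ}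
    (f g : P ⟶ K) (h : Q.map f = Q.map g) : Nonempty (Homotopy f g) := by
  refine ⟨HomotopyCategory.homotopyOfEq _ _ ?_⟩
  apply (CochainComplex.IsKProjective.Qh_map_bijective P
    ((HomotopyCategory.quotient _ _).obj K)).1
  exact h

/-- morphisms from a projective object placed in degree `j` to an object of `D^{≤ j}` which
are epimorphic on `H^j`. -/
theorem exists_hom_from_single_epi (P : C) [Projective P] (j : ℤ) (C₁ : DerivedCategory C)
    [C₁.IsLE j] (g : P ⟶ (homologyFunctor C j).obj C₁) [Epi g] :
    ∃ w : (DerivedCategory.singleFunctor C j).obj P ⟶ C₁, Epi ((homologyFunctor C j).map w) := by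
  have hT := (TStructure.t (C := C)).triangleLTGE_distinguished j C₁
  have iA : (((TStructure.t (C := C)).truncLT j).obj C₁).IsLE (j - 1) := inferInstance
  have iB1 : (((TStructure.t (C := C)).truncGE j).obj C₁).IsGE j := inferInstance
  have iB2 : (((TStructure.t (C := C)).truncGE j).obj C₁).IsLE j := inferInstance
  obtain ⟨M, ⟨eB⟩⟩ := exists_iso_singleFunctor_obj_of_isGE_of_isLE
    (((TStructure.t (C := C)).truncGE j).obj C₁) j
  haveI : Mono ((homologyFunctor C j).map (((TStructure.t (C := C)).truncGEπ j).app C₁)) :=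
    (HomologySequence.mono_homologyMap_mor₂_iff _ hT j).2
      (((((TStructure.t (C := C)).truncLT j).obj C₁).isZero_of_isLE (j - 1) j
        (by omega)).eq_of_src _ _)
  haveI : Epi ((homologyFunctor C j).map (((TStructure.t (C := C)).truncGEπ j).app C₁)) :=
    (HomologySequence.epi_homologyMap_mor₂_iff _ hT j (j + 1) rfl).2
      (((((TStructure.t (C := C)).truncLT j).obj C₁).isZero_of_isLE (j - 1)
        (j + 1) (by omega)).eq_of_tgt _ _)
  haveI : IsIso ((homologyFunctor C j).map
      (((TStructure.t (C := C)).truncGEπ j).app C₁)) := isIso_of_mono_of_epi _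
  let eM : (homologyFunctor C j).obj C₁ ≅ M :=
    asIso ((homologyFunctor C j).map (((TStructure.t (C := C)).truncGEπ j).app C₁)) ≪≫
      (homologyFunctor C j).mapIso eB ≪≫ (singleFunctorCompHomologyFunctorIso C j).app M
  let wbar : (DerivedCategory.singleFunctor C j).obj P ⟶ ((TStructure.t (C := C)).truncGE j).obj C₁ :=
    (DerivedCategory.singleFunctor C j).map (g ≫ eM.hom) ≫ eB.inv
  -- the obstruction vanishes
  have h0 : wbar ≫ ((TStructure.t (C := C)).truncGEδLT j).app C₁ = 0 := by
    haveI : ∀ i, Projective (((CochainComplex.singleFunctor C j).obj P).X i) := by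
      intro i
      by_cases hi : i = j
      · subst hi
        exact Projective.of_iso
          (HomologicalComplex.singleObjXSelf (ComplexShape.up ℤ) i P).symm inferInstance
      · exact (HomologicalComplex.isZero_single_obj_X (ComplexShape.up ℤ) j P i hi).projective
    haveI : ((((TStructure.t (C := C)).truncLT j).obj C₁)⟦(1 : ℤ)⟧).IsLE (j - 1) := by
      haveI : ((((TStructure.t (C := C)).truncLT j).obj C₁)⟦(1 : ℤ)⟧).IsLE (j - 1 - 1) :=
        TStructure.t.isLE_shift _ (j - 1) 1 (j - 1 - 1) (by omega)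
      exact TStructure.t.isLE_of_le _ (j - 1 - 1) (j - 1) (by omega)
    have := ProjAmp.hom_eq_zero ((CochainComplex.singleFunctor C j).obj P) j j
      ((((TStructure.t (C := C)).truncLT j).obj C₁)⟦(1 : ℤ)⟧)
      (((singleFunctorIsoCompQ C j).app P).inv ≫ wbar ≫
        ((TStructure.t (C := C)).truncGEδLT j).app C₁)
    rw [← cancel_epi ((singleFunctorIsoCompQ C j).app P).inv, this, comp_zero]
  obtain ⟨w, hw⟩ : ∃ w : (DerivedCategory.singleFunctor C j).obj P ⟶ C₁,
      wbar = w ≫ ((TStructure.t (C := C)).truncGEπ j).app C₁ :=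
    Triangle.coyoneda_exact₃ _ hT wbar h0
  refine ⟨w, ?_⟩
  have h1 : (homologyFunctor C j).map w ≫
      (homologyFunctor C j).map (((TStructure.t (C := C)).truncGEπ j).app C₁) =
      (homologyFunctor C j).map ((DerivedCategory.singleFunctor C j).map (g ≫ eM.hom)) ≫
        (homologyFunctor C j).map eB.inv := by
    rw [← Functor.map_comp, ← Functor.map_comp, ← hw]
  haveI : Epi ((𝟭 C).map (g ≫ eM.hom)) := inferInstanceAs (Epi (g ≫ eM.hom))
  haveI : Epi ((homologyFunctor C j).map ((DerivedCategory.singleFunctor C j).map (g ≫ eM.hom))) :=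
    BddProjLift.epi_of_natIso (singleFunctorCompHomologyFunctorIso C j) (g ≫ eM.hom)
  haveI : Epi ((homologyFunctor C j).map w ≫
      (homologyFunctor C j).map (((TStructure.t (C := C)).truncGEπ j).app C₁)) := by
    rw [h1]
    exact epi_comp _ _
  have h2 : (homologyFunctor C j).map w = ((homologyFunctor C j).map w ≫
      (homologyFunctor C j).map (((TStructure.t (C := C)).truncGEπ j).app C₁)) ≫
      inv ((homologyFunctor C j).map (((TStructure.t (C := C)).truncGEπ j).app C₁)) := by
    rw [assoc, IsIso.hom_inv_id, comp_id]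
  rw [h2]
  exact epi_comp _ _

end Groth.Agent.Helper6.PCm
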