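import Mathlib
import Groth.Agent.Lib.Helper6.PCm7
import Groth.Agent.Lib.Helper6.BddCx

/-!
# `m`-pseudo-coherence, part 8: direct summands, finite projective modules, and the
characterisation of pseudo-coherent objects.
-/

set_option autoImplicit false
set_option linter.style.haveILetI false

universe w u

open CategoryTheory Category Limits Pretriangulated DerivedCategory ZeroObject

namespace Groth.Agent.Helper6.PCm

open Groth.Agent.Helper6.PerfTri

variable {R : Type u} [CommRing R] [HasDerivedCategory.{w} (ModuleCat.{u} R)]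

/-- an object represented by a bounded above complex of finite free modules is
`m`-pseudo-coherent for every `m`. -/
lemma isPC_of_bddAbove_rep (m : ℤ) {K : DerivedCategory (ModuleCat.{u} R)}
    (E : CochainComplex (ModuleCat.{u} R) ℤ) (b : ℤ) (hb : ∀ i : ℤ, b < i → IsZero (E.X i))
    (hE : ∀ i : ℤ, Module.Finite R (E.X i) ∧ Module.Free R (E.X i)) (e : Q.obj E ≅ K) :
    IsPC m K := by
  rw [isPC_iff]
  exact ⟨trunc E m, ⟨m, b, fun i hi => hi.elim (trunc_isZero E m i)
    (fun h => trunc_isZero' E m i (hb i h)), trunc_finite_free E m hE⟩,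
    Q.map (truncι E m) ≫ e.hom, pcmap_comp (truncι_pcmap E m) (pcmap_of_isIso m e.hom)⟩

lemma isPC_summand_aux (d : ℕ) : ∀ (m : ℤ) (X₁ X₂ : DerivedCategory (ModuleCat.{u} R)) (b : ℤ),
    X₁.IsLE b → X₂.IsLE b → b < m + d → IsPC m (X₁ ⊞ X₂) → IsPC m X₁ ∧ IsPC m X₂ := by
  induction d with
  | zero =>
    intro m X₁ X₂ b h₁ h₂ hb _
    haveI : X₁.IsLE (m - 1) := TStructure.t.isLE_of_le X₁ b (m - 1) (by omega)
    haveI : X₂.IsLE (m - 1) := TStructure.t.isLE_of_le X₂ b (m - 1) (by omega)
    exact ⟨isPC_of_isLE m X₁, isPC_of_isLE m X₂⟩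
  | succ d ih =>
    intro m X₁ X₂ b h₁ h₂ hb h
    obtain ⟨k₁, k₂⟩ := ih (m + 1) X₁ X₂ b h₁ h₂ (by omega) (isPC_mono (by omega) h)
    constructor
    · have hT := binaryBiproductTriangle_distinguished X₂ X₁
      exact isPC_cone _ hT m k₂ (isPC_of_iso (biprod.braiding X₁ X₂) h)
    · have hT := binaryBiproductTriangle_distinguished X₁ X₂
      exact isPC_cone _ hT m k₁ h

/-- direct summands of `m`-pseudo-coherent objects are `m`-pseudo-coherent. -/
theorem isPC_of_biprod {m : ℤ} {X₁ X₂ : DerivedCategory (ModuleCat.{u} R)}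
    (h : IsPC m (X₁ ⊞ X₂)) : IsPC m X₁ ∧ IsPC m X₂ := by
  obtain ⟨b, hb⟩ := exists_isLE_of_isPC h
  have hz : ∀ i : ℤ, b < i →
      IsZero ((homologyFunctor (ModuleCat.{u} R) i).obj (X₁ ⊞ X₂)) :=
    fun i hi => (X₁ ⊞ X₂).isZero_of_isLE b i hi
  have h₁ : X₁.IsLE b := by
    rw [isLE_iff]
    intro i hi
    have e1 : (homologyFunctor (ModuleCat.{u} R) i).map (biprod.inl : X₁ ⟶ X₁ ⊞ X₂) ≫
        (homologyFunctor (ModuleCat.{u} R) i).map (biprod.fst : X₁ ⊞ X₂ ⟶ X₁) = 𝟙 _ := by
      rw [← CategoryTheory.Functor.map_comp, biprod.inl_fst, CategoryTheory.Functor.map_id]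
    rw [IsZero.iff_id_eq_zero, ← e1, (hz i hi).eq_of_tgt
      ((homologyFunctor (ModuleCat.{u} R) i).map (biprod.inl : X₁ ⟶ X₁ ⊞ X₂)) 0, zero_comp]
  have h₂ : X₂.IsLE b := by
    rw [isLE_iff]
    intro i hi
    have e1 : (homologyFunctor (ModuleCat.{u} R) i).map (biprod.inr : X₂ ⟶ X₁ ⊞ X₂) ≫
        (homologyFunctor (ModuleCat.{u} R) i).map (biprod.snd : X₁ ⊞ X₂ ⟶ X₂) = 𝟙 _ := by
      rw [← CategoryTheory.Functor.map_comp, biprod.inr_snd, CategoryTheory.Functor.map_id]
    rw [IsZero.iff_id_eq_zero, ← e1, (hz i hi).eq_of_tgt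
      ((homologyFunctor (ModuleCat.{u} R) i).map (biprod.inr : X₂ ⟶ X₁ ⊞ X₂)) 0, zero_comp]
  have h0 := Int.self_le_toNat (b - m + 1)
  exact isPC_summand_aux (b - m + 1).toNat m X₁ X₂ b h₁ h₂ (by omega) h

lemma isPC_single_of_splitting_aux (k : ℕ) : ∀ (m : ℤ), 1 ≤ m + k →
    ∀ (S : ShortComplex (ModuleCat.{u} R)) (_ : S.Splitting),
    (∀ m' : ℤ, IsPC m' ((singleFunctor (ModuleCat.{u} R) 0).obj S.X₂)) →
    IsPC m ((singleFunctor (ModuleCat.{u} R) 0).obj S.X₃) := by
  induction k with
  | zero =>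
    intro m hm S _ _
    haveI : ((singleFunctor (ModuleCat.{u} R) 0).obj S.X₃).IsLE (m - 1) :=
      TStructure.t.isLE_of_le _ 0 (m - 1) (by omega)
    exact isPC_of_isLE m _
  | succ k ih =>
    intro m hm S σ hF
    let S' : ShortComplex (ModuleCat.{u} R) := ShortComplex.mk σ.s σ.r σ.s_r
    let σ' : S'.Splitting :=
      { r := S.g
        s := S.f
        f_r := σ.s_g
        s_g := σ.f_r
        id := by
          rw [add_comm]
          exact σ.id }
    have h1 : IsPC (m + 1) ((singleFunctor (ModuleCat.{u} R) 0).obj S.X₁) :=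
      ih (m + 1) (by omega) S' σ' hF
    have hS := σ.shortExact
    exact isPC_cone _ hS.singleTriangle_distinguished m h1 (hF m)

/-- a finite projective module is `m`-pseudo-coherent for all `m`. -/
lemma isPC_single_of_finite_projective (M : ModuleCat.{u} R) [Module.Finite R M]
    [Module.Projective R M] (m : ℤ) :
    IsPC m ((singleFunctor (ModuleCat.{u} R) 0).obj M) := by
  obtain ⟨n, f, hf⟩ := Module.Finite.exists_fin' (R := R) (M := M)
  obtain ⟨s, hs⟩ := Module.projective_lifting_property f LinearMap.id hf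
  let S : ShortComplex (ModuleCat.{u} R) :=
    ShortComplex.mk (ModuleCat.ofHom (LinearMap.ker f).subtype)
      (ModuleCat.ofHom f : ModuleCat.of R (Fin n → R) ⟶ M) (by
        ext x
        exact x.2)
  have hS : S.ShortExact :=
    { exact := (ShortComplex.ShortExact.moduleCat_exact_iff_function_exact S).2
        (LinearMap.exact_subtype_ker_map f)
      mono_f := (ModuleCat.mono_iff_injective _).2 (Submodule.injective_subtype _)
      epi_g := (ModuleCat.epi_iff_surjective _).2 hf }
  have σ : S.Splitting := ShortComplex.Splitting.ofExactOfSection S hS.exact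
    (ModuleCat.ofHom s : M ⟶ ModuleCat.of R (Fin n → R)) (ModuleCat.hom_ext hs) hS.mono_f
  have h0 := Int.self_le_toNat (1 - m)
  exact isPC_single_of_splitting_aux (1 - m).toNat m (by omega) S σ
    (fun m' => isPC_of_rep m' (rep_single_free (ModuleCat.of R (Fin n → R))))

/-- an object represented by a bounded above complex of finite projective modules is
`m`-pseudo-coherent for every `m`. -/
theorem isPC_of_bddAbove_projective_rep (m : ℤ) {K : DerivedCategory (ModuleCat.{u} R)}
    (E : CochainComplex (ModuleCat.{u} R) ℤ) (b : ℤ) (hb : ∀ i : ℤ, b < i → IsZero (E.X i))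
    (hE : ∀ i : ℤ, Module.Finite R (E.X i) ∧ Module.Projective R (E.X i)) (e : Q.obj E ≅ K) :
    IsPC m K := by
  have h1 : ∀ m' : ℤ, IsPC m' (Q.obj (trunc E m)) := by
    refine BddCx.prop_of_bounded_complex' (fun X => ∀ m' : ℤ, IsPC m' X)
      (fun e h m' => isPC_of_iso e (h m'))
      (fun X n h m' => isPC_shift' n (h (m' + n)) (by ring))
      (fun T hT h₁ h₃ m' => (two_of_three T hT m').2.1 (h₁ m') (h₃ m'))
      (trunc E m) m b
      (fun i hi => hi.elim (trunc_isZero E m i) (fun h => trunc_isZero' E m i (hb i h))) ?_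
    intro i m'
    by_cases h : m ≤ i
    · haveI := (hE i).1
      haveI := (hE i).2
      haveI : Module.Finite R ((trunc E m).X i) :=
        Module.Finite.equiv (truncEquiv E m i h).symm
      haveI : Module.Projective R ((trunc E m).X i) :=
        Module.Projective.of_equiv (truncEquiv E m i h).symm
      exact isPC_single_of_finite_projective _ m'
    · exact isPC_of_isZero _ _ (Functor.map_isZero _ (trunc_isZero E m i (by omega)))
  exact isPC_comp (h1 m) (Q.map (truncι E m) ≫ e.hom)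
    (pcmap_comp (truncι_pcmap E m) (pcmap_of_isIso m e.hom))

/-- characterisation of pseudo-coherent objects by finite free resolutions. -/
theorem forall_isPC_iff_rep (K : DerivedCategory (ModuleCat.{u} R)) :
    (∀ m : ℤ, IsPC m K) ↔
      ∃ (E : CochainComplex (ModuleCat.{u} R) ℤ) (b : ℤ), (∀ i : ℤ, b < i → IsZero (E.X i)) ∧
        (∀ i : ℤ, Module.Finite R (E.X i) ∧ Module.Free R (E.X i)) ∧ Nonempty (Q.obj E ≅ K) :=
  ⟨exists_rep_of_forall_isPC K, fun ⟨E, b, hb, hE, ⟨e⟩⟩ m => isPC_of_bddAbove_rep m E b hb hE e⟩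

/-- characterisation of pseudo-coherent objects by finite projective resolutions. -/
theorem forall_isPC_iff_proj_rep (K : DerivedCategory (ModuleCat.{u} R)) :
    (∀ m : ℤ, IsPC m K) ↔
      ∃ (E : CochainComplex (ModuleCat.{u} R) ℤ) (b : ℤ), (∀ i : ℤ, b < i → IsZero (E.X i)) ∧
        (∀ i : ℤ, Module.Finite R (E.X i) ∧ Module.Projective R (E.X i)) ∧
          Nonempty (Q.obj E ≅ K) := by
  constructor
  · intro h
    obtain ⟨E, b, hb, hE, he⟩ := exists_rep_of_forall_isPC K h
    refine ⟨E, b, hb, fun i => ⟨(hE i).1, ?_⟩, he⟩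
    haveI := (hE i).2
    infer_instance
  · rintro ⟨E, b, hb, hE, ⟨e⟩⟩ m
    exact isPC_of_bddAbove_projective_rep m E b hb hE e

end Groth.Agent.Helper6.PCm
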