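import Mathlib
import Groth.Agent.Lib.Helper6.PCm10

/-!
# `m`-pseudo-coherence, part 11: composition of restrictions of scalars, evaluation maps of
polynomial rings, and independence of the presentation for relative pseudo-coherence.
-/

set_option autoImplicit false
set_option linter.style.haveILetI false

universe u

open CategoryTheory Category Limits Pretriangulated DerivedCategory ZeroObject

attribute [local instance] HasDerivedCategory.standard

namespace Groth.Agent.Helper6.PCm

open Groth.Agent.Helper6.PerfTri

section Comp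

variable {A B C : Type u} [CommRing A] [CommRing B] [CommRing C]

lemma resD_comp_iso (φ : A →+* B) (ψ : B →+* C) (K : DerivedCategory (ModuleCat.{u} C)) :
    Nonempty ((resD φ).obj ((resD ψ).obj K) ≅ (resD (ψ.comp φ)).obj K) := by
  let E := Q.objPreimage K
  let e : Q.obj E ≅ K := Q.objObjPreimageIso K
  let Fφ := ModuleCat.restrictScalars.{u} φ
  let Fψ := ModuleCat.restrictScalars.{u} ψ
  let Fc := ModuleCat.restrictScalars.{u} (ψ.comp φ)
  let c : (Fφ.mapHomologicalComplex (ComplexShape.up ℤ)).obj
      ((Fψ.mapHomologicalComplex (ComplexShape.up ℤ)).obj E) ≅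
      (Fc.mapHomologicalComplex (ComplexShape.up ℤ)).obj E :=
    HomologicalComplex.Hom.isoOfComponents
      (fun i => (ModuleCat.restrictScalarsComp'App φ ψ (ψ.comp φ) rfl (E.X i)).symm)
      (fun i j _ =>
        (ModuleCat.restrictScalarsComp'App_inv_naturality φ ψ (ψ.comp φ) rfl (E.d i j)).symm)
  exact ⟨(resD φ).mapIso ((resD ψ).mapIso e.symm) ≪≫
    (resD φ).mapIso (Fψ.mapDerivedCategoryFactors.app E) ≪≫
    Fφ.mapDerivedCategoryFactors.app _ ≪≫ Q.mapIso c ≪≫
    (Fc.mapDerivedCategoryFactors.app E).symm ≪≫ (resD (ψ.comp φ)).mapIso e⟩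

lemma resPC_comp (φ : A →+* B) (ψ : B →+* C) (hφ : ResPC φ) (hψ : ResPC ψ) :
    ResPC (ψ.comp φ) := by
  intro k
  have h1 : IsPC k ((resD φ).obj ((singleFunctor (ModuleCat.{u} B) 0).obj
      ((ModuleCat.restrictScalars.{u} ψ).obj (ModuleCat.of C C)))) := isPC_resD φ hφ (hψ k)
  have e1 := ((ModuleCat.restrictScalars.{u} φ).mapDerivedCategorySingleFunctor 0).app
    ((ModuleCat.restrictScalars.{u} ψ).obj (ModuleCat.of C C))
  have e2 : (ModuleCat.restrictScalars.{u} φ).obj
      ((ModuleCat.restrictScalars.{u} ψ).obj (ModuleCat.of C C)) ≅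
      (ModuleCat.restrictScalars.{u} (ψ.comp φ)).obj (ModuleCat.of C C) :=
    (ModuleCat.restrictScalarsComp'App φ ψ (ψ.comp φ) rfl _).symm
  exact isPC_of_iso (e1 ≪≫ (singleFunctor (ModuleCat.{u} A) 0).mapIso e2) h1

lemma resPC_ringEquiv (e : A ≃+* B) : ResPC e.toRingHom := by
  intro k
  let l : A ≃ₗ[A] ((ModuleCat.restrictScalars.{u} e.toRingHom).obj (ModuleCat.of B B)) :=
    { toFun := fun x => (e x : B)
      invFun := fun y => e.symm (y : B)
      map_add' := fun x y => (map_add e x y : e (x + y) = e x + e y)
      map_smul' := fun a x => (map_mul e a x : e (a * x) = e a * e x)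
      left_inv := fun x => e.symm_apply_apply x
      right_inv := fun y => e.apply_symm_apply y }
  exact isPC_of_iso ((singleFunctor (ModuleCat.{u} A) 0).mapIso l.toModuleIso)
    (isPC_of_rep k (rep_single_free (ModuleCat.of A A)))

/-- comparison of pseudo-coherence of restrictions along `a` and along `a ∘ π`. -/
lemma isPC_resD_comp_iff (π : A →+* B) (a : B →+* C) (hπ : ResPC π)
    (K : DerivedCategory (ModuleCat.{u} C)) (m : ℤ) :
    IsPC m ((resD (a.comp π)).obj K) ↔ IsPC m ((resD a).obj K) := by
  obtain ⟨e⟩ := resD_comp_iso π a K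
  exact ⟨fun h => (isPC_resD_iff π hπ _ m).1 (isPC_of_iso e.symm h),
    fun h => isPC_of_iso e ((isPC_resD_iff π hπ _ m).2 h)⟩

end Comp

/-- `T` is pseudo-coherent over `T[x]` via `x ↦ t`. -/
lemma resPC_polyEval (T : Type u) [CommRing T] (t : T) :
    ResPC (Polynomial.evalRingHom t) := by
  intro k
  let g₀ : Polynomial T →ₗ[Polynomial T]
      ((ModuleCat.restrictScalars.{u} (Polynomial.evalRingHom t)).obj (ModuleCat.of T T)) :=
    { toFun := fun p => (Polynomial.eval t p : T)
      map_add' := fun p q => (Polynomial.eval_add : (Polynomial.eval t (p + q) : T) = _)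
      map_smul' := fun q p =>
        (Polynomial.eval_mul : (Polynomial.eval t (q * p) : T) =
          Polynomial.eval t q * Polynomial.eval t p) }
  let S : ShortComplex (ModuleCat.{u} (Polynomial T)) :=
    ShortComplex.mk
      (ModuleCat.ofHom (LinearMap.mulLeft (Polynomial T)
        ((Polynomial.X : Polynomial T) - Polynomial.C t)))
      (ModuleCat.ofHom g₀) (by
        ext
        show (Polynomial.eval t (((Polynomial.X : Polynomial T) - Polynomial.C t) * 1) : T) = 0
        simp)
  have hS : S.ShortExact :=
    { exact := (ShortComplex.ShortExact.moduleCat_exact_iff_function_exact S).2 (by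
        intro p
        constructor
        · intro hp
          have hp' : (Polynomial.eval t (p : Polynomial T) : T) = 0 := hp
          obtain ⟨q, hq⟩ := Polynomial.dvd_iff_isRoot.2 (Polynomial.IsRoot.def.2 hp')
          exact ⟨q, hq.symm⟩
        · rintro ⟨q, rfl⟩
          show (Polynomial.eval t (((Polynomial.X : Polynomial T) - Polynomial.C t) * q) : T) = 0
          rw [Polynomial.eval_mul, Polynomial.eval_sub, Polynomial.eval_X, Polynomial.eval_C,
            sub_self, zero_mul])
      mono_f := (ModuleCat.mono_iff_injective _).2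
        (fun p q (h : ((Polynomial.X : Polynomial T) - Polynomial.C t) * p =
            ((Polynomial.X : Polynomial T) - Polynomial.C t) * q) =>
          (Polynomial.monic_X_sub_C t).isRegular.left h)
      epi_g := (ModuleCat.epi_iff_surjective _).2
        (fun r => ⟨Polynomial.C (r : T),
          (Polynomial.eval_C : (Polynomial.eval t (Polynomial.C (r : T)) : T) = r)⟩) }
  have hT := hS.singleTriangle_distinguished
  exact isPC_cone _ hT k
    (isPC_of_rep (k + 1) (rep_single_free (ModuleCat.of (Polynomial T) (Polynomial T))))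
    (isPC_of_rep k (rep_single_free (ModuleCat.of (Polynomial T) (Polynomial T))))

/-- `S` is pseudo-coherent over `S[y_1, …, y_k]` via any evaluation map. -/
theorem resPC_mvEval (k : ℕ) : ∀ (S : Type u) [CommRing S] (f : Fin k → S),
    ResPC (MvPolynomial.eval f) := by
  induction k with
  | zero =>
    intro S _ f
    have h : (MvPolynomial.eval f : MvPolynomial (Fin 0) S →+* S) =
        (MvPolynomial.isEmptyRingEquiv S (Fin 0)).toRingHom := by
      apply MvPolynomial.ringHom_ext
      · intro r
        have h1 : (MvPolynomial.isEmptyRingEquiv S (Fin 0)) (MvPolynomial.C r) = r := by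
          rw [← MvPolynomial.isEmptyRingEquiv_symm_apply (R := S) (σ := Fin 0) r, RingEquiv.apply_symm_apply]
        rw [MvPolynomial.eval_C]
        exact h1.symm
      · intro i
        exact Fin.elim0 i
    rw [h]
    exact resPC_ringEquiv _
  | succ k ih =>
    intro S _ f
    have h : (MvPolynomial.eval f : MvPolynomial (Fin (k + 1)) S →+* S) =
        (MvPolynomial.eval (fun j : Fin k => f j.succ)).comp
          ((Polynomial.evalRingHom (MvPolynomial.C (f 0))).comp
            (MvPolynomial.finSuccEquiv S k).toRingEquiv.toRingHom) := by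
      apply MvPolynomial.ringHom_ext
      · intro r
        simp [MvPolynomial.finSuccEquiv_apply]
      · intro i
        refine Fin.cases ?_ (fun j => ?_) i
        · simp [MvPolynomial.finSuccEquiv_X_zero]
        · simp [MvPolynomial.finSuccEquiv_X_succ]
    rw [h]
    exact resPC_comp _ _ (resPC_comp _ _ (resPC_ringEquiv _) (resPC_polyEval _ _)) (ih S _)

/-- independence of the presentation. -/
theorem isPC_resD_presentation_iff {R A : Type u} [CommRing R] [CommRing A] {n k : ℕ}
    (a : MvPolynomial (Fin n) R →+* A) (b : MvPolynomial (Fin k) R →+* A)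
    (ha : Function.Surjective a) (hb : Function.Surjective b)
    (hab : a.comp MvPolynomial.C = b.comp MvPolynomial.C)
    (K : DerivedCategory (ModuleCat.{u} A)) (m : ℤ) :
    IsPC m ((resD a).obj K) ↔ IsPC m ((resD b).obj K) := by
  choose f hf using fun j : Fin k => ha (b (MvPolynomial.X j))
  choose g hg using fun i : Fin n => hb (a (MvPolynomial.X i))
  let π₁ : MvPolynomial (Fin k) (MvPolynomial (Fin n) R) →+* MvPolynomial (Fin n) R :=
    MvPolynomial.eval f
  let c : MvPolynomial (Fin k) (MvPolynomial (Fin n) R) →+*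
      MvPolynomial (Fin n) (MvPolynomial (Fin k) R) :=
    (MvPolynomial.commAlgEquiv R (Fin k) (Fin n)).toRingEquiv.toRingHom
  let π₂ : MvPolynomial (Fin k) (MvPolynomial (Fin n) R) →+* MvPolynomial (Fin k) R :=
    (MvPolynomial.eval g).comp c
  have h₁ : ResPC π₁ := resPC_mvEval k _ f
  have h₂ : ResPC π₂ := resPC_comp c (MvPolynomial.eval g) (resPC_ringEquiv _)
    (resPC_mvEval n _ g)
  have hin : (b.comp ((MvPolynomial.eval g).comp
      (MvPolynomial.map (MvPolynomial.C : R →+* MvPolynomial (Fin k) R)))) = a := by
    apply MvPolynomial.ringHom_ext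
    · intro r
      have := RingHom.congr_fun hab r
      simpa using this.symm
    · intro i
      simp [hg i]
  have hγ : a.comp π₁ = b.comp π₂ := by
    apply MvPolynomial.ringHom_ext
    · intro p
      have := RingHom.congr_fun hin p
      simp only [RingHom.comp_apply, MvPolynomial.eval_map] at this
      simp [π₁, π₂, c, this]
    · intro j
      simp [π₁, π₂, c, hf j]
  rw [← isPC_resD_comp_iff π₁ a h₁ K m, ← isPC_resD_comp_iff π₂ b h₂ K m, hγ]

end Groth.Agent.Helper6.PCm
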