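import Mathlib
import Groth.Agent.Lib.Helper6.PCm11

/-!
# `m`-pseudo-coherence, part 12: transfer lemmas for relative pseudo-coherence.
-/

set_option autoImplicit false
set_option linter.style.haveILetI false

universe u

open CategoryTheory Category Limits Pretriangulated DerivedCategory ZeroObject

attribute [local instance] HasDerivedCategory.standard

namespace Groth.Agent.Helper6.PCm

open Groth.Agent.Helper6.PerfTri

/-- a distinguished triangle with zero third map splits. -/
lemma isPC_of_split_triangle {R : Type u} [CommRing R]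
    (T : Triangle (DerivedCategory (ModuleCat.{u} R))) (hT : T ∈ distTriang _)
    (h0 : T.mor₃ = 0) {m : ℤ} (h : IsPC m T.obj₂) : IsPC m T.obj₁ ∧ IsPC m T.obj₃ := by
  obtain ⟨e, -, -⟩ := exists_iso_binaryBiproduct_of_distTriang T hT h0
  exact isPC_of_biprod (isPC_of_iso e h)

variable {P A : Type u} [CommRing P] [CommRing A] (a : P →+* A)

/-- restriction of scalars commutes with the inclusion of modules in degree `0`. -/
noncomputable def resDSingleIso (M : ModuleCat.{u} A) :
    (resD a).obj ((singleFunctor (ModuleCat.{u} A) 0).obj M) ≅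
      (singleFunctor (ModuleCat.{u} P) 0).obj ((ModuleCat.restrictScalars.{u} a).obj M) :=
  ((ModuleCat.restrictScalars.{u} a).mapDerivedCategorySingleFunctor 0).app M

/-- summands, after restriction. -/
lemma isPC_resD_of_biprod {m : ℤ} (K L : DerivedCategory (ModuleCat.{u} A))
    (h : IsPC m ((resD a).obj (K ⊞ L))) :
    IsPC m ((resD a).obj K) ∧ IsPC m ((resD a).obj L) := by
  have hT := (resD a).map_distinguished _ (binaryBiproductTriangle_distinguished K L)
  refine isPC_of_split_triangle _ hT ?_ h
  show (resD a).map 0 ≫ _ = 0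
  rw [Functor.map_zero, zero_comp]

theorem isPC_resD_of_terms (m : ℤ) (K : CochainComplex (ModuleCat.{u} A) ℤ) (b : ℤ)
    (hb : ∀ i : ℤ, b < i → IsZero (K.X i))
    (hK : ∀ i : ℤ, IsPC (m - i) ((resD a).obj
      ((singleFunctor (ModuleCat.{u} A) 0).obj (ModuleCat.of A (K.X i))))) :
    IsPC m ((resD a).obj (Q.obj K)) := by
  refine isPC_of_iso ((ModuleCat.restrictScalars.{u} a).mapDerivedCategoryFactors.app K).symm ?_
  refine isPC_of_terms m _ b
    (fun i hi => Functor.map_isZero (ModuleCat.restrictScalars.{u} a) (hb i hi)) (fun i => ?_)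
  exact isPC_of_iso (resDSingleIso a _) (hK i)

theorem isPC_resD_of_homology (m : ℤ) (K : DerivedCategory (ModuleCat.{u} A)) (b : ℤ)
    (hle : K.IsLE b)
    (hK : ∀ i : ℤ, IsPC (m - i) ((resD a).obj ((singleFunctor (ModuleCat.{u} A) 0).obj
      (ModuleCat.of A ((homologyFunctor (ModuleCat.{u} A) i).obj K))))) :
    IsPC m ((resD a).obj K) := by
  have hle' : ((resD a).obj K).IsLE b := (isLE_resD_iff a K b).2 hle
  refine isPC_of_homology m _ b hle' (fun i => ?_)
  obtain ⟨e⟩ := homology_resD a K i
  exact isPC_of_iso (resDSingleIso a _ ≪≫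
    (singleFunctor (ModuleCat.{u} P) 0).mapIso e.symm) (hK i)

lemma finite_restrict_of_surjective (ha : Function.Surjective a) (M : ModuleCat.{u} A)
    (h : Module.Finite A M) : Module.Finite P ((ModuleCat.restrictScalars.{u} a).obj M) := by
  obtain ⟨s, hs⟩ := h.fg_top
  let t : Finset ((ModuleCat.restrictScalars.{u} a).obj M) := s
  refine ⟨⟨t, ?_⟩⟩
  rw [eq_top_iff]
  intro x _
  let N : Submodule A M :=
    { carrier := (Submodule.span P (t : Set ((ModuleCat.restrictScalars.{u} a).obj M)) :
        Set ((ModuleCat.restrictScalars.{u} a).obj M))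
      add_mem' := fun {x y}
        (hx : x ∈ Submodule.span P (t : Set ((ModuleCat.restrictScalars.{u} a).obj M)))
        (hy : y ∈ Submodule.span P (t : Set ((ModuleCat.restrictScalars.{u} a).obj M))) =>
          (Submodule.add_mem _ hx hy :
            (x : (ModuleCat.restrictScalars.{u} a).obj M) + y ∈
              Submodule.span P (t : Set ((ModuleCat.restrictScalars.{u} a).obj M)))
      zero_mem' := (Submodule.zero_mem _ : (0 : (ModuleCat.restrictScalars.{u} a).obj M) ∈
        Submodule.span P (t : Set ((ModuleCat.restrictScalars.{u} a).obj M)))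
      smul_mem' := fun c y
        (hy : y ∈ Submodule.span P (t : Set ((ModuleCat.restrictScalars.{u} a).obj M))) => by
          obtain ⟨p, rfl⟩ := ha c
          let y' : (ModuleCat.restrictScalars.{u} a).obj M := y
          have hy' : p • y' ∈
              Submodule.span P (t : Set ((ModuleCat.restrictScalars.{u} a).obj M)) :=
            Submodule.smul_mem _ p hy
          exact hy' }
  have hN : Submodule.span A (s : Set M) ≤ N :=
    Submodule.span_le.2 (fun y (hy : y ∈ (s : Set M)) =>
      (Submodule.subset_span hy : (y : (ModuleCat.restrictScalars.{u} a).obj M) ∈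
        Submodule.span P (t : Set ((ModuleCat.restrictScalars.{u} a).obj M))))
  have hx : (x : M) ∈ Submodule.span A (s : Set M) := by
    rw [hs]
    exact trivial
  exact hN hx

lemma finite_restrict_iff (ha : Function.Surjective a) (M : ModuleCat.{u} A) :
    Module.Finite P ((ModuleCat.restrictScalars.{u} a).obj M) ↔ Module.Finite A M :=
  ⟨finite_of_restrict a M, finite_restrict_of_surjective a ha M⟩

lemma subsingleton_homology_resD_iff (K : DerivedCategory (ModuleCat.{u} A)) (i : ℤ) :
    Subsingleton ((homologyFunctor (ModuleCat.{u} P) i).obj ((resD a).obj K)) ↔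
      Subsingleton ((homologyFunctor (ModuleCat.{u} A) i).obj K) := by
  obtain ⟨e⟩ := homology_resD a K i
  constructor
  · intro h
    have h1 : IsZero ((ModuleCat.restrictScalars.{u} a).obj
        ((homologyFunctor (ModuleCat.{u} A) i).obj K)) :=
      (ModuleCat.isZero_of_subsingleton _).of_iso e.symm
    exact ModuleCat.subsingleton_of_isZero ((isZero_restrict_iff a _).1 h1)
  · intro h
    have h1 : IsZero ((homologyFunctor (ModuleCat.{u} P) i).obj ((resD a).obj K)) :=
      ((isZero_restrict_iff a _).2 (ModuleCat.isZero_of_subsingleton _)).of_iso e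
    exact ModuleCat.subsingleton_of_isZero h1

lemma finite_homology_resD_iff (ha : Function.Surjective a)
    (K : DerivedCategory (ModuleCat.{u} A)) (i : ℤ) :
    Module.Finite P ((homologyFunctor (ModuleCat.{u} P) i).obj ((resD a).obj K)) ↔
      Module.Finite A ((homologyFunctor (ModuleCat.{u} A) i).obj K) := by
  obtain ⟨e⟩ := homology_resD a K i
  rw [← finite_restrict_iff a ha]
  exact ⟨fun h => Module.Finite.equiv e.toLinearEquiv,
    fun h => Module.Finite.equiv e.symm.toLinearEquiv⟩

/-- the Noetherian criterion, after restriction along a surjection from a Noetherian ring. -/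
theorem isPC_resD_iff_of_isNoetherianRing [IsNoetherianRing P] (ha : Function.Surjective a)
    (m : ℤ) (K : DerivedCategory (ModuleCat.{u} A)) :
    IsPC m ((resD a).obj K) ↔
      (∃ b : ℤ, ∀ i : ℤ, b < i →
        Subsingleton ((homologyFunctor (ModuleCat.{u} A) i).obj K)) ∧
      ∀ i : ℤ, m ≤ i → Module.Finite A ((homologyFunctor (ModuleCat.{u} A) i).obj K) := by
  rw [isPC_iff_of_isNoetherianRing]
  refine and_congr (exists_congr fun b => forall_congr' fun i => imp_congr_right fun _ =>
    subsingleton_homology_resD_iff a K i)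
    (forall_congr' fun i => imp_congr_right fun _ => finite_homology_resD_iff a ha K i)

/-- relative pseudo-coherence can be tested on any fixed presentation. -/
theorem relPC_iff {R A : Type u} [CommRing R] [CommRing A] [Algebra R A] {n₀ : ℕ}
    (α₀ : MvPolynomial (Fin n₀) R →ₐ[R] A) (hα₀ : Function.Surjective α₀) (m : ℤ)
    (X : DerivedCategory (ModuleCat.{u} A)) :
    (∃ (n : ℕ) (α : MvPolynomial (Fin n) R →ₐ[R] A), Function.Surjective α ∧
      IsPC m ((resD (α : MvPolynomial (Fin n) R →+* A)).obj X)) ↔
    IsPC m ((resD (α₀ : MvPolynomial (Fin n₀) R →+* A)).obj X) := by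
  constructor
  · rintro ⟨n, α, hα, h⟩
    refine (isPC_resD_presentation_iff (α : MvPolynomial (Fin n) R →+* A)
      (α₀ : MvPolynomial (Fin n₀) R →+* A) hα hα₀ ?_ X m).1 h
    ext r
    simp
  · intro h
    exact ⟨n₀, α₀, hα₀, h⟩

end Groth.Agent.Helper6.PCm
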