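import Mathlib
import Groth.Agent.Lib.Helper6.PCm12

/-!
# `m`-pseudo-coherence, part 13: exact functors between module categories (base change),
and descent along jointly conservative finite families of exact functors.
-/

set_option autoImplicit false
set_option linter.style.haveILetI false

universe u

open CategoryTheory Category Limits Pretriangulated DerivedCategory ZeroObject

attribute [local instance] HasDerivedCategory.standard

namespace Groth.Agent.Helper6.PCm

open Groth.Agent.Helper6.PerfTri

section Exact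

variable {A B : Type u} [CommRing A] [CommRing B]
  (F : ModuleCat.{u} A ⥤ ModuleCat.{u} B) [F.Additive] [PreservesFiniteLimits F]
  [PreservesFiniteColimits F]

/-- the functor induced on derived categories by an exact functor. -/
noncomputable abbrev mapD :
    DerivedCategory (ModuleCat.{u} A) ⥤ DerivedCategory (ModuleCat.{u} B) :=
  F.mapDerivedCategory

lemma homology_mapD (L : DerivedCategory (ModuleCat.{u} A)) (i : ℤ) :
    Nonempty ((homologyFunctor (ModuleCat.{u} B) i).obj ((mapD F).obj L) ≅
      F.obj ((homologyFunctor (ModuleCat.{u} A) i).obj L)) := by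
  let K := Q.objPreimage L
  let e : Q.obj K ≅ L := Q.objObjPreimageIso L
  let e1 : (homologyFunctor (ModuleCat.{u} B) i).obj ((mapD F).obj L) ≅
      (homologyFunctor (ModuleCat.{u} B) i).obj ((mapD F).obj (Q.obj K)) :=
    (homologyFunctor (ModuleCat.{u} B) i).mapIso ((mapD F).mapIso e.symm)
  let e2 : (homologyFunctor (ModuleCat.{u} B) i).obj ((mapD F).obj (Q.obj K)) ≅
      (homologyFunctor (ModuleCat.{u} B) i).obj
        (Q.obj ((F.mapHomologicalComplex (ComplexShape.up ℤ)).obj K)) :=
    (homologyFunctor (ModuleCat.{u} B) i).mapIso (F.mapDerivedCategoryFactors.app K)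
  let e3 : (homologyFunctor (ModuleCat.{u} B) i).obj
        (Q.obj ((F.mapHomologicalComplex (ComplexShape.up ℤ)).obj K)) ≅
      ((F.mapHomologicalComplex (ComplexShape.up ℤ)).obj K).homology i :=
    (homologyFunctorFactors (ModuleCat.{u} B) i).app _
  let e4 : ((F.mapHomologicalComplex (ComplexShape.up ℤ)).obj K).homology i ≅
      F.obj (K.homology i) := (K.sc i).mapHomologyIso F
  let e5 : F.obj (K.homology i) ≅ F.obj ((homologyFunctor (ModuleCat.{u} A) i).obj L) :=
    F.mapIso (((homologyFunctorFactors (ModuleCat.{u} A) i).app K).symm ≪≫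
      (homologyFunctor (ModuleCat.{u} A) i).mapIso e)
  exact ⟨e1 ≪≫ e2 ≪≫ e3 ≪≫ e4 ≪≫ e5⟩

lemma isLE_mapD (K : DerivedCategory (ModuleCat.{u} A)) (n : ℤ) (h : K.IsLE n) :
    ((mapD F).obj K).IsLE n := by
  rw [isLE_iff] at h ⊢
  intro i hi
  obtain ⟨e⟩ := homology_mapD F K i
  exact (Functor.map_isZero F (h i hi)).of_iso e

lemma pcmap_mapD {X K : DerivedCategory (ModuleCat.{u} A)} (α : X ⟶ K) (m : ℤ)
    (h : PCmap m α) : PCmap m ((mapD F).map α) := by
  obtain ⟨C₁, β, δ, hT⟩ := distinguished_cocone_triangle α
  have hT' := (mapD F).map_distinguished _ hT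
  have h1 := isLE_cone_iff _ hT m
  have h2 := isLE_cone_iff _ hT' m
  exact h2.1 (isLE_mapD F C₁ (m - 1) (h1.2 h))

/-- the image of `M` is pseudo-coherent. -/
def MapPCMod (M : Type u) [AddCommGroup M] [Module A M] : Prop :=
  ∀ k : ℤ, IsPC k ((singleFunctor (ModuleCat.{u} B) 0).obj (F.obj (ModuleCat.of A M)))

lemma mapPCMod_prod (M N : Type u) [AddCommGroup M] [Module A M] [AddCommGroup N] [Module A N]
    (hM : MapPCMod F M) (hN : MapPCMod F N) : MapPCMod F (M × N) := by
  intro k
  let S : ShortComplex (ModuleCat.{u} A) :=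
    ShortComplex.mk (ModuleCat.ofHom (LinearMap.inl A M N))
      (ModuleCat.ofHom (LinearMap.snd A M N)) (by
        ext x
        rfl)
  have hS : S.ShortExact :=
    { exact := (ShortComplex.ShortExact.moduleCat_exact_iff_function_exact S).2
        Function.Exact.inl_snd
      mono_f := (ModuleCat.mono_iff_injective _).2 LinearMap.inl_injective
      epi_g := (ModuleCat.epi_iff_surjective _).2 LinearMap.snd_surjective }
  have hS' : (S.map F).ShortExact := hS.map_of_exact _
  have hT := hS'.singleTriangle_distinguished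
  exact (two_of_three _ hT k).2.1 (hM k) (hN k)

lemma mapPCMod_of_subsingleton (M : Type u) [AddCommGroup M] [Module A M] [Subsingleton M] :
    MapPCMod F M := by
  intro k
  exact isPC_of_isZero _ _ (Functor.map_isZero _ (Functor.map_isZero _
    (ModuleCat.isZero_of_subsingleton _)))

lemma mapPCMod_of_equiv {M N : Type u} [AddCommGroup M] [Module A M] [AddCommGroup N]
    [Module A N] (e : M ≃ₗ[A] N) (hM : MapPCMod F M) : MapPCMod F N := by
  intro k
  exact isPC_of_iso ((singleFunctor (ModuleCat.{u} B) 0).mapIso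
    (F.mapIso e.toModuleIso)) (hM k)

lemma mapPCMod_pi (HB : MapPCMod F A) (n : ℕ) : MapPCMod F (Fin n → A) := by
  induction n with
  | zero => exact mapPCMod_of_subsingleton F _
  | succ n ih =>
    exact mapPCMod_of_equiv F (Fin.consLinearEquiv A (fun _ : Fin (n + 1) => A))
      (mapPCMod_prod F A (Fin n → A) HB ih)

lemma mapPCMod_free (HB : MapPCMod F A) (M : Type u) [AddCommGroup M] [Module A M]
    [Module.Finite A M] [Module.Free A M] : MapPCMod F M := by
  rcases subsingleton_or_nontrivial A with hA | hA
  · haveI : Subsingleton M := Module.subsingleton A M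
    exact mapPCMod_of_subsingleton F M
  · exact mapPCMod_of_equiv F (Module.finBasis A M).equivFun.symm (mapPCMod_pi F HB _)

lemma isPC_mapD_Q (HB : MapPCMod F A) (E : CochainComplex (ModuleCat.{u} A) ℤ) (a b : ℤ)
    (h0 : ∀ i : ℤ, i < a ∨ b < i → IsZero (E.X i))
    (hE : ∀ i : ℤ, Module.Finite A (E.X i) ∧ Module.Free A (E.X i)) (k : ℤ) :
    IsPC k ((mapD F).obj (Q.obj E)) := by
  refine isPC_of_iso (F.mapDerivedCategoryFactors.app E).symm ?_
  refine BddCx.prop_of_bounded_complex' (fun X => ∀ k : ℤ, IsPC k X)
    (fun e h k => isPC_of_iso e (h k))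
    (fun X n h k => isPC_shift' n (h (k + n)) (by ring))
    (fun T hT h₁ h₃ k => (two_of_three T hT k).2.1 (h₁ k) (h₃ k))
    ((F.mapHomologicalComplex (ComplexShape.up ℤ)).obj E) a b
    (fun i hi => Functor.map_isZero F (h0 i hi))
    (fun i k' => ?_) k
  haveI := (hE i).1
  haveI := (hE i).2
  exact mapPCMod_free F HB (E.X i) k'

lemma isPC_mapD (HB : MapPCMod F A) {m : ℤ} {K : DerivedCategory (ModuleCat.{u} A)}
    (h : IsPC m K) : IsPC m ((mapD F).obj K) := by
  obtain ⟨E, a, b, α, hE0, hE, h1, h2⟩ := h
  exact isPC_comp (isPC_mapD_Q F HB E a b hE0 hE m) ((mapD F).map α)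
    (pcmap_mapD F α m ⟨h1, h2⟩)

/-- the image of a represented object is represented by the image complex. -/
noncomputable def mapDQIso (E : CochainComplex (ModuleCat.{u} A) ℤ) :
    (mapD F).obj (Q.obj E) ≅ Q.obj ((F.mapHomologicalComplex (ComplexShape.up ℤ)).obj E) :=
  F.mapDerivedCategoryFactors.app E

/-- the image of a module in degree `0`. -/
noncomputable def mapDSingleIso (M : ModuleCat.{u} A) :
    (mapD F).obj ((singleFunctor (ModuleCat.{u} A) 0).obj M) ≅
      (singleFunctor (ModuleCat.{u} B) 0).obj (F.obj M) :=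
  (F.mapDerivedCategorySingleFunctor 0).app M

end Exact

section Family

variable {R : Type u} [CommRing R] {ι : Type*} (S : ι → Type u) [∀ i, CommRing (S i)]
  (F : ∀ i, ModuleCat.{u} R ⥤ ModuleCat.{u} (S i)) [∀ i, (F i).Additive]
  [∀ i, PreservesFiniteLimits (F i)] [∀ i, PreservesFiniteColimits (F i)]

lemma isPC_of_family_aux
    (hfin : ∀ M : ModuleCat.{u} R, (∀ i, Module.Finite (S i) ((F i).obj M)) → Module.Finite R M)
    (hfree : ∀ i, MapPCMod (F i) R) (d : ℕ) :
    ∀ (m b : ℤ) (K : DerivedCategory (ModuleCat.{u} R)), K.IsLE b → b < m + d →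
      (∀ i, IsPC m ((mapD (F i)).obj K)) → IsPC m K := by
  induction d with
  | zero =>
    intro m b K hb hd _
    haveI : K.IsLE (m - 1) := TStructure.t.isLE_of_le K b (m - 1) (by omega)
    exact isPC_of_isLE m K
  | succ d ih =>
    intro m b K hb hd h
    by_cases hlt : b < m
    · haveI : K.IsLE (m - 1) := TStructure.t.isLE_of_le K b (m - 1) (by omega)
      exact isPC_of_isLE m K
    · haveI hfinK : Module.Finite R ((homologyFunctor (ModuleCat.{u} R) b).obj K) := by
        apply hfin
        intro i
        haveI : ((mapD (F i)).obj K).IsLE b := isLE_mapD (F i) K b hb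
        haveI : Module.Finite (S i)
            ((homologyFunctor (ModuleCat.{u} (S i)) b).obj ((mapD (F i)).obj K)) :=
          finite_of_isPC (isPC_mono (by omega) (h i))
            (fun j hj => ((mapD (F i)).obj K).isZero_of_isLE b j hj)
        obtain ⟨e⟩ := homology_mapD (F i) K b
        exact Module.Finite.equiv e.toLinearEquiv
      obtain ⟨r, g, hg⟩ := Module.Finite.exists_fin' (R := R)
        (M := (homologyFunctor (ModuleCat.{u} R) b).obj K)
      let P : ModuleCat.{u} R := ModuleCat.of R (Fin r → R)
      haveI : Epi (ModuleCat.ofHom g : P ⟶ (homologyFunctor (ModuleCat.{u} R) b).obj K) :=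
        (ModuleCat.epi_iff_surjective _).2 hg
      haveI : Module.Projective R P := inferInstanceAs (Module.Projective R (Fin r → R))
      haveI : Projective P := ModuleCat.projective_of_categoryTheory_projective _
      haveI : Module.Finite R P := inferInstanceAs (Module.Finite R (Fin r → R))
      haveI : Module.Free R P := inferInstanceAs (Module.Free R (Fin r → R))
      obtain ⟨w, hw⟩ := exists_hom_from_single_epi P b K (ModuleCat.ofHom g)
      obtain ⟨L, c, dw, hTw⟩ := distinguished_cocone_triangle w
      have hwpc : PCmap b w := by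
        refine ⟨fun i hi => ?_, hw⟩
        have h1 : IsZero ((homologyFunctor (ModuleCat.{u} R) i).obj
            ((DerivedCategory.singleFunctor (ModuleCat.{u} R) b).obj P)) :=
          ((DerivedCategory.singleFunctor (ModuleCat.{u} R) b).obj P).isZero_of_isLE b i hi
        exact ⟨0, h1.eq_of_src _ _, (K.isZero_of_isLE b i hi).eq_of_src _ _⟩
      have hL : L.IsLE (b - 1) := (isLE_cone_iff _ hTw b).2 hwpc
      have hP : ∀ k : ℤ, IsPC k ((DerivedCategory.singleFunctor (ModuleCat.{u} R) b).obj P) :=
        fun k => isPC_of_iso (((singleFunctors (ModuleCat.{u} R)).shiftIso (-b) b 0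
          (by omega)).app P)
          (isPC_shift' (-b) (isPC_of_rep (k - b) (rep_single_free P)) (by ring))
      have hρL : ∀ i, IsPC m ((mapD (F i)).obj L) := fun i =>
        isPC_cone _ ((mapD (F i)).map_distinguished _ hTw) m
          (isPC_mapD (F i) (hfree i) (hP (m + 1))) (h i)
      have hLpc : IsPC m L := ih m (b - 1) L hL (by omega) hρL
      exact (two_of_three _ hTw m).2.1 (hP m) hLpc

/-- descent of `m`-pseudo-coherence along a finite jointly conservative family of exact
functors. -/
theorem isPC_of_family [Finite ι]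
    (hzero : ∀ M : ModuleCat.{u} R, (∀ i, IsZero ((F i).obj M)) → IsZero M)
    (hfin : ∀ M : ModuleCat.{u} R, (∀ i, Module.Finite (S i) ((F i).obj M)) → Module.Finite R M)
    (hfree : ∀ i, MapPCMod (F i) R) (K : DerivedCategory (ModuleCat.{u} R)) (m : ℤ)
    (h : ∀ i, IsPC m ((mapD (F i)).obj K)) : IsPC m K := by
  choose bi hbi using fun i => exists_isLE_of_isPC (h i)
  obtain ⟨b, hb⟩ := Finite.exists_le bi
  have hle : K.IsLE b := by
    rw [isLE_iff]
    intro j hj
    apply hzero
    intro i
    obtain ⟨e⟩ := homology_mapD (F i) K j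
    haveI := hbi i
    have hbi' := hb i
    exact (((mapD (F i)).obj K).isZero_of_isLE (bi i) j (by omega)).of_iso e.symm
  have h0 := Int.self_le_toNat (b - m + 1)
  exact isPC_of_family_aux S F hfin hfree (b - m + 1).toNat m b K hle (by omega) h

end Family

/-- descent of `m`-pseudo-coherence along a conservative exact functor. -/
theorem isPC_of_conservative {A B : Type u} [CommRing A] [CommRing B]
    (F : ModuleCat.{u} A ⥤ ModuleCat.{u} B) [F.Additive] [PreservesFiniteLimits F]
    [PreservesFiniteColimits F]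
    (hzero : ∀ M : ModuleCat.{u} A, IsZero (F.obj M) → IsZero M)
    (hfin : ∀ M : ModuleCat.{u} A, Module.Finite B (F.obj M) → Module.Finite A M)
    (hfree : MapPCMod F A) (K : DerivedCategory (ModuleCat.{u} A)) (m : ℤ)
    (h : IsPC m ((mapD F).obj K)) : IsPC m K :=
  isPC_of_family (ι := Unit) (fun _ => B) (fun _ => F) (fun M hM => hzero M (hM ()))
    (fun M hM => hfin M (hM ())) (fun _ => hfree) K m (fun _ => h)

end Groth.Agent.Helper6.PCm
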