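import Mathlib
import Groth.Prelude.Def_DDual2
import Groth.Agent.Lib.Helper6.PCm13

/-!
# `m`-pseudo-coherence, part 14: extension of scalars along flat ring maps.
-/

set_option autoImplicit false
set_option linter.style.haveILetI false

universe u

open CategoryTheory Category Limits Pretriangulated DerivedCategory ZeroObject TensorProduct

attribute [local instance] HasDerivedCategory.standard

namespace Groth.Agent.Helper6.PCm

open Groth.Agent.Helper6.PerfTri

variable {R S : Type u} [CommRing R] [CommRing S] [Algebra R S]

/-- extension of scalars along the structure map of an algebra. -/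
noncomputable abbrev extF (R S : Type u) [CommRing R] [CommRing S] [Algebra R S] :
    ModuleCat.{u} R ⥤ ModuleCat.{u} S :=
  ModuleCat.extendScalars.{u, u, u} (algebraMap R S)

/-- the comparison between `extendScalars` and the tensor product with its canonical
structures. -/
noncomputable def extIso (M : ModuleCat.{u} R) :
    ((extF R S).obj M) ≃ₗ[S] S ⊗[R] M := by
  let toS : ((ModuleCat.restrictScalars.{u} (algebraMap R S)).obj (ModuleCat.of S S)) → S :=
    fun x => x
  let ofS : S → ((ModuleCat.restrictScalars.{u} (algebraMap R S)).obj (ModuleCat.of S S)) :=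
    fun x => x
  let e₀ : ((ModuleCat.restrictScalars.{u} (algebraMap R S)).obj (ModuleCat.of S S)) ≃ₗ[R] S :=
    { toFun := toS
      invFun := ofS
      map_add' := fun _ _ => rfl
      map_smul' := fun r x => (Algebra.smul_def r (toS x)).symm
      left_inv := fun _ => rfl
      right_inv := fun _ => rfl }
  let c : TensorProduct R ((ModuleCat.restrictScalars.{u} (algebraMap R S)).obj
      (ModuleCat.of S S)) M ≃ₗ[R] S ⊗[R] M := TensorProduct.congr e₀ (LinearEquiv.refl R M)
  let act : S → ((extF R S).obj M) → ((extF R S).obj M) := fun s x => s • x
  have key : ∀ (s : S) (x : TensorProduct R ((ModuleCat.restrictScalars.{u}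
      (algebraMap R S)).obj (ModuleCat.of S S)) M), c (act s x) = s • c x := by
    intro s x
    induction x using TensorProduct.induction_on with
    | zero =>
      have h1 : act s 0 = 0 := smul_zero s
      exact (congrArg c h1).trans ((map_zero c).trans
        ((smul_zero s).symm.trans (congrArg (fun y => s • y) (map_zero c).symm)))
    | tmul s' m =>
      have h1 : act s (s' ⊗ₜ[R] m) = (ofS (s * toS s')) ⊗ₜ[R] m := rfl
      refine (congrArg c h1).trans ?_
      show (e₀ (ofS (s * toS s'))) ⊗ₜ[R] m = s • ((e₀ s') ⊗ₜ[R] m)
      rw [TensorProduct.smul_tmul']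
      rfl
    | add x y hx hy =>
      have h1 : act s (x + y) = act s x + act s y := smul_add s _ _
      refine (congrArg c h1).trans ((map_add c _ _).trans ?_)
      exact (congrArg₂ (· + ·) hx hy).trans ((smul_add s _ _).symm.trans
        (congrArg (fun y => s • y) (map_add c x y).symm))
  exact
    { toFun := fun x => c x
      invFun := fun y => c.symm y
      map_add' := fun x y => map_add c x y
      map_smul' := fun s x => key s x
      left_inv := fun x => c.symm_apply_apply x
      right_inv := fun y => c.apply_symm_apply y }

instance preservesFiniteColimits_extF : PreservesFiniteColimits (extF R S) := inferInstance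

instance preservesFiniteLimits_extF [Module.Flat R S] : PreservesFiniteLimits (extF R S) :=
  ModuleCat.preservesFiniteLimits_extendScalars_of_flat
    (RingHom.flat_algebraMap_iff.2 inferInstance)

/-- `S ⊗_R R ≅ S`. -/
lemma mapPCMod_extF [Module.Flat R S] : MapPCMod (extF R S) R := by
  intro k
  let e : ((extF R S).obj (ModuleCat.of R R)) ≃ₗ[S] S :=
    (extIso (ModuleCat.of R R)).trans (TensorProduct.AlgebraTensorModule.rid R S S)
  exact isPC_of_iso ((singleFunctor (ModuleCat.{u} S) 0).mapIso e.symm.toModuleIso)
    (isPC_of_rep k (rep_single_free (ModuleCat.of S S)))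

/-- flat base change preserves `m`-pseudo-coherence. -/
theorem isPC_extF [Module.Flat R S] {m : ℤ} {K : DerivedCategory (ModuleCat.{u} R)}
    (h : IsPC m K) : IsPC m ((mapD (extF R S)).obj K) :=
  isPC_mapD (extF R S) mapPCMod_extF h

section FaithfullyFlat

variable [Module.FaithfullyFlat R S]

lemma isZero_of_extF (M : ModuleCat.{u} R) (h : IsZero ((extF R S).obj M)) : IsZero M := by
  have h1 : Subsingleton ((extF R S).obj M) := ModuleCat.subsingleton_of_isZero h
  haveI : Subsingleton (S ⊗[R] M) := (extIso M).symm.toEquiv.subsingleton
  haveI : Subsingleton M := (Module.FaithfullyFlat.subsingleton_tensorProduct_iff_right R S).1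
    (inferInstance : Subsingleton (S ⊗[R] M))
  exact ModuleCat.isZero_of_subsingleton M

lemma finite_of_extF (M : ModuleCat.{u} R) (h : Module.Finite S ((extF R S).obj M)) :
    Module.Finite R M := by
  haveI : Module.Finite S (S ⊗[R] M) := Module.Finite.equiv (extIso M)
  exact Module.Finite.of_finite_tensorProduct_of_faithfullyFlat S

/-- faithfully flat descent of `m`-pseudo-coherence. -/
theorem isPC_of_extF {m : ℤ} (K : DerivedCategory (ModuleCat.{u} R))
    (h : IsPC m ((mapD (extF R S)).obj K)) : IsPC m K :=
  isPC_of_conservative (extF R S) isZero_of_extF finite_of_extF mapPCMod_extF K m h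

end FaithfullyFlat

section Localization

variable {r : ℕ} (f : Fin r → R) (hf : Ideal.span (Set.range f) = ⊤)

instance (i : Fin r) : PreservesFiniteLimits (extF R (Localization.Away (f i))) :=
  ModuleCat.preservesFiniteLimits_extendScalars_of_flat
    (RingHom.flat_algebraMap_iff.2 (IsLocalization.flat _ (Submonoid.powers (f i))))

include hf in
lemma isZero_of_extF_away (M : ModuleCat.{u} R)
    (h : ∀ i, IsZero ((extF R (Localization.Away (f i))).obj M)) : IsZero M := by
  haveI : Subsingleton M := by
    refine ⟨fun x y => ?_⟩
    suffices h0 : ∀ z : M, z = 0 by rw [h0 x, h0 y]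
    intro z
    have hz : z ∈ (⊥ : Submodule R M) := by
      refine Submodule.mem_of_span_eq_top_of_smul_pow_mem _ (Set.range f) hf z ?_
      rintro ⟨_, i, rfl⟩
      have h1 : Subsingleton ((extF R (Localization.Away (f i))).obj M) :=
        ModuleCat.subsingleton_of_isZero (h i)
      haveI : Subsingleton (Localization.Away (f i) ⊗[R] M) :=
        (extIso M).symm.toEquiv.subsingleton
      haveI : IsLocalizedModule (Submonoid.powers (f i))
          (TensorProduct.mk R (Localization.Away (f i)) M 1) :=
        (isLocalizedModule_iff_isBaseChange (Submonoid.powers (f i))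
          (Localization.Away (f i)) _).2 (TensorProduct.isBaseChange R M _)
      obtain ⟨⟨_, n, rfl⟩, hc⟩ := (IsLocalizedModule.eq_zero_iff (Submonoid.powers (f i))
        (TensorProduct.mk R (Localization.Away (f i)) M 1) (m := z)).1
        (Subsingleton.elim _ _)
      exact ⟨n, (Submodule.mem_bot R).2 hc⟩
    exact (Submodule.mem_bot R).1 hz
  exact ModuleCat.isZero_of_subsingleton M

include hf in
lemma finite_of_extF_away (M : ModuleCat.{u} R)
    (h : ∀ i, Module.Finite (Localization.Away (f i))
      ((extF R (Localization.Away (f i))).obj M)) : Module.Finite R M := by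
  haveI : ∀ g : Set.range f, IsLocalizedModule (Submonoid.powers g.val)
      (TensorProduct.mk R (Localization.Away g.val) M 1) := fun g =>
    (isLocalizedModule_iff_isBaseChange (Submonoid.powers g.val)
      (Localization.Away g.val) _).2 (TensorProduct.isBaseChange R M _)
  refine Module.Finite.of_localizationSpan' (Set.range f) hf
    (Mₚ := fun g => Localization.Away g.val ⊗[R] M) (Rₚ := fun g => Localization.Away g.val)
    (fun g => TensorProduct.mk R (Localization.Away g.val) M 1) ?_
  rintro ⟨_, i, rfl⟩
  haveI := h i
  exact Module.Finite.equiv (extIso M)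

include hf in
/-- `m`-pseudo-coherence is local for the Zariski topology. -/
theorem isPC_of_extF_away {m : ℤ} (K : DerivedCategory (ModuleCat.{u} R))
    (h : ∀ i, IsPC m ((mapD (extF R (Localization.Away (f i)))).obj K)) : IsPC m K :=
  isPC_of_family (fun i => Localization.Away (f i))
    (fun i => extF R (Localization.Away (f i)))
    (isZero_of_extF_away f hf) (finite_of_extF_away f hf)
    (fun i => by
      haveI : Module.Flat R (Localization.Away (f i)) :=
        IsLocalization.flat _ (Submonoid.powers (f i))
      exact mapPCMod_extF) K m h

end Localization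

end Groth.Agent.Helper6.PCm
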