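import Mathlib
import Groth.Prelude.Def_DDual2
import Groth.Agent.Lib.Helper6.PCm14

/-!
# `m`-pseudo-coherence, part 15: extension of scalars, representatives.
-/

set_option autoImplicit false
set_option linter.style.haveILetI false

universe u

open CategoryTheory Category Limits Pretriangulated DerivedCategory ZeroObject TensorProduct

attribute [local instance] HasDerivedCategory.standard

namespace Groth.Agent.Helper6.PCm

open Groth.Agent.Helper6.PerfTri

variable {R S : Type u} [CommRing R] [CommRing S] [Algebra R S]

lemma finite_extF (M : ModuleCat.{u} R) [Module.Finite R M] :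
    Module.Finite S ((extF R S).obj M) :=
  Module.Finite.equiv (extIso (S := S) M).symm

lemma projective_extF (M : ModuleCat.{u} R) [Module.Projective R M] :
    Module.Projective S ((extF R S).obj M) :=
  Module.Projective.of_equiv (extIso (S := S) M).symm

lemma flat_extF (M : ModuleCat.{u} R) [Module.Flat R M] :
    Module.Flat S ((extF R S).obj M) :=
  Module.Flat.of_linearEquiv (extIso (S := S) M)

lemma free_extF (M : ModuleCat.{u} R) [Module.Free R M] :
    Module.Free S ((extF R S).obj M) :=
  Module.Free.of_equiv (extIso (S := S) M).symm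

/-- `S ⊗_R M[0]` computed by `mapD`. -/
noncomputable def extSingleIso [Module.Flat R S] (M : Type u) [AddCommGroup M] [Module R M] :
    (mapD (extF R S)).obj ((singleFunctor (ModuleCat.{u} R) 0).obj (ModuleCat.of R M)) ≅
      (singleFunctor (ModuleCat.{u} S) 0).obj (ModuleCat.of S (S ⊗[R] M)) :=
  mapDSingleIso (extF R S) (ModuleCat.of R M) ≪≫
    (singleFunctor (ModuleCat.{u} S) 0).mapIso
      (extIso (S := S) (ModuleCat.of R M)).toModuleIso

/-- transfer of a representative of `M[0]` to a representative of `(S ⊗_R M)[0]`. -/
noncomputable def extRepIso [Module.Flat R S] (E : CochainComplex (ModuleCat.{u} R) ℤ)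
    (M : Type u) [AddCommGroup M] [Module R M]
    (e : Q.obj E ≅ (singleFunctor (ModuleCat.{u} R) 0).obj (ModuleCat.of R M)) :
    Q.obj (((extF R S).mapHomologicalComplex (ComplexShape.up ℤ)).obj E) ≅
      (singleFunctor (ModuleCat.{u} S) 0).obj (ModuleCat.of S (S ⊗[R] M)) :=
  (mapDQIso (extF R S) E).symm ≪≫ (mapD (extF R S)).mapIso e ≪≫ extSingleIso M

lemma isZero_extF_X (E : CochainComplex (ModuleCat.{u} R) ℤ) (i : ℤ) (h : IsZero (E.X i)) :
    IsZero ((((extF R S).mapHomologicalComplex (ComplexShape.up ℤ)).obj E).X i) :=
  Functor.map_isZero (extF R S) h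

end Groth.Agent.Helper6.PCm
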