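import Mathlib
import Groth.Agent.Lib.Helper6.PCm15

/-!
# Perfect complexes: retracts, truncation, descent along conservative families of exact functors.
-/

set_option autoImplicit false
set_option linter.style.haveILetI false

universe u

open CategoryTheory Category Limits Pretriangulated DerivedCategory ZeroObject TensorProduct

attribute [local instance] HasDerivedCategory.standard

namespace Groth.Agent.Helper6.Perf

open Groth.Agent.Helper6.PerfTri Groth.Agent.Helper6.PCm

section Abelian

variable {C : Type*} [Category C] [Abelian C]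

/-- if `P` is a homotopy retract of a complex vanishing in degree `a - 1`, then `P.opcycles a`
is a retract of `P.X a`. -/
lemma opcycles_retract (P E : CochainComplex C ℤ) (f : P ⟶ E) (g : E ⟶ P)
    (h : Homotopy (f ≫ g) (𝟙 P)) (a : ℤ) (hE : IsZero (E.X (a - 1))) :
    ∃ σ : P.opcycles a ⟶ P.X a, σ ≫ P.pOpcycles a = 𝟙 _ := by
  have h0 : (f ≫ g).f (a - 1) = 0 := by
    rw [HomologicalComplex.comp_f, hE.eq_of_tgt (f.f (a - 1)) 0, zero_comp]
  have hc := h.comm (a - 1)
  rw [h0, HomologicalComplex.id_f,
    dNext_eq h.hom (show (ComplexShape.up ℤ).Rel (a - 1) a by simp),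
    prevD_eq h.hom (show (ComplexShape.up ℤ).Rel (a - 1 - 1) (a - 1) by simp)] at hc
  have key : P.d (a - 1) a ≫ (𝟙 (P.X a) + h.hom a (a - 1) ≫ P.d (a - 1) a) = 0 := by
    have h2 : (P.d (a - 1) a ≫ h.hom a (a - 1) +
        h.hom (a - 1) (a - 1 - 1) ≫ P.d (a - 1 - 1) (a - 1) + 𝟙 (P.X (a - 1))) ≫
        P.d (a - 1) a = 0 := by rw [← hc, zero_comp]
    simp only [Preadditive.add_comp, assoc, HomologicalComplex.d_comp_d, comp_zero, add_zero,
      id_comp] at h2
    rw [Preadditive.comp_add, comp_id, add_comm]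
    exact h2
  refine ⟨P.descOpcycles _ (a - 1) (by simp) key, ?_⟩
  rw [← cancel_epi (P.pOpcycles a), HomologicalComplex.p_descOpcycles_assoc, comp_id,
    Preadditive.add_comp, id_comp, assoc, HomologicalComplex.d_pOpcycles, comp_zero, add_zero]

end Abelian

section Module

variable {R : Type u} [CommRing R]

lemma isZero_homology_Q_of_isZero_X (E : CochainComplex (ModuleCat.{u} R) ℤ) (j : ℤ)
    (h : IsZero (E.X j)) :
    IsZero ((homologyFunctor (ModuleCat.{u} R) j).obj (Q.obj E)) := by
  have h1 : E.ExactAt j := ShortComplex.exact_of_isZero_X₂ _ h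
  exact IsZero.of_iso ((HomologicalComplex.exactAt_iff_isZero_homology E j).1 h1)
    ((homologyFunctorFactors (ModuleCat.{u} R) j).app E)

lemma exactAt_of_isZero_homology_Q (P : CochainComplex (ModuleCat.{u} R) ℤ) (j : ℤ)
    (h : IsZero ((homologyFunctor (ModuleCat.{u} R) j).obj (Q.obj P))) : P.ExactAt j :=
  (HomologicalComplex.exactAt_iff_isZero_homology P j).2
    (IsZero.of_iso h ((homologyFunctorFactors (ModuleCat.{u} R) j).app P).symm)

/-- the core retract lemma: a bounded above complex of projectives which is a retract in the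
derived category of a bounded complex of projectives vanishing below `a` is exact below `a`
and its `a`-th opcycles are projective. -/
theorem retract_core (P E : CochainComplex (ModuleCat.{u} R) ℤ) (b a : ℤ)
    (hPb : ∀ i : ℤ, b < i → IsZero (P.X i)) (hPp : ∀ i : ℤ, Module.Projective R (P.X i))
    (hE : PF E) (hEa : ∀ i : ℤ, i < a → IsZero (E.X i))
    (i : Q.obj P ⟶ Q.obj E) (r : Q.obj E ⟶ Q.obj P) (hir : i ≫ r = 𝟙 _) :
    (∀ j : ℤ, j < a → P.ExactAt j) ∧ Module.Projective R (P.opcycles a) := by
  obtain ⟨a', b', hE0, hEf⟩ := hE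
  haveI := kproj_of_bdd P b hPb hPp
  haveI := kproj_of_bdd E b' (fun i hi => hE0 i (Or.inr hi)) (fun i => (hEf i).2)
  obtain ⟨f, hf⟩ := lift_of_kproj i
  obtain ⟨g, hg⟩ := lift_of_kproj r
  obtain ⟨H⟩ := homotopy_of_Q_map_eq P (f ≫ g) (𝟙 P)
    (by rw [Functor.map_comp, hf, hg, hir, CategoryTheory.Functor.map_id])
  refine ⟨fun j hj => ?_, ?_⟩
  · apply exactAt_of_isZero_homology_Q
    have hz := isZero_homology_Q_of_isZero_X E j (hEa j hj)
    rw [IsZero.iff_id_eq_zero, ← CategoryTheory.Functor.map_id, ← hir, Functor.map_comp,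
      hz.eq_of_tgt ((homologyFunctor (ModuleCat.{u} R) j).map i) 0, zero_comp]
  · obtain ⟨σ, hσ⟩ := opcycles_retract P E f g H a (hEa (a - 1) (by omega))
    haveI := hPp a
    refine Module.Projective.of_split σ.hom (P.pOpcycles a).hom ?_
    have := congrArg ModuleCat.Hom.hom hσ
    simpa using this

lemma truncGE_X_cases (P : CochainComplex (ModuleCat.{u} R) ℤ) (a i : ℤ) :
    (i < a ∧ IsZero ((P.truncGE a).X i)) ∨
      (i = a ∧ Nonempty ((P.truncGE a).X i ≅ P.opcycles i)) ∨
      (a < i ∧ Nonempty ((P.truncGE a).X i ≅ P.X i)) := by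
  by_cases hia : i < a
  · exact Or.inl ⟨hia, (P.truncGE a).isZero_of_isStrictlyGE a i hia⟩
  · obtain ⟨n, hn⟩ : ∃ n : ℕ, a + (n : ℤ) = i := ⟨(i - a).toNat, by omega⟩
    by_cases hn0 : n = 0
    · subst hn0
      refine Or.inr (Or.inl ⟨by omega, ⟨?_⟩⟩)
      exact HomologicalComplex.truncGEXIsoOpcycles P (ComplexShape.embeddingUpIntGE a) (i := 0)
        hn ((ComplexShape.boundaryGE_embeddingUpIntGE_iff a 0).2 rfl)
    · refine Or.inr (Or.inr ⟨by omega, ⟨?_⟩⟩)
      exact HomologicalComplex.truncGEXIso P (ComplexShape.embeddingUpIntGE a) (i := n)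
        hn (fun h => hn0 ((ComplexShape.boundaryGE_embeddingUpIntGE_iff a n).1 h))

/-- canonical truncation of a bounded above complex of finite projectives with projective
opcycles. -/
theorem rep_PF_of_trunc (P : CochainComplex (ModuleCat.{u} R) ℤ) (a b : ℤ)
    (hPb : ∀ i : ℤ, b < i → IsZero (P.X i))
    (hPf : ∀ i : ℤ, Module.Finite R (P.X i) ∧ Module.Projective R (P.X i))
    (hex : ∀ j : ℤ, j < a → P.ExactAt j) (hop : Module.Projective R (P.opcycles a)) :
    Rep PF (Q.obj P) := by
  haveI : P.IsGE a := (CochainComplex.isGE_iff P a).2 hex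
  haveI : IsIso (Q.map (P.πTruncGE a)) := by
    rw [isIso_Q_map_iff_quasiIso]
    infer_instance
  refine ⟨P.truncGE a, ⟨a, b, ?_, ?_⟩, ⟨(asIso (Q.map (P.πTruncGE a))).symm⟩⟩
  · intro i hi
    rcases truncGE_X_cases P a i with ⟨_, hz⟩ | ⟨hia, ⟨e⟩⟩ | ⟨hai, ⟨e⟩⟩
    · exact hz
    · have hb : b < i := by omega
      exact IsZero.of_iso (IsZero.of_epi (P.pOpcycles i) (hPb i hb)) e
    · exact IsZero.of_iso (hPb i (by omega)) e
  · intro i
    rcases truncGE_X_cases P a i with ⟨_, hz⟩ | ⟨hia, ⟨e⟩⟩ | ⟨hai, ⟨e⟩⟩
    · haveI := ModuleCat.subsingleton_of_isZero hz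
      exact ⟨inferInstance, inferInstance⟩
    · subst hia
      haveI := (hPf i).1
      haveI : Module.Finite R (P.opcycles i) := Module.Finite.of_surjective
        (P.pOpcycles i).hom ((ModuleCat.epi_iff_surjective _).1 inferInstance)
      exact ⟨Module.Finite.equiv e.toLinearEquiv.symm,
        Module.Projective.of_equiv' e.toLinearEquiv.symm⟩
    · haveI := (hPf i).1
      haveI := (hPf i).2
      exact ⟨Module.Finite.equiv e.toLinearEquiv.symm,
        Module.Projective.of_equiv' e.toLinearEquiv.symm⟩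

lemma isPC_of_rep_PF {K : DerivedCategory (ModuleCat.{u} R)} (h : Rep PF K) (m : ℤ) :
    IsPC m K := by
  obtain ⟨E, ⟨a, b, h0, hf⟩, ⟨e⟩⟩ := h
  exact isPC_of_bddAbove_projective_rep m E b (fun i hi => h0 i (Or.inr hi)) hf e

/-- a pseudo-coherent retract of a perfect object is perfect. -/
theorem rep_PF_of_retract {K L : DerivedCategory (ModuleCat.{u} R)} (hK : ∀ m : ℤ, IsPC m K)
    (hL : Rep PF L) (i : K ⟶ L) (r : L ⟶ K) (hir : i ≫ r = 𝟙 K) : Rep PF K := by
  obtain ⟨P, b, hPb, hPf, ⟨eP⟩⟩ := exists_rep_of_forall_isPC K hK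
  obtain ⟨E, hE, ⟨eE⟩⟩ := hL
  obtain ⟨a, b', hE0, hEf⟩ := id hE
  have hPp : ∀ i, Module.Projective R (P.X i) := fun i => by
    haveI := (hPf i).2
    infer_instance
  obtain ⟨hex, hop⟩ := retract_core P E b a hPb hPp hE (fun i hi => hE0 i (Or.inl hi))
    (eP.hom ≫ i ≫ eE.inv) (eE.hom ≫ r ≫ eP.inv)
    (by simp only [assoc, Iso.inv_hom_id_assoc, reassoc_of% hir, Iso.hom_inv_id])
  exact rep_of_iso eP (rep_PF_of_trunc P a b hPb (fun i => ⟨(hPf i).1, hPp i⟩) hex hop)

lemma opcycles_fp (E : CochainComplex (ModuleCat.{u} R) ℤ) (a : ℤ)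
    [Module.Finite R (E.X (a - 1))] [Module.FinitePresentation R (E.X a)] :
    Module.FinitePresentation R (E.opcycles a) := by
  refine Module.finitePresentation_of_surjective (E.pOpcycles a).hom
    ((ModuleCat.epi_iff_surjective _).1 inferInstance) ?_
  have hex' : (ShortComplex.mk (E.d (a - 1) a) (E.pOpcycles a)
      (E.d_pOpcycles (a - 1) a)).Exact :=
    ShortComplex.exact_of_g_is_cokernel _ (E.opcyclesIsCokernel (a - 1) a (by simp))
  rw [← hex'.moduleCat_range_eq_ker]
  exact Module.Finite.iff_fg.1 inferInstance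

section Family

variable {ι : Type*} (S : ι → Type u) [∀ i, CommRing (S i)]
  (F : ∀ i, ModuleCat.{u} R ⥤ ModuleCat.{u} (S i)) [∀ i, (F i).Additive]
  [∀ i, PreservesFiniteLimits (F i)] [∀ i, PreservesFiniteColimits (F i)]

/-- descent of perfectness along a finite jointly conservative family of exact functors. -/
theorem rep_PF_of_family [Finite ι]
    (hzero : ∀ M : ModuleCat.{u} R, (∀ i, IsZero ((F i).obj M)) → IsZero M)
    (hfin : ∀ M : ModuleCat.{u} R, (∀ i, Module.Finite (S i) ((F i).obj M)) → Module.Finite R M)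
    (hfree : ∀ i, MapPCMod (F i) R)
    (hFproj : ∀ i (M : ModuleCat.{u} R), Module.Finite R M → Module.Free R M →
      Module.Projective (S i) ((F i).obj M))
    (hproj : ∀ M : ModuleCat.{u} R, Module.FinitePresentation R M →
      (∀ i, Module.Projective (S i) ((F i).obj M)) → Module.Projective R M)
    (K : DerivedCategory (ModuleCat.{u} R))
    (h : ∀ i, Rep PF ((mapD (F i)).obj K)) : Rep PF K := by
  have hpc : ∀ m : ℤ, IsPC m K := fun m =>
    isPC_of_family S F hzero hfin hfree K m (fun i => isPC_of_rep_PF (h i) m)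
  obtain ⟨P, b, hPb, hPf, ⟨eP⟩⟩ := exists_rep_of_forall_isPC K hpc
  have hPp : ∀ i, Module.Projective R (P.X i) := fun i => by
    haveI := (hPf i).2
    infer_instance
  choose E hE eE using h
  have hE' : ∀ i, ∃ a b : ℤ, (∀ j : ℤ, j < a ∨ b < j → IsZero ((E i).X j)) ∧
      ∀ j : ℤ, Module.Finite (S i) ((E i).X j) ∧ Module.Projective (S i) ((E i).X j) := hE
  choose ai bi hE0 hEf using hE'
  obtain ⟨M, hM⟩ := Finite.exists_le (fun i => - ai i)
  have key : ∀ i, (∀ j : ℤ, j < -M →
      (((F i).mapHomologicalComplex (ComplexShape.up ℤ)).obj P).ExactAt j) ∧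
      Module.Projective (S i)
        ((((F i).mapHomologicalComplex (ComplexShape.up ℤ)).obj P).opcycles (-M)) := by
    intro i
    obtain ⟨e⟩ := eE i
    have e' : Q.obj (((F i).mapHomologicalComplex (ComplexShape.up ℤ)).obj P) ≅ Q.obj (E i) :=
      (mapDQIso (F i) P).symm ≪≫ (mapD (F i)).mapIso eP ≪≫ e.symm
    refine retract_core _ (E i) b (-M) (fun j hj => Functor.map_isZero (F i) (hPb j hj))
      (fun j => hFproj i (P.X j) (hPf j).1 (hPf j).2) ⟨ai i, bi i, hE0 i, hEf i⟩
      (fun j hj => hE0 i j (Or.inl (by have := hM i; omega))) e'.hom e'.inv e'.hom_inv_id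
  have hex : ∀ j : ℤ, j < -M → P.ExactAt j := by
    intro j hj
    rw [HomologicalComplex.exactAt_iff_isZero_homology]
    apply hzero
    intro i
    have h1 := (key i).1 j hj
    rw [HomologicalComplex.exactAt_iff_isZero_homology] at h1
    let e4 : (((F i).mapHomologicalComplex (ComplexShape.up ℤ)).obj P).homology j ≅
      (F i).obj (P.homology j) := (P.sc j).mapHomologyIso (F i)
    exact IsZero.of_iso h1 e4.symm
  have hop : Module.Projective R (P.opcycles (-M)) := by
    haveI := (hPf (-M - 1)).1
    haveI : Module.FinitePresentation R (P.X (-M)) := by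
      haveI := (hPf (-M)).1
      haveI := hPp (-M)
      exact Module.finitePresentation_of_projective R _
    apply hproj _ (opcycles_fp P (-M))
    intro i
    haveI := (key i).2
    let e5 : (((F i).mapHomologicalComplex (ComplexShape.up ℤ)).obj P).opcycles (-M) ≅
      (F i).obj (P.opcycles (-M)) := (P.sc (-M)).mapOpcyclesIso (F i)
    exact Module.Projective.of_equiv' e5.toLinearEquiv
  exact rep_of_iso eP (rep_PF_of_trunc P (-M) b hPb (fun i => ⟨(hPf i).1, hPp i⟩) hex hop)

end Family

section ExtF

variable {S : Type u} [CommRing S] [Algebra R S]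

lemma projective_of_extF [Module.FaithfullyFlat R S] (M : ModuleCat.{u} R)
    [Module.FinitePresentation R M] (h : Module.Projective S ((extF R S).obj M)) :
    Module.Projective R M := by
  haveI : Module.Projective S (S ⊗[R] M) := Module.Projective.of_equiv' (extIso M)
  haveI : Module.Flat S (S ⊗[R] M) := Module.Flat.of_projective
  haveI : Module.Flat R M := Module.Flat.of_flat_tensorProduct R M S
  exact Module.Flat.projective_of_finitePresentation

/-- faithfully flat descent of perfectness. -/
theorem rep_PF_of_extF [Module.FaithfullyFlat R S] (K : DerivedCategory (ModuleCat.{u} R))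
    (h : Rep PF ((mapD (extF R S)).obj K)) : Rep PF K :=
  rep_PF_of_family (ι := Unit) (fun _ => S) (fun _ => extF R S)
    (fun M hM => isZero_of_extF M (hM ())) (fun M hM => finite_of_extF M (hM ()))
    (fun _ => mapPCMod_extF)
    (fun _ M _ _ => projective_extF M)
    (fun M _ hM => projective_of_extF M (hM ())) K (fun _ => h)

variable {r : ℕ} (f : Fin r → R) (hf : Ideal.span (Set.range f) = ⊤)

include hf in
lemma projective_of_extF_away (M : ModuleCat.{u} R) [Module.FinitePresentation R M]
    (h : ∀ i, Module.Projective (Localization.Away (f i))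
      ((extF R (Localization.Away (f i))).obj M)) : Module.Projective R M := by
  haveI : ∀ g : Set.range f, IsLocalizedModule (Submonoid.powers g.val)
      (TensorProduct.mk R (Localization.Away g.val) M 1) := fun g =>
    (isLocalizedModule_iff_isBaseChange (Submonoid.powers g.val)
      (Localization.Away g.val) _).2 (TensorProduct.isBaseChange R M _)
  haveI : Module.Flat R M := by
    refine Module.flat_of_isLocalized_span R M (Set.range f) hf
      (fun g => Localization.Away g.val ⊗[R] M)
      (fun g => TensorProduct.mk R (Localization.Away g.val) M 1) ?_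
    rintro ⟨_, i, rfl⟩
    haveI := h i
    haveI : Module.Projective (Localization.Away (f i)) (Localization.Away (f i) ⊗[R] M) :=
      Module.Projective.of_equiv' (extIso M)
    haveI : Module.Flat (Localization.Away (f i)) (Localization.Away (f i) ⊗[R] M) :=
      Module.Flat.of_projective
    haveI : Module.Flat R (Localization.Away (f i)) :=
      IsLocalization.flat _ (Submonoid.powers (f i))
    exact Module.Flat.trans R (Localization.Away (f i)) _
  exact Module.Flat.projective_of_finitePresentation

include hf in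
/-- perfectness is local for the Zariski topology. -/
theorem rep_PF_of_extF_away (K : DerivedCategory (ModuleCat.{u} R))
    (h : ∀ i, Rep PF ((mapD (extF R (Localization.Away (f i)))).obj K)) : Rep PF K :=
  rep_PF_of_family (fun i => Localization.Away (f i))
    (fun i => extF R (Localization.Away (f i)))
    (isZero_of_extF_away f hf) (finite_of_extF_away f hf)
    (fun i => by
      haveI : Module.Flat R (Localization.Away (f i)) :=
        IsLocalization.flat _ (Submonoid.powers (f i))
      exact mapPCMod_extF)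
    (fun i M _ _ => projective_extF M)
    (projective_of_extF_away f hf) K h

end ExtF

end Module

end Groth.Agent.Helper6.Perf
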