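import Mathlib
import Groth.Agent.Lib.Helper6.Perf1

/-!
# Perfect complexes: restriction of scalars along a perfect algebra.
-/

set_option autoImplicit false
set_option linter.style.haveILetI false

universe u

open CategoryTheory Category Limits Pretriangulated DerivedCategory ZeroObject TensorProduct

attribute [local instance] HasDerivedCategory.standard

namespace Groth.Agent.Helper6.Perf

open Groth.Agent.Helper6.PerfTri Groth.Agent.Helper6.PCm

section Single

variable {R : Type u} [CommRing R]

lemma rep_PF_single (F : ModuleCat.{u} R) [Module.Finite R F] [Module.Projective R F] :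
    Rep PF ((singleFunctor (ModuleCat.{u} R) 0).obj F) := by
  refine ⟨(CochainComplex.singleFunctor (ModuleCat.{u} R) 0).obj F,
    ⟨0, 0, fun i hi => ?_, fun i => ?_⟩,
    ⟨((singleFunctorIsoCompQ (ModuleCat.{u} R) 0).app F).symm⟩⟩
  · exact HomologicalComplex.isZero_single_obj_X (ComplexShape.up ℤ) 0 F i (by omega)
  · by_cases hi : i = 0
    · subst hi
      let e := (HomologicalComplex.singleObjXSelf (ComplexShape.up ℤ) 0 F).toLinearEquiv
      exact ⟨Module.Finite.equiv e.symm, Module.Projective.of_equiv' e.symm⟩
    · haveI : Subsingleton (((CochainComplex.singleFunctor (ModuleCat.{u} R) 0).obj F).X i) :=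
        ModuleCat.subsingleton_of_isZero
          (HomologicalComplex.isZero_single_obj_X (ComplexShape.up ℤ) 0 F i hi)
      exact ⟨inferInstance, inferInstance⟩

end Single

section Restrict

variable {A B : Type u} [CommRing A] [CommRing B] (φ : A →+* B)

/-- the restriction of `M` is perfect. -/
def ResPerfMod (M : Type u) [AddCommGroup M] [Module B M] : Prop :=
  Rep PF ((singleFunctor (ModuleCat.{u} A) 0).obj
    ((ModuleCat.restrictScalars.{u} φ).obj (ModuleCat.of B M)))

lemma resPerfMod_prod (M N : Type u) [AddCommGroup M] [Module B M] [AddCommGroup N] [Module B N]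
    (hM : ResPerfMod φ M) (hN : ResPerfMod φ N) : ResPerfMod φ (M × N) := by
  let S : ShortComplex (ModuleCat.{u} B) :=
    ShortComplex.mk (ModuleCat.ofHom (LinearMap.inl B M N))
      (ModuleCat.ofHom (LinearMap.snd B M N)) (by
        ext x
        rfl)
  have hS : S.ShortExact :=
    { exact := (ShortComplex.ShortExact.moduleCat_exact_iff_function_exact S).2
        Function.Exact.inl_snd
      mono_f := (ModuleCat.mono_iff_injective _).2 LinearMap.inl_injective
      epi_g := (ModuleCat.epi_iff_surjective _).2 LinearMap.snd_surjective }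
  have hS' : (S.map (ModuleCat.restrictScalars.{u} φ)).ShortExact := hS.map_of_exact _
  have hT := hS'.singleTriangle_distinguished
  exact (PerfTri.two_of_three good_PF _ hT).2.1 hM hN

lemma resPerfMod_of_subsingleton (M : Type u) [AddCommGroup M] [Module B M] [Subsingleton M] :
    ResPerfMod φ M := by
  haveI : Subsingleton ((ModuleCat.restrictScalars.{u} φ).obj (ModuleCat.of B M)) :=
    ‹Subsingleton M›
  exact rep_PF_single _

lemma resPerfMod_of_equiv {M N : Type u} [AddCommGroup M] [Module B M] [AddCommGroup N]
    [Module B N] (e : M ≃ₗ[B] N) (hM : ResPerfMod φ M) : ResPerfMod φ N :=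
  rep_of_iso ((singleFunctor (ModuleCat.{u} A) 0).mapIso
    ((ModuleCat.restrictScalars.{u} φ).mapIso e.toModuleIso)) hM

lemma resPerfMod_pi (HB : ResPerfMod φ B) (n : ℕ) : ResPerfMod φ (Fin n → B) := by
  induction n with
  | zero => exact resPerfMod_of_subsingleton φ _
  | succ n ih =>
    exact resPerfMod_of_equiv φ (Fin.consLinearEquiv B (fun _ : Fin (n + 1) => B))
      (resPerfMod_prod φ B (Fin n → B) HB ih)

lemma resPerfMod_projective (HB : ResPerfMod φ B) (M : Type u) [AddCommGroup M] [Module B M]
    [Module.Finite B M] [Module.Projective B M] : ResPerfMod φ M := by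
  obtain ⟨n, f, hf⟩ := Module.Finite.exists_fin' (R := B) (M := M)
  obtain ⟨s, hs⟩ := Module.projective_lifting_property f LinearMap.id hf
  have hfree := resPerfMod_pi φ HB n
  have hResPC : ResPC φ := fun k => isPC_of_rep_PF HB k
  have hpc : ∀ m : ℤ, IsPC m ((singleFunctor (ModuleCat.{u} A) 0).obj
      ((ModuleCat.restrictScalars.{u} φ).obj (ModuleCat.of B M))) := fun m =>
    isPC_of_iso (resDSingleIso φ (ModuleCat.of B M))
      (isPC_resD φ hResPC (isPC_single_of_finite_projective (ModuleCat.of B M) m))
  let G := ModuleCat.restrictScalars.{u} φ ⋙ singleFunctor (ModuleCat.{u} A) 0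
  refine rep_PF_of_retract hpc hfree
    (G.map (ModuleCat.ofHom s : ModuleCat.of B M ⟶ ModuleCat.of B (Fin n → B)))
    (G.map (ModuleCat.ofHom f : ModuleCat.of B (Fin n → B) ⟶ ModuleCat.of B M)) ?_
  rw [← G.map_comp, ← ModuleCat.ofHom_comp, hs]
  exact G.map_id _

/-- restriction of scalars along a perfect algebra preserves perfect objects. -/
theorem rep_PF_resD (HB : ResPerfMod φ B) {K : DerivedCategory (ModuleCat.{u} B)}
    (h : Rep PF K) : Rep PF ((resD φ).obj K) := by
  obtain ⟨E, ⟨a, b, h0, hE⟩, ⟨e⟩⟩ := h
  refine rep_of_iso ((resD φ).mapIso e) ?_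
  refine rep_of_iso ((ModuleCat.restrictScalars.{u} φ).mapDerivedCategoryFactors.app E).symm ?_
  refine BddCx.prop_of_bounded_complex' (fun X => Rep PF X)
    (fun e h => rep_of_iso e h)
    (fun X n h => rep_shift good_PF n h)
    (fun T hT h₁ h₃ => (PerfTri.two_of_three good_PF T hT).2.1 h₁ h₃)
    (((ModuleCat.restrictScalars.{u} φ).mapHomologicalComplex (ComplexShape.up ℤ)).obj E) a b
    (fun i hi => Functor.map_isZero (ModuleCat.restrictScalars.{u} φ) (h0 i hi))
    (fun i => ?_)
  haveI := (hE i).1
  haveI := (hE i).2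
  exact resPerfMod_projective φ HB (E.X i)

end Restrict

end Groth.Agent.Helper6.Perf
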