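import Mathlib
import Groth.Agent.Lib.Helper6.Perf2

/-!
# Flat modules in short exact sequences, cycles of acyclic complexes of flat modules,
flatness of opcycles, canonical truncations.
-/

set_option autoImplicit false
set_option linter.style.haveILetI false

universe u

open CategoryTheory Category Limits Pretriangulated DerivedCategory ZeroObject TensorProduct
open CochainComplex

attribute [local instance] HasDerivedCategory.standard

namespace Groth.Agent.Helper6.FlatAmp

open Groth.Agent.Helper6.PerfTri Groth.Agent.Helper6.PCm Groth.Agent.Helper6.Perf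

section ModuleLevel

variable {R : Type u} [CommRing R] {A B C : Type u} [AddCommGroup A] [Module R A]
  [AddCommGroup B] [Module R B] [AddCommGroup C] [Module R C]

/-- the kernel of a surjection of flat modules is flat. -/
lemma flat_of_ses_left (i : A →ₗ[R] B) (p : B →ₗ[R] C) (hi : Function.Injective i)
    (hp : Function.Surjective p) (hex : Function.Exact i p) [Module.Flat R B] [Module.Flat R C] :
    Module.Flat R A := by
  rw [Module.Flat.iff_rTensor_preserves_injective_linearMap]
  intro N N' _ _ _ _ f hf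
  have h1 : Function.Injective (i.lTensor N) :=
    LinearMap.lTensor_injective_of_exact_of_flat p hp i hi hex N
  have h2 : Function.Injective (f.rTensor B) :=
    Module.Flat.rTensor_preserves_injective_linearMap f hf
  have hcomm : (i.lTensor N').comp (f.rTensor A) = (f.rTensor B).comp (i.lTensor N) := by
    rw [LinearMap.lTensor_comp_rTensor, LinearMap.rTensor_comp_lTensor]
  have h3 : Function.Injective ((i.lTensor N').comp (f.rTensor A)) := by
    rw [hcomm, LinearMap.coe_comp]
    exact h2.comp h1
  rw [LinearMap.coe_comp] at h3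
  exact Function.Injective.of_comp h3

/-- an extension of flat modules is flat. -/
lemma flat_of_ses_mid (i : A →ₗ[R] B) (p : B →ₗ[R] C) (hi : Function.Injective i)
    (hp : Function.Surjective p) (hex : Function.Exact i p) [Module.Flat R A] [Module.Flat R C] :
    Module.Flat R B := by
  rw [Module.Flat.iff_rTensor_preserves_injective_linearMap]
  intro N N' _ _ _ _ f hf
  rw [injective_iff_map_eq_zero]
  intro x hx
  have hC : Function.Injective (f.rTensor C) :=
    Module.Flat.rTensor_preserves_injective_linearMap f hf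
  have hA : Function.Injective (f.rTensor A) :=
    Module.Flat.rTensor_preserves_injective_linearMap f hf
  have hiN' : Function.Injective (i.lTensor N') :=
    LinearMap.lTensor_injective_of_exact_of_flat p hp i hi hex N'
  have hexN : Function.Exact (i.lTensor N) (p.lTensor N) := lTensor_exact N hex hp
  have c1 : (p.lTensor N') (f.rTensor B x) = (f.rTensor C) (p.lTensor N x) := by
    rw [← LinearMap.comp_apply, ← LinearMap.comp_apply, LinearMap.lTensor_comp_rTensor,
      LinearMap.rTensor_comp_lTensor]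
  have h1 : p.lTensor N x = 0 := hC (by rw [← c1, hx, map_zero, map_zero])
  obtain ⟨y, rfl⟩ := (hexN x).1 h1
  have c2 : (i.lTensor N') (f.rTensor A y) = (f.rTensor B) (i.lTensor N y) := by
    rw [← LinearMap.comp_apply, ← LinearMap.comp_apply, LinearMap.lTensor_comp_rTensor,
      LinearMap.rTensor_comp_lTensor]
  have h2 : f.rTensor A y = 0 := hiN' (by rw [c2, hx, map_zero])
  have h3 : y = 0 := hA (by rw [h2, map_zero])
  rw [h3, map_zero]

lemma flat_prod (M N : Type u) [AddCommGroup M] [Module R M] [AddCommGroup N] [Module R N]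
    [Module.Flat R M] [Module.Flat R N] : Module.Flat R (M × N) :=
  flat_of_ses_mid (LinearMap.inl R M N) (LinearMap.snd R M N) LinearMap.inl_injective
    LinearMap.snd_surjective Function.Exact.inl_snd

end ModuleLevel

section Cycles

variable {R : Type u} [CommRing R]

/-- In a bounded above complex which is exact in degrees `> m` and has flat terms in degrees
`≥ m`, the cycles in degrees `≥ m` are flat. -/
theorem cycles_flat (E : CochainComplex (ModuleCat.{u} R) ℤ) (b : ℤ)
    (hb : ∀ i : ℤ, b < i → IsZero (E.X i)) (m : ℤ)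
    (hfl : ∀ i : ℤ, m ≤ i → Module.Flat R (E.X i))
    (hex : ∀ i : ℤ, m < i → IsZero (E.homology i)) :
    ∀ (k : ℕ) (j : ℤ), m ≤ j → b < j + k → Module.Flat R (E.cycles j) := by
  intro k
  induction k with
  | zero =>
    intro j _ hj
    have hz : IsZero (E.cycles j) := IsZero.of_mono (E.iCycles j) (hb j (by simpa using hj))
    haveI := ModuleCat.subsingleton_of_isZero hz
    infer_instance
  | succ k ih =>
    intro j hmj hj
    haveI : Module.Flat R (E.cycles (j + 1)) :=
      ih (j + 1) (by omega) (by push_cast at hj ⊢; omega)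
    haveI : Module.Flat R (E.X j) := hfl j hmj
    have hepi : Epi (E.toCycles j (j + 1)) :=
      Preadditive.epi_of_isZero_cokernel' _ (E.homologyIsCokernel j (j + 1) (by simp))
        (hex (j + 1) (by omega))
    have h2 : E.iCycles j ≫ E.toCycles j (j + 1) = 0 := by
      rw [← cancel_mono (E.iCycles (j + 1)), assoc, E.toCycles_i, E.iCycles_d, zero_comp]
    have hker : IsLimit (KernelFork.ofι (E.iCycles j) h2) :=
      isKernelOfComp (E.iCycles (j + 1)) (E.d j (j + 1))
        (E.cyclesIsKernel j (j + 1) (by simp)) h2 (E.toCycles_i j (j + 1))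
    have hS : (ShortComplex.mk _ _ h2).Exact := ShortComplex.exact_of_f_is_kernel _ hker
    exact flat_of_ses_left (E.iCycles j).hom (E.toCycles j (j + 1)).hom
      ((ModuleCat.mono_iff_injective _).1 inferInstance)
      ((ModuleCat.epi_iff_surjective _).1 hepi)
      ((ShortComplex.ShortExact.moduleCat_exact_iff_function_exact _).1 hS)

lemma isIso_opcyclesToCycles (Z : CochainComplex (ModuleCat.{u} R) ℤ) (i j : ℤ) (hij : i + 1 = j)
    (h1 : IsZero (Z.homology i)) (h2 : IsZero (Z.homology j)) :
    IsIso (Z.opcyclesToCycles i j) := by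
  subst hij
  haveI : Mono (Z.fromOpcycles i (i + 1)) :=
    Preadditive.mono_of_isZero_kernel' _ (Z.homologyIsKernel i (i + 1) (by simp)) h1
  haveI : Mono (Z.opcyclesToCycles i (i + 1)) := by
    have : Mono (Z.opcyclesToCycles i (i + 1) ≫ Z.iCycles (i + 1)) := by
      rw [Z.opcyclesToCycles_iCycles]
      infer_instance
    exact mono_of_mono _ (Z.iCycles (i + 1))
  haveI : Epi (Z.toCycles i (i + 1)) :=
    Preadditive.epi_of_isZero_cokernel' _ (Z.homologyIsCokernel i (i + 1) (by simp)) h2
  haveI : Epi (Z.opcyclesToCycles i (i + 1)) := by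
    have : Epi (Z.pOpcycles i ≫ Z.opcyclesToCycles i (i + 1)) := by
      rw [Z.pOpcycles_opcyclesToCycles]
      infer_instance
    exact epi_of_epi (Z.pOpcycles i) _
  exact isIso_of_mono_of_epi _

/-- flatness of the opcycles of a bounded above complex of flat modules which is
quasi-isomorphic to a bounded above complex of flat modules vanishing in degree `a - 1`. -/
theorem opcycles_flat_of_quasiIso (P E : CochainComplex (ModuleCat.{u} R) ℤ) (g : P ⟶ E)
    (hg : IsIso (Q.map g)) (bP bE a : ℤ)
    (hPb : ∀ i : ℤ, bP < i → IsZero (P.X i)) (hPf : ∀ i : ℤ, Module.Flat R (P.X i))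
    (hEa : IsZero (E.X (a - 1))) (hEb : ∀ i : ℤ, bE < i → IsZero (E.X i))
    (hEf : ∀ i : ℤ, Module.Flat R (E.X i)) :
    Module.Flat R (P.opcycles a) := by
  have hZ0 : IsZero (Q.obj (mappingCone g)) :=
    (Triangle.isZero₃_iff_isIso₁ _ (mappingCone_triangle_distinguished g)).2 hg
  have hZac : ∀ i : ℤ, IsZero ((mappingCone g).homology i) := fun i =>
    IsZero.of_iso (Functor.map_isZero (homologyFunctor (ModuleCat.{u} R) i) hZ0)
      ((homologyFunctorFactors (ModuleCat.{u} R) i).app _).symm
  have hZb : ∀ i : ℤ, max bP bE < i → IsZero ((mappingCone g).X i) :=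
    fun i hi => cone_isZero g i (hPb _ (by omega)) (hEb _ (by omega))
  have hZf : ∀ i : ℤ, Module.Flat R ((mappingCone g).X i) := fun i => by
    haveI := hPf (i + 1)
    haveI := hEf i
    haveI : Module.Flat R (P.X (i + 1) × E.X i) := flat_prod _ _
    exact Module.Flat.of_linearEquiv (coneEquiv g i)
  haveI hcyc : Module.Flat R ((mappingCone g).cycles a) := by
    have h0 := Int.self_le_toNat (max bP bE - a + 1)
    exact cycles_flat _ (max bP bE) hZb a (fun i _ => hZf i) (fun i _ => hZac i)
      (max bP bE - a + 1).toNat a le_rfl (by omega)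
  obtain ⟨ψ, hψ⟩ : ∃ ψ : P.X a ⟶ (mappingCone g).X (a - 1),
      ψ = (mappingCone.inl g).v a (a - 1) (by omega) := ⟨_, rfl⟩
  obtain ⟨φ₁, hφ₁⟩ : ∃ φ₁ : (mappingCone g).X (a - 1) ⟶ P.X a,
      φ₁ = (mappingCone.fst g).1.v (a - 1) a (by omega) := ⟨_, rfl⟩
  have h1 : ψ ≫ φ₁ = 𝟙 _ := by
    rw [hψ, hφ₁]
    exact mappingCone.inl_v_fst_v g a (a - 1) (by omega)
  have h2 : φ₁ ≫ ψ = 𝟙 _ := by
    have := mappingCone.id_X g (a - 1) a (by omega)
    rw [hEa.eq_of_tgt ((mappingCone.snd g).v (a - 1) (a - 1) (add_zero _)) 0, zero_comp,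
      add_zero] at this
    rw [hψ, hφ₁]
    exact this
  have h3 : P.d (a - 1) a ≫ ψ ≫ (mappingCone g).pOpcycles (a - 1) = 0 := by
    have e := mappingCone.inl_v_d g (a - 1) (a - 1 - 1) a (by omega) (by omega)
    rw [hEa.eq_of_tgt (g.f (a - 1)) 0, zero_comp, zero_sub] at e
    have e' : P.d (a - 1) a ≫ ψ = -((mappingCone.inl g).v (a - 1) (a - 1 - 1) (by omega) ≫
        (mappingCone g).d (a - 1 - 1) (a - 1)) := by
      rw [e, neg_neg, hψ]
    rw [← assoc, e', Preadditive.neg_comp, assoc, HomologicalComplex.d_pOpcycles, comp_zero,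
      neg_zero]
  have h4 : (mappingCone g).d (a - 1 - 1) (a - 1) ≫ φ₁ ≫ P.pOpcycles a = 0 := by
    have e := mappingCone.d_fst_v g (a - 1 - 1) (a - 1) a (by omega) (by omega)
    rw [← assoc, hφ₁, e, Preadditive.neg_comp, assoc, HomologicalComplex.d_pOpcycles, comp_zero,
      neg_zero]
  obtain ⟨α, hα⟩ : ∃ α : P.opcycles a ⟶ (mappingCone g).opcycles (a - 1),
      P.pOpcycles a ≫ α = ψ ≫ (mappingCone g).pOpcycles (a - 1) :=
    ⟨P.descOpcycles _ (a - 1) (by simp) h3, HomologicalComplex.p_descOpcycles _ _ _ _ _⟩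
  obtain ⟨β, hβ⟩ : ∃ β : (mappingCone g).opcycles (a - 1) ⟶ P.opcycles a,
      (mappingCone g).pOpcycles (a - 1) ≫ β = φ₁ ≫ P.pOpcycles a :=
    ⟨(mappingCone g).descOpcycles _ (a - 1 - 1) (by simp) h4,
      HomologicalComplex.p_descOpcycles _ _ _ _ _⟩
  have hαβ : α ≫ β = 𝟙 _ := by
    rw [← cancel_epi (P.pOpcycles a), reassoc_of% hα, hβ, reassoc_of% h1, comp_id]
  have hβα : β ≫ α = 𝟙 _ := by
    rw [← cancel_epi ((mappingCone g).pOpcycles (a - 1)), reassoc_of% hβ, hα, reassoc_of% h2,
      comp_id]
  let e1 : P.opcycles a ≅ (mappingCone g).opcycles (a - 1) := ⟨α, β, hαβ, hβα⟩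
  haveI := isIso_opcyclesToCycles (mappingCone g) (a - 1) a (by omega) (hZac _) (hZac _)
  let e2 : (mappingCone g).opcycles (a - 1) ≅ (mappingCone g).cycles a :=
    asIso ((mappingCone g).opcyclesToCycles (a - 1) a)
  exact Module.Flat.of_linearEquiv (e1 ≪≫ e2).toLinearEquiv

end Cycles

end Groth.Agent.Helper6.FlatAmp
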