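import Mathlib
import Groth.Agent.Lib.Helper6.Flat1

/-!
# Canonical truncations of complexes with controlled terms; perfect = pseudo-coherent + finite
tor dimension.
-/

set_option autoImplicit false
set_option linter.style.haveILetI false

universe u

open CategoryTheory Category Limits Pretriangulated DerivedCategory ZeroObject TensorProduct
open CochainComplex

attribute [local instance] HasDerivedCategory.standard

namespace Groth.Agent.Helper6.FlatAmp

open Groth.Agent.Helper6.PerfTri Groth.Agent.Helper6.PCm Groth.Agent.Helper6.Perf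

variable {R : Type u} [CommRing R]

lemma isZero_homology_Q_of_exactAt (E : CochainComplex (ModuleCat.{u} R) ℤ) (j : ℤ)
    (h : E.ExactAt j) : IsZero ((homologyFunctor (ModuleCat.{u} R) j).obj (Q.obj E)) :=
  IsZero.of_iso ((HomologicalComplex.exactAt_iff_isZero_homology E j).1 h)
    ((homologyFunctorFactors (ModuleCat.{u} R) j).app E)

/-- exactness transfers along isomorphisms in the derived category. -/
lemma exactAt_of_iso {E E' : CochainComplex (ModuleCat.{u} R) ℤ} (e : Q.obj E ≅ Q.obj E') (j : ℤ)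
    (h : E'.ExactAt j) : E.ExactAt j :=
  exactAt_of_isZero_homology_Q E j (IsZero.of_iso (isZero_homology_Q_of_exactAt E' j h)
    ((homologyFunctor (ModuleCat.{u} R) j).mapIso e))

/-- variant of `retract_core` with a bounded above complex of projectives. -/
theorem retract_core' (P E : CochainComplex (ModuleCat.{u} R) ℤ) (b bE a : ℤ)
    (hPb : ∀ i : ℤ, b < i → IsZero (P.X i)) (hPp : ∀ i : ℤ, Module.Projective R (P.X i))
    (hEb : ∀ i : ℤ, bE < i → IsZero (E.X i)) (hEp : ∀ i : ℤ, Module.Projective R (E.X i))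
    (hEa : ∀ i : ℤ, i < a → IsZero (E.X i))
    (i : Q.obj P ⟶ Q.obj E) (r : Q.obj E ⟶ Q.obj P) (hir : i ≫ r = 𝟙 _) :
    (∀ j : ℤ, j < a → P.ExactAt j) ∧ Module.Projective R (P.opcycles a) := by
  haveI := kproj_of_bdd P b hPb hPp
  haveI := kproj_of_bdd E bE hEb hEp
  obtain ⟨f, hf⟩ := lift_of_kproj i
  obtain ⟨g, hg⟩ := lift_of_kproj r
  obtain ⟨H⟩ := homotopy_of_Q_map_eq P (f ≫ g) (𝟙 P)
    (by rw [Functor.map_comp, hf, hg, hir, CategoryTheory.Functor.map_id])
  refine ⟨fun j hj => ?_, ?_⟩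
  · apply exactAt_of_isZero_homology_Q
    have hz := isZero_homology_Q_of_isZero_X E j (hEa j hj)
    rw [IsZero.iff_id_eq_zero, ← CategoryTheory.Functor.map_id, ← hir, Functor.map_comp,
      hz.eq_of_tgt ((homologyFunctor (ModuleCat.{u} R) j).map i) 0, zero_comp]
  · obtain ⟨σ, hσ⟩ := opcycles_retract P E f g H a (hEa (a - 1) (by omega))
    haveI := hPp a
    refine Module.Projective.of_split σ.hom (P.pOpcycles a).hom ?_
    have := congrArg ModuleCat.Hom.hom hσ
    simpa using this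

lemma truncLE_X_cases (T : CochainComplex (ModuleCat.{u} R) ℤ) (b i : ℤ) :
    (b < i ∧ IsZero ((T.truncLE b).X i)) ∨
      (i = b ∧ Nonempty ((T.truncLE b).X i ≅ T.cycles i)) ∨
      (i < b ∧ Nonempty ((T.truncLE b).X i ≅ T.X i)) := by
  by_cases hib : b < i
  · exact Or.inl ⟨hib, (T.truncLE b).isZero_of_isStrictlyLE b i hib⟩
  · obtain ⟨n, hn⟩ : ∃ n : ℕ, b - (n : ℤ) = i := ⟨(b - i).toNat, by omega⟩
    by_cases hn0 : n = 0
    · subst hn0
      refine Or.inr (Or.inl ⟨by omega, ⟨?_⟩⟩)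
      exact HomologicalComplex.truncLEXIsoCycles T (ComplexShape.embeddingUpIntLE b) (i := 0)
        hn ((ComplexShape.boundaryLE_embeddingUpIntLE_iff b 0).2 rfl)
    · refine Or.inr (Or.inr ⟨by omega, ⟨?_⟩⟩)
      exact HomologicalComplex.truncLEXIso T (ComplexShape.embeddingUpIntLE b) (i := n)
        hn (fun h => hn0 ((ComplexShape.boundaryLE_embeddingUpIntLE_iff b n).1 h))

section Terms

variable (Pr : ModuleCat.{u} R → Prop)
  (hiso : ∀ {M N : ModuleCat.{u} R}, (M ≅ N) → Pr M → Pr N)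
  (hzero : ∀ M : ModuleCat.{u} R, IsZero M → Pr M)

include hiso hzero

theorem truncGE_terms (P : CochainComplex (ModuleCat.{u} R) ℤ) (a b : ℤ)
    (hPb : ∀ i : ℤ, b < i → IsZero (P.X i)) (hP : ∀ i : ℤ, Pr (P.X i))
    (hop : Pr (P.opcycles a)) :
    (∀ i : ℤ, i < a ∨ b < i → IsZero ((P.truncGE a).X i)) ∧
      ∀ i : ℤ, Pr ((P.truncGE a).X i) := by
  refine ⟨fun i hi => ?_, fun i => ?_⟩
  · rcases truncGE_X_cases P a i with ⟨_, hz⟩ | ⟨hia, ⟨e⟩⟩ | ⟨hai, ⟨e⟩⟩
    · exact hz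
    · have hb : b < i := by omega
      exact IsZero.of_iso (IsZero.of_epi (P.pOpcycles i) (hPb i hb)) e
    · exact IsZero.of_iso (hPb i (by omega)) e
  · rcases truncGE_X_cases P a i with ⟨_, hz⟩ | ⟨hia, ⟨e⟩⟩ | ⟨hai, ⟨e⟩⟩
    · exact hzero _ hz
    · subst hia
      exact hiso e.symm hop
    · exact hiso e.symm (hP i)

theorem truncLE_terms (T : CochainComplex (ModuleCat.{u} R) ℤ) (a b : ℤ)
    (hTa : ∀ i : ℤ, i < a → IsZero (T.X i)) (hT : ∀ i : ℤ, Pr (T.X i))
    (hcyc : Pr (T.cycles b)) :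
    (∀ i : ℤ, i < a ∨ b < i → IsZero ((T.truncLE b).X i)) ∧
      ∀ i : ℤ, Pr ((T.truncLE b).X i) := by
  refine ⟨fun i hi => ?_, fun i => ?_⟩
  · rcases truncLE_X_cases T b i with ⟨_, hz⟩ | ⟨hib, ⟨e⟩⟩ | ⟨hib, ⟨e⟩⟩
    · exact hz
    · have ha : i < a := by omega
      exact IsZero.of_iso (IsZero.of_mono (T.iCycles i) (hTa i ha)) e
    · exact IsZero.of_iso (hTa i (by omega)) e
  · rcases truncLE_X_cases T b i with ⟨_, hz⟩ | ⟨hib, ⟨e⟩⟩ | ⟨hib, ⟨e⟩⟩
    · exact hzero _ hz
    · subst hib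
      exact hiso e.symm hcyc
    · exact hiso e.symm (hT i)

/-- two-sided canonical truncation. -/
theorem exists_trunc_rep (P : CochainComplex (ModuleCat.{u} R) ℤ) (a b bP : ℤ)
    (hPb : ∀ i : ℤ, bP < i → IsZero (P.X i)) (hP : ∀ i : ℤ, Pr (P.X i))
    (hexlo : ∀ j : ℤ, j < a → P.ExactAt j) (hexhi : ∀ j : ℤ, b < j → P.ExactAt j)
    (hop : Pr (P.opcycles a))
    (hcyc : ∀ T : CochainComplex (ModuleCat.{u} R) ℤ, (∀ i : ℤ, bP < i → IsZero (T.X i)) →
      (∀ i : ℤ, Pr (T.X i)) → (∀ j : ℤ, b < j → T.ExactAt j) → Pr (T.cycles b)) :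
    ∃ T : CochainComplex (ModuleCat.{u} R) ℤ, (∀ i : ℤ, i < a ∨ b < i → IsZero (T.X i)) ∧
      (∀ i : ℤ, Pr (T.X i)) ∧ Nonempty (Q.obj T ≅ Q.obj P) := by
  haveI : P.IsGE a := (CochainComplex.isGE_iff P a).2 hexlo
  haveI : IsIso (Q.map (P.πTruncGE a)) := by
    rw [isIso_Q_map_iff_quasiIso]
    infer_instance
  obtain ⟨h0, h1⟩ := truncGE_terms Pr hiso hzero P a bP hPb hP hop
  have hex1 : ∀ j : ℤ, b < j → (P.truncGE a).ExactAt j := fun j hj =>
    exactAt_of_iso (asIso (Q.map (P.πTruncGE a))).symm j (hexhi j hj)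
  haveI : (P.truncGE a).IsLE b := (CochainComplex.isLE_iff _ b).2 hex1
  haveI : IsIso (Q.map ((P.truncGE a).ιTruncLE b)) := by
    rw [isIso_Q_map_iff_quasiIso]
    infer_instance
  obtain ⟨h2, h3⟩ := truncLE_terms Pr hiso hzero (P.truncGE a) a b
    (fun i hi => h0 i (Or.inl hi)) h1
    (hcyc _ (fun i hi => h0 i (Or.inr hi)) h1 hex1)
  exact ⟨(P.truncGE a).truncLE b, h2, h3,
    ⟨asIso (Q.map ((P.truncGE a).ιTruncLE b)) ≪≫ (asIso (Q.map (P.πTruncGE a))).symm⟩⟩

end Terms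

/-- the property of being finite projective. -/
def FinProj (M : ModuleCat.{u} R) : Prop := Module.Finite R M ∧ Module.Projective R M

lemma finProj_iso {M N : ModuleCat.{u} R} (e : M ≅ N) (h : FinProj M) : FinProj N := by
  haveI := h.1
  haveI := h.2
  exact ⟨Module.Finite.equiv e.toLinearEquiv, Module.Projective.of_equiv' e.toLinearEquiv⟩

lemma finProj_zero (M : ModuleCat.{u} R) (h : IsZero M) : FinProj M := by
  haveI := ModuleCat.subsingleton_of_isZero h
  exact ⟨inferInstance, inferInstance⟩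

lemma flat_iso {M N : ModuleCat.{u} R} (e : M ≅ N) (h : Module.Flat R M) : Module.Flat R N :=
  Module.Flat.of_linearEquiv e.toLinearEquiv.symm

lemma flat_zero (M : ModuleCat.{u} R) (h : IsZero M) : Module.Flat R M := by
  haveI := ModuleCat.subsingleton_of_isZero h
  infer_instance

/-- a pseudo-coherent object with a flat representative in `[a, b]` has a finite projective
representative in `[a, b]`. -/
theorem exists_finProj_rep_of_isPC_of_flat_rep (K : DerivedCategory (ModuleCat.{u} R))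
    (hpc : ∀ m : ℤ, IsPC m K) (E : CochainComplex (ModuleCat.{u} R) ℤ) (a b : ℤ)
    (hE0 : ∀ i : ℤ, i < a ∨ b < i → IsZero (E.X i)) (hEf : ∀ i : ℤ, Module.Flat R (E.X i))
    (eE : Q.obj E ≅ K) :
    ∃ T : CochainComplex (ModuleCat.{u} R) ℤ, (∀ i : ℤ, i < a ∨ b < i → IsZero (T.X i)) ∧
      (∀ i : ℤ, Module.Finite R (T.X i) ∧ Module.Projective R (T.X i)) ∧
      Nonempty (Q.obj T ≅ K) := by
  obtain ⟨P, bP, hPb, hPf, ⟨eP⟩⟩ := exists_rep_of_forall_isPC K hpc
  have hPp : ∀ i, Module.Projective R (P.X i) := fun i => by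
    haveI := (hPf i).2
    infer_instance
  haveI := kproj_of_bdd P bP hPb hPp
  obtain ⟨g, hg⟩ := lift_of_kproj (eP.hom ≫ eE.inv)
  have hgiso : IsIso (Q.map g) := by
    rw [hg]
    infer_instance
  have hflat : Module.Flat R (P.opcycles a) :=
    opcycles_flat_of_quasiIso P E g hgiso bP b a hPb
      (fun i => by haveI := hPp i; infer_instance) (hE0 _ (Or.inl (by omega)))
      (fun i hi => hE0 i (Or.inr hi)) hEf
  have hop : FinProj (P.opcycles a) := by
    haveI := (hPf (a - 1)).1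
    haveI : Module.FinitePresentation R (P.X a) := by
      haveI := (hPf a).1
      haveI := hPp a
      exact Module.finitePresentation_of_projective R _
    haveI := opcycles_fp P a
    haveI := hflat
    exact ⟨inferInstance, Module.Flat.projective_of_finitePresentation⟩
  have hex : ∀ j : ℤ, j < a ∨ b < j → P.ExactAt j := fun j hj =>
    exactAt_of_iso (eP ≪≫ eE.symm) j (ShortComplex.exact_of_isZero_X₂ _ (hE0 j hj))
  obtain ⟨T, hT0, hTf, ⟨eT⟩⟩ := exists_trunc_rep FinProj finProj_iso finProj_zero P a b bP hPb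
    (fun i => ⟨(hPf i).1, hPp i⟩) (fun j hj => hex j (Or.inl hj)) (fun j hj => hex j (Or.inr hj))
    hop (fun T hTb hTf hTex => by
      have := cycles_finite_projective T bP hTb hTf b (fun i hi =>
        (HomologicalComplex.exactAt_iff_isZero_homology T i).1 (hTex i hi))
      exact this)
  exact ⟨T, hT0, hTf, ⟨eT ≪≫ eP⟩⟩

/-- a pseudo-coherent object with a bounded projective representative is perfect. -/
theorem rep_PF_of_isPC_of_proj_rep (K : DerivedCategory (ModuleCat.{u} R))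
    (hpc : ∀ m : ℤ, IsPC m K) (E : CochainComplex (ModuleCat.{u} R) ℤ) (a b : ℤ)
    (hE0 : ∀ i : ℤ, i < a ∨ b < i → IsZero (E.X i)) (hEp : ∀ i : ℤ, Module.Projective R (E.X i))
    (eE : Q.obj E ≅ K) : Rep PF K := by
  obtain ⟨P, bP, hPb, hPf, ⟨eP⟩⟩ := exists_rep_of_forall_isPC K hpc
  have hPp : ∀ i, Module.Projective R (P.X i) := fun i => by
    haveI := (hPf i).2
    infer_instance
  obtain ⟨hex, hop⟩ := retract_core' P E bP b a hPb hPp (fun i hi => hE0 i (Or.inr hi)) hEp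
    (fun i hi => hE0 i (Or.inl hi)) (eP.hom ≫ eE.inv) (eE.hom ≫ eP.inv)
    (by simp only [assoc, Iso.inv_hom_id_assoc, Iso.hom_inv_id])
  exact rep_of_iso eP (rep_PF_of_trunc P a bP hPb (fun i => ⟨(hPf i).1, hPp i⟩) hex hop)

end Groth.Agent.Helper6.FlatAmp
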