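import Mathlib
import Groth.Agent.Lib.Helper6.Flat2

/-!
# Tor amplitude (flat representative form): projective resolutions, criterion, descent,
direct summands.
-/

set_option autoImplicit false
set_option linter.style.haveILetI false

universe u

open CategoryTheory Category Limits Pretriangulated DerivedCategory ZeroObject TensorProduct
open CochainComplex

attribute [local instance] HasDerivedCategory.standard

namespace Groth.Agent.Helper6.FlatAmp

open Groth.Agent.Helper6.PerfTri Groth.Agent.Helper6.PCm Groth.Agent.Helper6.Perf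

variable {R : Type u} [CommRing R]

/-- bounded above complexes of projective modules. -/
def BP (E : CochainComplex (ModuleCat.{u} R) ℤ) : Prop :=
  ∃ b : ℤ, (∀ i : ℤ, b < i → IsZero (E.X i)) ∧ ∀ i : ℤ, Module.Projective R (E.X i)

lemma good_BP : Good (C := ModuleCat.{u} R) BP where
  lift := by
    rintro E E' ⟨b, hb, hE⟩ _ φ
    haveI := kproj_of_bdd E b hb hE
    exact lift_of_kproj φ
  shift := by
    rintro E n ⟨b, hb, hE⟩
    exact ⟨b - n, fun i hi => hb (i + n) (by omega), fun i => hE (i + n)⟩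
  cone := by
    rintro E E' f ⟨b, hb, hE⟩ ⟨b', hb', hE'⟩
    refine ⟨max b b', fun i hi => cone_isZero f i (hb _ (by omega)) (hb' _ (by omega)),
      fun i => ?_⟩
    haveI := hE (i + 1)
    haveI := hE' i
    exact Module.Projective.of_equiv' (coneEquiv f i).symm

lemma rep_BP_single (M : ModuleCat.{u} R) :
    PerfTri.Rep BP ((DerivedCategory.singleFunctor (ModuleCat.{u} R) 0).obj M) := by
  let Rz : ProjectiveResolution M := ProjectiveResolution.of M
  haveI : IsIso (Q.map Rz.π') := by
    rw [isIso_Q_map_iff_quasiIso]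
    infer_instance
  refine ⟨Rz.cochainComplex,
    ⟨0, fun i hi => Rz.cochainComplex.isZero_of_isStrictlyLE 0 i hi, fun i => ?_⟩,
    ⟨asIso (Q.map Rz.π') ≪≫ ((singleFunctorIsoCompQ (ModuleCat.{u} R) 0).app M).symm⟩⟩
  haveI : Projective (Rz.cochainComplex.X i) := inferInstance
  exact inferInstance

/-- every object with bounded cohomology is represented by a bounded above complex of
projective modules. -/
theorem rep_BP_of_bounded (K : DerivedCategory (ModuleCat.{u} R)) (a b : ℤ)
    (hK : ∀ i : ℤ, i < a ∨ b < i → IsZero ((homologyFunctor (ModuleCat.{u} R) i).obj K)) :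
    PerfTri.Rep BP K := by
  haveI : K.IsGE a := (K.isGE_iff a).2 (fun i hi => hK i (Or.inl hi))
  haveI : K.IsLE b := (K.isLE_iff b).2 (fun i hi => hK i (Or.inr hi))
  obtain ⟨K', _, _, ⟨e⟩⟩ := K.exists_iso_Q_obj_of_isGE_of_isLE a b
  refine rep_of_iso e.symm ?_
  exact BddCx.prop_of_bounded_complex' (fun X => PerfTri.Rep BP X)
    (fun e h => rep_of_iso e h)
    (fun X n h => rep_shift good_BP n h)
    (fun T hT h₁ h₃ => (PerfTri.two_of_three good_BP T hT).2.1 h₁ h₃)
    K' a b (fun i hi => hi.elim (fun h => K'.isZero_of_isStrictlyGE a i h)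
      (fun h => K'.isZero_of_isStrictlyLE b i h))
    (fun i => rep_BP_single (K'.X i))

/-- tor amplitude in `[a, b]`, in the flat representative form. -/
def FA (a b : ℤ) (K : DerivedCategory (ModuleCat.{u} R)) : Prop :=
  ∃ E : CochainComplex (ModuleCat.{u} R) ℤ, (∀ i : ℤ, i < a ∨ b < i → IsZero (E.X i)) ∧
    (∀ i : ℤ, Module.Flat R (E.X i)) ∧ Nonempty (Q.obj E ≅ K)

lemma FA_of_iso {a b : ℤ} {K L : DerivedCategory (ModuleCat.{u} R)} (e : K ≅ L) (h : FA a b K) :
    FA a b L := by
  obtain ⟨E, h0, hf, ⟨i⟩⟩ := h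
  exact ⟨E, h0, hf, ⟨i ≪≫ e⟩⟩

lemma homology_isZero_of_FA {a b : ℤ} {K : DerivedCategory (ModuleCat.{u} R)} (h : FA a b K)
    (i : ℤ) (hi : i < a ∨ b < i) : IsZero ((homologyFunctor (ModuleCat.{u} R) i).obj K) := by
  obtain ⟨E, hE0, _, ⟨e⟩⟩ := h
  exact IsZero.of_iso (isZero_homology_Q_of_isZero_X E i (hE0 i hi))
    ((homologyFunctor (ModuleCat.{u} R) i).mapIso e.symm)

theorem criterion_of_FA {a b : ℤ} {K : DerivedCategory (ModuleCat.{u} R)} (h : FA a b K)
    (P : CochainComplex (ModuleCat.{u} R) ℤ) (bP : ℤ) (hPb : ∀ i : ℤ, bP < i → IsZero (P.X i))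
    (hPp : ∀ i : ℤ, Module.Projective R (P.X i)) (eP : Q.obj P ≅ K) :
    (∀ j : ℤ, j < a ∨ b < j → P.ExactAt j) ∧ Module.Flat R (P.opcycles a) := by
  obtain ⟨E, hE0, hEf, ⟨eE⟩⟩ := h
  haveI := kproj_of_bdd P bP hPb hPp
  obtain ⟨g, hg⟩ := lift_of_kproj (eP.hom ≫ eE.inv)
  have hgiso : IsIso (Q.map g) := by
    rw [hg]
    infer_instance
  refine ⟨fun j hj => exactAt_of_iso (eP ≪≫ eE.symm) j
    (ShortComplex.exact_of_isZero_X₂ _ (hE0 j hj)), ?_⟩
  exact opcycles_flat_of_quasiIso P E g hgiso bP b a hPb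
    (fun i => by haveI := hPp i; infer_instance) (hE0 _ (Or.inl (by omega)))
    (fun i hi => hE0 i (Or.inr hi)) hEf

theorem FA_of_criterion {a b : ℤ} {K : DerivedCategory (ModuleCat.{u} R)}
    (P : CochainComplex (ModuleCat.{u} R) ℤ) (bP : ℤ) (hPb : ∀ i : ℤ, bP < i → IsZero (P.X i))
    (hPf : ∀ i : ℤ, Module.Flat R (P.X i)) (eP : Q.obj P ≅ K)
    (hex : ∀ j : ℤ, j < a ∨ b < j → P.ExactAt j) (hop : Module.Flat R (P.opcycles a)) :
    FA a b K := by
  obtain ⟨T, hT0, hTf, ⟨eT⟩⟩ := exists_trunc_rep (fun M => Module.Flat R M) flat_iso flat_zero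
    P a b bP hPb hPf (fun j hj => hex j (Or.inl hj)) (fun j hj => hex j (Or.inr hj)) hop
    (fun T hTb hTf hTex => by
      have h0 := Int.self_le_toNat (bP - b + 1)
      exact cycles_flat T bP hTb b (fun i _ => hTf i)
        (fun i hi => (HomologicalComplex.exactAt_iff_isZero_homology T i).1 (hTex i hi))
        (bP - b + 1).toNat b le_rfl (by omega))
  exact ⟨T, hT0, hTf, ⟨eT ≪≫ eP⟩⟩

section Family

variable {ι : Type*} (S : ι → Type u) [∀ i, CommRing (S i)]
  (F : ∀ i, ModuleCat.{u} R ⥤ ModuleCat.{u} (S i)) [∀ i, (F i).Additive]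
  [∀ i, PreservesFiniteLimits (F i)] [∀ i, PreservesFiniteColimits (F i)]

/-- descent of tor amplitude along a jointly conservative family of exact functors. -/
theorem FA_of_family
    (hzero : ∀ M : ModuleCat.{u} R, (∀ i, IsZero ((F i).obj M)) → IsZero M)
    (hFproj : ∀ i (M : ModuleCat.{u} R), Module.Projective R M →
      Module.Projective (S i) ((F i).obj M))
    (hflat : ∀ M : ModuleCat.{u} R, (∀ i, Module.Flat (S i) ((F i).obj M)) → Module.Flat R M)
    (K : DerivedCategory (ModuleCat.{u} R)) (a b : ℤ)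
    (h : ∀ i, FA a b ((mapD (F i)).obj K)) : FA a b K := by
  have hK : ∀ j : ℤ, j < a ∨ b < j →
      IsZero ((homologyFunctor (ModuleCat.{u} R) j).obj K) := by
    intro j hj
    apply hzero
    intro i
    obtain ⟨e⟩ := homology_mapD (F i) K j
    exact IsZero.of_iso (homology_isZero_of_FA (h i) j hj) e.symm
  obtain ⟨P, ⟨bP, hPb, hPp⟩, ⟨eP⟩⟩ := rep_BP_of_bounded K a b hK
  have key : ∀ i, (∀ j : ℤ, j < a ∨ b < j →
      (((F i).mapHomologicalComplex (ComplexShape.up ℤ)).obj P).ExactAt j) ∧
      Module.Flat (S i)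
        ((((F i).mapHomologicalComplex (ComplexShape.up ℤ)).obj P).opcycles a) := by
    intro i
    exact criterion_of_FA (h i) _ bP (fun j hj => Functor.map_isZero (F i) (hPb j hj))
      (fun j => hFproj i (P.X j) (hPp j))
      ((mapDQIso (F i) P).symm ≪≫ (mapD (F i)).mapIso eP)
  have hex : ∀ j : ℤ, j < a ∨ b < j → P.ExactAt j := by
    intro j hj
    rw [HomologicalComplex.exactAt_iff_isZero_homology]
    apply hzero
    intro i
    have h1 := (key i).1 j hj
    rw [HomologicalComplex.exactAt_iff_isZero_homology] at h1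
    let e4 : (((F i).mapHomologicalComplex (ComplexShape.up ℤ)).obj P).homology j ≅
      (F i).obj (P.homology j) := (P.sc j).mapHomologyIso (F i)
    exact IsZero.of_iso h1 e4.symm
  have hop : Module.Flat R (P.opcycles a) := by
    apply hflat
    intro i
    haveI := (key i).2
    let e5 : (((F i).mapHomologicalComplex (ComplexShape.up ℤ)).obj P).opcycles a ≅
      (F i).obj (P.opcycles a) := (P.sc a).mapOpcyclesIso (F i)
    exact Module.Flat.of_linearEquiv e5.toLinearEquiv.symm
  exact FA_of_criterion P bP hPb (fun i => by haveI := hPp i; infer_instance) eP hex hop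

end Family

section ExtF

variable {S : Type u} [CommRing S] [Algebra R S]

lemma flat_of_extF [Module.FaithfullyFlat R S] (M : ModuleCat.{u} R)
    (h : Module.Flat S ((extF R S).obj M)) : Module.Flat R M := by
  haveI : Module.Flat S (S ⊗[R] M) := Module.Flat.of_linearEquiv (extIso M).symm
  exact Module.Flat.of_flat_tensorProduct R M S

/-- faithfully flat descent of tor amplitude. -/
theorem FA_of_extF [Module.FaithfullyFlat R S] (K : DerivedCategory (ModuleCat.{u} R))
    (a b : ℤ) (h : FA a b ((mapD (extF R S)).obj K)) : FA a b K :=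
  FA_of_family (ι := Unit) (fun _ => S) (fun _ => extF R S)
    (fun M hM => isZero_of_extF M (hM ()))
    (fun _ M _ => projective_extF M)
    (fun M hM => flat_of_extF M (hM ())) K a b (fun _ => h)

variable {r : ℕ} (f : Fin r → R) (hf : Ideal.span (Set.range f) = ⊤)

include hf in
lemma flat_of_extF_away (M : ModuleCat.{u} R)
    (h : ∀ i, Module.Flat (Localization.Away (f i))
      ((extF R (Localization.Away (f i))).obj M)) : Module.Flat R M := by
  haveI : ∀ g : Set.range f, IsLocalizedModule (Submonoid.powers g.val)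
      (TensorProduct.mk R (Localization.Away g.val) M 1) := fun g =>
    (isLocalizedModule_iff_isBaseChange (Submonoid.powers g.val)
      (Localization.Away g.val) _).2 (TensorProduct.isBaseChange R M _)
  refine Module.flat_of_isLocalized_span R M (Set.range f) hf
    (fun g => Localization.Away g.val ⊗[R] M)
    (fun g => TensorProduct.mk R (Localization.Away g.val) M 1) ?_
  rintro ⟨_, i, rfl⟩
  haveI := h i
  haveI : Module.Flat (Localization.Away (f i)) (Localization.Away (f i) ⊗[R] M) :=
    Module.Flat.of_linearEquiv (extIso M).symm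
  haveI : Module.Flat R (Localization.Away (f i)) :=
    IsLocalization.flat _ (Submonoid.powers (f i))
  exact Module.Flat.trans R (Localization.Away (f i)) _

include hf in
/-- tor amplitude is local for the Zariski topology. -/
theorem FA_of_extF_away (K : DerivedCategory (ModuleCat.{u} R)) (a b : ℤ)
    (h : ∀ i, FA a b ((mapD (extF R (Localization.Away (f i)))).obj K)) : FA a b K :=
  FA_of_family (fun i => Localization.Away (f i))
    (fun i => extF R (Localization.Away (f i)))
    (isZero_of_extF_away f hf)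
    (fun i M _ => projective_extF M)
    (flat_of_extF_away f hf) K a b h

end ExtF

end Groth.Agent.Helper6.FlatAmp
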