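import Mathlib
import Groth.Agent.Lib.Helper6.Flat3

/-!
# Perfect amplitude from `(m - 1)`-pseudo-coherence and tor amplitude.
-/

set_option autoImplicit false
set_option linter.style.haveILetI false

universe u

open CategoryTheory Category Limits Pretriangulated DerivedCategory ZeroObject TensorProduct
open CochainComplex

attribute [local instance] HasDerivedCategory.standard

namespace Groth.Agent.Helper6.FlatAmp

open Groth.Agent.Helper6.PerfTri Groth.Agent.Helper6.PCm Groth.Agent.Helper6.Perf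

variable {R : Type u} [CommRing R]

/-- variant of `opcycles_flat_of_quasiIso` where the cone is only exact in degrees `≥ a - 1`. -/
theorem opcycles_flat_of_cone_exact (P E : CochainComplex (ModuleCat.{u} R) ℤ) (g : P ⟶ E)
    (bP bE a : ℤ)
    (hPb : ∀ i : ℤ, bP < i → IsZero (P.X i)) (hPf : ∀ i : ℤ, Module.Flat R (P.X i))
    (hEa : IsZero (E.X (a - 1))) (hEb : ∀ i : ℤ, bE < i → IsZero (E.X i))
    (hEf : ∀ i : ℤ, Module.Flat R (E.X i))
    (hZac : ∀ i : ℤ, a - 1 ≤ i → IsZero ((mappingCone g).homology i)) :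
    Module.Flat R (P.opcycles a) := by
  have hZb : ∀ i : ℤ, max bP bE < i → IsZero ((mappingCone g).X i) :=
    fun i hi => cone_isZero g i (hPb _ (by omega)) (hEb _ (by omega))
  have hZf : ∀ i : ℤ, Module.Flat R ((mappingCone g).X i) := fun i => by
    haveI := hPf (i + 1)
    haveI := hEf i
    haveI : Module.Flat R (P.X (i + 1) × E.X i) := flat_prod _ _
    exact Module.Flat.of_linearEquiv (coneEquiv g i)
  haveI hcyc : Module.Flat R ((mappingCone g).cycles a) := by
    have h0 := Int.self_le_toNat (max bP bE - a + 1)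
    exact cycles_flat _ (max bP bE) hZb a (fun i _ => hZf i) (fun i hi => hZac i (by omega))
      (max bP bE - a + 1).toNat a le_rfl (by omega)
  obtain ⟨ψ, hψ⟩ : ∃ ψ : P.X a ⟶ (mappingCone g).X (a - 1),
      ψ = (mappingCone.inl g).v a (a - 1) (by omega) := ⟨_, rfl⟩
  obtain ⟨φ₁, hφ₁⟩ : ∃ φ₁ : (mappingCone g).X (a - 1) ⟶ P.X a,
      φ₁ = (mappingCone.fst g).1.v (a - 1) a (by omega) := ⟨_, rfl⟩
  have h1 : ψ ≫ φ₁ = 𝟙 _ := by
    rw [hψ, hφ₁]
    exact mappingCone.inl_v_fst_v g a (a - 1) (by omega)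
  have h2 : φ₁ ≫ ψ = 𝟙 _ := by
    have := mappingCone.id_X g (a - 1) a (by omega)
    rw [hEa.eq_of_tgt ((mappingCone.snd g).v (a - 1) (a - 1) (add_zero _)) 0, zero_comp,
      add_zero] at this
    rw [hψ, hφ₁]
    exact this
  have h3 : P.d (a - 1) a ≫ ψ ≫ (mappingCone g).pOpcycles (a - 1) = 0 := by
    have e := mappingCone.inl_v_d g (a - 1) (a - 1 - 1) a (by omega) (by omega)
    rw [hEa.eq_of_tgt (g.f (a - 1)) 0, zero_comp, zero_sub] at e
    have e' : P.d (a - 1) a ≫ ψ = -((mappingCone.inl g).v (a - 1) (a - 1 - 1) (by omega) ≫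
        (mappingCone g).d (a - 1 - 1) (a - 1)) := by
      rw [e, neg_neg, hψ]
    rw [← assoc, e', Preadditive.neg_comp, assoc, HomologicalComplex.d_pOpcycles, comp_zero,
      neg_zero]
  have h4 : (mappingCone g).d (a - 1 - 1) (a - 1) ≫ φ₁ ≫ P.pOpcycles a = 0 := by
    have e := mappingCone.d_fst_v g (a - 1 - 1) (a - 1) a (by omega) (by omega)
    rw [← assoc, hφ₁, e, Preadditive.neg_comp, assoc, HomologicalComplex.d_pOpcycles, comp_zero,
      neg_zero]
  obtain ⟨α, hα⟩ : ∃ α : P.opcycles a ⟶ (mappingCone g).opcycles (a - 1),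
      P.pOpcycles a ≫ α = ψ ≫ (mappingCone g).pOpcycles (a - 1) :=
    ⟨P.descOpcycles _ (a - 1) (by simp) h3, HomologicalComplex.p_descOpcycles _ _ _ _ _⟩
  obtain ⟨β, hβ⟩ : ∃ β : (mappingCone g).opcycles (a - 1) ⟶ P.opcycles a,
      (mappingCone g).pOpcycles (a - 1) ≫ β = φ₁ ≫ P.pOpcycles a :=
    ⟨(mappingCone g).descOpcycles _ (a - 1 - 1) (by simp) h4,
      HomologicalComplex.p_descOpcycles _ _ _ _ _⟩
  have hαβ : α ≫ β = 𝟙 _ := by
    rw [← cancel_epi (P.pOpcycles a), reassoc_of% hα, hβ, reassoc_of% h1, comp_id]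
  have hβα : β ≫ α = 𝟙 _ := by
    rw [← cancel_epi ((mappingCone g).pOpcycles (a - 1)), reassoc_of% hβ, hα, reassoc_of% h2,
      comp_id]
  let e1 : P.opcycles a ≅ (mappingCone g).opcycles (a - 1) := ⟨α, β, hαβ, hβα⟩
  haveI := isIso_opcyclesToCycles (mappingCone g) (a - 1) a (by omega) (hZac _ le_rfl)
    (hZac _ (by omega))
  let e2 : (mappingCone g).opcycles (a - 1) ≅ (mappingCone g).cycles a :=
    asIso ((mappingCone g).opcyclesToCycles (a - 1) a)
  exact Module.Flat.of_linearEquiv (e1 ≪≫ e2).toLinearEquiv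

/-- an `(m - 1)`-pseudo-coherent object with tor amplitude in `[m, n]` has a finite projective
representative in `[m, n]`. -/
theorem exists_finProj_rep_of_pcmap (K : DerivedCategory (ModuleCat.{u} R)) (m n : ℤ)
    (F : CochainComplex (ModuleCat.{u} R) ℤ) (lo hi : ℤ)
    (hF0 : ∀ i : ℤ, i < lo ∨ hi < i → IsZero (F.X i))
    (hFf : ∀ i : ℤ, Module.Finite R (F.X i) ∧ Module.Free R (F.X i))
    (α : Q.obj F ⟶ K) (hα : PCmap (m - 1) α)
    (G : CochainComplex (ModuleCat.{u} R) ℤ)
    (hG0 : ∀ i : ℤ, i < m ∨ n < i → IsZero (G.X i)) (hGf : ∀ i : ℤ, Module.Flat R (G.X i))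
    (eG : Q.obj G ≅ K) :
    ∃ T : CochainComplex (ModuleCat.{u} R) ℤ, (∀ i : ℤ, i < m ∨ n < i → IsZero (T.X i)) ∧
      (∀ i : ℤ, Module.Finite R (T.X i) ∧ Module.Projective R (T.X i)) ∧
      Nonempty (Q.obj T ≅ K) := by
  have hFp : ∀ i, Module.Projective R (F.X i) := fun i => by
    haveI := (hFf i).2
    infer_instance
  haveI := kproj_of_bdd F hi (fun i h => hF0 i (Or.inr h)) hFp
  obtain ⟨φ, hφ⟩ := lift_of_kproj (α ≫ eG.inv)
  have hpc : PCmap (m - 1) (Q.map φ) := by
    rw [hφ]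
    exact pcmap_comp hα (pcmap_of_isIso (m - 1) eG.inv)
  have hT := mappingCone_triangle_distinguished φ
  have hle : (Q.obj (mappingCone φ)).IsLE (m - 1 - 1) := (isLE_cone_iff _ hT (m - 1)).2 hpc
  have hZac : ∀ i : ℤ, m - 1 ≤ i → IsZero ((mappingCone φ).homology i) := fun i hi =>
    IsZero.of_iso ((Q.obj (mappingCone φ)).isZero_of_isLE (m - 1 - 1) i (by omega))
      ((homologyFunctorFactors (ModuleCat.{u} R) i).app _).symm
  have hflat : Module.Flat R (F.opcycles m) :=
    opcycles_flat_of_cone_exact F G φ hi n m (fun i h => hF0 i (Or.inr h))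
      (fun i => by haveI := hFp i; infer_instance) (hG0 (m - 1) (Or.inl (by omega)))
      (fun i h => hG0 i (Or.inr h)) hGf hZac
  have hop : FinProj (F.opcycles m) := by
    haveI := (hFf (m - 1)).1
    haveI : Module.FinitePresentation R (F.X m) := by
      haveI := (hFf m).1
      haveI := hFp m
      exact Module.finitePresentation_of_projective R _
    haveI := opcycles_fp F m
    haveI := hflat
    exact ⟨inferInstance, Module.Flat.projective_of_finitePresentation⟩
  obtain ⟨h0, h1⟩ := truncGE_terms FinProj finProj_iso finProj_zero F m hi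
    (fun i h => hF0 i (Or.inr h)) (fun i => ⟨(hFf i).1, hFp i⟩) hop
  haveI : G.IsStrictlyGE m :=
    (CochainComplex.isStrictlyGE_iff G m).2 (fun i hi => hG0 i (Or.inl hi))
  obtain ⟨ψ, hψ⟩ : ∃ ψ : F.truncGE m ⟶ G, F.πTruncGE m ≫ ψ = φ :=
    ⟨CochainComplex.truncGEMap φ m ≫ inv (G.πTruncGE m), by
      rw [← assoc, CochainComplex.πTruncGE_naturality, assoc, IsIso.hom_inv_id, comp_id]⟩
  have hiso : IsIso (Q.map ψ) := by
    rw [DerivedCategory.isIso_iff]
    intro i
    by_cases him : i < m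
    · exact ⟨0, (isZero_homology_Q_of_isZero_X _ i (h0 i (Or.inl him))).eq_of_src _ _,
        (isZero_homology_Q_of_isZero_X G i (hG0 i (Or.inl him))).eq_of_src _ _⟩
    · have e1 : (homologyFunctor (ModuleCat.{u} R) i).map (Q.map (F.πTruncGE m)) ≫
          (homologyFunctor (ModuleCat.{u} R) i).map (Q.map ψ) =
          (homologyFunctor (ModuleCat.{u} R) i).map (Q.map φ) := by
        rw [← Functor.map_comp, ← Functor.map_comp, hψ]
      haveI : IsIso ((homologyFunctor (ModuleCat.{u} R) i).map (Q.map φ)) :=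
        hpc.1 i (by omega)
      haveI : IsIso ((homologyFunctor (ModuleCat.{u} R) i).map (Q.map (F.πTruncGE m))) := by
        have hq : QuasiIsoAt (F.πTruncGE m) i := F.quasiIsoAt_πTruncGE m i (by omega)
        rw [quasiIsoAt_iff_isIso_homologyMap] at hq
        exact (NatIso.isIso_map_iff (homologyFunctorFactors (ModuleCat.{u} R) i)
          (F.πTruncGE m)).2 hq
      haveI : IsIso ((homologyFunctor (ModuleCat.{u} R) i).map (Q.map (F.πTruncGE m)) ≫
          (homologyFunctor (ModuleCat.{u} R) i).map (Q.map ψ)) := by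
        rw [e1]
        infer_instance
      exact IsIso.of_isIso_comp_left
        ((homologyFunctor (ModuleCat.{u} R) i).map (Q.map (F.πTruncGE m))) _
  have eK : Q.obj (F.truncGE m) ≅ K := asIso (Q.map ψ) ≪≫ eG
  have hpcK : ∀ k : ℤ, IsPC k K := fun k =>
    isPC_of_bddAbove_projective_rep k (F.truncGE m) hi (fun i h => h0 i (Or.inr h)) h1 eK
  exact exists_finProj_rep_of_isPC_of_flat_rep K hpcK G m n hG0 hGf eG

end Groth.Agent.Helper6.FlatAmp
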