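import Mathlib
import Groth.Agent.Lib.Helper6.Flat4

/-!
# Tor amplitude of direct summands.
-/

set_option autoImplicit false
set_option linter.style.haveILetI false

universe u

open CategoryTheory Category Limits Pretriangulated DerivedCategory ZeroObject TensorProduct
open CochainComplex

attribute [local instance] HasDerivedCategory.standard

namespace Groth.Agent.Helper6.FlatAmp

open Groth.Agent.Helper6.PerfTri Groth.Agent.Helper6.PCm Groth.Agent.Helper6.Perf

variable {R : Type u} [CommRing R]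

/-- terms of a biproduct of complexes of modules. -/
noncomputable def biprodXEquiv (P₁ P₂ : CochainComplex (ModuleCat.{u} R) ℤ) (i : ℤ) :
    (P₁ ⊞ P₂).X i ≃ₗ[R] (P₁.X i × P₂.X i) :=
  (HomologicalComplex.biprodXIso P₁ P₂ i ≪≫ ModuleCat.biprodIsoProd _ _).toLinearEquiv

/-- direct summands inherit tor amplitude. -/
theorem FA_of_biprod {a b : ℤ} (K L : DerivedCategory (ModuleCat.{u} R))
    (h : FA a b (K ⊞ L)) : FA a b K := by
  have hK : ∀ j : ℤ, j < a ∨ b < j →
      IsZero ((homologyFunctor (ModuleCat.{u} R) j).obj K) := by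
    intro j hj
    have hz := homology_isZero_of_FA h j hj
    rw [IsZero.iff_id_eq_zero, ← CategoryTheory.Functor.map_id,
      ← (biprod.inl_fst : (biprod.inl : K ⟶ K ⊞ L) ≫ biprod.fst = 𝟙 K), Functor.map_comp,
      hz.eq_of_tgt ((homologyFunctor (ModuleCat.{u} R) j).map biprod.inl) 0, zero_comp]
  have hL : ∀ j : ℤ, j < a ∨ b < j →
      IsZero ((homologyFunctor (ModuleCat.{u} R) j).obj L) := by
    intro j hj
    have hz := homology_isZero_of_FA h j hj
    rw [IsZero.iff_id_eq_zero, ← CategoryTheory.Functor.map_id,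
      ← (biprod.inr_snd : (biprod.inr : L ⟶ K ⊞ L) ≫ biprod.snd = 𝟙 L), Functor.map_comp,
      hz.eq_of_tgt ((homologyFunctor (ModuleCat.{u} R) j).map biprod.inr) 0, zero_comp]
  obtain ⟨P₁, ⟨b₁, hP₁b, hP₁p⟩, ⟨e₁⟩⟩ := rep_BP_of_bounded K a b hK
  obtain ⟨P₂, ⟨b₂, hP₂b, hP₂p⟩, ⟨e₂⟩⟩ := rep_BP_of_bounded L a b hL
  have hPb : ∀ i : ℤ, max b₁ b₂ < i → IsZero ((P₁ ⊞ P₂).X i) := by
    intro i hi
    haveI := ModuleCat.subsingleton_of_isZero (hP₁b i (by omega))
    haveI := ModuleCat.subsingleton_of_isZero (hP₂b i (by omega))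
    haveI : Subsingleton ((P₁ ⊞ P₂).X i) := (biprodXEquiv P₁ P₂ i).toEquiv.subsingleton
    exact ModuleCat.isZero_of_subsingleton _
  have hPp : ∀ i : ℤ, Module.Projective R ((P₁ ⊞ P₂).X i) := by
    intro i
    haveI := hP₁p i
    haveI := hP₂p i
    exact Module.Projective.of_equiv' (biprodXEquiv P₁ P₂ i).symm
  haveI : PreservesBinaryBiproducts
      (Q : CochainComplex (ModuleCat.{u} R) ℤ ⥤ DerivedCategory (ModuleCat.{u} R)) :=
    preservesBinaryBiproducts_of_preservesBiproducts _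
  let eP : Q.obj (P₁ ⊞ P₂) ≅ K ⊞ L := Q.mapBiprod P₁ P₂ ≪≫ biprod.mapIso e₁ e₂
  obtain ⟨-, hfl⟩ := criterion_of_FA h (P₁ ⊞ P₂) (max b₁ b₂) hPb hPp eP
  have hop : Module.Flat R (P₁.opcycles a) := by
    haveI := hfl
    refine Module.Flat.of_retract
      (HomologicalComplex.opcyclesMap (biprod.inl : P₁ ⟶ P₁ ⊞ P₂) a).hom
      (HomologicalComplex.opcyclesMap (biprod.fst : P₁ ⊞ P₂ ⟶ P₁) a).hom ?_
    rw [← ModuleCat.hom_comp, ← HomologicalComplex.opcyclesMap_comp, biprod.inl_fst,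
      HomologicalComplex.opcyclesMap_id]
    rfl
  have hex : ∀ j : ℤ, j < a ∨ b < j → P₁.ExactAt j := fun j hj =>
    exactAt_of_isZero_homology_Q P₁ j (IsZero.of_iso (hK j hj)
      ((homologyFunctor (ModuleCat.{u} R) j).mapIso e₁))
  exact FA_of_criterion P₁ b₁ hP₁b (fun i => by haveI := hP₁p i; infer_instance) e₁ hex hop

end Groth.Agent.Helper6.FlatAmp
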