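import Mathlib
import Groth.Agent.Lib.Helper6.Flat5
import Groth.Agent.Lib.Helper6.PCm9

/-!
# Tor amplitude (flat representative form) in distinguished triangles.
-/

set_option autoImplicit false
set_option linter.style.haveILetI false

universe u

open CategoryTheory Category Limits Pretriangulated DerivedCategory ZeroObject TensorProduct
open CochainComplex

attribute [local instance] HasDerivedCategory.standard

namespace Groth.Agent.Helper6.FlatAmp

open Groth.Agent.Helper6.PerfTri Groth.Agent.Helper6.PCm Groth.Agent.Helper6.Perf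

variable {R : Type u} [CommRing R]

lemma hom_apply_of_eq {M N : ModuleCat.{u} R} {f g : M ⟶ N} (h : f = g) (x : M) :
    f.hom x = g.hom x := by rw [h]

local macro "elt_of" e:term : tactic =>
  `(tactic| simpa only [ModuleCat.hom_comp, ModuleCat.hom_add, ModuleCat.hom_sub,
    ModuleCat.hom_neg, ModuleCat.hom_id, ModuleCat.hom_zero, LinearMap.comp_apply,
    LinearMap.add_apply, LinearMap.sub_apply, LinearMap.neg_apply, LinearMap.id_apply,
    LinearMap.zero_apply] using $e)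

lemma range_d_eq_ker_pOpcycles (K : CochainComplex (ModuleCat.{u} R) ℤ) (i j : ℤ)
    (hij : i + 1 = j) :
    LinearMap.range (K.d i j).hom = LinearMap.ker (K.pOpcycles j).hom := by
  have hex' : (ShortComplex.mk (K.d i j) (K.pOpcycles j) (K.d_pOpcycles i j)).Exact :=
    ShortComplex.exact_of_g_is_cokernel _ (K.opcyclesIsCokernel i j (by subst hij; simp))
  exact hex'.moduleCat_range_eq_ker

/-- flatness of the opcycles of a mapping cone. -/
theorem opcycles_cone_flat (X Y : CochainComplex (ModuleCat.{u} R) ℤ) (h : X ⟶ Y) (a : ℤ)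
    (hX : X.ExactAt a) (hY : Module.Flat R (Y.opcycles a))
    (hX1 : Module.Flat R (X.opcycles (a + 1))) :
    Module.Flat R ((mappingCone h).opcycles a) := by
  obtain ⟨fstA, hfstA⟩ : ∃ φ : (mappingCone h).X a ⟶ X.X (a + 1),
      φ = (mappingCone.fst h).1.v a (a + 1) rfl := ⟨_, rfl⟩
  obtain ⟨sndA, hsndA⟩ : ∃ φ : (mappingCone h).X a ⟶ Y.X a,
      φ = (mappingCone.snd h).v a a (add_zero a) := ⟨_, rfl⟩
  obtain ⟨inlA, hinlA⟩ : ∃ φ : X.X (a + 1) ⟶ (mappingCone h).X a,
      φ = (mappingCone.inl h).v (a + 1) a (by omega) := ⟨_, rfl⟩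
  obtain ⟨inrA, hinrA⟩ : ∃ φ : Y.X a ⟶ (mappingCone h).X a,
      φ = (mappingCone.inr h).f a := ⟨_, rfl⟩
  obtain ⟨fstB, hfstB⟩ : ∃ φ : (mappingCone h).X (a - 1) ⟶ X.X a,
      φ = (mappingCone.fst h).1.v (a - 1) a (by omega) := ⟨_, rfl⟩
  obtain ⟨sndB, hsndB⟩ : ∃ φ : (mappingCone h).X (a - 1) ⟶ Y.X (a - 1),
      φ = (mappingCone.snd h).v (a - 1) (a - 1) (add_zero _) := ⟨_, rfl⟩
  obtain ⟨inlB, hinlB⟩ : ∃ φ : X.X a ⟶ (mappingCone h).X (a - 1),
      φ = (mappingCone.inl h).v a (a - 1) (by omega) := ⟨_, rfl⟩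
  have idA : fstA ≫ inlA + sndA ≫ inrA = 𝟙 _ := by
    rw [hfstA, hinlA, hsndA, hinrA]
    exact mappingCone.id_X h a (a + 1) rfl
  have dfst : (mappingCone h).d (a - 1) a ≫ fstA = -(fstB ≫ X.d a (a + 1)) := by
    rw [hfstA, hfstB]
    exact mappingCone.d_fst_v h (a - 1) a (a + 1) (by omega) rfl
  have dsnd : (mappingCone h).d (a - 1) a ≫ sndA =
      fstB ≫ h.f a + sndB ≫ Y.d (a - 1) a := by
    rw [hsndA, hfstB, hsndB]
    exact mappingCone.d_snd_v h (a - 1) a (by omega)
  have inld : inlB ≫ (mappingCone h).d (a - 1) a =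
      h.f a ≫ inrA - X.d a (a + 1) ≫ inlA := by
    rw [hinlB, hinrA, hinlA]
    exact mappingCone.inl_v_d h a (a - 1) (a + 1) (by omega) (by omega)
  have inrfst : inrA ≫ fstA = 0 := by
    rw [hinrA, hfstA]
    exact mappingCone.inr_f_fst_v h a (a + 1) rfl
  have inrsnd : inrA ≫ sndA = 𝟙 _ := by
    rw [hinrA, hsndA]
    exact mappingCone.inr_f_snd_v h a
  have inlfst : inlA ≫ fstA = 𝟙 _ := by
    rw [hinlA, hfstA]
    exact mappingCone.inl_v_fst_v h (a + 1) a rfl
  have hw : (mappingCone h).d (a - 1) a ≫ fstA ≫ X.pOpcycles (a + 1) = 0 := by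
    rw [← assoc, dfst, Preadditive.neg_comp, assoc, HomologicalComplex.d_pOpcycles, comp_zero,
      neg_zero]
  obtain ⟨ρ, hρ⟩ : ∃ ρ : (mappingCone h).opcycles a ⟶ X.opcycles (a + 1),
      (mappingCone h).pOpcycles a ≫ ρ = fstA ≫ X.pOpcycles (a + 1) :=
    ⟨(mappingCone h).descOpcycles _ (a - 1) (by simp) hw,
      HomologicalComplex.p_descOpcycles _ _ _ _ _⟩
  obtain ⟨ι, hι⟩ : ∃ ι : Y.opcycles a ⟶ (mappingCone h).opcycles a,
      Y.pOpcycles a ≫ ι = inrA ≫ (mappingCone h).pOpcycles a :=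
    ⟨HomologicalComplex.opcyclesMap (mappingCone.inr h) a, by
      rw [hinrA]
      exact HomologicalComplex.p_opcyclesMap _ _⟩
  -- elementwise versions
  have E1 : ∀ z : (mappingCone h).X a, inlA.hom (fstA.hom z) + inrA.hom (sndA.hom z) = z :=
    fun z => by elt_of hom_apply_of_eq idA z
  have E2 : ∀ w : (mappingCone h).X (a - 1), fstA.hom (((mappingCone h).d (a - 1) a).hom w) =
      -((X.d a (a + 1)).hom (fstB.hom w)) := fun w => by elt_of hom_apply_of_eq dfst w
  have E3 : ∀ w : (mappingCone h).X (a - 1), sndA.hom (((mappingCone h).d (a - 1) a).hom w) =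
      (h.f a).hom (fstB.hom w) + (Y.d (a - 1) a).hom (sndB.hom w) :=
    fun w => by elt_of hom_apply_of_eq dsnd w
  have E4 : ∀ x : X.X a, ((mappingCone h).d (a - 1) a).hom (inlB.hom x) =
      inrA.hom ((h.f a).hom x) - inlA.hom ((X.d a (a + 1)).hom x) :=
    fun x => by elt_of hom_apply_of_eq inld x
  have E5 : ∀ y : Y.X a, fstA.hom (inrA.hom y) = 0 := fun y => by elt_of hom_apply_of_eq inrfst y
  have E6 : ∀ y : Y.X a, sndA.hom (inrA.hom y) = y := fun y => by elt_of hom_apply_of_eq inrsnd y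
  have E8 : ∀ x : X.X (a - 1), (Y.d (a - 1) a).hom ((h.f (a - 1)).hom x) =
      (h.f a).hom ((X.d (a - 1) a).hom x) :=
    fun x => by elt_of hom_apply_of_eq (h.comm (a - 1) a) x
  have E9 : ∀ w : (mappingCone h).X (a - 1),
      ((mappingCone h).pOpcycles a).hom (((mappingCone h).d (a - 1) a).hom w) = 0 :=
    fun w => by elt_of hom_apply_of_eq ((mappingCone h).d_pOpcycles (a - 1) a) w
  have E10 : ∀ x : X.X (a + 1), fstA.hom (inlA.hom x) = x :=
    fun x => by elt_of hom_apply_of_eq inlfst x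
  have Eρ : ∀ z : (mappingCone h).X a, ρ.hom (((mappingCone h).pOpcycles a).hom z) =
      (X.pOpcycles (a + 1)).hom (fstA.hom z) := fun z => by elt_of hom_apply_of_eq hρ z
  have Eι : ∀ y : Y.X a, ι.hom ((Y.pOpcycles a).hom y) =
      ((mappingCone h).pOpcycles a).hom (inrA.hom y) := fun y => by elt_of hom_apply_of_eq hι y
  have spX : Function.Surjective (X.pOpcycles (a + 1)).hom :=
    (ModuleCat.epi_iff_surjective _).1 inferInstance
  have spY : Function.Surjective (Y.pOpcycles a).hom :=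
    (ModuleCat.epi_iff_surjective _).1 inferInstance
  have spZ : Function.Surjective ((mappingCone h).pOpcycles a).hom :=
    (ModuleCat.epi_iff_surjective _).1 inferInstance
  have kX := range_d_eq_ker_pOpcycles X a (a + 1) rfl
  have kY := range_d_eq_ker_pOpcycles Y (a - 1) a (by omega)
  have kZ := range_d_eq_ker_pOpcycles (mappingCone h) (a - 1) a (by omega)
  have exX : LinearMap.range (X.d (a - 1) a).hom = LinearMap.ker (X.d a (a + 1)).hom := by
    have := (HomologicalComplex.exactAt_iff' X (a - 1) a (a + 1) (by simp) (by simp)).1 hX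
    exact this.moduleCat_range_eq_ker
  haveI := hY
  haveI := hX1
  refine flat_of_ses_mid ι.hom ρ.hom ?_ ?_ ?_
  · rw [injective_iff_map_eq_zero]
    intro u hu
    obtain ⟨y, rfl⟩ := spY u
    rw [Eι] at hu
    have hmem : inrA.hom y ∈ LinearMap.range ((mappingCone h).d (a - 1) a).hom := by
      rw [kZ]
      exact LinearMap.mem_ker.2 hu
    obtain ⟨w, hw'⟩ := LinearMap.mem_range.1 hmem
    have h1 : (X.d a (a + 1)).hom (fstB.hom w) = 0 := by
      have := E2 w
      rw [hw', E5] at this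
      exact neg_eq_zero.1 this.symm
    have hmem2 : fstB.hom w ∈ LinearMap.range (X.d (a - 1) a).hom := by
      rw [exX]
      exact LinearMap.mem_ker.2 h1
    obtain ⟨x'', hx''⟩ := LinearMap.mem_range.1 hmem2
    have h2 : y = (Y.d (a - 1) a).hom ((h.f (a - 1)).hom x'' + sndB.hom w) := by
      have := E3 w
      rw [hw', E6, ← hx'', ← E8] at this
      rw [map_add]
      exact this
    have hy : y ∈ LinearMap.ker (Y.pOpcycles a).hom := by
      rw [← kY]
      exact LinearMap.mem_range.2 ⟨_, h2.symm⟩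
    exact LinearMap.mem_ker.1 hy
  · intro v
    obtain ⟨x', rfl⟩ := spX v
    refine ⟨((mappingCone h).pOpcycles a).hom (inlA.hom x'), ?_⟩
    rw [Eρ, E10]
  · intro t
    constructor
    · intro ht
      obtain ⟨z, rfl⟩ := spZ t
      rw [Eρ] at ht
      have hmem : fstA.hom z ∈ LinearMap.range (X.d a (a + 1)).hom := by
        rw [kX]
        exact LinearMap.mem_ker.2 ht
      obtain ⟨x, hx⟩ := LinearMap.mem_range.1 hmem
      refine ⟨(Y.pOpcycles a).hom (sndA.hom z + (h.f a).hom x), ?_⟩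
      rw [Eι, map_add, map_add]
      have e1 := E1 z
      rw [← hx] at e1
      have e9 := E9 (inlB.hom x)
      rw [E4, map_sub] at e9
      have e9' := sub_eq_zero.1 e9
      have key : ((mappingCone h).pOpcycles a).hom z =
          ((mappingCone h).pOpcycles a).hom (inlA.hom ((X.d a (a + 1)).hom x)) +
          ((mappingCone h).pOpcycles a).hom (inrA.hom (sndA.hom z)) := by
        rw [← map_add, e1]
      rw [key, e9']
      exact add_comm _ _
    · rintro ⟨u, rfl⟩
      obtain ⟨y, rfl⟩ := spY u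
      rw [Eι, Eρ, E5, map_zero]

/-- the cone of a map from tor amplitude `[a + 1, b + 1]` to tor amplitude `[a, b]` has tor
amplitude in `[a, b]`. -/
theorem FA_cone {a b : ℤ} (T : Triangle (DerivedCategory (ModuleCat.{u} R)))
    (hT : T ∈ distTriang _) (h₁ : FA (a + 1) (b + 1) T.obj₁) (h₂ : FA a b T.obj₂) :
    FA a b T.obj₃ := by
  obtain ⟨P₁, ⟨b₁, hb₁, hp₁⟩, ⟨e₁⟩⟩ := rep_BP_of_bounded T.obj₁ (a + 1) (b + 1)
    (fun i hi => homology_isZero_of_FA h₁ i hi)
  obtain ⟨P₂, ⟨b₂, hb₂, hp₂⟩, ⟨e₂⟩⟩ := rep_BP_of_bounded T.obj₂ a b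
    (fun i hi => homology_isZero_of_FA h₂ i hi)
  obtain ⟨hex₁, hop₁⟩ := criterion_of_FA h₁ P₁ b₁ hb₁ hp₁ e₁
  obtain ⟨hex₂, hop₂⟩ := criterion_of_FA h₂ P₂ b₂ hb₂ hp₂ e₂
  haveI := kproj_of_bdd P₁ b₁ hb₁ hp₁
  obtain ⟨f, hf⟩ := lift_of_kproj (e₁.hom ≫ T.mor₁ ≫ e₂.inv)
  have hT' := mappingCone_triangle_distinguished f
  have comm : (Q.mapTriangle.obj (CochainComplex.mappingCone.triangle f)).mor₁ ≫ e₂.hom =
      e₁.hom ≫ T.mor₁ := by
    show Q.map f ≫ e₂.hom = e₁.hom ≫ T.mor₁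
    rw [hf, assoc, assoc, Iso.inv_hom_id, comp_id]
  have iso := isoTriangleOfIso₁₂ _ T hT' hT e₁ e₂ comm
  have e₃ : Q.obj (mappingCone f) ≅ T.obj₃ := Triangle.π₃.mapIso iso
  have hz3 : ∀ j : ℤ, j < a ∨ b < j →
      IsZero ((homologyFunctor (ModuleCat.{u} R) j).obj T.obj₃) := by
    intro j hj
    refine (HomologySequence.exact₃ T hT j (j + 1) rfl).isZero_of_both_zeros ?_ ?_
    · exact (homology_isZero_of_FA h₂ j hj).eq_of_src _ _
    · exact (homology_isZero_of_FA h₁ (j + 1)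
        (hj.elim (fun h => Or.inl (by omega)) (fun h => Or.inr (by omega)))).eq_of_tgt _ _
  have hexZ : ∀ j : ℤ, j < a ∨ b < j → (mappingCone f).ExactAt j := fun j hj =>
    exactAt_of_isZero_homology_Q _ j (IsZero.of_iso (hz3 j hj)
      ((homologyFunctor (ModuleCat.{u} R) j).mapIso e₃))
  have hZb : ∀ i : ℤ, max b₁ b₂ < i → IsZero ((mappingCone f).X i) :=
    fun i hi => cone_isZero f i (hb₁ _ (by omega)) (hb₂ _ (by omega))
  have hZf : ∀ i : ℤ, Module.Flat R ((mappingCone f).X i) := fun i => by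
    haveI := hp₁ (i + 1)
    haveI := hp₂ i
    haveI : Module.Flat R (P₁.X (i + 1)) := Module.Flat.of_projective
    haveI : Module.Flat R (P₂.X i) := Module.Flat.of_projective
    haveI : Module.Flat R (P₁.X (i + 1) × P₂.X i) := flat_prod _ _
    exact Module.Flat.of_linearEquiv (coneEquiv f i)
  have hopZ : Module.Flat R ((mappingCone f).opcycles a) :=
    opcycles_cone_flat P₁ P₂ f a (hex₁ a (Or.inl (by omega))) hop₂ hop₁
  exact FA_of_criterion (mappingCone f) (max b₁ b₂) hZb hZf e₃ hexZ hopZ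

lemma FA_shift {a b : ℤ} {K : DerivedCategory (ModuleCat.{u} R)} (n : ℤ) (h : FA a b K)
    (a' b' : ℤ) (ha : a' + n = a) (hb : b' + n = b) : FA a' b' (K⟦n⟧) := by
  obtain ⟨E, h0, hf, ⟨e⟩⟩ := h
  exact ⟨E⟦n⟧,
    fun i hi => h0 (i + n) (hi.elim (fun h => Or.inl (by omega)) (fun h => Or.inr (by omega))),
    fun i => hf (i + n),
    ⟨(Q.commShiftIso n).app E ≪≫ (CategoryTheory.shiftFunctor (DerivedCategory (ModuleCat.{u} R)) n).mapIso e⟩⟩

theorem FA_two_of_three (a b : ℤ) (T : Triangle (DerivedCategory (ModuleCat.{u} R)))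
    (hT : T ∈ distTriang _) :
    (FA (a + 1) (b + 1) T.obj₁ → FA a b T.obj₂ → FA a b T.obj₃) ∧
    (FA a b T.obj₁ → FA a b T.obj₃ → FA a b T.obj₂) ∧
    (FA (a + 1) (b + 1) T.obj₂ → FA a b T.obj₃ → FA (a + 1) (b + 1) T.obj₁) := by
  refine ⟨FA_cone T hT, fun h₁ h₃ => ?_, fun h₂ h₃ => ?_⟩
  · exact FA_cone T.invRotate (inv_rot_of_distTriang _ hT)
      (FA_shift (-1) h₃ (a + 1) (b + 1) (by omega) (by omega)) h₁
  · have h := FA_cone T.rotate (rot_of_distTriang _ hT) h₂ h₃
    exact FA_of_iso (shiftShiftNeg T.obj₁ 1)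
      (FA_shift (-1) h (a + 1) (b + 1) (by omega) (by omega))

lemma FA_of_isZero (a b : ℤ) (K : DerivedCategory (ModuleCat.{u} R)) (hK : IsZero K) :
    FA a b K := by
  have hz : ∀ i : ℤ, IsZero ((0 : CochainComplex (ModuleCat.{u} R) ℤ).X i) := fun i =>
    Functor.map_isZero (HomologicalComplex.eval (ModuleCat.{u} R) (ComplexShape.up ℤ) i)
      (isZero_zero _)
  exact ⟨0, fun i _ => hz i, fun i => flat_zero _ (hz i),
    ⟨(Functor.map_isZero Q (isZero_zero _)).iso hK⟩⟩

/-- a bounded complex whose terms `K^i` have tor amplitude in `[a - i, b - i]` has tor amplitude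
in `[a, b]`. -/
theorem FA_of_termwise (a b : ℤ) (K : CochainComplex (ModuleCat.{u} R) ℤ) (c d : ℤ)
    (hcd : ∀ i : ℤ, i < c ∨ d < i → IsZero (K.X i))
    (hK : ∀ i : ℤ, FA (a - i) (b - i)
      ((DerivedCategory.singleFunctor (ModuleCat.{u} R) 0).obj (K.X i))) :
    FA a b (Q.obj K) := by
  have h0 := Int.self_le_toNat (d - c + 1)
  have key := prop_of_bounded_complex_graded
    (fun (m : ℤ) (X : DerivedCategory (ModuleCat.{u} R)) => FA (a + m) (b + m) X)
    (fun m X hX => FA_of_isZero _ _ X hX)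
    (@fun m K L e h => FA_of_iso e h)
    (fun m m' X n hm h => FA_shift n h (a + m') (b + m') (by omega) (by omega))
    (fun m T hT h₁ h₃ => (FA_two_of_three _ _ T hT).2.1 h₁ h₃)
    0 (d - c + 1).toNat K c d hcd (by omega)
    (fun i => by
      have e1 : a + (0 - i) = a - i := by omega
      have e2 : b + (0 - i) = b - i := by omega
      show FA (a + (0 - i)) (b + (0 - i)) _
      rw [e1, e2]
      exact hK i)
  have e1 : a + 0 = a := by omega
  have e2 : b + 0 = b := by omega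
  have key' : FA (a + 0) (b + 0) (Q.obj K) := key
  rw [e1, e2] at key'
  exact key'

end Groth.Agent.Helper6.FlatAmp
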