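import Mathlib
import Groth.Agent.Lib.Helper6.Flat6

/-!
# Dévissage along the cohomology modules, and tor amplitude from the cohomology modules.
-/

set_option autoImplicit false
set_option linter.style.haveILetI false

universe u

open CategoryTheory Category Limits Pretriangulated DerivedCategory ZeroObject

attribute [local instance] HasDerivedCategory.standard

namespace Groth.Agent.Helper6.FlatAmp

variable {R : Type u} [CommRing R]

/-- graded dévissage of objects with bounded cohomology along their cohomology modules. -/
theorem prop_of_bounded_homology (P : ℤ → DerivedCategory (ModuleCat.{u} R) → Prop)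
    (hzero : ∀ (m : ℤ) (K : DerivedCategory (ModuleCat.{u} R)), IsZero K → P m K)
    (hiso : ∀ (m : ℤ) {K L : DerivedCategory (ModuleCat.{u} R)}, (K ≅ L) → P m K → P m L)
    (hshift : ∀ (m m' : ℤ) (K : DerivedCategory (ModuleCat.{u} R)) (n : ℤ), m' = m - n →
      P m K → P m' (K⟦n⟧))
    (hext : ∀ (m : ℤ) (T : Triangle (DerivedCategory (ModuleCat.{u} R))), T ∈ distTriang _ →
      P m T.obj₁ → P m T.obj₃ → P m T.obj₂)
    (m : ℤ) (n : ℕ) : ∀ (K : DerivedCategory (ModuleCat.{u} R)) (c b : ℤ), K.IsGE c → K.IsLE b →
      b < c + n →
      (∀ i : ℤ, P (m - i) ((singleFunctor (ModuleCat.{u} R) 0).obj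
        ((homologyFunctor (ModuleCat.{u} R) i).obj K))) → P m K := by
  induction n with
  | zero =>
    intro K c b hc hb hbn _
    exact hzero m K ((TStructure.t (C := ModuleCat.{u} R)).isZero K b c (by omega))
  | succ n ih =>
    intro K c b hc hb hbn hK
    by_cases hlt : b < c
    · exact hzero m K ((TStructure.t (C := ModuleCat.{u} R)).isZero K b c hlt)
    · have hT := (TStructure.t (C := ModuleCat.{u} R)).triangleLTGE_distinguished b K
      have iA1 : (((TStructure.t (C := ModuleCat.{u} R)).truncLT b).obj K).IsGE c :=
        inferInstance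
      have iA2 : (((TStructure.t (C := ModuleCat.{u} R)).truncLT b).obj K).IsLE (b - 1) :=
        inferInstance
      have iB1 : (((TStructure.t (C := ModuleCat.{u} R)).truncGE b).obj K).IsGE b :=
        inferInstance
      have iB2 : (((TStructure.t (C := ModuleCat.{u} R)).truncGE b).obj K).IsLE b :=
        inferInstance
      have hA : ∀ i : ℤ, P (m - i) ((singleFunctor (ModuleCat.{u} R) 0).obj
          ((homologyFunctor (ModuleCat.{u} R) i).obj
            (((TStructure.t (C := ModuleCat.{u} R)).truncLT b).obj K))) := by
        intro i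
        by_cases hi : i < b
        · haveI : Mono ((homologyFunctor (ModuleCat.{u} R) i).map
              (((TStructure.t (C := ModuleCat.{u} R)).truncLTι b).app K)) :=
            (HomologySequence.mono_homologyMap_mor₁_iff _ hT (i - 1) i (by omega)).2
              (((((TStructure.t (C := ModuleCat.{u} R)).truncGE b).obj K).isZero_of_isGE b (i - 1)
                (by omega)).eq_of_src _ _)
          haveI : Epi ((homologyFunctor (ModuleCat.{u} R) i).map
              (((TStructure.t (C := ModuleCat.{u} R)).truncLTι b).app K)) :=
            (HomologySequence.epi_homologyMap_mor₁_iff _ hT i).2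
              (((((TStructure.t (C := ModuleCat.{u} R)).truncGE b).obj K).isZero_of_isGE b i
                hi).eq_of_tgt _ _)
          haveI : IsIso ((homologyFunctor (ModuleCat.{u} R) i).map
              (((TStructure.t (C := ModuleCat.{u} R)).truncLTι b).app K)) :=
            isIso_of_mono_of_epi _
          exact hiso (m - i) ((singleFunctor (ModuleCat.{u} R) 0).mapIso
            (asIso ((homologyFunctor (ModuleCat.{u} R) i).map
              (((TStructure.t (C := ModuleCat.{u} R)).truncLTι b).app K))).symm) (hK i)
        · exact hzero _ _ (Functor.map_isZero _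
            ((((TStructure.t (C := ModuleCat.{u} R)).truncLT b).obj K).isZero_of_isLE (b - 1) i
              (by omega)))
      have rA := ih _ c (b - 1) iA1 iA2 (by omega) hA
      obtain ⟨M, ⟨eB⟩⟩ := exists_iso_singleFunctor_obj_of_isGE_of_isLE
        (((TStructure.t (C := ModuleCat.{u} R)).truncGE b).obj K) b
      haveI : Mono ((homologyFunctor (ModuleCat.{u} R) b).map
          (((TStructure.t (C := ModuleCat.{u} R)).truncGEπ b).app K)) :=
        (HomologySequence.mono_homologyMap_mor₂_iff _ hT b).2
          (((((TStructure.t (C := ModuleCat.{u} R)).truncLT b).obj K).isZero_of_isLE (b - 1) b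
            (by omega)).eq_of_src _ _)
      haveI : Epi ((homologyFunctor (ModuleCat.{u} R) b).map
          (((TStructure.t (C := ModuleCat.{u} R)).truncGEπ b).app K)) :=
        (HomologySequence.epi_homologyMap_mor₂_iff _ hT b (b + 1) rfl).2
          (((((TStructure.t (C := ModuleCat.{u} R)).truncLT b).obj K).isZero_of_isLE (b - 1)
            (b + 1) (by omega)).eq_of_tgt _ _)
      haveI : IsIso ((homologyFunctor (ModuleCat.{u} R) b).map
          (((TStructure.t (C := ModuleCat.{u} R)).truncGEπ b).app K)) := isIso_of_mono_of_epi _
      have eM : (homologyFunctor (ModuleCat.{u} R) b).obj K ≅ M :=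
        asIso ((homologyFunctor (ModuleCat.{u} R) b).map
          (((TStructure.t (C := ModuleCat.{u} R)).truncGEπ b).app K)) ≪≫
          (homologyFunctor (ModuleCat.{u} R) b).mapIso eB ≪≫
            (singleFunctorCompHomologyFunctorIso (ModuleCat.{u} R) b).app M
      have rM : P (m - b) ((singleFunctor (ModuleCat.{u} R) 0).obj M) :=
        hiso _ ((singleFunctor (ModuleCat.{u} R) 0).mapIso eM) (hK b)
      have rB : P m (((TStructure.t (C := ModuleCat.{u} R)).truncGE b).obj K) :=
        hiso m (((singleFunctors (ModuleCat.{u} R)).shiftIso (-b) b 0 (by omega)).app M ≪≫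
          eB.symm) (hshift (m - b) m _ (-b) (by ring) rM)
      exact hext m _ hT rA rB

/-- an object with bounded cohomology whose cohomology modules `H^i` have tor amplitude in
`[a - i, b - i]` has tor amplitude in `[a, b]`. -/
theorem FA_of_homology (a b : ℤ) (K : DerivedCategory (ModuleCat.{u} R)) (c d : ℤ)
    (hcd : ∀ i : ℤ, i < c ∨ d < i → IsZero ((homologyFunctor (ModuleCat.{u} R) i).obj K))
    (hK : ∀ i : ℤ, FA (a - i) (b - i) ((singleFunctor (ModuleCat.{u} R) 0).obj
      ((homologyFunctor (ModuleCat.{u} R) i).obj K))) :
    FA a b K := by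
  have h0 := Int.self_le_toNat (d - c + 1)
  haveI : K.IsGE c := (K.isGE_iff c).2 (fun i hi => hcd i (Or.inl hi))
  haveI : K.IsLE d := (K.isLE_iff d).2 (fun i hi => hcd i (Or.inr hi))
  have key := prop_of_bounded_homology
    (fun (m : ℤ) (X : DerivedCategory (ModuleCat.{u} R)) => FA (a + m) (b + m) X)
    (fun m X hX => FA_of_isZero _ _ X hX)
    (@fun m K L e h => FA_of_iso e h)
    (fun m m' X n hm h => FA_shift n h (a + m') (b + m') (by omega) (by omega))
    (fun m T hT h₁ h₃ => (FA_two_of_three _ _ T hT).2.1 h₁ h₃)
    0 (d - c + 1).toNat K c d inferInstance inferInstance (by omega)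
    (fun i => by
      have e1 : a + (0 - i) = a - i := by omega
      have e2 : b + (0 - i) = b - i := by omega
      show FA (a + (0 - i)) (b + (0 - i)) _
      rw [e1, e2]
      exact hK i)
  have e1 : a + 0 = a := by omega
  have e2 : b + 0 = b := by omega
  have key' : FA (a + 0) (b + 0) K := key
  rw [e1, e2] at key'
  exact key'

end Groth.Agent.Helper6.FlatAmp
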