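import Mathlib
import Groth.Agent.Lib.Helper6.Flat7

/-!
# Hom groups `M[0] ⟶ K⟦i⟧` in `D(A)`: vanishing, Noetherianity, dévissage.
-/

set_option autoImplicit false
set_option linter.style.haveILetI false

universe u

open CategoryTheory Category Limits Pretriangulated DerivedCategory ZeroObject

attribute [local instance] HasDerivedCategory.standard

namespace Groth.Agent.Helper6.ExtFin

variable {A : Type u} [CommRing A]

/-- a module in degree `0`. -/
noncomputable abbrev sg (X : ModuleCat.{u} A) : DerivedCategory (ModuleCat.{u} A) :=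
  (DerivedCategory.singleFunctor (ModuleCat.{u} A) 0).obj X

lemma subsingleton_of_iso_left {X X' Z : DerivedCategory (ModuleCat.{u} A)} (e : X ≅ X')
    (h : Subsingleton (X ⟶ Z)) : Subsingleton (X' ⟶ Z) :=
  ⟨fun _ _ => (cancel_epi e.hom).1 (Subsingleton.elim _ _)⟩

lemma subsingleton_of_iso_right {X Z Z' : DerivedCategory (ModuleCat.{u} A)} (e : Z ≅ Z')
    (h : Subsingleton (X ⟶ Z)) : Subsingleton (X ⟶ Z') :=
  ⟨fun _ _ => (cancel_mono e.inv).1 (Subsingleton.elim _ _)⟩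

lemma subsingleton_shift_transfer {X Y : DerivedCategory (ModuleCat.{u} A)} (n : ℤ)
    {X' Y' : DerivedCategory (ModuleCat.{u} A)} (eX : X' ≅ X⟦n⟧) (eY : Y⟦n⟧ ≅ Y')
    (h : Subsingleton (X' ⟶ Y')) : Subsingleton (X ⟶ Y) :=
  ⟨fun f g => (CategoryTheory.shiftFunctor (DerivedCategory (ModuleCat.{u} A)) n).map_injective (by
    have h1 : eX.hom ≫ (f⟦n⟧' ≫ eY.hom) = eX.hom ≫ (g⟦n⟧' ≫ eY.hom) := Subsingleton.elim _ _
    exact (cancel_mono eY.hom).1 ((cancel_epi eX.hom).1 h1))⟩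

lemma subsingleton_of_isZero_left {X Z : DerivedCategory (ModuleCat.{u} A)} (h : IsZero X) :
    Subsingleton (X ⟶ Z) := ⟨fun f g => h.eq_of_src f g⟩

/-- contravariant exactness: vanishing of the outer terms gives vanishing of the middle. -/
lemma subsingleton_mid (T : Triangle (DerivedCategory (ModuleCat.{u} A)))
    (hT : T ∈ distTriang _) (Z : DerivedCategory (ModuleCat.{u} A))
    (h1 : Subsingleton (T.obj₁ ⟶ Z)) (h3 : Subsingleton (T.obj₃ ⟶ Z)) :
    Subsingleton (T.obj₂ ⟶ Z) := by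
  have key : ∀ f : T.obj₂ ⟶ Z, f = 0 := by
    intro f
    obtain ⟨g, hg⟩ := Triangle.yoneda_exact₂ T hT f (Subsingleton.elim _ _)
    rw [hg, Subsingleton.elim g 0, comp_zero]
  exact ⟨fun f g => by rw [key f, key g]⟩

/-- if `Hom(T₃, W⟦1⟧) = 0`, every map `T₁ ⟶ W` factors through `T₁ ⟶ T₂`. -/
lemma exists_factor_of_subsingleton (T : Triangle (DerivedCategory (ModuleCat.{u} A)))
    (hT : T ∈ distTriang _) (W : DerivedCategory (ModuleCat.{u} A))
    (hs : Subsingleton (T.obj₃ ⟶ W⟦(1 : ℤ)⟧)) (g₀ : T.obj₁ ⟶ W) :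
    ∃ g₁ : T.obj₂ ⟶ W, g₀ = T.mor₁ ≫ g₁ := by
  have hT' := inv_rot_of_distTriang _ hT
  have e : (T.obj₃⟦(-1 : ℤ)⟧)⟦(1 : ℤ)⟧ ≅ T.obj₃ :=
    (shiftFunctorCompIsoId (DerivedCategory (ModuleCat.{u} A)) (-1 : ℤ) 1 (by norm_num)).app T.obj₃
  have hz : T.invRotate.mor₁ ≫ g₀ = 0 := by
    have h0 : e.inv ≫ (CategoryTheory.shiftFunctor (DerivedCategory (ModuleCat.{u} A)) (1 : ℤ)).map
        (T.invRotate.mor₁ ≫ g₀) = e.inv ≫ 0 := Subsingleton.elim _ _
    have h1 := (cancel_epi e.inv).1 h0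
    exact (CategoryTheory.shiftFunctor (DerivedCategory (ModuleCat.{u} A)) (1 : ℤ)).map_injective
      (h1.trans (Functor.map_zero _ _ _).symm)
  obtain ⟨g, hg⟩ := Triangle.yoneda_exact₂ _ hT' g₀ hz
  exact ⟨g, hg⟩

/-! ### vanishing -/

lemma hom_single_neg (X Y : ModuleCat.{u} A) (n : ℤ) (hn : n < 0)
    (f : sg X ⟶ (sg Y)⟦n⟧) : f = 0 := by
  haveI : (TStructure.t (C := ModuleCat.{u} A)).IsGE ((sg Y)⟦n⟧) (-n) :=
    (TStructure.t (C := ModuleCat.{u} A)).isGE_shift (sg Y) 0 n (-n) (by omega)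
  exact (TStructure.t (C := ModuleCat.{u} A)).zero f 0 (-n) (by omega)

lemma subsingleton_hom_single_neg (X Y : ModuleCat.{u} A) (n : ℤ) (hn : n < 0) :
    Subsingleton (sg X ⟶ (sg Y)⟦n⟧) :=
  ⟨fun f g => by rw [hom_single_neg X Y n hn f, hom_single_neg X Y n hn g]⟩

lemma hom_single_proj_nat (P Y : ModuleCat.{u} A) [Projective P] (k : ℕ)
    (f : sg P ⟶ (sg Y)⟦((k + 1 : ℕ) : ℤ)⟧) : f = 0 := by
  have h : (Abelian.Ext.homAddEquiv (X := P) (Y := Y) (n := k + 1)).symm f = 0 :=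
    Abelian.Ext.eq_zero_of_projective _
  have h2 := congrArg (Abelian.Ext.homAddEquiv (X := P) (Y := Y) (n := k + 1)) h
  rwa [AddEquiv.apply_symm_apply, map_zero] at h2

lemma hom_single_proj (P Y : ModuleCat.{u} A) [Projective P] (n : ℤ) (hn : 0 < n)
    (f : sg P ⟶ (sg Y)⟦n⟧) : f = 0 := by
  obtain ⟨k, rfl⟩ : ∃ k : ℕ, n = ((k + 1 : ℕ) : ℤ) := ⟨(n - 1).toNat, by omega⟩
  exact hom_single_proj_nat P Y k f

lemma subsingleton_hom_single_proj (P Y : ModuleCat.{u} A) [Projective P] (n : ℤ) (hn : 0 < n) :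
    Subsingleton (sg P ⟶ (sg Y)⟦n⟧) :=
  ⟨fun f g => by rw [hom_single_proj P Y n hn f, hom_single_proj P Y n hn g]⟩

/-! ### Noetherianity -/

lemma noeth_of_surj {M N : Type*} [AddCommGroup M] [Module A M] [AddCommGroup N] [Module A N]
    (f : M →ₗ[A] N) (hf : Function.Surjective f) (h : IsNoetherian A M) : IsNoetherian A N :=
  isNoetherian_of_surjective f (LinearMap.range_eq_top.2 hf)

lemma noeth_of_subsingleton {M : Type*} [AddCommGroup M] [Module A M] (h : Subsingleton M) :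
    IsNoetherian A M := inferInstance

lemma noeth_postcomp {X Y Z : DerivedCategory (ModuleCat.{u} A)} (e : Y ≅ Z)
    (h : IsNoetherian A (X ⟶ Y)) : IsNoetherian A (X ⟶ Z) :=
  noeth_of_surj (Linear.rightComp A X e.hom) (fun g => ⟨g ≫ e.inv, by simp⟩) h

lemma noeth_precomp {X X' Z : DerivedCategory (ModuleCat.{u} A)} (e : X ≅ X')
    (h : IsNoetherian A (X ⟶ Z)) : IsNoetherian A (X' ⟶ Z) :=
  noeth_of_surj (Linear.leftComp A Z e.inv) (fun g => ⟨e.hom ≫ g, by simp⟩) h

lemma noeth_shift {X Y : DerivedCategory (ModuleCat.{u} A)} (n : ℤ)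
    (h : IsNoetherian A (X ⟶ Y)) : IsNoetherian A (X⟦n⟧ ⟶ Y⟦n⟧) :=
  noeth_of_surj
    ((CategoryTheory.shiftFunctor (DerivedCategory (ModuleCat.{u} A)) n).mapLinearMap A)
    (fun g => (CategoryTheory.shiftFunctor (DerivedCategory (ModuleCat.{u} A)) n).map_surjective g)
    h

/-- covariant exactness: Noetherian outer terms give a Noetherian middle term. -/
lemma noeth_mid (X : DerivedCategory (ModuleCat.{u} A))
    (T : Triangle (DerivedCategory (ModuleCat.{u} A))) (hT : T ∈ distTriang _)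
    (h1 : IsNoetherian A (X ⟶ T.obj₁)) (h3 : IsNoetherian A (X ⟶ T.obj₃)) :
    IsNoetherian A (X ⟶ T.obj₂) := by
  refine isNoetherian_of_range_eq_ker (Linear.rightComp A X T.mor₁)
    (Linear.rightComp A X T.mor₂) ?_
  apply le_antisymm
  · rintro _ ⟨g, rfl⟩
    rw [LinearMap.mem_ker]
    show (g ≫ T.mor₁) ≫ T.mor₂ = 0
    rw [Category.assoc, comp_distTriang_mor_zero₁₂ _ hT, comp_zero]
  · intro f hf
    obtain ⟨g, hg⟩ := Triangle.coyoneda_exact₂ T hT f (LinearMap.mem_ker.1 hf)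
    exact ⟨g, hg.symm⟩

lemma noeth_mid_shift (X : DerivedCategory (ModuleCat.{u} A))
    (T : Triangle (DerivedCategory (ModuleCat.{u} A))) (hT : T ∈ distTriang _) (i : ℤ)
    (h1 : IsNoetherian A (X ⟶ T.obj₁⟦i⟧)) (h3 : IsNoetherian A (X ⟶ T.obj₃⟦i⟧)) :
    IsNoetherian A (X ⟶ T.obj₂⟦i⟧) :=
  noeth_mid X _ (Triangle.shift_distinguished T hT i) h1 h3

lemma noeth_hom_single_zero [IsNoetherianRing A] (X Y : ModuleCat.{u} A) [Module.Finite A X]
    [Module.Finite A Y] : IsNoetherian A (sg X ⟶ sg Y) := by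
  haveI : IsNoetherian A Y := isNoetherian_of_isNoetherianRing_of_finite A Y
  have h1 : IsNoetherian A (X ⟶ Y) :=
    isNoetherian_of_linearEquiv (ModuleCat.homLinearEquiv (S := A)).symm
  exact noeth_of_surj ((DerivedCategory.singleFunctor (ModuleCat.{u} A) 0).mapLinearMap A)
    (fun g => (DerivedCategory.singleFunctor (ModuleCat.{u} A) 0).map_surjective g) h1

theorem noeth_hom_single_nat [IsNoetherianRing A] (Y : ModuleCat.{u} A) [Module.Finite A Y] :
    ∀ (k : ℕ) (X : ModuleCat.{u} A) [Module.Finite A X],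
      IsNoetherian A (sg X ⟶ (sg Y)⟦(k : ℤ)⟧) := by
  intro k
  induction k with
  | zero =>
    intro X _
    exact noeth_postcomp ((shiftFunctorZero' (DerivedCategory (ModuleCat.{u} A)) ((0 : ℕ) : ℤ)
      Nat.cast_zero).app (sg Y)).symm (noeth_hom_single_zero X Y)
  | succ k ih =>
    intro X _
    obtain ⟨n, f, hf⟩ := Module.Finite.exists_fin' (R := A) (M := X)
    haveI : Module.Finite A (ModuleCat.of A (LinearMap.ker f)) :=
      Module.Finite.iff_fg.2 (IsNoetherian.noetherian _)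
    let S : ShortComplex (ModuleCat.{u} A) :=
      ShortComplex.mk (ModuleCat.ofHom (LinearMap.ker f).subtype)
        (ModuleCat.ofHom f : ModuleCat.of A (Fin n → A) ⟶ X) (by
          ext x
          exact x.2)
    have hS : S.ShortExact :=
      { exact := (ShortComplex.ShortExact.moduleCat_exact_iff_function_exact S).2
          (LinearMap.exact_subtype_ker_map f)
        mono_f := (ModuleCat.mono_iff_injective _).2 (Submodule.injective_subtype _)
        epi_g := (ModuleCat.epi_iff_surjective _).2 hf }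
    have hT := hS.singleTriangle_distinguished
    haveI : Projective (ModuleCat.of A (Fin n → A)) :=
      ModuleCat.projective_of_categoryTheory_projective _
    have h1 : IsNoetherian A (hS.singleTriangle.obj₁ ⟶ (sg Y)⟦(k : ℤ)⟧) :=
      ih (ModuleCat.of A (LinearMap.ker f))
    have h2 := noeth_shift (1 : ℤ) h1
    have h3 : IsNoetherian A ((hS.singleTriangle.obj₁)⟦(1 : ℤ)⟧ ⟶ (sg Y)⟦((k + 1 : ℕ) : ℤ)⟧) :=
      noeth_postcomp ((shiftFunctorAdd' (DerivedCategory (ModuleCat.{u} A)) (k : ℤ) 1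
        ((k + 1 : ℕ) : ℤ) (by push_cast; ring)).app (sg Y)).symm h2
    refine noeth_of_surj (Linear.leftComp A _ hS.singleTriangle.mor₃) (fun g => ?_) h3
    have hz : hS.singleTriangle.mor₂ ≫ g = 0 :=
      hom_single_proj_nat (ModuleCat.of A (Fin n → A)) Y k _
    obtain ⟨g', hg'⟩ := Triangle.yoneda_exact₃ _ hT g hz
    exact ⟨g', hg'.symm⟩

theorem noeth_hom_single [IsNoetherianRing A] (X Y : ModuleCat.{u} A) [Module.Finite A X]
    [Module.Finite A Y] (n : ℤ) : IsNoetherian A (sg X ⟶ (sg Y)⟦n⟧) := by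
  by_cases hn : n < 0
  · exact noeth_of_subsingleton (subsingleton_hom_single_neg X Y n hn)
  · obtain ⟨k, rfl⟩ : ∃ k : ℕ, n = k := ⟨n.toNat, by omega⟩
    exact noeth_hom_single_nat Y k X

/-- Over a Noetherian ring, `Hom(M[0], K⟦i⟧)` is a Noetherian module for `M` finite and `K`
bounded with finite cohomology modules. -/
theorem noeth_hom_of_bounded [IsNoetherianRing A] (K : DerivedCategory (ModuleCat.{u} A))
    (c b : ℤ) [K.IsGE c] [K.IsLE b]
    (hK : ∀ i : ℤ, Module.Finite A ((homologyFunctor (ModuleCat.{u} A) i).obj K))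
    (X : ModuleCat.{u} A) [Module.Finite A X] (i : ℤ) : IsNoetherian A (sg X ⟶ K⟦i⟧) := by
  have key := Groth.Agent.Helper6.FlatAmp.prop_of_bounded_homology (R := A)
    (fun (_ : ℤ) (L : DerivedCategory (ModuleCat.{u} A)) =>
      ∀ (X : ModuleCat.{u} A) [Module.Finite A X] (i : ℤ), IsNoetherian A (sg X ⟶ L⟦i⟧))
    (fun _ L hL X _ i => noeth_of_subsingleton
      ⟨fun f g => (Functor.map_isZero (CategoryTheory.shiftFunctor _ i) hL).eq_of_tgt f g⟩)
    (@fun _ L L' e h X _ i =>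
      noeth_postcomp ((CategoryTheory.shiftFunctor _ i).mapIso e) (h X i))
    (fun _ _ L n _ h X _ i => noeth_postcomp
      ((shiftFunctorAdd' (DerivedCategory (ModuleCat.{u} A)) n i (n + i) rfl).app L)
      (h X (n + i)))
    (fun _ T hT h1 h3 X _ i => noeth_mid_shift (sg X) T hT i (h1 X i) (h3 X i))
    0 (b - c + 1).toNat K c b inferInstance inferInstance (by omega)
    (fun j X _ i => by
      haveI := hK j
      exact noeth_hom_single X ((homologyFunctor (ModuleCat.{u} A) j).obj K) i)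
  exact key X i

end Groth.Agent.Helper6.ExtFin
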