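import Mathlib
import Groth.Agent.Lib.Helper6.ExtFin

/-!
# Cohomology from maps out of the ring, and vanishing of Ext into a complex over a local ring.
-/

set_option autoImplicit false
set_option linter.style.haveILetI false

universe u

open CategoryTheory Category Limits Pretriangulated DerivedCategory ZeroObject

attribute [local instance] HasDerivedCategory.standard

namespace Groth.Agent.Helper6.ExtFin

open Groth.Agent.Helper6.FlatAmp

variable {A : Type u} [CommRing A]

/-- if there are no nonzero maps `A[0] ⟶ K⟦i⟧`, then `H^i(K) = 0`. -/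
lemma homology_isZero_of_hom_subsingleton (K : DerivedCategory (ModuleCat.{u} A)) (i : ℤ)
    (h : Subsingleton (sg (ModuleCat.of A A) ⟶ K⟦i⟧)) :
    IsZero ((homologyFunctor (ModuleCat.{u} A) i).obj K) := by
  obtain ⟨E, ⟨e⟩⟩ : ∃ E : CochainComplex (ModuleCat.{u} A) ℤ, Nonempty (Q.obj E ≅ K) :=
    ⟨Q.objPreimage K, ⟨Q.objObjPreimageIso K⟩⟩
  have hE : Subsingleton (sg (ModuleCat.of A A) ⟶ (Q.obj E)⟦i⟧) :=
    subsingleton_of_iso_right ((CategoryTheory.shiftFunctor _ i).mapIso e.symm) h
  refine IsZero.of_iso ?_ ((homologyFunctor (ModuleCat.{u} A) i).mapIso e.symm ≪≫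
    (homologyFunctorFactors (ModuleCat.{u} A) i).app E)
  show IsZero (E.homology i)
  have hπ : E.homologyπ i = 0 := by
    apply ModuleCat.hom_ext
    apply LinearMap.ext
    intro c
    obtain ⟨z, hz0⟩ : ∃ z : E.X i, z = (E.iCycles i).hom c := ⟨_, rfl⟩
    have hz : (E.d i (i + 1)).hom z = 0 := by
      rw [hz0]
      have := hom_apply_of_eq (E.iCycles_d i (i + 1)) c
      simpa only [ModuleCat.hom_comp, LinearMap.comp_apply, ModuleCat.hom_zero,
        LinearMap.zero_apply] using this
    obtain ⟨t, ht⟩ : ∃ t : ModuleCat.of A A ⟶ E.X i,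
        t = ModuleCat.ofHom (LinearMap.toSpanSingleton A (E.X i) z) := ⟨_, rfl⟩
    have ht1 : t.hom (1 : A) = z := by
      rw [ht]
      simp
    have htd : ∀ k : ℤ, (ComplexShape.up ℤ).Rel i k → t ≫ E.d i k = 0 := by
      intro k hk
      obtain rfl : i + 1 = k := hk
      apply ModuleCat.hom_ext
      apply LinearMap.ext
      intro a
      rw [ht]
      simp only [ModuleCat.hom_comp, ModuleCat.hom_ofHom, LinearMap.comp_apply,
        LinearMap.toSpanSingleton_apply, map_smul, hz, smul_zero, ModuleCat.hom_zero,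
        LinearMap.zero_apply]
    obtain ⟨S, hS⟩ : ∃ S : CochainComplex (ModuleCat.{u} A) ℤ,
        S = (CochainComplex.singleFunctor (ModuleCat.{u} A) i).obj (ModuleCat.of A A) := ⟨_, rfl⟩
    subst hS
    let φ : (CochainComplex.singleFunctor (ModuleCat.{u} A) i).obj (ModuleCat.of A A) ⟶ E :=
      HomologicalComplex.mkHomFromSingle t htd
    have hφ : φ.f i = (HomologicalComplex.singleObjXSelf (ComplexShape.up ℤ) i
        (ModuleCat.of A A)).hom ≫ t := HomologicalComplex.mkHomFromSingle_f t htd
    -- `Q.map φ = 0`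
    have hQ : Q.map φ = 0 := by
      let φ' : (DerivedCategory.singleFunctor (ModuleCat.{u} A) i).obj (ModuleCat.of A A) ⟶
          Q.obj E := (singleFunctorIsoCompQ (ModuleCat.{u} A) i).hom.app (ModuleCat.of A A) ≫
            Q.map φ
      have e1 := ((singleFunctors (ModuleCat.{u} A)).shiftIso i 0 i (by omega)).app
        (ModuleCat.of A A)
      have h0 : e1.inv ≫ φ'⟦i⟧' = e1.inv ≫ 0 := Subsingleton.elim _ _
      have h1 := (cancel_epi e1.inv).1 h0
      have h2 : φ' = 0 :=
        (CategoryTheory.shiftFunctor (DerivedCategory (ModuleCat.{u} A)) i).map_injective (by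
          rw [Functor.map_zero]
          exact h1)
      have h3 : (singleFunctorIsoCompQ (ModuleCat.{u} A) i).hom.app (ModuleCat.of A A) ≫
          Q.map φ = (singleFunctorIsoCompQ (ModuleCat.{u} A) i).hom.app (ModuleCat.of A A) ≫ 0 :=
        h2.trans comp_zero.symm
      exact (cancel_epi _).1 h3
    have hm : HomologicalComplex.homologyMap φ i = 0 := by
      have hnat := (homologyFunctorFactors (ModuleCat.{u} A) i).hom.naturality φ
      have h0 : (Q ⋙ homologyFunctor (ModuleCat.{u} A) i).map φ = 0 := by
        rw [Functor.comp_map, hQ, Functor.map_zero]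
      have ι := (homologyFunctorFactors (ModuleCat.{u} A) i).app
        ((CochainComplex.singleFunctor (ModuleCat.{u} A) i).obj (ModuleCat.of A A))
      have h1 : ((homologyFunctorFactors (ModuleCat.{u} A) i).app
          ((CochainComplex.singleFunctor (ModuleCat.{u} A) i).obj (ModuleCat.of A A))).hom ≫
          HomologicalComplex.homologyMap φ i = 0 :=
        hnat.symm.trans (by rw [h0]; exact zero_comp)
      exact (cancel_epi ((homologyFunctorFactors (ModuleCat.{u} A) i).app
          ((CochainComplex.singleFunctor (ModuleCat.{u} A) i).obj (ModuleCat.of A A))).hom).1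
        (h1.trans comp_zero.symm)
    -- the cycle lying over `1`
    let k₀ : ModuleCat.of A A ⟶
        ((CochainComplex.singleFunctor (ModuleCat.{u} A) i).obj (ModuleCat.of A A)).X i :=
      (HomologicalComplex.singleObjXSelf (ComplexShape.up ℤ) i (ModuleCat.of A A)).inv
    let c₀ : ModuleCat.of A A ⟶
        ((CochainComplex.singleFunctor (ModuleCat.{u} A) i).obj (ModuleCat.of A A)).cycles i :=
      HomologicalComplex.liftCycles _ k₀ (i + 1) (by simp) (by
        exact comp_zero)
    have hc₀ : c₀ ≫ HomologicalComplex.iCycles _ i = k₀ :=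
      HomologicalComplex.liftCycles_i _ k₀ (i + 1) _ _
    have hcomp : (c₀ ≫ HomologicalComplex.cyclesMap φ i) ≫ E.iCycles i = t := by
      rw [Category.assoc, HomologicalComplex.cyclesMap_i, ← Category.assoc, hc₀, hφ]
      exact Iso.inv_hom_id_assoc _ _
    have hinj : Function.Injective (E.iCycles i).hom :=
      (ModuleCat.mono_iff_injective _).1 inferInstance
    have hc : (c₀ ≫ HomologicalComplex.cyclesMap φ i).hom (1 : A) = c := by
      apply hinj
      have := hom_apply_of_eq hcomp (1 : A)
      rw [ht1, hz0] at this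
      simpa only [ModuleCat.hom_comp, LinearMap.comp_apply] using this
    have hfin : (c₀ ≫ HomologicalComplex.cyclesMap φ i) ≫ E.homologyπ i = 0 := by
      rw [Category.assoc, ← HomologicalComplex.homologyπ_naturality, hm, comp_zero, comp_zero]
    have := hom_apply_of_eq hfin (1 : A)
    rw [ModuleCat.hom_comp, LinearMap.comp_apply, hc] at this
    simpa only [ModuleCat.hom_zero, LinearMap.zero_apply] using this
  rw [IsZero.iff_id_eq_zero]
  exact (cancel_epi (E.homologyπ i)).1 (by rw [comp_id, comp_zero]; exact hπ)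

/-- boundedness from vanishing of the maps out of `A[0]`. -/
lemma isGE_isLE_of_hom_subsingleton (K : DerivedCategory (ModuleCat.{u} A)) (a b : ℤ)
    (h : ∀ i : ℤ, (i < a ∨ b < i) → Subsingleton (sg (ModuleCat.of A A) ⟶ K⟦i⟧)) :
    K.IsGE a ∧ K.IsLE b := by
  constructor
  · rw [isGE_iff]
    intro i hi
    exact homology_isZero_of_hom_subsingleton K i (h i (Or.inl hi))
  · rw [isLE_iff]
    intro i hi
    exact homology_isZero_of_hom_subsingleton K i (h i (Or.inr hi))

end Groth.Agent.Helper6.ExtFin
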