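import Mathlib
import Groth.Agent.Lib.Helper6.ExtFin2

/-!
# Vanishing of `Ext^i(M, ω)` over a Noetherian local ring from the residue field.
-/

set_option autoImplicit false
set_option linter.style.haveILetI false

universe u

open CategoryTheory Category Limits Pretriangulated DerivedCategory ZeroObject

attribute [local instance] HasDerivedCategory.standard

namespace Groth.Agent.Helper6.ExtFin

variable {A : Type u} [CommRing A]

lemma smul_id_comp {X Y : DerivedCategory (ModuleCat.{u} A)} (x : A) (g : X ⟶ Y) :
    (x • 𝟙 X) ≫ g = x • g := by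
  rw [Linear.smul_comp, Category.id_comp]

/-- Over a Noetherian local ring, if `Hom(M[0], ω⟦i⟧)` is always a Noetherian module
(for `M` finite) and `Hom(κ[0], ω⟦i⟧) = 0` for `i > c`, then `Hom(M[0], ω⟦i⟧) = 0` for all
finite `M` and `i > c`. -/
theorem ext_vanish_of_residue [IsLocalRing A] [IsNoetherianRing A]
    (ω : DerivedCategory (ModuleCat.{u} A)) (c : ℤ)
    (hfin : ∀ (X : ModuleCat.{u} A) [Module.Finite A X] (i : ℤ), IsNoetherian A (sg X ⟶ ω⟦i⟧))
    (hn : ∀ i : ℤ, c < i →
      Subsingleton (sg (ModuleCat.of A (A ⧸ IsLocalRing.maximalIdeal A)) ⟶ ω⟦i⟧)) :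
    ∀ (M : Type u) [AddCommGroup M] [Module A M] [Module.Finite A M] (i : ℤ), c < i →
      Subsingleton (sg (ModuleCat.of A M) ⟶ ω⟦i⟧) := by
  have main : ∀ I : Ideal A, ∀ (M : Type u) [AddCommGroup M] [Module A M] [Module.Finite A M],
      I ≤ Module.annihilator A M → ∀ i : ℤ, c < i →
        Subsingleton (sg (ModuleCat.of A M) ⟶ ω⟦i⟧) := by
    refine IsNoetherian.induction (P := fun I : Ideal A => ∀ (M : Type u) [AddCommGroup M]
      [Module A M] [Module.Finite A M], I ≤ Module.annihilator A M → ∀ i : ℤ, c < i →
        Subsingleton (sg (ModuleCat.of A M) ⟶ ω⟦i⟧)) ?_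
    intro I ih M _ _ hM
    induction hM using IsNoetherianRing.induction_on_isQuotientEquivQuotientPrime A with
    | subsingleton N =>
      intro _ i _
      exact subsingleton_of_isZero_left
        (Functor.map_isZero _ (ModuleCat.isZero_of_subsingleton (ModuleCat.of A N)))
    | quotient N p f =>
      intro hI i hi
      have hIp : I ≤ p.asIdeal := by
        have h1 := f.annihilator_eq
        rw [Ideal.annihilator_quotient] at h1
        exact h1 ▸ hI
      refine subsingleton_of_iso_left
        ((DerivedCategory.singleFunctor (ModuleCat.{u} A) 0).mapIso f.toModuleIso.symm) ?_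
      by_cases hp : p.asIdeal = IsLocalRing.maximalIdeal A
      · have e : (A ⧸ IsLocalRing.maximalIdeal A) ≃ₗ[A] (A ⧸ p.asIdeal) :=
          (Ideal.quotientEquivAlgOfEq A hp.symm).toLinearEquiv
        exact subsingleton_of_iso_left
          ((DerivedCategory.singleFunctor (ModuleCat.{u} A) 0).mapIso e.toModuleIso) (hn i hi)
      · have hlt : p.asIdeal < IsLocalRing.maximalIdeal A :=
          lt_of_le_of_ne (IsLocalRing.le_maximalIdeal p.2.ne_top) hp
        obtain ⟨x, hxm, hxp⟩ := SetLike.exists_of_lt hlt
        obtain ⟨ℓ, hℓ⟩ : ∃ ℓ : (A ⧸ p.asIdeal) →ₗ[A] (A ⧸ p.asIdeal),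
            ℓ = x • LinearMap.id := ⟨_, rfl⟩
        have hℓa : ∀ y, ℓ y = x • y := fun y => by rw [hℓ]; rfl
        have hinj : Function.Injective ℓ := by
          rw [← LinearMap.ker_eq_bot, LinearMap.ker_eq_bot']
          intro y hy
          obtain ⟨a, rfl⟩ := Ideal.Quotient.mk_surjective y
          have h2 : x • (Ideal.Quotient.mk p.asIdeal a) = 0 := (hℓa _).symm.trans hy
          rw [Algebra.smul_def, Ideal.Quotient.algebraMap_eq, ← map_mul] at h2
          rcases p.2.mem_or_mem (Ideal.Quotient.eq_zero_iff_mem.1 h2) with h | h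
          · exact absurd h hxp
          · exact Ideal.Quotient.eq_zero_iff_mem.2 h
        have hex : Function.Exact ℓ (LinearMap.range ℓ).mkQ := LinearMap.exact_map_mkQ_range ℓ
        have hsurj : Function.Surjective (LinearMap.range ℓ).mkQ := Submodule.mkQ_surjective _
        have hpJ : p.asIdeal ≤ Module.annihilator A ((A ⧸ p.asIdeal) ⧸ LinearMap.range ℓ) :=
          le_trans (le_of_eq Ideal.annihilator_quotient.symm)
            (LinearMap.annihilator_le_of_surjective _ hsurj)
        have hxJ : x ∈ Module.annihilator A ((A ⧸ p.asIdeal) ⧸ LinearMap.range ℓ) := by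
          rw [Module.mem_annihilator]
          intro y
          obtain ⟨y', rfl⟩ := hsurj y
          rw [← map_smul, ← hℓa]
          exact hex.apply_apply_eq_zero y'
        have hIJ : I < Module.annihilator A ((A ⧸ p.asIdeal) ⧸ LinearMap.range ℓ) := by
          refine lt_of_le_of_ne (hIp.trans hpJ) ?_
          intro heq
          exact hxp (hIp (heq ▸ hxJ))
        have hC := ih _ hIJ ((A ⧸ p.asIdeal) ⧸ LinearMap.range ℓ) le_rfl (i + 1) (by omega)
        let S : ShortComplex (ModuleCat.{u} A) :=
          ShortComplex.mk (ModuleCat.ofHom ℓ) (ModuleCat.ofHom (LinearMap.range ℓ).mkQ) (by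
            apply ModuleCat.hom_ext
            apply LinearMap.ext
            intro y
            exact hex.apply_apply_eq_zero y)
        have hS : S.ShortExact :=
          { exact := (ShortComplex.ShortExact.moduleCat_exact_iff_function_exact S).2 hex
            mono_f := (ModuleCat.mono_iff_injective _).2 hinj
            epi_g := (ModuleCat.epi_iff_surjective _).2 hsurj }
        have hT := hS.singleTriangle_distinguished
        have hmor : hS.singleTriangle.mor₁ = x • 𝟙 (sg (ModuleCat.of A (A ⧸ p.asIdeal))) := by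
          show (DerivedCategory.singleFunctor (ModuleCat.{u} A) 0).map (ModuleCat.ofHom ℓ) = _
          have h1 : ModuleCat.ofHom ℓ = x • 𝟙 (ModuleCat.of A (A ⧸ p.asIdeal)) := by
            rw [hℓ]
            rfl
          rw [h1, CategoryTheory.Functor.map_smul, CategoryTheory.Functor.map_id]
        have hs : Subsingleton (hS.singleTriangle.obj₃ ⟶ (ω⟦i⟧)⟦(1 : ℤ)⟧) :=
          subsingleton_of_iso_right
            ((shiftFunctorAdd' (DerivedCategory (ModuleCat.{u} A)) i 1 (i + 1) rfl).app ω) hC
        haveI : Module.Finite A (ModuleCat.of A (A ⧸ p.asIdeal)) :=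
          inferInstanceAs (Module.Finite A (A ⧸ p.asIdeal))
        have hE := hfin (ModuleCat.of A (A ⧸ p.asIdeal)) i
        have htop : (⊤ : Submodule A (sg (ModuleCat.of A (A ⧸ p.asIdeal)) ⟶ ω⟦i⟧)) = ⊥ := by
          refine Submodule.eq_bot_of_le_smul_of_le_jacobson_bot (IsLocalRing.maximalIdeal A) ⊤
            (IsNoetherian.noetherian ⊤) ?_ ?_
          · intro g₀ _
            obtain ⟨g₁, hg₁⟩ := exists_factor_of_subsingleton _ hT (ω⟦i⟧) hs g₀
            have h1 : g₀ = x • g₁ :=
              hg₁.trans ((congrArg (fun t => t ≫ g₁) hmor).trans (smul_id_comp x g₁))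
            rw [h1]
            exact Submodule.smul_mem_smul hxm Submodule.mem_top
          · exact (IsLocalRing.jacobson_eq_maximalIdeal ⊥ bot_ne_top).ge
        refine ⟨fun g g' => ?_⟩
        have hg : g ∈ (⊤ : Submodule A (sg (ModuleCat.of A (A ⧸ p.asIdeal)) ⟶ ω⟦i⟧)) :=
          Submodule.mem_top
        have hg' : g' ∈ (⊤ : Submodule A (sg (ModuleCat.of A (A ⧸ p.asIdeal)) ⟶ ω⟦i⟧)) :=
          Submodule.mem_top
        rw [htop, Submodule.mem_bot] at hg hg'
        rw [hg, hg']
    | exact N₁ N₂ N₃ f g hf hg hfg h₁ h₃ =>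
      intro hI i hi
      have hI1 : I ≤ Module.annihilator A N₁ :=
        hI.trans (LinearMap.annihilator_le_of_injective f hf)
      have hI3 : I ≤ Module.annihilator A N₃ :=
        hI.trans (LinearMap.annihilator_le_of_surjective g hg)
      let S : ShortComplex (ModuleCat.{u} A) :=
        ShortComplex.mk (ModuleCat.ofHom f) (ModuleCat.ofHom g) (by
          apply ModuleCat.hom_ext
          apply LinearMap.ext
          intro y
          exact hfg.apply_apply_eq_zero y)
      have hS : S.ShortExact :=
        { exact := (ShortComplex.ShortExact.moduleCat_exact_iff_function_exact S).2 hfg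
          mono_f := (ModuleCat.mono_iff_injective _).2 hf
          epi_g := (ModuleCat.epi_iff_surjective _).2 hg }
      exact subsingleton_mid _ hS.singleTriangle_distinguished _ (h₁ hI1 i hi) (h₃ hI3 i hi)
  intro M _ _ _ i hi
  exact main ⊥ M bot_le i hi

end Groth.Agent.Helper6.ExtFin
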