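import Mathlib
import Groth.Agent.Lib.Helper6.ExtFin3
import Groth.Agent.Lib.Helper6.PerfTri

/-!
# Finiteness of `Hom(K, L⟦i⟧)` for `L` of finite injective dimension.
-/

set_option autoImplicit false
set_option linter.style.haveILetI false

universe u

open CategoryTheory Category Limits Pretriangulated DerivedCategory ZeroObject

attribute [local instance] HasDerivedCategory.standard

namespace Groth.Agent.Helper6.ExtFin

open Groth.Agent.Helper6.PerfTri

variable {A : Type u} [CommRing A]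

/-- maps from an object in degrees `> b` to a bounded below complex of injectives vanishing
above `b` are zero. -/
lemma hom_to_Q_eq_zero (E : CochainComplex (ModuleCat.{u} A) ℤ) (a b : ℤ)
    (ha : ∀ i : ℤ, i < a → IsZero (E.X i)) (hb : ∀ i : ℤ, b < i → IsZero (E.X i))
    (hinj : ∀ i : ℤ, Module.Injective A (E.X i))
    (X : DerivedCategory (ModuleCat.{u} A)) [X.IsGE (b + 1)] (f : X ⟶ Q.obj E) : f = 0 := by
  obtain ⟨X', hX', ⟨e⟩⟩ := X.exists_iso_Q_obj_of_isGE (b + 1)
  haveI := kinj_of_bdd E a ha hinj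
  obtain ⟨φ, hφ⟩ := lift_of_kinj (e.inv ≫ f)
  have hφ0 : φ = 0 := by
    ext n : 1
    by_cases hn : n < b + 1
    · exact (X'.isZero_of_isStrictlyGE (b + 1) n hn).eq_of_src _ _
    · exact (hb n (by omega)).eq_of_tgt _ _
  have h1 : e.inv ≫ f = 0 := by rw [← hφ, hφ0, Functor.map_zero]
  have h2 : e.inv ≫ f = e.inv ≫ 0 := h1.trans comp_zero.symm
  exact (cancel_epi e.inv).1 h2

lemma hom_to_Q_shift_eq_zero (E : CochainComplex (ModuleCat.{u} A) ℤ) (a b : ℤ)
    (ha : ∀ i : ℤ, i < a → IsZero (E.X i)) (hb : ∀ i : ℤ, b < i → IsZero (E.X i))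
    (hinj : ∀ i : ℤ, Module.Injective A (E.X i)) (i d : ℤ) (hd : d = b - i + 1)
    (X : DerivedCategory (ModuleCat.{u} A)) [X.IsGE d] (f : X ⟶ (Q.obj E)⟦i⟧) : f = 0 := by
  subst hd
  haveI : (X⟦-i⟧).IsGE (b + 1) :=
    (TStructure.t (C := ModuleCat.{u} A)).isGE_shift X (b - i + 1) (-i) (b + 1) (by omega)
  have e : ((Q.obj E)⟦i⟧)⟦-i⟧ ≅ Q.obj E :=
    (shiftFunctorCompIsoId (DerivedCategory (ModuleCat.{u} A)) i (-i) (add_neg_cancel i)).app _
  have h0 : f⟦-i⟧' ≫ e.hom = 0 := hom_to_Q_eq_zero E a b ha hb hinj _ _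
  have h1 : f⟦-i⟧' ≫ e.hom = 0 ≫ e.hom := h0.trans zero_comp.symm
  have h2 := (cancel_mono e.hom).1 h1
  exact (CategoryTheory.shiftFunctor (DerivedCategory (ModuleCat.{u} A)) (-i)).map_injective (by
    rw [Functor.map_zero]
    exact h2)

/-- contravariant exactness: Noetherian outer terms give a Noetherian middle term. -/
lemma noeth_mid_contra (T : Triangle (DerivedCategory (ModuleCat.{u} A)))
    (hT : T ∈ distTriang _) (Z : DerivedCategory (ModuleCat.{u} A))
    (h1 : IsNoetherian A (T.obj₁ ⟶ Z)) (h3 : IsNoetherian A (T.obj₃ ⟶ Z)) :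
    IsNoetherian A (T.obj₂ ⟶ Z) := by
  refine isNoetherian_of_range_eq_ker (Linear.leftComp A Z T.mor₂)
    (Linear.leftComp A Z T.mor₁) ?_
  apply le_antisymm
  · rintro _ ⟨g, rfl⟩
    rw [LinearMap.mem_ker]
    show T.mor₁ ≫ (T.mor₂ ≫ g) = 0
    rw [← Category.assoc, comp_distTriang_mor_zero₁₂ _ hT, zero_comp]
  · intro f hf
    obtain ⟨g, hg⟩ := Triangle.yoneda_exact₂ T hT f (LinearMap.mem_ker.1 hf)
    exact ⟨g, hg.symm⟩

/-- `Hom(K, L⟦i⟧)` is Noetherian for `K`, `L` bounded with finite cohomology. -/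
theorem noeth_hom_of_bounded_left [IsNoetherianRing A]
    (K L : DerivedCategory (ModuleCat.{u} A)) (c d a b : ℤ) [K.IsGE c] [K.IsLE d]
    [L.IsGE a] [L.IsLE b]
    (hK : ∀ i : ℤ, Module.Finite A ((homologyFunctor (ModuleCat.{u} A) i).obj K))
    (hL : ∀ i : ℤ, Module.Finite A ((homologyFunctor (ModuleCat.{u} A) i).obj L))
    (i : ℤ) : IsNoetherian A (K ⟶ L⟦i⟧) := by
  have key := Groth.Agent.Helper6.FlatAmp.prop_of_bounded_homology (R := A)
    (fun (_ : ℤ) (M : DerivedCategory (ModuleCat.{u} A)) =>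
      ∀ (i : ℤ), IsNoetherian A (M ⟶ L⟦i⟧))
    (fun _ M hM i => noeth_of_subsingleton (subsingleton_of_isZero_left hM))
    (@fun _ M M' e h i => noeth_precomp e (h i))
    (fun _ _ M n _ h i => noeth_postcomp
      ((shiftFunctorAdd' (DerivedCategory (ModuleCat.{u} A)) (i - n) n i (by omega)).app L).symm
      (noeth_shift n (h (i - n))))
    (fun _ T hT h1 h3 i => noeth_mid_contra T hT _ (h1 i) (h3 i))
    0 (d - c + 1).toNat K c d inferInstance inferInstance (by omega)
    (fun j i => by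
      haveI := hK j
      exact noeth_hom_of_bounded L a b hL ((homologyFunctor (ModuleCat.{u} A) j).obj K) i)
  exact key i

lemma finite_homology_truncLT (K : DerivedCategory (ModuleCat.{u} A)) (b : ℤ)
    (hK : ∀ i : ℤ, Module.Finite A ((homologyFunctor (ModuleCat.{u} A) i).obj K)) (i : ℤ) :
    Module.Finite A ((homologyFunctor (ModuleCat.{u} A) i).obj
      (((TStructure.t (C := ModuleCat.{u} A)).truncLT b).obj K)) := by
  have hT := (TStructure.t (C := ModuleCat.{u} A)).triangleLTGE_distinguished b K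
  by_cases hi : i < b
  · haveI : Mono ((homologyFunctor (ModuleCat.{u} A) i).map
        (((TStructure.t (C := ModuleCat.{u} A)).truncLTι b).app K)) :=
      (HomologySequence.mono_homologyMap_mor₁_iff _ hT (i - 1) i (by omega)).2
        (((((TStructure.t (C := ModuleCat.{u} A)).truncGE b).obj K).isZero_of_isGE b (i - 1)
          (by omega)).eq_of_src _ _)
    haveI : Epi ((homologyFunctor (ModuleCat.{u} A) i).map
        (((TStructure.t (C := ModuleCat.{u} A)).truncLTι b).app K)) :=
      (HomologySequence.epi_homologyMap_mor₁_iff _ hT i).2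
        (((((TStructure.t (C := ModuleCat.{u} A)).truncGE b).obj K).isZero_of_isGE b i
          hi).eq_of_tgt _ _)
    haveI : IsIso ((homologyFunctor (ModuleCat.{u} A) i).map
        (((TStructure.t (C := ModuleCat.{u} A)).truncLTι b).app K)) :=
      isIso_of_mono_of_epi _
    haveI : Module.Finite A ((homologyFunctor (ModuleCat.{u} A) i).obj
        ((𝟭 (DerivedCategory (ModuleCat.{u} A))).obj K)) := hK i
    exact Module.Finite.equiv (asIso ((homologyFunctor (ModuleCat.{u} A) i).map
        (((TStructure.t (C := ModuleCat.{u} A)).truncLTι b).app K))).toLinearEquiv.symm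
  · haveI : Subsingleton ((homologyFunctor (ModuleCat.{u} A) i).obj
        (((TStructure.t (C := ModuleCat.{u} A)).truncLT b).obj K)) :=
      ModuleCat.subsingleton_of_isZero
        ((((TStructure.t (C := ModuleCat.{u} A)).truncLT b).obj K).isZero_of_isLE (b - 1) i
          (by omega))
    infer_instance

lemma finite_homology_truncGE (K : DerivedCategory (ModuleCat.{u} A)) (b : ℤ)
    (hK : ∀ i : ℤ, Module.Finite A ((homologyFunctor (ModuleCat.{u} A) i).obj K)) (i : ℤ) :
    Module.Finite A ((homologyFunctor (ModuleCat.{u} A) i).obj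
      (((TStructure.t (C := ModuleCat.{u} A)).truncGE b).obj K)) := by
  have hT := (TStructure.t (C := ModuleCat.{u} A)).triangleLTGE_distinguished b K
  by_cases hi : b ≤ i
  · haveI : Mono ((homologyFunctor (ModuleCat.{u} A) i).map
        (((TStructure.t (C := ModuleCat.{u} A)).truncGEπ b).app K)) :=
      (HomologySequence.mono_homologyMap_mor₂_iff _ hT i).2
        (((((TStructure.t (C := ModuleCat.{u} A)).truncLT b).obj K).isZero_of_isLE (b - 1) i
          (by omega)).eq_of_src _ _)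
    haveI : Epi ((homologyFunctor (ModuleCat.{u} A) i).map
        (((TStructure.t (C := ModuleCat.{u} A)).truncGEπ b).app K)) :=
      (HomologySequence.epi_homologyMap_mor₂_iff _ hT i (i + 1) rfl).2
        (((((TStructure.t (C := ModuleCat.{u} A)).truncLT b).obj K).isZero_of_isLE (b - 1)
          (i + 1) (by omega)).eq_of_tgt _ _)
    haveI : IsIso ((homologyFunctor (ModuleCat.{u} A) i).map
        (((TStructure.t (C := ModuleCat.{u} A)).truncGEπ b).app K)) := isIso_of_mono_of_epi _
    haveI : Module.Finite A ((homologyFunctor (ModuleCat.{u} A) i).obj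
        ((𝟭 (DerivedCategory (ModuleCat.{u} A))).obj K)) := hK i
    exact Module.Finite.equiv (asIso ((homologyFunctor (ModuleCat.{u} A) i).map
        (((TStructure.t (C := ModuleCat.{u} A)).truncGEπ b).app K))).toLinearEquiv
  · haveI : Subsingleton ((homologyFunctor (ModuleCat.{u} A) i).obj
        (((TStructure.t (C := ModuleCat.{u} A)).truncGE b).obj K)) :=
      ModuleCat.subsingleton_of_isZero
        ((((TStructure.t (C := ModuleCat.{u} A)).truncGE b).obj K).isZero_of_isGE b i
          (by omega))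
    infer_instance

/-- `Hom(K, L⟦i⟧)` is a Noetherian module when `K`, `L` have finite cohomology modules and
`L` is represented by a bounded complex of injectives. -/
theorem noeth_hom_of_injAmp [IsNoetherianRing A]
    (K : DerivedCategory (ModuleCat.{u} A))
    (hK : ∀ i : ℤ, Module.Finite A ((homologyFunctor (ModuleCat.{u} A) i).obj K))
    (E : CochainComplex (ModuleCat.{u} A) ℤ) (a b : ℤ)
    (hE : ∀ i : ℤ, i < a ∨ b < i → IsZero (E.X i))
    (hinj : ∀ i : ℤ, Module.Injective A (E.X i))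
    (hL : ∀ i : ℤ, Module.Finite A ((homologyFunctor (ModuleCat.{u} A) i).obj (Q.obj E)))
    (i : ℤ) : IsNoetherian A (K ⟶ (Q.obj E)⟦i⟧) := by
  haveI : E.IsStrictlyGE a := by
    rw [CochainComplex.isStrictlyGE_iff]
    exact fun j hj => hE j (Or.inl hj)
  haveI : E.IsStrictlyLE b := by
    rw [CochainComplex.isStrictlyLE_iff]
    exact fun j hj => hE j (Or.inr hj)
  haveI : (Q.obj E).IsGE a := inferInstance
  haveI : (Q.obj E).IsLE b := inferInstance
  haveI : ((Q.obj E)⟦i⟧).IsGE (a - i) :=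
    (TStructure.t (C := ModuleCat.{u} A)).isGE_shift (Q.obj E) a i (a - i) (by omega)
  -- lower truncation
  obtain ⟨K₁, hK₁⟩ : ∃ K₁, K₁ = ((TStructure.t (C := ModuleCat.{u} A)).truncGE (a - i)).obj K :=
    ⟨_, rfl⟩
  haveI : K₁.IsGE (a - i) := by rw [hK₁]; infer_instance
  have hK₁fin : ∀ j : ℤ, Module.Finite A ((homologyFunctor (ModuleCat.{u} A) j).obj K₁) := by
    rw [hK₁]
    exact finite_homology_truncGE K (a - i) hK
  have step1 : IsNoetherian A (K₁ ⟶ (Q.obj E)⟦i⟧) → IsNoetherian A (K ⟶ (Q.obj E)⟦i⟧) := by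
    intro h
    subst hK₁
    refine noeth_of_surj (Linear.leftComp A _
      (((TStructure.t (C := ModuleCat.{u} A)).truncGEπ (a - i)).app K)) (fun f => ?_) h
    have hT := (TStructure.t (C := ModuleCat.{u} A)).triangleLTGE_distinguished (a - i) K
    haveI : (((TStructure.t (C := ModuleCat.{u} A)).truncLT (a - i)).obj K).IsLE (a - i - 1) :=
      inferInstance
    have hz : ((TStructure.t (C := ModuleCat.{u} A)).truncLTι (a - i)).app K ≫ f = 0 :=
      (TStructure.t (C := ModuleCat.{u} A)).zero _ (a - i - 1) (a - i) (by omega)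
    obtain ⟨g, hg⟩ := Triangle.yoneda_exact₂ _ hT f hz
    exact ⟨g, hg.symm⟩
  apply step1
  -- upper truncation
  obtain ⟨K₂, hK₂⟩ : ∃ K₂, K₂ =
      ((TStructure.t (C := ModuleCat.{u} A)).truncLT (b - i + 1)).obj K₁ := ⟨_, rfl⟩
  haveI : K₂.IsGE (a - i) := by rw [hK₂]; infer_instance
  haveI : K₂.IsLE (b - i + 1 - 1) := by rw [hK₂]; infer_instance
  have hK₂fin : ∀ j : ℤ, Module.Finite A ((homologyFunctor (ModuleCat.{u} A) j).obj K₂) := by
    rw [hK₂]
    exact finite_homology_truncLT K₁ (b - i + 1) hK₁fin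
  have h2 : IsNoetherian A (K₂ ⟶ (Q.obj E)⟦i⟧) :=
    noeth_hom_of_bounded_left K₂ (Q.obj E) (a - i) (b - i + 1 - 1) a b hK₂fin hL i
  subst hK₂
  refine isNoetherian_of_injective (Linear.leftComp A _
    (((TStructure.t (C := ModuleCat.{u} A)).truncLTι (b - i + 1)).app K₁)) ?_
  rw [← LinearMap.ker_eq_bot, LinearMap.ker_eq_bot']
  intro f hf
  have hT := (TStructure.t (C := ModuleCat.{u} A)).triangleLTGE_distinguished (b - i + 1) K₁
  obtain ⟨g, hg⟩ := Triangle.yoneda_exact₂ _ hT f hf
  have hg0 : g = 0 := hom_to_Q_shift_eq_zero E a b (fun j hj => hE j (Or.inl hj))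
    (fun j hj => hE j (Or.inr hj)) hinj i (b - i + 1) rfl _ g
  rw [hg, hg0]
  exact comp_zero

end Groth.Agent.Helper6.ExtFin
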