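import Mathlib
import Groth.Agent.Lib.Helper6.ExtFin4

/-!
# Right adjoints of restriction of scalars on derived categories.
-/

set_option autoImplicit false
set_option linter.style.haveILetI false

universe u

open CategoryTheory Category Limits Pretriangulated DerivedCategory ZeroObject

attribute [local instance] HasDerivedCategory.standard

namespace Groth.Agent.Helper6.AdjRes

open Groth.Agent.Helper6.ExtFin

variable {A B : Type u} [CommRing A] [CommRing B] (φ : A →+* B)

/-- restriction of scalars on derived categories. -/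
noncomputable abbrev resD :
    DerivedCategory (ModuleCat.{u} B) ⥤ DerivedCategory (ModuleCat.{u} A) :=
  (ModuleCat.restrictScalars.{u} φ).mapDerivedCategory

lemma restrict_map_smul (N : ModuleCat.{u} B) (a : A) :
    (ModuleCat.restrictScalars.{u} φ).map (φ a • 𝟙 N) =
      a • 𝟙 ((ModuleCat.restrictScalars.{u} φ).obj N) := by
  apply ModuleCat.hom_ext
  apply LinearMap.ext
  intro x
  rfl

lemma resD_map_smul (N : ModuleCat.{u} B) (a : A) :
    (resD φ).map (φ a • 𝟙 ((DerivedCategory.singleFunctor (ModuleCat.{u} B) 0).obj N)) =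
      a • 𝟙 ((resD φ).obj ((DerivedCategory.singleFunctor (ModuleCat.{u} B) 0).obj N)) := by
  have hnat := ((ModuleCat.restrictScalars.{u} φ).mapDerivedCategorySingleFunctor 0).hom.naturality
    (φ a • 𝟙 N)
  have h1 : φ a • 𝟙 ((DerivedCategory.singleFunctor (ModuleCat.{u} B) 0).obj N) =
      (DerivedCategory.singleFunctor (ModuleCat.{u} B) 0).map (φ a • 𝟙 N) := by
    rw [CategoryTheory.Functor.map_smul, CategoryTheory.Functor.map_id]
  rw [h1]
  have h2 : (resD φ).map ((DerivedCategory.singleFunctor (ModuleCat.{u} B) 0).map (φ a • 𝟙 N)) ≫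
      ((ModuleCat.restrictScalars.{u} φ).mapDerivedCategorySingleFunctor 0).hom.app N =
      (a • 𝟙 _) ≫
        ((ModuleCat.restrictScalars.{u} φ).mapDerivedCategorySingleFunctor 0).hom.app N := by
    refine hnat.trans ?_
    rw [Functor.comp_map, restrict_map_smul, CategoryTheory.Functor.map_smul,
      CategoryTheory.Functor.map_id, Linear.comp_smul, Linear.smul_comp]
    exact congrArg (fun t => a • t) ((Category.comp_id _).trans (Category.id_comp _).symm)
  exact (cancel_mono _).1 h2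

variable {φ}
variable (R : DerivedCategory (ModuleCat.{u} A) ⥤ DerivedCategory (ModuleCat.{u} B))
  (adj : resD φ ⊣ R)

/-- a right adjoint of restriction commutes with shifts. -/
noncomputable def shiftIsoR (ω : DerivedCategory (ModuleCat.{u} A)) (i : ℤ) :
    R.obj (ω⟦i⟧) ≅ (R.obj ω)⟦i⟧ :=
  (Adjunction.RightAdjointCommShift.iso adj i).app ω

/-- `Hom_B(X, R(ω)⟦i⟧) ≃ Hom_A(X_A, ω⟦i⟧)`. -/
noncomputable def homEquivShift (X : DerivedCategory (ModuleCat.{u} B))
    (ω : DerivedCategory (ModuleCat.{u} A)) (i : ℤ) :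
    (X ⟶ (R.obj ω)⟦i⟧) ≃+ ((resD φ).obj X ⟶ ω⟦i⟧) where
  toFun m := (adj.homEquiv X (ω⟦i⟧)).symm (m ≫ (shiftIsoR R adj ω i).inv)
  invFun n := adj.homEquiv X (ω⟦i⟧) n ≫ (shiftIsoR R adj ω i).hom
  left_inv m := by simp
  right_inv n := by simp
  map_add' m m' := by
    show (adj.homAddEquiv X (ω⟦i⟧)).symm ((m + m') ≫ (shiftIsoR R adj ω i).inv) =
      (adj.homAddEquiv X (ω⟦i⟧)).symm (m ≫ (shiftIsoR R adj ω i).inv) +
        (adj.homAddEquiv X (ω⟦i⟧)).symm (m' ≫ (shiftIsoR R adj ω i).inv)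
    rw [Preadditive.add_comp, map_add]

lemma homEquivShift_apply (X : DerivedCategory (ModuleCat.{u} B))
    (ω : DerivedCategory (ModuleCat.{u} A)) (i : ℤ) (m : X ⟶ (R.obj ω)⟦i⟧) :
    homEquivShift R adj X ω i m =
      (adj.homEquiv X (ω⟦i⟧)).symm (m ≫ (shiftIsoR R adj ω i).inv) := rfl

lemma homEquivShift_smul (N : ModuleCat.{u} B) (ω : DerivedCategory (ModuleCat.{u} A)) (i : ℤ)
    (a : A) (m : (DerivedCategory.singleFunctor (ModuleCat.{u} B) 0).obj N ⟶ (R.obj ω)⟦i⟧) :
    homEquivShift R adj _ ω i (φ a • m) = a • homEquivShift R adj _ ω i m := by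
  rw [homEquivShift_apply, homEquivShift_apply]
  have h1 : (φ a • m) ≫ (shiftIsoR R adj ω i).inv =
      (φ a • 𝟙 _) ≫ (m ≫ (shiftIsoR R adj ω i).inv) := by
    rw [Linear.smul_comp, Linear.smul_comp, Category.id_comp]
  rw [h1, Adjunction.homEquiv_naturality_left_symm, resD_map_smul, Linear.smul_comp,
    Category.id_comp]

/-! ### quotients along a surjection -/

variable (φ)

/-- `a ↦ [φ a] : A → B/q`, as an `A`-linear map to the restriction of scalars. -/
noncomputable def quotLin (q : Ideal B) :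
    A →ₗ[A] ((ModuleCat.restrictScalars.{u} φ).obj (ModuleCat.of B (B ⧸ q))) where
  toFun a := (Ideal.Quotient.mk q (φ a) : B ⧸ q)
  map_add' a b := by
    show Ideal.Quotient.mk q (φ (a + b)) = Ideal.Quotient.mk q (φ a) + Ideal.Quotient.mk q (φ b)
    rw [map_add, map_add]
  map_smul' a x := by
    show Ideal.Quotient.mk q (φ (a * x)) = φ a • Ideal.Quotient.mk q (φ x)
    rw [map_mul, map_mul, Algebra.smul_def, Ideal.Quotient.algebraMap_eq]

lemma quotLin_apply (q : Ideal B) (a : A) :
    quotLin φ q a = (Ideal.Quotient.mk q (φ a) : B ⧸ q) := rfl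

lemma quotLin_surjective (hφ : Function.Surjective φ) (q : Ideal B) :
    Function.Surjective (quotLin φ q) := by
  intro y
  obtain ⟨b, hb⟩ := Ideal.Quotient.mk_surjective (I := q) y
  obtain ⟨a, rfl⟩ := hφ b
  exact ⟨a, hb⟩

lemma quotLin_ker (q : Ideal B) : LinearMap.ker (quotLin φ q) = q.comap φ := by
  ext a
  rw [LinearMap.mem_ker, quotLin_apply]
  exact Ideal.Quotient.eq_zero_iff_mem

/-- `A/φ⁻¹(q) ≃ B/q` over `A`. -/
noncomputable def quotEquiv (hφ : Function.Surjective φ) (q : Ideal B) :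
    (A ⧸ q.comap φ) ≃ₗ[A] ((ModuleCat.restrictScalars.{u} φ).obj (ModuleCat.of B (B ⧸ q))) :=
  (Submodule.quotEquivOfEq _ _ (quotLin_ker φ q).symm).trans
    (LinearMap.quotKerEquivOfSurjective (quotLin φ q) (quotLin_surjective φ hφ q))

/-- `(A/φ⁻¹(q))[0] ≅ (B/q)[0]` restricted to `A`. -/
noncomputable def quotIso (hφ : Function.Surjective φ) (q : Ideal B) :
    (DerivedCategory.singleFunctor (ModuleCat.{u} A) 0).obj (ModuleCat.of A (A ⧸ q.comap φ)) ≅
      (resD φ).obj ((DerivedCategory.singleFunctor (ModuleCat.{u} B) 0).obj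
        (ModuleCat.of B (B ⧸ q))) :=
  (DerivedCategory.singleFunctor (ModuleCat.{u} A) 0).mapIso (quotEquiv φ hφ q).toModuleIso ≪≫
    (((ModuleCat.restrictScalars.{u} φ).mapDerivedCategorySingleFunctor 0).app
      (ModuleCat.of B (B ⧸ q))).symm

/-- semilinear bijections and nontriviality of localizations. -/
lemma nontrivial_localizedModule_iff_of_semilinear (hφ : Function.Surjective φ) (q : Ideal B)
    [q.IsPrime] {M' M : Type*} [AddCommGroup M'] [Module B M'] [AddCommGroup M] [Module A M]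
    (Ψ : M' ≃ M) (hΨ : ∀ (a : A) (m' : M'), Ψ (φ a • m') = a • Ψ m') :
    Nontrivial (LocalizedModule q.primeCompl M') ↔
      Nontrivial (LocalizedModule (q.comap φ).primeCompl M) := by
  rw [← not_subsingleton_iff_nontrivial, ← not_subsingleton_iff_nontrivial,
    LocalizedModule.subsingleton_iff, LocalizedModule.subsingleton_iff]
  have hΨ0 : Ψ 0 = 0 := by
    have h := hΨ 0 0
    rwa [smul_zero, zero_smul] at h
  constructor
  · intro h h'
    apply h
    intro m'
    obtain ⟨a, ha, ham⟩ := h' (Ψ m')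
    refine ⟨φ a, ha, ?_⟩
    apply Ψ.injective
    rw [hΨ, ham, hΨ0]
  · intro h h'
    apply h
    intro m
    obtain ⟨b, hb, hbm⟩ := h' (Ψ.symm m)
    obtain ⟨a, rfl⟩ := hφ b
    refine ⟨a, hb, ?_⟩
    have h1 := hΨ a (Ψ.symm m)
    rw [hbm, hΨ0, Equiv.apply_symm_apply] at h1
    exact h1.symm

end Groth.Agent.Helper6.AdjRes
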