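import Mathlib
import Groth.Agent.Lib.Helper6.AdjRes

/-!
# Cohomology is a quotient of the maps out of the ring; finiteness for right adjoints of
restriction of scalars.
-/

set_option autoImplicit false
set_option linter.style.haveILetI false

universe u

open CategoryTheory Category Limits Pretriangulated DerivedCategory ZeroObject

attribute [local instance] HasDerivedCategory.standard

namespace Groth.Agent.Helper6.AdjRes

open Groth.Agent.Helper6.ExtFin Groth.Agent.Helper6.FlatAmp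

section OneRing

variable {B : Type u} [CommRing B]

/-- maps from a projective module in degree `0` to an object in degrees `≤ -1` vanish. -/
lemma hom_single_proj_to_isLE (P : ModuleCat.{u} B) [Projective P]
    (Z : DerivedCategory (ModuleCat.{u} B)) [Z.IsLE (-1)]
    (f : (DerivedCategory.singleFunctor (ModuleCat.{u} B) 0).obj P ⟶ Z) : f = 0 := by
  obtain ⟨Z', hZ', ⟨e⟩⟩ := Z.exists_iso_Q_obj_of_isLE (-1)
  have h : (singleFunctorIsoCompQ (ModuleCat.{u} B) 0).inv.app P ≫ f ≫ e.hom = 0 :=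
    DerivedCategory.from_singleFunctor_obj_eq_zero_of_projective (P := P) (L := Z') (i := 0)
      _ (-1) (by norm_num)
  have h2 : (singleFunctorIsoCompQ (ModuleCat.{u} B) 0).inv.app P ≫ f ≫ e.hom =
      (singleFunctorIsoCompQ (ModuleCat.{u} B) 0).inv.app P ≫ 0 := h.trans comp_zero.symm
  have h3 : f ≫ e.hom = 0 ≫ e.hom := ((cancel_epi _).1 h2).trans zero_comp.symm
  exact (cancel_mono e.hom).1 h3

/-- the canonical generator of `H⁰(B[0])`. -/
noncomputable def gen : ((homologyFunctor (ModuleCat.{u} B) 0).obj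
    ((DerivedCategory.singleFunctor (ModuleCat.{u} B) 0).obj (ModuleCat.of B B)) : ModuleCat B) :=
  ((singleFunctorCompHomologyFunctorIso (ModuleCat.{u} B) 0).inv.app (ModuleCat.of B B)).hom
    (1 : B)

lemma gen_map (M : ModuleCat.{u} B) (g : ModuleCat.of B B ⟶ M) :
    ((homologyFunctor (ModuleCat.{u} B) 0).map
      ((DerivedCategory.singleFunctor (ModuleCat.{u} B) 0).map g)).hom gen =
    ((singleFunctorCompHomologyFunctorIso (ModuleCat.{u} B) 0).inv.app M).hom (g.hom (1 : B)) := by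
  have hnat := (singleFunctorCompHomologyFunctorIso (ModuleCat.{u} B) 0).inv.naturality g
  have h := hom_apply_of_eq hnat (1 : B)
  simp only [ModuleCat.hom_comp, LinearMap.comp_apply] at h
  exact h.symm

/-- evaluation at the generator: `Hom(B[0], Y) → H⁰(Y)`. -/
noncomputable def evalH0 (Y : DerivedCategory (ModuleCat.{u} B)) :
    ((DerivedCategory.singleFunctor (ModuleCat.{u} B) 0).obj (ModuleCat.of B B) ⟶ Y) →ₗ[B]
      ((homologyFunctor (ModuleCat.{u} B) 0).obj Y) where
  toFun f := ((homologyFunctor (ModuleCat.{u} B) 0).map f).hom gen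
  map_add' f g := by
    rw [CategoryTheory.Functor.map_add, ModuleCat.hom_add, LinearMap.add_apply]
  map_smul' b f := by
    have h1 : b • f = (DerivedCategory.singleFunctor (ModuleCat.{u} B) 0).map
        (b • 𝟙 (ModuleCat.of B B)) ≫ f := by
      rw [CategoryTheory.Functor.map_smul, CategoryTheory.Functor.map_id, Linear.smul_comp,
        Category.id_comp]
    have h2 : (b • 𝟙 (ModuleCat.of B B) : ModuleCat.of B B ⟶ ModuleCat.of B B).hom (1 : B) =
        b • (1 : B) := rfl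
    rw [h1, CategoryTheory.Functor.map_comp, ModuleCat.hom_comp, LinearMap.comp_apply, gen_map,
      h2, map_smul, map_smul]
    rfl

lemma evalH0_apply (Y : DerivedCategory (ModuleCat.{u} B))
    (f : (DerivedCategory.singleFunctor (ModuleCat.{u} B) 0).obj (ModuleCat.of B B) ⟶ Y) :
    evalH0 Y f = ((homologyFunctor (ModuleCat.{u} B) 0).map f).hom gen := rfl

/-- lifting classes for objects in degrees `≤ 0`. -/
lemma exists_lift_of_isLE (Y₁ : DerivedCategory (ModuleCat.{u} B)) [Y₁.IsLE 0]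
    (x₁ : (homologyFunctor (ModuleCat.{u} B) 0).obj Y₁) :
    ∃ f₁ : (DerivedCategory.singleFunctor (ModuleCat.{u} B) 0).obj (ModuleCat.of B B) ⟶ Y₁,
      ((homologyFunctor (ModuleCat.{u} B) 0).map f₁).hom gen = x₁ := by
  have hT2 := (TStructure.t (C := ModuleCat.{u} B)).triangleLTGE_distinguished 0 Y₁
  haveI : (((TStructure.t (C := ModuleCat.{u} B)).truncGE 0).obj Y₁).IsGE 0 := inferInstance
  haveI : (((TStructure.t (C := ModuleCat.{u} B)).truncGE 0).obj Y₁).IsLE 0 := inferInstance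
  haveI : (((TStructure.t (C := ModuleCat.{u} B)).truncLT 0).obj Y₁).IsLE (0 - 1) := inferInstance
  haveI : Mono ((homologyFunctor (ModuleCat.{u} B) 0).map
      (((TStructure.t (C := ModuleCat.{u} B)).truncGEπ 0).app Y₁)) :=
    (HomologySequence.mono_homologyMap_mor₂_iff _ hT2 0).2
      (((((TStructure.t (C := ModuleCat.{u} B)).truncLT 0).obj Y₁).isZero_of_isLE (0 - 1) 0
        (by omega)).eq_of_src _ _)
  obtain ⟨π, hπ⟩ : ∃ π : Y₁ ⟶ ((TStructure.t (C := ModuleCat.{u} B)).truncGE 0).obj Y₁,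
      π = ((TStructure.t (C := ModuleCat.{u} B)).truncGEπ 0).app Y₁ := ⟨_, rfl⟩
  have hπinj : Function.Injective ((homologyFunctor (ModuleCat.{u} B) 0).map π).hom := by
    rw [hπ]
    exact (ModuleCat.mono_iff_injective _).1 inferInstance
  obtain ⟨M, ⟨e₂⟩⟩ := exists_iso_singleFunctor_obj_of_isGE_of_isLE
    (((TStructure.t (C := ModuleCat.{u} B)).truncGE 0).obj Y₁) 0
  obtain ⟨x₂, hx₂⟩ : ∃ x₂, x₂ = ((homologyFunctor (ModuleCat.{u} B) 0).map π).hom x₁ := ⟨_, rfl⟩
  obtain ⟨y, hy⟩ : ∃ y, y = ((homologyFunctor (ModuleCat.{u} B) 0).map e₂.hom).hom x₂ := ⟨_, rfl⟩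
  obtain ⟨m, hm⟩ : ∃ m : M, m =
      ((singleFunctorCompHomologyFunctorIso (ModuleCat.{u} B) 0).hom.app M).hom y := ⟨_, rfl⟩
  obtain ⟨g, hg⟩ : ∃ g : ModuleCat.of B B ⟶ M,
      g = ModuleCat.ofHom (LinearMap.toSpanSingleton B M m) := ⟨_, rfl⟩
  have hg1 : g.hom (1 : B) = m := by
    rw [hg]
    simp
  have hιι : ((singleFunctorCompHomologyFunctorIso (ModuleCat.{u} B) 0).inv.app M).hom m = y := by
    rw [hm]
    have h := hom_apply_of_eq
      ((singleFunctorCompHomologyFunctorIso (ModuleCat.{u} B) 0).hom_inv_id_app M) y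
    simpa only [ModuleCat.hom_comp, LinearMap.comp_apply, ModuleCat.hom_id,
      LinearMap.id_apply] using h
  have hee : ((homologyFunctor (ModuleCat.{u} B) 0).map e₂.inv).hom y = x₂ := by
    rw [hy]
    have h0 : (homologyFunctor (ModuleCat.{u} B) 0).map e₂.hom ≫
        (homologyFunctor (ModuleCat.{u} B) 0).map e₂.inv = 𝟙 _ := by
      rw [← CategoryTheory.Functor.map_comp, e₂.hom_inv_id, CategoryTheory.Functor.map_id]
    have h := hom_apply_of_eq h0 x₂
    simpa only [ModuleCat.hom_comp, LinearMap.comp_apply, ModuleCat.hom_id,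
      LinearMap.id_apply] using h
  obtain ⟨f₂, hf₂⟩ : ∃ f₂ : (DerivedCategory.singleFunctor (ModuleCat.{u} B) 0).obj
      (ModuleCat.of B B) ⟶ ((TStructure.t (C := ModuleCat.{u} B)).truncGE 0).obj Y₁,
      f₂ = (DerivedCategory.singleFunctor (ModuleCat.{u} B) 0).map g ≫ e₂.inv := ⟨_, rfl⟩
  have hf₂x : ((homologyFunctor (ModuleCat.{u} B) 0).map f₂).hom gen = x₂ := by
    rw [hf₂, CategoryTheory.Functor.map_comp, ModuleCat.hom_comp, LinearMap.comp_apply, gen_map,
      hg1, hιι, hee]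
  -- lift `f₂` through `π`
  haveI : ((((TStructure.t (C := ModuleCat.{u} B)).truncLT 0).obj Y₁)⟦(1 : ℤ)⟧).IsLE (-2) :=
    (TStructure.t (C := ModuleCat.{u} B)).isLE_shift _ (0 - 1) 1 (-2) (by norm_num)
  haveI : ((((TStructure.t (C := ModuleCat.{u} B)).truncLT 0).obj Y₁)⟦(1 : ℤ)⟧).IsLE (-1) :=
    (TStructure.t (C := ModuleCat.{u} B)).isLE_of_le _ (-2) (-1) (by norm_num)
  have hz : f₂ ≫ (((TStructure.t (C := ModuleCat.{u} B)).triangleLTGE 0).obj Y₁).mor₃ = 0 :=
    hom_single_proj_to_isLE (ModuleCat.of B B)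
      ((((TStructure.t (C := ModuleCat.{u} B)).truncLT 0).obj Y₁)⟦(1 : ℤ)⟧) _
  obtain ⟨f₁, hf₁'⟩ : ∃ f₁ : (DerivedCategory.singleFunctor (ModuleCat.{u} B) 0).obj
      (ModuleCat.of B B) ⟶ Y₁, f₂ = f₁ ≫ π := by
    obtain ⟨f, hf⟩ := Triangle.coyoneda_exact₃ _ hT2 f₂ hz
    exact ⟨f, by rw [hπ]; exact hf⟩
  refine ⟨f₁, hπinj ?_⟩
  rw [← hx₂, ← hf₂x, hf₁', CategoryTheory.Functor.map_comp, ModuleCat.hom_comp,
    LinearMap.comp_apply]

theorem evalH0_surjective (Y : DerivedCategory (ModuleCat.{u} B)) :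
    Function.Surjective (evalH0 Y) := by
  intro x
  have hT1 := (TStructure.t (C := ModuleCat.{u} B)).triangleLTGE_distinguished 1 Y
  haveI : (((TStructure.t (C := ModuleCat.{u} B)).truncLT 1).obj Y).IsLE (1 - 1) := inferInstance
  haveI : (((TStructure.t (C := ModuleCat.{u} B)).truncLT 1).obj Y).IsLE 0 :=
    (TStructure.t (C := ModuleCat.{u} B)).isLE_of_le _ (1 - 1) 0 (by norm_num)
  haveI : Epi ((homologyFunctor (ModuleCat.{u} B) 0).map
      (((TStructure.t (C := ModuleCat.{u} B)).truncLTι 1).app Y)) :=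
    (HomologySequence.epi_homologyMap_mor₁_iff _ hT1 0).2
      (((((TStructure.t (C := ModuleCat.{u} B)).truncGE 1).obj Y).isZero_of_isGE 1 0
        (by omega)).eq_of_tgt _ _)
  obtain ⟨x₁, hx₁⟩ := ((ModuleCat.epi_iff_surjective ((homologyFunctor (ModuleCat.{u} B) 0).map
      (((TStructure.t (C := ModuleCat.{u} B)).truncLTι 1).app Y))).1 inferInstance) x
  obtain ⟨f₁, hf₁⟩ := exists_lift_of_isLE
    (((TStructure.t (C := ModuleCat.{u} B)).truncLT 1).obj Y) x₁
  refine ⟨f₁ ≫ ((TStructure.t (C := ModuleCat.{u} B)).truncLTι 1).app Y, ?_⟩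
  rw [evalH0_apply, CategoryTheory.Functor.map_comp, ModuleCat.hom_comp, LinearMap.comp_apply,
    hf₁]
  exact hx₁

/-- `H^i(X)` is a finite module as soon as `Hom(B[0], X⟦i⟧)` is. -/
theorem finite_homology_of_finite_hom (X : DerivedCategory (ModuleCat.{u} B)) (i : ℤ)
    (h : Module.Finite B
      ((DerivedCategory.singleFunctor (ModuleCat.{u} B) 0).obj (ModuleCat.of B B) ⟶ X⟦i⟧)) :
    Module.Finite B ((homologyFunctor (ModuleCat.{u} B) i).obj X) := by
  haveI : Module.Finite B ((homologyFunctor (ModuleCat.{u} B) 0).obj (X⟦i⟧)) :=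
    Module.Finite.of_surjective (evalH0 (X⟦i⟧)) (evalH0_surjective _)
  have e : (homologyFunctor (ModuleCat.{u} B) 0).obj (X⟦i⟧) ≅
      (homologyFunctor (ModuleCat.{u} B) i).obj X :=
    ((homologyFunctor (ModuleCat.{u} B) 0).shiftIso i 0 i (by omega)).app X
  exact Module.Finite.equiv e.toLinearEquiv

end OneRing

end Groth.Agent.Helper6.AdjRes
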