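import Mathlib
import Groth.Agent.Lib.Helper6.AdjRes2

/-!
# Finiteness of the cohomology of `R(K)` for `R` right adjoint to restriction along a finite map.
-/

set_option autoImplicit false
set_option linter.style.haveILetI false

universe u

open CategoryTheory Category Limits Pretriangulated DerivedCategory ZeroObject

attribute [local instance] HasDerivedCategory.standard

namespace Groth.Agent.Helper6.AdjRes

open Groth.Agent.Helper6.ExtFin Groth.Agent.Helper6.FlatAmp

/-- `Hom(M[0], K⟦i⟧)` is Noetherian for `M` finite and `K` bounded below with finite cohomology. -/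
theorem noeth_hom_of_bddBelow {A : Type u} [CommRing A] [IsNoetherianRing A]
    (K : DerivedCategory (ModuleCat.{u} A)) (a : ℤ) [K.IsGE a]
    (hK : ∀ i : ℤ, Module.Finite A ((homologyFunctor (ModuleCat.{u} A) i).obj K))
    (X : ModuleCat.{u} A) [Module.Finite A X] (i : ℤ) : IsNoetherian A (sg X ⟶ K⟦i⟧) := by
  have hT := (TStructure.t (C := ModuleCat.{u} A)).triangleLTGE_distinguished (i + 1) K
  have hTs := Triangle.shift_distinguished _ hT i
  haveI : (((TStructure.t (C := ModuleCat.{u} A)).truncLT (i + 1)).obj K).IsGE a := inferInstance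
  haveI : (((TStructure.t (C := ModuleCat.{u} A)).truncLT (i + 1)).obj K).IsLE (i + 1 - 1) :=
    inferInstance
  have h1 : IsNoetherian A
      (sg X ⟶ (((TStructure.t (C := ModuleCat.{u} A)).truncLT (i + 1)).obj K)⟦i⟧) :=
    noeth_hom_of_bounded _ a (i + 1 - 1) (finite_homology_truncLT K (i + 1) hK) X i
  refine noeth_of_surj (Linear.rightComp A (sg X)
    ((CategoryTheory.shiftFunctor (Triangle (DerivedCategory (ModuleCat.{u} A))) i).obj
      (((TStructure.t (C := ModuleCat.{u} A)).triangleLTGE (i + 1)).obj K)).mor₁) (fun f => ?_) h1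
  haveI : ((((TStructure.t (C := ModuleCat.{u} A)).truncGE (i + 1)).obj K)⟦i⟧).IsGE 1 :=
    (TStructure.t (C := ModuleCat.{u} A)).isGE_shift _ (i + 1) i 1 (by omega)
  have hz : f ≫ ((CategoryTheory.shiftFunctor (Triangle (DerivedCategory (ModuleCat.{u} A))) i).obj
      (((TStructure.t (C := ModuleCat.{u} A)).triangleLTGE (i + 1)).obj K)).mor₂ = 0 :=
    (TStructure.t (C := ModuleCat.{u} A)).zero (X := sg X)
      (Y := (((TStructure.t (C := ModuleCat.{u} A)).truncGE (i + 1)).obj K)⟦i⟧) _ 0 1 (by omega)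
  obtain ⟨g, hg⟩ := Triangle.coyoneda_exact₂ _ hTs f hz
  exact ⟨g, hg.symm⟩

variable {A B : Type u} [CommRing A] [CommRing B] [Algebra A B]

/-- `B` as an `A`-module is the restriction of scalars of `B`. -/
noncomputable def algRestrictEquiv :
    B ≃ₗ[A] ((ModuleCat.restrictScalars.{u} (algebraMap A B)).obj (ModuleCat.of B B)) where
  toFun b := b
  invFun b := b
  left_inv _ := rfl
  right_inv _ := rfl
  map_add' _ _ := rfl
  map_smul' a b := by
    show a • b = algebraMap A B a • b
    rw [Algebra.smul_def, smul_eq_mul]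

/-- the cohomology modules of `R(K)` are finite `B`-modules. -/
theorem finite_homology_rightAdjoint [IsNoetherianRing A] [Module.Finite A B]
    (R : DerivedCategory (ModuleCat.{u} A) ⥤ DerivedCategory (ModuleCat.{u} B))
    (adj : resD (algebraMap A B) ⊣ R) (K : DerivedCategory (ModuleCat.{u} A)) (a : ℤ)
    [K.IsGE a] (hK : ∀ i : ℤ, Module.Finite A ((homologyFunctor (ModuleCat.{u} A) i).obj K))
    (i : ℤ) : Module.Finite B ((homologyFunctor (ModuleCat.{u} B) i).obj (R.obj K)) := by
  apply finite_homology_of_finite_hom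
  haveI : Module.Finite A ((ModuleCat.restrictScalars.{u} (algebraMap A B)).obj
      (ModuleCat.of B B)) := Module.Finite.equiv (algRestrictEquiv (A := A) (B := B))
  have hM0 : IsNoetherian A (sg ((ModuleCat.restrictScalars.{u} (algebraMap A B)).obj
      (ModuleCat.of B B)) ⟶ K⟦i⟧) := noeth_hom_of_bddBelow K a hK _ i
  have hM : IsNoetherian A ((resD (algebraMap A B)).obj
      ((DerivedCategory.singleFunctor (ModuleCat.{u} B) 0).obj (ModuleCat.of B B)) ⟶ K⟦i⟧) :=
    noeth_precomp (((ModuleCat.restrictScalars.{u} (algebraMap A B)).mapDerivedCategorySingleFunctor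
      0).app (ModuleCat.of B B)).symm hM0
  letI : Module A ((DerivedCategory.singleFunctor (ModuleCat.{u} B) 0).obj (ModuleCat.of B B) ⟶
      (R.obj K)⟦i⟧) := Module.compHom _ (algebraMap A B)
  haveI : IsScalarTower A B ((DerivedCategory.singleFunctor (ModuleCat.{u} B) 0).obj
      (ModuleCat.of B B) ⟶ (R.obj K)⟦i⟧) := IsScalarTower.of_algebraMap_smul (fun _ _ => rfl)
  let Ψlin : ((DerivedCategory.singleFunctor (ModuleCat.{u} B) 0).obj (ModuleCat.of B B) ⟶
      (R.obj K)⟦i⟧) ≃ₗ[A] ((resD (algebraMap A B)).obj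
      ((DerivedCategory.singleFunctor (ModuleCat.{u} B) 0).obj (ModuleCat.of B B)) ⟶ K⟦i⟧) :=
    { homEquivShift R adj _ K i with
      map_smul' := fun a m => homEquivShift_smul R adj (ModuleCat.of B B) K i a m }
  haveI : Module.Finite A ((resD (algebraMap A B)).obj
      ((DerivedCategory.singleFunctor (ModuleCat.{u} B) 0).obj (ModuleCat.of B B)) ⟶ K⟦i⟧) :=
    inferInstance
  haveI : Module.Finite A ((DerivedCategory.singleFunctor (ModuleCat.{u} B) 0).obj
      (ModuleCat.of B B) ⟶ (R.obj K)⟦i⟧) := Module.Finite.equiv Ψlin.symm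
  exact Module.Finite.of_restrictScalars_finite A B _

end Groth.Agent.Helper6.AdjRes
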