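import Mathlib

set_option autoImplicit false
universe v
open CategoryTheory CategoryTheory.Limits

namespace Groth.Agent.Helper6.AlmostFiltered

variable {I : Type v} [SmallCategory I]

lemma colim_map_ι_apply {F G : I ⥤ Type v} (α : F ⟶ G) (i : I) (x : F.obj i) :
    colim.map α (colimit.ι F i x) = colimit.ι G i (α.app i x) :=
  colimit.ι_map_apply α i x

lemma common_refine
    (h1 : ∀ ⦃w x y : I⦄ (a : w ⟶ x) (b : w ⟶ y), ∃ (z : I) (c : x ⟶ z) (d : y ⟶ z), a ≫ c = b ≫ d)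
    {k : I} {α : Type*} [Finite α] (m : α → I) (g : ∀ a, k ⟶ m a) :
    ∃ (M : I) (G : k ⟶ M), ∀ a, ∃ h : m a ⟶ M, g a ≫ h = G := by
  classical
  cases nonempty_fintype α
  suffices H : ∀ s : Finset α, ∃ (M : I) (G : k ⟶ M), ∀ a ∈ s, ∃ h : m a ⟶ M, g a ≫ h = G by
    obtain ⟨M, G, hG⟩ := H Finset.univ
    exact ⟨M, G, fun a => hG a (Finset.mem_univ a)⟩
  intro s
  induction s using Finset.induction_on with
  | empty => exact ⟨k, 𝟙 k, fun a ha => by simp at ha⟩
  | insert a₀ s ha₀ ih =>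
    obtain ⟨M, G, hG⟩ := ih
    obtain ⟨z, c, d, hcd⟩ := h1 G (g a₀)
    refine ⟨z, G ≫ c, fun a ha => ?_⟩
    rcases Finset.mem_insert.1 ha with rfl | ha
    · exact ⟨d, hcd.symm⟩
    · obtain ⟨h, hh⟩ := hG a ha
      exact ⟨h ≫ c, by rw [← Category.assoc, hh]⟩

lemma colimit_eq_iff
    (h1 : ∀ ⦃w x y : I⦄ (a : w ⟶ x) (b : w ⟶ y), ∃ (z : I) (c : x ⟶ z) (d : y ⟶ z), a ≫ c = b ≫ d)
    (G : I ⥤ Type v) {i i' : I} (x : G.obj i) (x' : G.obj i') :
    colimit.ι G i x = colimit.ι G i' x' ↔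
      ∃ (k : I) (f : i ⟶ k) (f' : i' ⟶ k), G.map f x = G.map f' x' := by
  constructor
  · intro h
    have h' := Types.colimit_eq h
    suffices H : ∀ p q : Σ j, G.obj j, Relation.EqvGen G.ColimitTypeRel p q →
        ∃ (k : I) (f : p.1 ⟶ k) (f' : q.1 ⟶ k), G.map f p.2 = G.map f' q.2 from H _ _ h'
    intro p q hpq
    induction hpq with
    | rel p q r =>
      obtain ⟨f, hf⟩ := r
      exact ⟨q.1, f, 𝟙 _, by rw [G.map_id_apply]; exact hf.symm⟩
    | refl p => exact ⟨p.1, 𝟙 _, 𝟙 _, rfl⟩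
    | symm p q _ ih =>
      obtain ⟨k, f, f', e⟩ := ih
      exact ⟨k, f', f, e.symm⟩
    | trans p q r _ _ ih₁ ih₂ =>
      obtain ⟨k, f, f', e⟩ := ih₁
      obtain ⟨k', g, g', e'⟩ := ih₂
      obtain ⟨z, c, d, hcd⟩ := h1 f' g
      refine ⟨z, f ≫ c, g' ≫ d, ?_⟩
      rw [G.map_comp_apply, G.map_comp_apply, e, ← e', ← G.map_comp_apply, ← G.map_comp_apply, hcd]
  · rintro ⟨k, f, f', e⟩
    exact Types.colimit_sound' f f' e

lemma exists_map_eq
    (h1 : ∀ ⦃w x y : I⦄ (a : w ⟶ x) (b : w ⟶ y), ∃ (z : I) (c : x ⟶ z) (d : y ⟶ z), a ≫ c = b ≫ d)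
    (h2 : ∀ ⦃x y : I⦄ (a b : x ⟶ y), ∃ (z : I) (c : y ⟶ z), a ≫ c = b ≫ c)
    (G : I ⥤ Type v) {k : I} (y y' : G.obj k) (h : colimit.ι G k y = colimit.ι G k y') :
    ∃ (m : I) (g : k ⟶ m), G.map g y = G.map g y' := by
  obtain ⟨m, f, f', e⟩ := (colimit_eq_iff h1 G y y').1 h
  obtain ⟨z, c, hc⟩ := h2 f f'
  refine ⟨z, f ≫ c, ?_⟩
  rw [G.map_comp_apply, e, ← G.map_comp_apply, ← hc]

theorem main
    (h1 : ∀ ⦃w x y : I⦄ (a : w ⟶ x) (b : w ⟶ y), ∃ (z : I) (c : x ⟶ z) (d : y ⟶ z), a ≫ c = b ≫ d)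
    (h2 : ∀ ⦃x y : I⦄ (a b : x ⟶ y), ∃ (z : I) (c : y ⟶ z), a ≫ c = b ≫ c)
    (J : Type) [SmallCategory J] [FinCategory J] [IsConnected J] :
    PreservesLimitsOfShape J (colim : (I ⥤ Type v) ⥤ Type v) := by
  refine ⟨fun {K} => ?_⟩
  refine preservesLimit_of_preserves_limit_cone (limit.isLimit K) ?_
  refine ((Types.isLimit_iff _).2 ?_).some
  have hev : ∀ (i : I) (t : ∀ j, (K.obj j).obj i),
      (∀ {j j' : J} (u : j ⟶ j'), (K.map u).app i (t j) = t j') →
      ∃! y : (limit K).obj i, ∀ j, (limit.π K j).app i y = t j := by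
    intro i t ht
    have hl : IsLimit (((evaluation I (Type v)).obj i).mapCone (limit.cone K)) :=
      isLimitOfPreserves _ (limit.isLimit K)
    exact (Types.isLimit_iff _).1 ⟨hl⟩ t (fun {j j'} u => ht u)
  have F1 : ∀ (j : J) {i i' : I} (f : i ⟶ i') (y : (limit K).obj i),
      (limit.π K j).app i' ((limit K).map f y) = (K.obj j).map f ((limit.π K j).app i y) :=
    fun j {i i'} f y => NatTrans.naturality_apply (limit.π K j) f y
  have F2 : ∀ {i : I} (y y' : (limit K).obj i),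
      (∀ j, (limit.π K j).app i y = (limit.π K j).app i y') → y = y' := by
    intro i y y' h
    obtain ⟨z, -, hz⟩ := hev i (fun j => (limit.π K j).app i y') (by
      intro j j' u
      have e : (limit.π K j ≫ K.map u).app i y' = (limit.π K j').app i y' := by rw [limit.w]
      exact (NatTrans.comp_app_apply (limit.π K j) (K.map u) i y').symm.trans e)
    exact (hz y h).trans (hz y' (fun _ => rfl)).symm
  have hinj : ∀ x x' : colimit (limit K),
      (∀ j, colim.map (limit.π K j) x = colim.map (limit.π K j) x') → x = x' := by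
    intro x x' hxx
    obtain ⟨i, y, rfl⟩ := Types.jointly_surjective' x
    obtain ⟨i', y', rfl⟩ := Types.jointly_surjective' x'
    have hxx' : ∀ j, colimit.ι (K.obj j) i ((limit.π K j).app i y) =
        colimit.ι (K.obj j) i' ((limit.π K j).app i' y') := by
      intro j
      have := hxx j
      rwa [colim_map_ι_apply, colim_map_ι_apply] at this
    obtain ⟨j₀⟩ : Nonempty J := inferInstance
    obtain ⟨k, f, f', -⟩ := (colimit_eq_iff h1 _ _ _).1 (hxx' j₀)
    have e1 : colimit.ι (limit K) i y = colimit.ι (limit K) k ((limit K).map f y) :=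
      (colimit.w_apply (limit K) f y).symm
    have e2 : colimit.ι (limit K) i' y' = colimit.ι (limit K) k ((limit K).map f' y') :=
      (colimit.w_apply (limit K) f' y').symm
    rw [e1, e2]
    obtain ⟨z, hz⟩ : ∃ z, z = (limit K).map f y := ⟨_, rfl⟩
    obtain ⟨z', hz'⟩ : ∃ z', z' = (limit K).map f' y' := ⟨_, rfl⟩
    rw [← hz, ← hz']
    have hzz : ∀ j, colimit.ι (K.obj j) k ((limit.π K j).app k z) =
        colimit.ι (K.obj j) k ((limit.π K j).app k z') := by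
      intro j
      rw [hz, hz', F1, F1, colimit.w_apply, colimit.w_apply]
      exact hxx' j
    have hex : ∀ j, ∃ (m : I) (g : k ⟶ m), (K.obj j).map g ((limit.π K j).app k z) =
        (K.obj j).map g ((limit.π K j).app k z') :=
      fun j => exists_map_eq h1 h2 _ _ _ (hzz j)
    choose mm gg hgg using hex
    obtain ⟨M, G, hG⟩ := common_refine h1 mm gg
    have hzG : (limit K).map G z = (limit K).map G z' := by
      apply F2
      intro j
      obtain ⟨h, hh⟩ := hG j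
      rw [F1, F1, ← hh, Functor.map_comp_apply, Functor.map_comp_apply, hgg j]
    calc colimit.ι (limit K) k z = colimit.ι (limit K) M ((limit K).map G z) :=
          (colimit.w_apply (limit K) G z).symm
      _ = colimit.ι (limit K) M ((limit K).map G z') := by rw [hzG]
      _ = colimit.ι (limit K) k z' := colimit.w_apply (limit K) G z'
  intro s hs
  show ∃! x : colimit (limit K), ∀ j, colim.map (limit.π K j) x = s j
  have hs' : ∀ {j j' : J} (u : j ⟶ j'), colim.map (K.map u) (s j) = s j' := fun u => hs u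
  choose idx a ha using fun j => Types.jointly_surjective' (F := K.obj j) (s j)
  have hR : ∀ j j' : J, ∃ k : I, Nonempty (idx j ⟶ k) ∧ Nonempty (idx j' ⟶ k) := by
    refine equiv_relation (fun j j' => ∃ k : I, Nonempty (idx j ⟶ k) ∧ Nonempty (idx j' ⟶ k))
      ⟨?_, ?_, ?_⟩ ?_
    · intro j
      exact ⟨idx j, ⟨𝟙 _⟩, ⟨𝟙 _⟩⟩
    · rintro j j' ⟨k, p, q⟩
      exact ⟨k, q, p⟩
    · rintro j j' j'' ⟨k, ⟨p⟩, ⟨q⟩⟩ ⟨k', ⟨p'⟩, ⟨q'⟩⟩
      obtain ⟨z, c, d, -⟩ := h1 q p'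
      exact ⟨z, ⟨p ≫ c⟩, ⟨q' ≫ d⟩⟩
    · intro j j' u
      have e := hs' u
      rw [← ha j, ← ha j', colim_map_ι_apply] at e
      obtain ⟨k, f, f', -⟩ := (colimit_eq_iff h1 _ _ _).1 e
      exact ⟨k, ⟨f⟩, ⟨f'⟩⟩
  obtain ⟨j₀⟩ : Nonempty J := inferInstance
  choose kk hk using hR j₀
  have p : ∀ j, idx j₀ ⟶ kk j := fun j => (hk j).1.some
  have q : ∀ j, idx j ⟶ kk j := fun j => (hk j).2.some
  obtain ⟨M₁, P, hP⟩ := common_refine h1 kk p
  choose hh hhP using hP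
  obtain ⟨b, hbdef⟩ : ∃ b : ∀ j, (K.obj j).obj M₁, ∀ j, b j = (K.obj j).map (q j ≫ hh j) (a j) :=
    ⟨_, fun _ => rfl⟩
  have hb : ∀ j, colimit.ι (K.obj j) M₁ (b j) = s j := by
    intro j
    rw [← ha j, hbdef j]
    exact colimit.w_apply (K.obj j) (q j ≫ hh j) (a j)
  have hcompat : ∀ {j j' : J} (u : j ⟶ j'),
      colimit.ι (K.obj j') M₁ ((K.map u).app M₁ (b j)) = colimit.ι (K.obj j') M₁ (b j') := by
    intro j j' u
    have e := hs' u
    rw [← hb j, ← hb j', colim_map_ι_apply] at e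
    exact e
  have hex : ∀ e : (Σ j j' : J, j ⟶ j'), ∃ (m : I) (g : M₁ ⟶ m),
      (K.obj e.2.1).map g ((K.map e.2.2).app M₁ (b e.1)) = (K.obj e.2.1).map g (b e.2.1) :=
    fun e => exists_map_eq h1 h2 _ _ _ (hcompat e.2.2)
  choose mm gg hgg using hex
  obtain ⟨M, G, hG⟩ := common_refine h1 mm gg
  choose h' hh' using hG
  obtain ⟨y, hydef⟩ : ∃ y : ∀ j, (K.obj j).obj M, ∀ j, y j = (K.obj j).map G (b j) :=
    ⟨_, fun _ => rfl⟩
  have hy : ∀ {j j' : J} (u : j ⟶ j'), (K.map u).app M (y j) = y j' := by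
    intro j j' u
    have e3 : (K.obj j').map (gg ⟨j, j', u⟩) ((K.map u).app M₁ (b j)) =
        (K.obj j').map (gg ⟨j, j', u⟩) (b j') := hgg ⟨j, j', u⟩
    rw [hydef j, hydef j', NatTrans.naturality_apply, ← hh' ⟨j, j', u⟩, Functor.map_comp_apply,
      Functor.map_comp_apply, e3]
  obtain ⟨yy, hyy, -⟩ := hev M y (fun {j j'} u => hy u)
  have hexist : ∀ j, colim.map (limit.π K j) (colimit.ι (limit K) M yy) = s j := by
    intro j
    rw [colim_map_ι_apply, hyy j, ← hb j, hydef j]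
    exact colimit.w_apply (K.obj j) G (b j)
  refine ⟨colimit.ι (limit K) M yy, hexist, ?_⟩
  intro x' hx'
  exact hinj _ _ (fun j => (hx' j).trans (hexist j).symm)

end Groth.Agent.Helper6.AlmostFiltered
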