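import Mathlib
import Groth.Agent.Lib.Helper7.SheafCofan

set_option autoImplicit false

namespace Groth.Agent.Helper6.CofanSh

open CategoryTheory CategoryTheory.Limits Opposite

universe u

variable {C : Type u} [SmallCategory C] (J : GrothendieckTopology C)

attribute [-instance] CategoryTheory.hasColimitsEssentiallySmallSite

theorem forward {X : C} {ι : Type u} (Y : ι → C) (s : ∀ i, Y i ⟶ X)
    (hcov : Sieve.ofArrows Y s ∈ J X)
    (hdiag : ∀ i, IsIso ((presheafToSheaf J (Type u)).map (pullback.diagonal (yoneda.map (s i)))))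
    (hdisj : ∀ i j, i ≠ j → Nonempty (IsInitial ((presheafToSheaf J (Type u)).obj
        (pullback (yoneda.map (s i)) (yoneda.map (s j)))))) :
    Nonempty (IsColimit (Cofan.mk ((presheafToSheaf J (Type u)).obj (yoneda.obj X))
      (fun i => (presheafToSheaf J (Type u)).map (yoneda.map (s i))))) := by
  rw [Groth.Agent.Helper7.isColimit_cofan_sheafify_iff]
  intro F
  have hF : Presieve.IsSheaf J F.obj := (isSheaf_iff_isSheaf_of_type _ _).1 F.property
  have hsf : (Presieve.ofArrows Y s).IsSheafFor F.obj := hF.isSheafFor _ hcov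
  rw [Presieve.isSheafFor_arrows_iff] at hsf
  let adj := sheafificationAdjunction J (Type u)
  have key : ∀ (x : ∀ i, F.obj.obj (op (Y i))) (i j : ι),
      pullback.fst (yoneda.map (s i)) (yoneda.map (s j)) ≫ yonedaEquiv.symm (x i) =
      pullback.snd (yoneda.map (s i)) (yoneda.map (s j)) ≫ yonedaEquiv.symm (x j) := by
    intro x i j
    by_cases hij : i = j
    · subst hij
      apply (adj.homEquiv _ F).symm.injective
      have := hdiag i
      rw [← cancel_epi ((presheafToSheaf J (Type u)).map (pullback.diagonal (yoneda.map (s i)))),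
        ← adj.homEquiv_naturality_left_symm, ← adj.homEquiv_naturality_left_symm,
        pullback.diagonal_fst_assoc, pullback.diagonal_snd_assoc]
    · obtain ⟨hI⟩ := hdisj i j hij
      apply (adj.homEquiv _ F).symm.injective
      exact hI.hom_ext _ _
  have hcompat : ∀ x : ∀ i, F.obj.obj (op (Y i)), Presieve.Arrows.Compatible F.obj s x := by
    intro x i j Z gi gj hg
    have hl : yoneda.map gi ≫ yoneda.map (s i) = yoneda.map gj ≫ yoneda.map (s j) := by
      rw [← Functor.map_comp, ← Functor.map_comp, hg]
    have h1 : yoneda.map gi ≫ yonedaEquiv.symm (x i) =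
        yoneda.map gj ≫ yonedaEquiv.symm (x j) := by
      calc yoneda.map gi ≫ yonedaEquiv.symm (x i)
          = pullback.lift _ _ hl ≫ pullback.fst _ _ ≫ yonedaEquiv.symm (x i) := by
            rw [pullback.lift_fst_assoc]
        _ = pullback.lift _ _ hl ≫ pullback.snd _ _ ≫ yonedaEquiv.symm (x j) := by
            rw [key x i j]
        _ = yoneda.map gj ≫ yonedaEquiv.symm (x j) := by
            rw [pullback.lift_snd_assoc]
    have h2 := congrArg yonedaEquiv h1
    rw [← yonedaEquiv_naturality, ← yonedaEquiv_naturality, Equiv.apply_symm_apply,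
      Equiv.apply_symm_apply] at h2
    exact h2
  constructor
  · intro t t' h
    obtain ⟨t0, -, huniq⟩ := hsf (fun i => F.obj.map (s i).op t) (hcompat _)
    rw [huniq t (fun i => rfl), huniq t' (fun i => (congrFun h i).symm)]
  · intro x
    obtain ⟨t, ht, -⟩ := hsf x (hcompat x)
    exact ⟨t, funext ht⟩

theorem backward {X : C} {ι : Type u} (Y : ι → C) (s : ∀ i, Y i ⟶ X)
    (hc : IsColimit (Cofan.mk ((presheafToSheaf J (Type u)).obj (yoneda.obj X))
      (fun i => (presheafToSheaf J (Type u)).map (yoneda.map (s i))))) :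
    (Sieve.ofArrows Y s ∈ J X ∧
      (∀ i, IsIso ((presheafToSheaf J (Type u)).map (pullback.diagonal (yoneda.map (s i))))) ∧
      (∀ i j, i ≠ j → Nonempty (IsInitial ((presheafToSheaf J (Type u)).obj
        (pullback (yoneda.map (s i)) (yoneda.map (s j))))))) := by
  classical
  let aS := presheafToSheaf J (Type u)
  refine ⟨?_, ?_, ?_⟩
  · -- covering
    let S := Sieve.ofArrows Y s
    have hepi : Epi (aS.map S.functorInclusion) := by
      refine ⟨fun {G} u v huv => ?_⟩
      refine Cofan.IsColimit.hom_ext hc _ _ (fun i => ?_)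
      show aS.map (yoneda.map (s i)) ≫ u = aS.map (yoneda.map (s i)) ≫ v
      have hi : S (s i) := Sieve.ofArrows_mk Y s i
      have hfac : yoneda.map (s i) = S.toFunctor (s i) hi ≫ S.functorInclusion := by
        ext Z g
        rfl
      rw [hfac, aS.map_comp, Category.assoc, Category.assoc, huv]
    have hls : Sheaf.IsLocallySurjective (aS.map S.functorInclusion) :=
      (Sheaf.isLocallySurjective_iff_epi _).2 hepi
    have hls' : Presheaf.IsLocallySurjective J S.functorInclusion :=
      (Presheaf.isLocallySurjective_presheafToSheaf_map_iff (J := J)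
        (φ := S.functorInclusion)).1 hls
    have hmem := hls'.imageSieve_mem (U := X) (𝟙 X)
    have heq : Presheaf.imageSieve S.functorInclusion (U := X) (𝟙 X) = S := by
      ext Z g
      constructor
      · rintro ⟨t, ht⟩
        have h1 : t.1 = g ≫ 𝟙 X := ht
        have h2 : t.1 = g := h1.trans (Category.comp_id g)
        rw [← h2]
        exact t.2
      · intro hg
        exact ⟨⟨g, hg⟩, (Category.comp_id g).symm⟩
    rw [heq] at hmem
    exact hmem
  · intro i
    have hmono : Mono (aS.map (yoneda.map (s i))) :=
      MonoCoprod.mono_inj _ _ hc i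
    have pb : IsPullback (aS.map (pullback.fst (yoneda.map (s i)) (yoneda.map (s i))))
        (aS.map (pullback.snd (yoneda.map (s i)) (yoneda.map (s i))))
        (aS.map (yoneda.map (s i))) (aS.map (yoneda.map (s i))) :=
      (IsPullback.of_hasPullback _ _).map aS
    have h12 : aS.map (pullback.fst (yoneda.map (s i)) (yoneda.map (s i))) =
        aS.map (pullback.snd (yoneda.map (s i)) (yoneda.map (s i))) := by
      rw [← cancel_mono (aS.map (yoneda.map (s i)))]
      exact pb.w
    refine ⟨⟨aS.map (pullback.fst _ _), ?_, ?_⟩⟩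
    · rw [← aS.map_comp, pullback.diagonal_fst, aS.map_id]
    · apply pb.hom_ext
      · rw [Category.assoc, ← aS.map_comp, pullback.diagonal_fst, aS.map_id, Category.comp_id,
          Category.id_comp]
      · rw [Category.assoc, ← aS.map_comp, pullback.diagonal_snd, aS.map_id, Category.comp_id,
          Category.id_comp, h12]
  · intro i j hij
    let T : Sheaf J (Type u) := ⊤_ _
    let ψ : ∀ k : ι, aS.obj (yoneda.obj (Y k)) ⟶ T ⨿ T := fun k =>
      if k = i then terminal.from _ ≫ coprod.inl else terminal.from _ ≫ coprod.inr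
    let φ : aS.obj (yoneda.obj X) ⟶ T ⨿ T := Cofan.IsColimit.desc hc ψ
    have hφ : ∀ k, aS.map (yoneda.map (s k)) ≫ φ = ψ k := fun k =>
      Cofan.IsColimit.fac hc ψ k
    have hψi : ψ i = terminal.from _ ≫ coprod.inl := if_pos rfl
    have hψj : ψ j = terminal.from _ ≫ coprod.inr := if_neg (Ne.symm hij)
    let W := aS.obj (pullback (yoneda.map (s i)) (yoneda.map (s j)))
    have e1 : aS.map (pullback.fst (yoneda.map (s i)) (yoneda.map (s j))) ≫
        aS.map (yoneda.map (s i)) =
        aS.map (pullback.snd (yoneda.map (s i)) (yoneda.map (s j))) ≫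
        aS.map (yoneda.map (s j)) := by
      rw [← aS.map_comp, ← aS.map_comp, pullback.condition]
    have hW : terminal.from W ≫ (coprod.inl : T ⟶ T ⨿ T) = terminal.from W ≫ coprod.inr := by
      calc terminal.from W ≫ (coprod.inl : T ⟶ T ⨿ T)
          = (aS.map (pullback.fst (yoneda.map (s i)) (yoneda.map (s j))) ≫ terminal.from _) ≫
              coprod.inl := by rw [terminal.comp_from]
        _ = aS.map (pullback.fst (yoneda.map (s i)) (yoneda.map (s j))) ≫
              aS.map (yoneda.map (s i)) ≫ φ := by rw [Category.assoc, hφ, hψi]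
        _ = aS.map (pullback.snd (yoneda.map (s i)) (yoneda.map (s j))) ≫
              aS.map (yoneda.map (s j)) ≫ φ := by rw [← Category.assoc, e1, Category.assoc]
        _ = (aS.map (pullback.snd (yoneda.map (s i)) (yoneda.map (s j))) ≫ terminal.from _) ≫
              coprod.inr := by rw [Category.assoc, hφ, hψj]
        _ = terminal.from W ≫ coprod.inr := by rw [terminal.comp_from]
    have pbI : IsPullback (initial.to T) (initial.to T) (coprod.inl : T ⟶ T ⨿ T) coprod.inr :=
      FinitaryExtensive.isPullback_initial_to_binaryCofan (c := colimit.cocone (pair T T))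
        (colimit.isColimit (pair T T))
    let f : W ⟶ ⊥_ (Sheaf J (Type u)) := pbI.lift (terminal.from W) (terminal.from W) hW
    exact ⟨initialIsInitial.ofIso (asIso f).symm⟩

end Groth.Agent.Helper6.CofanSh
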