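import Mathlib

set_option autoImplicit false
universe u

namespace Groth.Agent.Helper6

open Topology TopologicalSpace Set

variable {X : Type*} [tX : TopologicalSpace X]

/-- On a prespectral space the constructible topology is finer than the given one. -/
lemma constructibleTopology_le [PrespectralSpace X] :
    constructibleTopology X ≤ tX := by
  rw [TopologicalSpace.le_def]
  intro U hU
  have hU' : IsOpen U := hU
  have e : U = ⋃₀ {V | (IsOpen V ∧ IsCompact V) ∧ V ⊆ U} := by
    apply subset_antisymm
    · intro x hx
      obtain ⟨V, hV, hxV, hVU⟩ :=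
        PrespectralSpace.isTopologicalBasis.exists_subset_of_mem_open hx hU'
      exact ⟨V, ⟨hV, hVU⟩, hxV⟩
    · exact sUnion_subset fun V hV => hV.2
  rw [e]
  exact @isOpen_sUnion _ (constructibleTopology X) _
    (fun V hV => hV.1.2.isOpen_constructibleTopology_of_isOpen hV.1.1)

lemma isOpen_constructibleTopology_of_isOpen [PrespectralSpace X] {U : Set X} (hU : IsOpen U) :
    IsOpen[constructibleTopology X] U :=
  constructibleTopology_le U hU

lemma isClosed_constructibleTopology_of_isClosed [PrespectralSpace X] {Z : Set X}
    (hZ : IsClosed Z) : IsClosed[constructibleTopology X] Z := by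
  rw [← @isOpen_compl_iff _ _ (constructibleTopology X)]
  exact isOpen_constructibleTopology_of_isOpen hZ.isOpen_compl

lemma isClosed_constructibleTopology_of_isCompact_isOpen {U : Set X}
    (hUo : IsOpen U) (hUc : IsCompact U) : IsClosed[constructibleTopology X] U := by
  rw [← @isOpen_compl_iff _ _ (constructibleTopology X)]
  exact IsCompact.isOpen_constructibleTopology_of_isClosed (by simpa using hUc)
    hUo.isClosed_compl

lemma isClopen_constructibleTopology_of_isCompact_isOpen {U : Set X}
    (hUo : IsOpen U) (hUc : IsCompact U) : @IsClopen X (constructibleTopology X) U :=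
  ⟨isClosed_constructibleTopology_of_isCompact_isOpen hUo hUc,
    hUc.isOpen_constructibleTopology_of_isOpen hUo⟩

/-- The constructible topology on a spectral space is compact. -/
lemma compactSpace_constructibleTopology [CompactSpace X] [QuasiSober X]
    [PrespectralSpace X] [QuasiSeparatedSpace X] : @CompactSpace X (constructibleTopology X) := by
  have h : CompactSpace (WithConstructibleTopology X) := inferInstance
  exact @Function.Surjective.compactSpace (WithConstructibleTopology X) X _
    (constructibleTopology X) WithTopology.ofTopology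
    (WithTopology.continuous_ofTopology _) h (WithTopology.ofTopology_surjective _)

/-- The constructible topology on a T0 prespectral space is Hausdorff. -/
lemma t2Space_constructibleTopology [T0Space X] [PrespectralSpace X] :
    @T2Space X (constructibleTopology X) := by
  refine @T2Space.mk X (constructibleTopology X) ?_
  intro x y hxy
  obtain ⟨U, hU, hmem⟩ := exists_isOpen_xor_mem hxy
  rcases hmem with ⟨hx, hy⟩ | ⟨hy, hx⟩
  · obtain ⟨V, ⟨hVo, hVc⟩, hxV, hVU⟩ :=
      PrespectralSpace.isTopologicalBasis.exists_subset_of_mem_open hx hU
    refine ⟨V, Vᶜ, hVc.isOpen_constructibleTopology_of_isOpen hVo, ?_, hxV,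
      fun h => hy (hVU h), disjoint_compl_right⟩
    exact IsCompact.isOpen_constructibleTopology_of_isClosed (by simpa using hVc)
      hVo.isClosed_compl
  · obtain ⟨V, ⟨hVo, hVc⟩, hyV, hVU⟩ :=
      PrespectralSpace.isTopologicalBasis.exists_subset_of_mem_open hy hU
    refine ⟨Vᶜ, V, ?_, hVc.isOpen_constructibleTopology_of_isOpen hVo,
      fun h => hx (hVU h), hyV, disjoint_compl_left⟩
    exact IsCompact.isOpen_constructibleTopology_of_isClosed (by simpa using hVc)
      hVo.isClosed_compl

/-- A constructibly closed subset of a spectral space is compact for the constructible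
topology. -/
lemma isCompact_constructibleTopology_of_isClosed [CompactSpace X] [QuasiSober X]
    [PrespectralSpace X] [QuasiSeparatedSpace X] {E : Set X}
    (hE : IsClosed[constructibleTopology X] E) : @IsCompact X (constructibleTopology X) E :=
  @IsClosed.isCompact X (constructibleTopology X) E compactSpace_constructibleTopology hE

omit tX in
/-- Compactness for a finer topology implies compactness for a coarser one. -/
lemma isCompact_of_le {t₁ t₂ : TopologicalSpace X} (h : t₁ ≤ t₂) {E : Set X}
    (hE : @IsCompact X t₁ E) : @IsCompact X t₂ E := by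
  have hc : @Continuous X X t₁ t₂ id := continuous_id_of_le h
  simpa using @IsCompact.image X X t₁ t₂ E id hE hc

/-- A constructibly closed subset of a spectral space is compact. -/
lemma isCompact_of_isClosed_constructibleTopology [CompactSpace X] [QuasiSober X]
    [PrespectralSpace X] [QuasiSeparatedSpace X] {E : Set X}
    (hE : IsClosed[constructibleTopology X] E) : IsCompact E :=
  isCompact_of_le (constructibleTopology_le (X := X)) (isCompact_constructibleTopology_of_isClosed hE)

/-- Finite intersections of compact opens in a quasi-compact quasi-separated space. -/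
lemma isOpen_isCompact_biInter [CompactSpace X] [QuasiSeparatedSpace X] {ι : Type*}
    (u : Finset ι) (t : ι → Set X) (h : ∀ i ∈ u, IsOpen (t i) ∧ IsCompact (t i)) :
    IsOpen (⋂ i ∈ u, t i) ∧ IsCompact (⋂ i ∈ u, t i) := by
  classical
  induction u using Finset.induction_on with
  | empty => simpa using isCompact_univ
  | insert a u ha ih =>
    have h1 := h a (Finset.mem_insert_self a u)
    have h2 := ih (fun i hi => h i (Finset.mem_insert_of_mem hi))
    rw [Finset.set_biInter_insert]
    exact ⟨h1.1.inter h2.1, h1.2.inter_of_isOpen h2.2 h1.1 h2.1⟩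

/-- In a compact space, a family of closed sets with the finite intersection property, meeting a
compact set, for a possibly different topology. Specialised helper: family of sets closed in the
constructible topology with nonempty finite intersections has nonempty intersection. -/
lemma nonempty_iInter_of_isClosed_constructibleTopology [CompactSpace X] [QuasiSober X]
    [PrespectralSpace X] [QuasiSeparatedSpace X] {ι : Type*} (t : ι → Set X)
    (htc : ∀ i, IsClosed[constructibleTopology X] (t i))
    (hst : ∀ u : Finset ι, (⋂ i ∈ u, t i).Nonempty) : (⋂ i, t i).Nonempty := by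
  have h := @IsCompact.inter_iInter_nonempty X (constructibleTopology X) univ ι
    (@isCompact_univ X (constructibleTopology X) compactSpace_constructibleTopology) t htc
    (fun u => by simpa using hst u)
  simpa using h

/-- Every point of the closure of a constructibly closed subset of a spectral space is a
specialization of a point of the subset. -/
lemma exists_specializes_of_mem_closure [CompactSpace X] [QuasiSober X]
    [PrespectralSpace X] [QuasiSeparatedSpace X] {E : Set X}
    (hE : IsClosed[constructibleTopology X] E) {x : X} (hx : x ∈ closure E) :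
    ∃ e ∈ E, e ⤳ x := by
  let ι := {U : Set X // IsOpen U ∧ IsCompact U ∧ x ∈ U}
  let t : Option ι → Set X := fun o => o.elim E (fun U => U.1)
  have htc : ∀ i, IsClosed[constructibleTopology X] (t i) := by
    rintro (_ | U)
    · exact hE
    · exact isClosed_constructibleTopology_of_isCompact_isOpen U.2.1 U.2.2.1
  have hst : ∀ u : Finset (Option ι), (⋂ i ∈ u, t i).Nonempty := by
    intro u
    classical
    -- the intersection of the compact opens in `u`
    let v : Finset ι := u.preimage Option.some (Option.some_injective _).injOn
    have hv := isOpen_isCompact_biInter v (fun U => U.1) (fun U _ => ⟨U.2.1, U.2.2.1⟩)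
    have hxv : x ∈ ⋂ i ∈ v, (i : ι).1 := by
      simp only [mem_iInter]
      intro U _
      exact U.2.2.2
    obtain ⟨e, he1, he2⟩ := mem_closure_iff.mp hx _ hv.1 hxv
    refine ⟨e, ?_⟩
    simp only [mem_iInter]
    rintro (_ | U) hU
    · exact he2
    · simp only [mem_iInter] at he1
      exact he1 U (by simpa [v] using hU)
  obtain ⟨e, he⟩ := nonempty_iInter_of_isClosed_constructibleTopology t htc hst
  simp only [mem_iInter] at he
  refine ⟨e, he none, ?_⟩
  rw [specializes_iff_forall_open]
  intro s hs hxs
  obtain ⟨V, ⟨hVo, hVc⟩, hxV, hVs⟩ :=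
    PrespectralSpace.isTopologicalBasis.exists_subset_of_mem_open hxs hs
  exact hVs (he (some ⟨V, hVo, hVc, hxV⟩))

/-- A constructibly closed subset stable under specialization is closed. -/
lemma isClosed_of_isClosed_constructibleTopology_of_stableUnderSpecialization [CompactSpace X]
    [QuasiSober X] [PrespectralSpace X] [QuasiSeparatedSpace X] {E : Set X}
    (hE : IsClosed[constructibleTopology X] E) (hs : StableUnderSpecialization E) :
    IsClosed E := by
  rw [← closure_subset_iff_isClosed]
  intro x hx
  obtain ⟨e, he, hex⟩ := exists_specializes_of_mem_closure hE hx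
  exact hs hex he

/-- A constructibly open subset stable under generalization is open. -/
lemma isOpen_of_isOpen_constructibleTopology_of_stableUnderGeneralization [CompactSpace X]
    [QuasiSober X] [PrespectralSpace X] [QuasiSeparatedSpace X] {E : Set X}
    (hE : IsOpen[constructibleTopology X] E) (hs : StableUnderGeneralization E) :
    IsOpen E := by
  rw [← isClosed_compl_iff]
  refine isClosed_of_isClosed_constructibleTopology_of_stableUnderSpecialization ?_ hs.compl
  rw [@isClosed_compl_iff _ (constructibleTopology X)]
  exact hE

/-- If `z` lies in every compact open neighbourhood of `x` then `z` specializes to `x`. -/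
lemma specializes_of_forall_isCompact_isOpen [PrespectralSpace X] {x z : X}
    (h : ∀ U : Set X, IsOpen U → IsCompact U → x ∈ U → z ∈ U) : z ⤳ x := by
  rw [specializes_iff_forall_open]
  intro s hs hxs
  obtain ⟨V, ⟨hVo, hVc⟩, hxV, hVs⟩ :=
    PrespectralSpace.isTopologicalBasis.exists_subset_of_mem_open hxs hs
  exact hVs (h V hVo hVc hxV)

/-- Two points of a spectral space have a common generalization or disjoint neighbourhoods. -/
lemma exists_common_generalization_or_disjoint_nhds [CompactSpace X] [QuasiSober X]
    [PrespectralSpace X] [QuasiSeparatedSpace X] (x y : X) :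
    (∃ z : X, z ⤳ x ∧ z ⤳ y) ∨
    (∃ U V : Set X, IsOpen U ∧ IsOpen V ∧ x ∈ U ∧ y ∈ V ∧ Disjoint U V) := by
  by_contra hcon
  push Not at hcon
  obtain ⟨h1, h2⟩ := hcon
  let ι₁ := {U : Set X // IsOpen U ∧ IsCompact U ∧ x ∈ U}
  let ι₂ := {U : Set X // IsOpen U ∧ IsCompact U ∧ y ∈ U}
  let t : ι₁ ⊕ ι₂ → Set X := Sum.elim (fun U => U.1) (fun U => U.1)
  have htc : ∀ i, IsClosed[constructibleTopology X] (t i) := by
    rintro (U | U)
    · exact isClosed_constructibleTopology_of_isCompact_isOpen U.2.1 U.2.2.1
    · exact isClosed_constructibleTopology_of_isCompact_isOpen U.2.1 U.2.2.1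
  have hst : ∀ u : Finset (ι₁ ⊕ ι₂), (⋂ i ∈ u, t i).Nonempty := by
    intro u
    classical
    let v₁ : Finset ι₁ := u.preimage Sum.inl Sum.inl_injective.injOn
    let v₂ : Finset ι₂ := u.preimage Sum.inr Sum.inr_injective.injOn
    have hv₁ := isOpen_isCompact_biInter v₁ (fun U => U.1) (fun U _ => ⟨U.2.1, U.2.2.1⟩)
    have hv₂ := isOpen_isCompact_biInter v₂ (fun U => U.1) (fun U _ => ⟨U.2.1, U.2.2.1⟩)
    have hx₁ : x ∈ ⋂ i ∈ v₁, (i : ι₁).1 := by
      simp only [mem_iInter]; intro U _; exact U.2.2.2
    have hy₂ : y ∈ ⋂ i ∈ v₂, (i : ι₂).1 := by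
      simp only [mem_iInter]; intro U _; exact U.2.2.2
    have hnd := h2 _ _ hv₁.1 hv₂.1 hx₁ hy₂
    rw [Set.not_disjoint_iff] at hnd
    obtain ⟨z, hz1, hz2⟩ := hnd
    refine ⟨z, ?_⟩
    simp only [mem_iInter] at hz1 hz2 ⊢
    rintro (U | U) hU
    · exact hz1 U (by simpa [v₁] using hU)
    · exact hz2 U (by simpa [v₂] using hU)
  obtain ⟨z, hz⟩ := nonempty_iInter_of_isClosed_constructibleTopology t htc hst
  simp only [mem_iInter] at hz
  have hzx : z ⤳ x := specializes_of_forall_isCompact_isOpen
    (fun U hUo hUc hxU => hz (Sum.inl ⟨U, hUo, hUc, hxU⟩))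
  have hzy : z ⤳ y := specializes_of_forall_isCompact_isOpen
    (fun U hUo hUc hyU => hz (Sum.inr ⟨U, hUo, hUc, hyU⟩))
  exact h1 z hzx hzy

/-- A directed family of compact opens whose intersection lies in an open set: some member
already lies in the open set. -/
lemma exists_subset_of_iInter_subset_of_directed [CompactSpace X] [QuasiSober X]
    [PrespectralSpace X] [QuasiSeparatedSpace X] {I : Type*} [Nonempty I] (U : I → Set X)
    (hU : ∀ i, IsOpen (U i) ∧ IsCompact (U i)) (hdir : ∀ i j, ∃ k, U k ⊆ U i ∩ U j)
    (V : Set X) (hV : IsOpen V) (hUV : (⋂ i, U i) ⊆ V) : ∃ i, U i ⊆ V := by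
  by_contra hcon
  push Not at hcon
  let t : I → Set X := fun i => U i \ V
  have htc : ∀ i, IsClosed[constructibleTopology X] (t i) := by
    intro i
    refine @IsClosed.sdiff X _ _ (constructibleTopology X) ?_ ?_
    · exact isClosed_constructibleTopology_of_isCompact_isOpen (hU i).1 (hU i).2
    · exact isOpen_constructibleTopology_of_isOpen hV
  have hst : ∀ u : Finset I, (⋂ i ∈ u, t i).Nonempty := by
    intro u
    classical
    have : ∃ k, ∀ i ∈ u, U k ⊆ U i := by
      induction u using Finset.induction_on with
      | empty => exact ⟨Classical.arbitrary I, by simp⟩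
      | insert a u _ ih =>
        obtain ⟨k, hk⟩ := ih
        obtain ⟨k', hk'⟩ := hdir a k
        refine ⟨k', fun i hi => ?_⟩
        rcases Finset.mem_insert.mp hi with rfl | hi
        · exact hk'.trans inter_subset_left
        · exact (hk'.trans inter_subset_right).trans (hk i hi)
    obtain ⟨k, hk⟩ := this
    obtain ⟨z, hzk, hzV⟩ := Set.not_subset.mp (hcon k)
    refine ⟨z, ?_⟩
    simp only [mem_iInter]
    exact fun i hi => ⟨hk i hi hzk, hzV⟩
  obtain ⟨z, hz⟩ := nonempty_iInter_of_isClosed_constructibleTopology t htc hst
  simp only [mem_iInter] at hz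
  exact (hz (Classical.arbitrary I)).2 (hUV (mem_iInter.mpr fun i => (hz i).1))

/-- Constructible subsets of a quasi-compact space are clopen for the constructible topology. -/
lemma isClopen_constructibleTopology_of_isConstructible [CompactSpace X] {E : Set X}
    (hE : Topology.IsConstructible E) : @IsClopen X (constructibleTopology X) E := by
  induction hE using Topology.IsConstructible.empty_union_induction with
  | open_retrocompact U hUo hUr =>
    exact isClopen_constructibleTopology_of_isCompact_isOpen hUo hUr.isCompact
  | union s hs t ht hs' ht' => exact @IsClopen.union X (constructibleTopology X) _ _ hs' ht'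
  | compl s hs hs' => exact @IsClopen.compl X (constructibleTopology X) _ hs'

/-- The set of generalizations of points of a compact subset of a prespectral space is the
intersection of the compact opens containing the subset. -/
lemma generalizations_eq_sInter [PrespectralSpace X] {E : Set X} (hE : IsCompact E) :
    {x : X | ∃ e ∈ E, x ⤳ e} = ⋂₀ {U : Set X | IsOpen U ∧ IsCompact U ∧ E ⊆ U} := by
  apply subset_antisymm
  · rintro x ⟨e, he, hxe⟩ U ⟨hUo, _, hEU⟩
    exact hxe.mem_open hUo (hEU he)
  · intro x hx
    by_contra hcon
    simp only [mem_ofPred_eq, not_exists, not_and] at hcon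
    have key : ∀ e ∈ E, ∃ V : Set X, IsOpen V ∧ IsCompact V ∧ e ∈ V ∧ x ∉ V := by
      intro e he
      have := hcon e he
      rw [specializes_iff_forall_open] at this
      push Not at this
      obtain ⟨U, hUo, heU, hxU⟩ := this
      obtain ⟨V, ⟨hVo, hVc⟩, heV, hVU⟩ :=
        PrespectralSpace.isTopologicalBasis.exists_subset_of_mem_open heU hUo
      exact ⟨V, hVo, hVc, heV, fun h => hxU (hVU h)⟩
    choose V hVo hVc heV hxV using key
    obtain ⟨t, ht⟩ := hE.elim_nhds_subcover' V (fun e he => (hVo e he).mem_nhds (heV e he))
    have hU : IsOpen (⋃ e ∈ t, V (e : E) e.2) ∧ IsCompact (⋃ e ∈ t, V (e : E) e.2) :=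
      ⟨isOpen_biUnion fun e _ => hVo _ _, t.isCompact_biUnion fun e _ => hVc _ _⟩
    have := hx _ ⟨hU.1, hU.2, ht⟩
    simp only [mem_iUnion] at this
    obtain ⟨e, _, hxe⟩ := this
    exact hxV _ _ hxe

/-- The set of generalizations of points of a constructibly closed subset of a spectral space is
constructibly closed. -/
lemma isClosed_constructibleTopology_generalizations [CompactSpace X] [QuasiSober X]
    [PrespectralSpace X] [QuasiSeparatedSpace X] {E : Set X}
    (hE : IsClosed[constructibleTopology X] E) :
    IsClosed[constructibleTopology X] {x : X | ∃ e ∈ E, x ⤳ e} := by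
  rw [generalizations_eq_sInter (isCompact_of_isClosed_constructibleTopology hE)]
  exact @isClosed_sInter X (constructibleTopology X) _
    (fun U hU => isClosed_constructibleTopology_of_isCompact_isOpen hU.1 hU.2.1)

section Subspace

variable [CompactSpace X] [QuasiSober X] [PrespectralSpace X] [QuasiSeparatedSpace X]

/-- A constructibly closed subset of a spectral space is retrocompact. -/
lemma isRetrocompact_of_isClosed_constructibleTopology {E : Set X}
    (hE : IsClosed[constructibleTopology X] E) : IsRetrocompact E := by
  intro U hUc hUo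
  exact isCompact_of_isClosed_constructibleTopology
    (@IsClosed.inter X _ _ (constructibleTopology X) hE
      (isClosed_constructibleTopology_of_isCompact_isOpen hUo hUc))

lemma isSpectralMap_subtypeVal_of_isClosed_constructibleTopology {E : Set X}
    (hE : IsClosed[constructibleTopology X] E) : IsSpectralMap (Subtype.val : E → X) :=
  IsRetrocompact_iff_isSpectralMap_subtypeVal.mp
    (isRetrocompact_of_isClosed_constructibleTopology hE)

/-- A constructibly closed subset of a spectral space is quasi-sober. -/
lemma quasiSober_of_isClosed_constructibleTopology [T0Space X] {E : Set X}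
    (hE : IsClosed[constructibleTopology X] E) : QuasiSober E := by
  constructor
  intro Z hZirr hZcl
  -- the image of `Z` in `X`
  have hZ'irr : IsIrreducible (Subtype.val '' Z) := hZirr.image _ continuous_subtype_val.continuousOn
  obtain ⟨ξ, hξ⟩ := QuasiSober.sober hZ'irr.closure isClosed_closure
  -- `Z' = E ∩ C` is constructibly closed
  obtain ⟨C, hC, rfl⟩ := isClosed_induced_iff.mp hZcl
  have hZ'cl : IsClosed[constructibleTopology X] (Subtype.val '' (Subtype.val ⁻¹' C : Set E)) := by
    rw [Subtype.image_preimage_coe]
    exact @IsClosed.inter X _ _ (constructibleTopology X) hE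
      (isClosed_constructibleTopology_of_isClosed hC)
  have hξmem : ξ ∈ closure (Subtype.val '' (Subtype.val ⁻¹' C : Set E)) := hξ.mem
  obtain ⟨e, he, heξ⟩ := exists_specializes_of_mem_closure hZ'cl hξmem
  have hξe : ξ ⤳ e := by
    rw [specializes_iff_mem_closure, hξ.def]
    exact subset_closure he
  have hEq : e = ξ := (heξ.antisymm hξe).eq
  obtain ⟨z, hz, rfl⟩ := he
  refine ⟨z, ?_⟩
  rw [isGenericPoint_def, Topology.IsEmbedding.subtypeVal.closure_eq_preimage_closure_image,
    image_singleton, hEq, hξ.def,
    ← Topology.IsEmbedding.subtypeVal.closure_eq_preimage_closure_image, hZcl.closure_eq]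

/-- A constructibly closed subset of a spectral space is a spectral space. -/
lemma spectralSpace_of_isClosed_constructibleTopology [T0Space X] {E : Set X}
    (hE : IsClosed[constructibleTopology X] E) : SpectralSpace E := by
  have hsp := isSpectralMap_subtypeVal_of_isClosed_constructibleTopology hE
  have h1 : CompactSpace E := isCompact_iff_compactSpace.mp
    (isCompact_of_isClosed_constructibleTopology hE)
  have h2 : QuasiSober E := quasiSober_of_isClosed_constructibleTopology hE
  have h3 : PrespectralSpace E :=
    PrespectralSpace.of_isInducing Subtype.val Topology.IsInducing.subtypeVal hsp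
  have h4 : QuasiSeparatedSpace E := by
    let b : {W : Set X // IsOpen W ∧ IsCompact W} → Set E := fun W => Subtype.val ⁻¹' W.1
    have hb : IsTopologicalBasis (range b) := by
      have := (PrespectralSpace.isTopologicalBasis (X := X)).isInducing
        (Topology.IsInducing.subtypeVal (t := E))
      convert this using 1
      ext s
      simp only [mem_range, Subtype.exists, mem_image, mem_ofPred_eq, b]
      constructor
      · rintro ⟨W, hW, rfl⟩; exact ⟨W, hW, rfl⟩
      · rintro ⟨W, hW, rfl⟩; exact ⟨W, hW, rfl⟩
    refine QuasiSeparatedSpace.of_isTopologicalBasis hb ?_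
    intro W₁ W₂
    have : b W₁ ∩ b W₂ = Subtype.val ⁻¹' (W₁.1 ∩ W₂.1) := by
      simp [b, preimage_inter]
    rw [this]
    exact hsp.isCompact_preimage_of_isOpen (W₁.2.1.inter W₂.2.1)
      (W₁.2.2.inter_of_isOpen W₂.2.2 W₁.2.1 W₂.2.1)
  exact { }

end Subspace

section Prod

variable {Y : Type*} [TopologicalSpace Y]

/-- The product of two quasi-sober spaces is quasi-sober. -/
lemma quasiSober_prod [QuasiSober X] [QuasiSober Y] : QuasiSober (X × Y) := by
  constructor
  intro Z hZirr hZcl
  have h1 : IsIrreducible (Prod.fst '' Z) := hZirr.image _ continuous_fst.continuousOn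
  have h2 : IsIrreducible (Prod.snd '' Z) := hZirr.image _ continuous_snd.continuousOn
  obtain ⟨ξ, hξ⟩ := QuasiSober.sober h1.closure isClosed_closure
  obtain ⟨η, hη⟩ := QuasiSober.sober h2.closure isClosed_closure
  refine ⟨(ξ, η), ?_⟩
  rw [isGenericPoint_def]
  have hmem : (ξ, η) ∈ Z := by
    rw [← hZcl.closure_eq, mem_closure_iff]
    intro W hW hmemW
    obtain ⟨U, V, hU, hV, hξU, hηV, hUV⟩ := isOpen_prod_iff.mp hW ξ η hmemW
    have hξ' : ξ ∈ closure (Prod.fst '' Z) := hξ.mem
    have hη' : η ∈ closure (Prod.snd '' Z) := hη.mem
    obtain ⟨_, hxU, ⟨z, hz, rfl⟩⟩ := mem_closure_iff.mp hξ' U hU hξU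
    obtain ⟨_, hyV, ⟨z', hz', rfl⟩⟩ := mem_closure_iff.mp hη' V hV hηV
    have := hZirr.isPreirreducible (U ×ˢ univ) (univ ×ˢ V) (hU.prod isOpen_univ)
      (isOpen_univ.prod hV) ⟨z, hz, by simpa using hxU⟩ ⟨z', hz', by simpa using hyV⟩
    obtain ⟨w, hwZ, hw1, hw2⟩ := this
    refine ⟨w, hUV ?_, hwZ⟩
    simp only [mem_prod, mem_univ, and_true, true_and] at hw1 hw2
    exact ⟨hw1, hw2⟩
  apply subset_antisymm
  · exact (hZcl.closure_subset_iff).mpr (singleton_subset_iff.mpr hmem)
  · rintro ⟨x, y⟩ hxy
    rw [← specializes_iff_mem_closure]
    refine Specializes.prod ?_ ?_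
    · rw [specializes_iff_mem_closure, hξ.def]
      exact subset_closure ⟨(x, y), hxy, rfl⟩
    · rw [specializes_iff_mem_closure, hη.def]
      exact subset_closure ⟨(x, y), hxy, rfl⟩

lemma isTopologicalBasis_prod_isCompact_isOpen [PrespectralSpace X] [PrespectralSpace Y] :
    IsTopologicalBasis (range fun W : {U : Set X // IsOpen U ∧ IsCompact U} ×
      {V : Set Y // IsOpen V ∧ IsCompact V} => W.1.1 ×ˢ W.2.1) := by
  convert (PrespectralSpace.isTopologicalBasis (X := X)).prod
    (PrespectralSpace.isTopologicalBasis (X := Y)) using 1
  ext s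
  simp only [mem_range, Prod.exists, Subtype.exists, mem_image2, mem_ofPred_eq]
  constructor
  · rintro ⟨U, hU, V, hV, rfl⟩; exact ⟨U, hU, V, hV, rfl⟩
  · rintro ⟨U, hU, V, hV, rfl⟩; exact ⟨U, hU, V, hV, rfl⟩

/-- The product of two spectral spaces is spectral. -/
lemma spectralSpace_prod [SpectralSpace X] [SpectralSpace Y] : SpectralSpace (X × Y) := by
  have h2 : QuasiSober (X × Y) := quasiSober_prod
  have hb := isTopologicalBasis_prod_isCompact_isOpen (X := X) (Y := Y)
  have h3 : PrespectralSpace (X × Y) :=
    PrespectralSpace.of_isTopologicalBasis' hb (fun W => W.1.2.2.prod W.2.2.2)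
  have h4 : QuasiSeparatedSpace (X × Y) := by
    refine QuasiSeparatedSpace.of_isTopologicalBasis hb ?_
    intro W₁ W₂
    rw [prod_inter_prod]
    exact (W₁.1.2.2.inter_of_isOpen W₂.1.2.2 W₁.1.2.1 W₂.1.2.1).prod
      (W₁.2.2.2.inter_of_isOpen W₂.2.2.2 W₁.2.2.1 W₂.2.2.1)
  exact { }

end Prod

section Maps

variable {Y : Type*} [tY : TopologicalSpace Y] {f : X → Y}

/-- A spectral map is continuous for the constructible topologies. -/
lemma continuous_constructibleTopology_of_isSpectralMap (hf : IsSpectralMap f) :
    @Continuous X Y (constructibleTopology X) (constructibleTopology Y) f := by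
  refine (continuous_generateFrom_iff (t := constructibleTopology X)).mpr ?_
  rintro s (⟨ho, hc⟩ | ⟨hcl, hc⟩)
  · exact (hf.isCompact_preimage_of_isOpen ho hc).isOpen_constructibleTopology_of_isOpen
      (ho.preimage hf.continuous)
  · have := hf.isCompact_preimage_of_isOpen hcl.isOpen_compl hc
    exact IsCompact.isOpen_constructibleTopology_of_isClosed (by simpa using this)
      (hcl.preimage hf.continuous)

/-- A continuous map of spectral spaces which is continuous for the constructible topologies is
spectral. -/
lemma isSpectralMap_of_continuous_constructibleTopology [CompactSpace X] [QuasiSober X]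
    [PrespectralSpace X] [QuasiSeparatedSpace X] (hf : Continuous f)
    (hfc : @Continuous X Y (constructibleTopology X) (constructibleTopology Y) f) :
    IsSpectralMap f := by
  refine ⟨hf, fun s hso hsc => ?_⟩
  have h1 : IsClosed[constructibleTopology Y] s :=
    isClosed_constructibleTopology_of_isCompact_isOpen hso hsc
  have h2 : IsClosed[constructibleTopology X] (f ⁻¹' s) :=
    @IsClosed.preimage X Y (constructibleTopology X) (constructibleTopology Y) f hfc s h1
  exact isCompact_of_isClosed_constructibleTopology h2

/-- The image of a spectral map of spectral spaces is constructibly closed. -/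
lemma isClosed_constructibleTopology_range_of_isSpectralMap [CompactSpace X] [QuasiSober X]
    [PrespectralSpace X] [QuasiSeparatedSpace X] [T0Space Y] [PrespectralSpace Y]
    (hf : IsSpectralMap f) : IsClosed[constructibleTopology Y] (range f) := by
  have hc := continuous_constructibleTopology_of_isSpectralMap hf
  have h1 : @IsCompact Y (constructibleTopology Y) (range f) :=
    @isCompact_range X Y (constructibleTopology X) (constructibleTopology Y)
      compactSpace_constructibleTopology f hc
  exact @IsCompact.isClosed Y (constructibleTopology Y) t2Space_constructibleTopology _ h1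

/-- The image of a constructibly closed set under a spectral map of spectral spaces is
constructibly closed. -/
lemma isClosed_constructibleTopology_image_of_isSpectralMap [CompactSpace X] [QuasiSober X]
    [PrespectralSpace X] [QuasiSeparatedSpace X] [T0Space Y] [PrespectralSpace Y]
    (hf : IsSpectralMap f) {E : Set X} (hE : IsClosed[constructibleTopology X] E) :
    IsClosed[constructibleTopology Y] (f '' E) := by
  have hc := continuous_constructibleTopology_of_isSpectralMap hf
  have h1 : @IsCompact Y (constructibleTopology Y) (f '' E) :=
    @IsCompact.image X Y (constructibleTopology X) (constructibleTopology Y) E f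
      (isCompact_constructibleTopology_of_isClosed hE) hc
  exact @IsCompact.isClosed Y (constructibleTopology Y) t2Space_constructibleTopology _ h1

/-- A bijective spectral map of spectral spaces lifting specializations or generalizations is a
homeomorphism. -/
lemma isHomeomorph_of_isSpectralMap_bijective [CompactSpace X] [QuasiSober X]
    [PrespectralSpace X] [QuasiSeparatedSpace X] [T0Space Y] [CompactSpace Y] [QuasiSober Y]
    [PrespectralSpace Y] [QuasiSeparatedSpace Y]
    (hf : IsSpectralMap f) (hb : Function.Bijective f)
    (hlift : GeneralizingMap f ∨ SpecializingMap f) : IsHomeomorph f := by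
  rcases hlift with hg | hsp
  · refine ⟨hf.continuous, fun U hU => ?_, hb⟩
    have h1 : IsClosed[constructibleTopology X] Uᶜ :=
      isClosed_constructibleTopology_of_isClosed hU.isClosed_compl
    have h2 := isClosed_constructibleTopology_image_of_isSpectralMap hf h1
    rw [image_compl_eq hb, @isClosed_compl_iff _ (constructibleTopology Y)] at h2
    exact isOpen_of_isOpen_constructibleTopology_of_stableUnderGeneralization h2
      (hg.stableUnderGeneralization_image hU.stableUnderGeneralization)
  · rw [isHomeomorph_iff_continuous_isClosedMap_bijective]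
    refine ⟨hf.continuous, fun Z hZ => ?_, hb⟩
    have h1 : IsClosed[constructibleTopology X] Z :=
      isClosed_constructibleTopology_of_isClosed hZ
    have h2 := isClosed_constructibleTopology_image_of_isSpectralMap hf h1
    exact isClosed_of_isClosed_constructibleTopology_of_stableUnderSpecialization h2
      (hsp.stableUnderSpecialization_image hZ.stableUnderSpecialization)

/-- The preimage of a constructible set under a spectral map to a quasi-compact space from a
quasi-separated space is constructible. -/
lemma isConstructible_preimage_of_isSpectralMap [QuasiSeparatedSpace X] [CompactSpace Y]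
    (hf : IsSpectralMap f) {E : Set Y} (hE : Topology.IsConstructible E) :
    Topology.IsConstructible (f ⁻¹' E) :=
  hE.preimage hf.continuous fun _ hso hsr =>
    (hf.isCompact_preimage_of_isOpen hso hsr.isCompact).isRetrocompact
      (hso.preimage hf.continuous)

end Maps

end Groth.Agent.Helper6
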