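import Mathlib
import Groth.Agent.Lib.Helper6.Spectral

set_option autoImplicit false
universe u

namespace Groth.Agent.Helper6

open Topology TopologicalSpace Set

variable {X : Type*} [TopologicalSpace X]

/-- An irreducible set contained in a finite union of closed sets is contained in one of them. -/
lemma IsIrreducible.subset_iUnion_fin {Z : Set X} (hZ : IsIrreducible Z) {n : ℕ}
    (C : Fin n → Set X) (hC : ∀ i, IsClosed (C i)) (h : Z ⊆ ⋃ i, C i) : ∃ i, Z ⊆ C i := by
  classical
  obtain ⟨z, hz, hZz⟩ := isIrreducible_iff_sUnion_isClosed.mp hZ (Finset.univ.image C)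
    (by
      intro z hz
      obtain ⟨i, _, rfl⟩ := Finset.mem_image.mp hz
      exact hC i)
    (by
      intro x hx
      obtain ⟨i, hi⟩ := mem_iUnion.mp (h hx)
      exact ⟨C i, by simp, hi⟩)
  obtain ⟨i, _, rfl⟩ := Finset.mem_image.mp hz
  exact ⟨i, hZz⟩

lemma dense_inter_irreducible_iff (Z : Set X) (hZ : IsIrreducible Z)
    {n : ℕ} (L : Fin n → Set X) (hL : ∀ i, IsLocallyClosed (L i)) (E : Set X)
    (hE : E = ⋃ i, L i) :
    (Z ⊆ closure (E ∩ Z) ↔ ∃ U : Set X, IsOpen U ∧ U ∩ Z ⊆ E ∧ Z ⊆ closure (U ∩ Z)) ∧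
    (∀ ξ : X, ξ ∈ Z → Z ⊆ closure {ξ} → (Z ⊆ closure (E ∩ Z) ↔ ξ ∈ E)) := by
  have part1 : Z ⊆ closure (E ∩ Z) →
      ∃ U : Set X, IsOpen U ∧ U ∩ Z ⊆ E ∧ Z ⊆ closure (U ∩ Z) := by
    intro h
    have e : closure (E ∩ Z) = ⋃ i, closure (L i ∩ Z) := by
      rw [hE, iUnion_inter, closure_iUnion_of_finite]
    rw [e] at h
    obtain ⟨i, hi⟩ := IsIrreducible.subset_iUnion_fin hZ _ (fun i => isClosed_closure) h
    obtain ⟨U, C, hU, hC, hUC⟩ := hL i
    have hZC : Z ⊆ C := by
      refine hi.trans ((hC.closure_subset_iff).mpr ?_)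
      rw [hUC]
      exact inter_subset_left.trans inter_subset_right
    have hUZ : U ∩ Z = L i ∩ Z := by
      rw [hUC]
      ext x
      constructor
      · rintro ⟨hxU, hxZ⟩; exact ⟨⟨hxU, hZC hxZ⟩, hxZ⟩
      · rintro ⟨⟨hxU, _⟩, hxZ⟩; exact ⟨hxU, hxZ⟩
    refine ⟨U, hU, ?_, ?_⟩
    · rw [hUZ, hE]
      exact inter_subset_left.trans (subset_iUnion L i)
    · rw [hUZ]; exact hi
  refine ⟨⟨part1, ?_⟩, ?_⟩
  · rintro ⟨U, _, hUE, hZU⟩
    exact hZU.trans (closure_mono (subset_inter hUE inter_subset_right))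
  · intro ξ hξZ hξ
    constructor
    · intro h
      obtain ⟨U, hU, hUE, hZU⟩ := part1 h
      obtain ⟨z, hzU, hzZ⟩ : (U ∩ Z).Nonempty := by
        by_contra hne
        rw [not_nonempty_iff_eq_empty] at hne
        rw [hne, closure_empty] at hZU
        exact (hZU hξZ)
      have hzξ : z ∈ closure ({ξ} : Set X) := hξ hzZ
      obtain ⟨w, hwU, hw⟩ := mem_closure_iff.mp hzξ U hU hzU
      rw [mem_singleton_iff] at hw
      subst hw
      exact hUE ⟨hwU, hξZ⟩
    · intro hξE
      refine hξ.trans (closure_mono ?_)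
      exact singleton_subset_iff.mpr ⟨hξE, hξZ⟩

/-- A continuous open map from a Noetherian quasi-sober space to a T0 space lifts
generalizations. -/
lemma generalizingMap_of_isOpenMap_of_noetherianSpace {Y : Type*} [TopologicalSpace Y]
    [NoetherianSpace X] [QuasiSober X] [T0Space Y]
    (f : X → Y) (hf : Continuous f) (hfo : IsOpenMap f) : GeneralizingMap f := by
  intro x y' hy'
  -- `hy' : y' ⤳ f x`
  have hW : IsClosed (f ⁻¹' closure {y'}) := isClosed_closure.preimage hf
  obtain ⟨S, hSf, hSc, hSi, hSU⟩ := NoetherianSpace.exists_finite_set_isClosed_irreducible hW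
  let S₂ : Set (Set X) := {t ∈ S | x ∉ t}
  have hS₂f : S₂.Finite := hSf.subset (sep_subset _ _)
  have hS₂c : IsClosed (⋃₀ S₂) := by
    rw [sUnion_eq_biUnion]
    exact hS₂f.isClosed_biUnion fun t ht => hSc t ht.1
  have hxU : x ∈ (⋃₀ S₂)ᶜ := by
    rintro ⟨t, ht, hxt⟩
    exact ht.2 hxt
  have hfU : IsOpen (f '' (⋃₀ S₂)ᶜ) := hfo _ hS₂c.isOpen_compl
  have hy'U : y' ∈ f '' (⋃₀ S₂)ᶜ := hy'.mem_open hfU ⟨x, hxU, rfl⟩
  obtain ⟨x'', hx''U, rfl⟩ := hy'U
  have hx''W : x'' ∈ f ⁻¹' closure {f x''} := subset_closure rfl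
  rw [hSU] at hx''W
  obtain ⟨t, htS, hx''t⟩ := hx''W
  have hxt : x ∈ t := by
    by_contra hxt
    exact hx''U ⟨t, ⟨htS, hxt⟩, hx''t⟩
  obtain ⟨η, hη⟩ := QuasiSober.sober (hSi t htS) (hSc t htS)
  refine ⟨η, hη.specializes hxt, ?_⟩
  have h1 : f η ⤳ f x'' := (hη.specializes hx''t).map hf
  have hηW : η ∈ f ⁻¹' closure {f x''} := by
    rw [hSU]; exact ⟨t, htS, hη.mem⟩
  have h2 : f x'' ⤳ f η := specializes_iff_mem_closure.mpr hηW
  exact (h1.antisymm h2).eq

/-- A locally closed quasi-compact subset with retrocompact complement is constructible. -/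
lemma isConstructible_of_isLocallyClosed_isCompact [CompactSpace X] [PrespectralSpace X]
    [QuasiSeparatedSpace X] (T : Set X) (hT : IsLocallyClosed T) (hTc : IsCompact T)
    (hTr : IsRetrocompact Tᶜ) : Topology.IsConstructible T := by
  obtain ⟨U, C, hU, hC, rfl⟩ := hT
  obtain ⟨W, hWc, hWo, hTW, hWU⟩ :=
    PrespectralSpace.exists_isCompact_and_isOpen_between hTc hU inter_subset_left
  have h1 : W \ (U ∩ C) = (U ∩ C)ᶜ ∩ W := by
    ext x; simp only [mem_sdiff, mem_inter_iff, mem_compl_iff]; tauto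
  have h2 : W \ (U ∩ C) = W ∩ Cᶜ := by
    ext x
    simp only [mem_sdiff, mem_inter_iff, mem_compl_iff, not_and]
    constructor
    · rintro ⟨hxW, hx⟩; exact ⟨hxW, hx (hWU hxW)⟩
    · rintro ⟨hxW, hxC⟩; exact ⟨hxW, fun _ => hxC⟩
  have hcomp : IsCompact (W \ (U ∩ C)) := by rw [h1]; exact hTr hWc hWo
  have hopen : IsOpen (W \ (U ∩ C)) := by rw [h2]; exact hWo.inter hC.isOpen_compl
  have h3 : U ∩ C = W \ (W \ (U ∩ C)) := by
    rw [sdiff_sdiff_right_self]
    exact (inter_eq_right.mpr hTW).symm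
  rw [h3]
  exact (hWc.isConstructible hWo).sdiff (hcomp.isConstructible hopen)

/-- In a prespectral space, a compact open subset of a subspace is the trace of a compact open
subset of the ambient space. -/
lemma exists_isCompact_isOpen_preimage_val_eq [PrespectralSpace X] (T : Set X) (V : Set T)
    (hVo : IsOpen V) (hVc : IsCompact V) :
    ∃ W : Set X, IsOpen W ∧ IsCompact W ∧ (Subtype.val : T → X) ⁻¹' W = V := by
  obtain ⟨W₀, hW₀, rfl⟩ := isOpen_induced_iff.mp hVo
  have key : ∀ x : T, x ∈ Subtype.val ⁻¹' W₀ → ∃ W : Set X, IsOpen W ∧ IsCompact W ∧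
      x.1 ∈ W ∧ W ⊆ W₀ := by
    intro x hx
    obtain ⟨W, ⟨hWo, hWc⟩, hxW, hWW₀⟩ :=
      PrespectralSpace.isTopologicalBasis.exists_subset_of_mem_open (show x.1 ∈ W₀ from hx) hW₀
    exact ⟨W, hWo, hWc, hxW, hWW₀⟩
  choose W hWo hWc hxW hWW₀ using key
  obtain ⟨t, ht⟩ := hVc.elim_nhds_subcover' (fun x hx => Subtype.val ⁻¹' W x hx)
    (fun x hx => ((hWo x hx).preimage continuous_subtype_val).mem_nhds (hxW x hx))
  refine ⟨⋃ x ∈ t, W x.1 x.2, isOpen_biUnion fun x _ => hWo _ _,
    t.isCompact_biUnion fun x _ => hWc _ _, ?_⟩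
  apply subset_antisymm
  · intro x hx
    simp only [mem_preimage, mem_iUnion] at hx
    obtain ⟨y, _, hy⟩ := hx
    exact hWW₀ _ _ hy
  · intro x hx
    have := ht hx
    simp only [mem_iUnion, mem_preimage] at this ⊢
    exact this

/-- The trace of a constructible set on a retrocompact subset is constructible. -/
lemma isConstructible_preimage_val_of_isRetrocompact [PrespectralSpace X]
    (T : Set X) (hT : IsRetrocompact T) (E : Set X) (hE : Topology.IsConstructible E) :
    Topology.IsConstructible ((Subtype.val : T → X) ⁻¹' E) := by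
  refine hE.preimage continuous_subtype_val fun U hUo hUr => ?_
  intro V hVc hVo
  obtain ⟨W, hWo, hWc, rfl⟩ := exists_isCompact_isOpen_preimage_val_eq T V hVo hVc
  rw [← preimage_inter, Topology.IsEmbedding.subtypeVal.isCompact_iff,
    Subtype.image_preimage_coe]
  have h1 : IsCompact (U ∩ W) := hUr hWc hWo
  have h2 : IsOpen (U ∩ W) := hUo.inter hWo
  have := hT h1 h2
  convert this using 1

/-- A T0 prespectral space which is not Jacobson has a non-closed point which is locally
closed. -/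
lemma exists_not_isClosed_isLocallyClosed_singleton [T0Space X] [PrespectralSpace X]
    (hX : ¬ JacobsonSpace X) :
    ∃ x : X, ¬ IsClosed ({x} : Set X) ∧ IsLocallyClosed ({x} : Set X) := by
  rw [jacobsonSpace_iff_locallyClosed] at hX
  push Not at hX
  obtain ⟨Z, ⟨z, hz⟩, hZlc, hZ⟩ := hX
  obtain ⟨U, C, hU, hC, rfl⟩ := hZlc
  obtain ⟨V, ⟨hVo, hVc⟩, hzV, hVU⟩ :=
    PrespectralSpace.isTopologicalBasis.exists_subset_of_mem_open hz.1 hU
  have hZ'c : IsCompact (V ∩ C) := hVc.inter_right hC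
  have : CompactSpace ↥(V ∩ C) := isCompact_iff_compactSpace.mp hZ'c
  obtain ⟨x', -, hx'⟩ := IsClosed.exists_closed_singleton
    (isClosed_univ : IsClosed (univ : Set ↥(V ∩ C))) ⟨⟨z, hzV, hz.2⟩, trivial⟩
  refine ⟨x'.1, ?_, ?_⟩
  · intro hcl
    have : x'.1 ∈ U ∩ C ∩ closedPoints X := ⟨⟨hVU x'.2.1, x'.2.2⟩, hcl⟩
    rw [hZ] at this
    exact this
  · have := hx'.isLocallyClosed.image (f := (Subtype.val : ↥(V ∩ C) → X))
      Topology.IsInducing.subtypeVal
      (by
        rw [Subtype.range_coe]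
        exact hVo.isLocallyClosed.inter hC.isLocallyClosed)
    rwa [image_singleton] at this

/-- A union of locally closed subsets of a Jacobson space is Jacobson, and its closed points are
closed in the ambient space. -/
lemma jacobsonSpace_iUnion_isLocallyClosed [JacobsonSpace X] {ι : Type*} (T : ι → Set X)
    (hT : ∀ i, IsLocallyClosed (T i)) :
    JacobsonSpace ↥(⋃ i, T i) ∧
      closedPoints ↥(⋃ i, T i) ⊆ (Subtype.val : ↥(⋃ i, T i) → X) ⁻¹' closedPoints X := by
  constructor
  · rw [jacobsonSpace_iff_locallyClosed]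
    intro Z hZne hZlc
    obtain ⟨Z₀, hZ₀, rfl⟩ := (Topology.IsInducing.subtypeVal.isLocallyClosed_iff).mp hZlc
    obtain ⟨z, hz⟩ := hZne
    obtain ⟨i, hi⟩ := mem_iUnion.mp z.2
    obtain ⟨y, ⟨hyZ₀, hyT⟩, hycl⟩ := nonempty_inter_closedPoints (Z := Z₀ ∩ T i)
      ⟨z.1, hz, hi⟩ (hZ₀.inter (hT i))
    refine ⟨⟨y, mem_iUnion.mpr ⟨i, hyT⟩⟩, hyZ₀, ?_⟩
    exact preimage_closedPoints_subset Subtype.val_injective continuous_subtype_val hycl
  · intro x hx
    rw [mem_closedPoints_iff] at hx
    obtain ⟨i, hi⟩ := mem_iUnion.mp x.2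
    obtain ⟨D, hD, hDx⟩ := isClosed_induced_iff.mp hx
    obtain ⟨U, C, hU, hC, hUC⟩ := hT i
    rw [hUC] at hi
    have hxD : x.1 ∈ D := by
      have : x ∈ (Subtype.val : ↥(⋃ i, T i) → X) ⁻¹' D := by rw [hDx]; rfl
      exact this
    have key : ({x.1} : Set X) = U ∩ (D ∩ C) := by
      apply subset_antisymm
      · rintro _ rfl
        exact ⟨hi.1, hxD, hi.2⟩
      · rintro y ⟨hyU, hyD, hyC⟩
        have hyS : y ∈ ⋃ i, T i := mem_iUnion.mpr ⟨i, by rw [hUC]; exact ⟨hyU, hyC⟩⟩
        have : (⟨y, hyS⟩ : ↥(⋃ i, T i)) ∈ (Subtype.val : ↥(⋃ i, T i) → X) ⁻¹' D := hyD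
        rw [hDx] at this
        exact congrArg Subtype.val this
    apply isClosed_singleton_of_isLocallyClosed_singleton
    rw [key]
    exact ⟨U, D ∩ C, hU, hD.inter hC, rfl⟩

/-- Normal form of constructible sets: finite unions of differences of retrocompact opens. -/
lemma exists_finset_of_isConstructible {E : Set X} (hE : Topology.IsConstructible E) :
    ∃ t : Finset ({U : Set X | IsOpen U ∧ IsRetrocompact U} ×
        {U : Set X | IsOpen U ∧ IsRetrocompact U}),
      E = ⋃ x ∈ t, (x.1.1 \ x.2.1) := by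
  have isSublattice : IsSublattice {U : Set X | IsOpen U ∧ IsRetrocompact U} :=
    ⟨fun s hs t ht ↦ ⟨hs.1.union ht.1, hs.2.union ht.2⟩,
      fun s hs t ht ↦ ⟨hs.1.inter ht.1, hs.2.inter_isOpen ht.2 ht.1⟩⟩
  obtain ⟨t, ht⟩ := (BooleanSubalgebra.mem_closure_iff_sup_sdiff isSublattice
    ⟨isOpen_empty, .empty⟩ ⟨isOpen_univ, .univ⟩).mp hE
  refine ⟨t, ?_⟩
  rw [ht, Finset.sup_set_eq_biUnion]

/-- Constructible sets are retrocompact. -/
lemma isRetrocompact_of_isConstructible {E : Set X} (hE : Topology.IsConstructible E) :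
    IsRetrocompact E := by
  obtain ⟨t, rfl⟩ := exists_finset_of_isConstructible hE
  refine IsRetrocompact.biUnion t.finite_toSet fun x _ => ?_
  intro K hKc hKo
  have : (x.1.1 \ x.2.1) ∩ K = (x.1.1 ∩ K) \ x.2.1 := by
    ext y; simp only [mem_inter_iff, mem_sdiff]; tauto
  rw [this]
  exact (x.1.2.2 hKc hKo).diff x.2.2.1

/-- The image in `X` of an open retrocompact subset of a constructible subspace is
constructible. -/
lemma isConstructible_image_val_of_isOpen_isRetrocompact [PrespectralSpace X]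
    (E : Set X) (hE : Topology.IsConstructible E) (U : Set E) (hUo : IsOpen U)
    (hUr : IsRetrocompact U) : Topology.IsConstructible ((Subtype.val : E → X) '' U) := by
  have hEr := isRetrocompact_of_isConstructible hE
  obtain ⟨t, ht⟩ := exists_finset_of_isConstructible hE
  obtain ⟨W, hW, rfl⟩ := isOpen_induced_iff.mp hUo
  rw [Subtype.image_preimage_coe]
  -- key compactness
  have key : ∀ K : Set X, IsCompact K → IsOpen K → IsCompact (E ∩ W ∩ K) := by
    intro K hKc hKo
    have h1 : IsCompact ((Subtype.val : E → X) ⁻¹' K) := by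
      rw [Topology.IsEmbedding.subtypeVal.isCompact_iff, Subtype.image_preimage_coe]
      exact hEr hKc hKo
    have h2 := hUr h1 (hKo.preimage continuous_subtype_val)
    rw [← preimage_inter, Topology.IsEmbedding.subtypeVal.isCompact_iff,
      Subtype.image_preimage_coe] at h2
    rwa [inter_assoc]
  -- the modified open sets
  have hWx : ∀ x ∈ t, IsOpen ((W ∩ x.1.1) ∪ x.2.1) ∧ IsRetrocompact ((W ∩ x.1.1) ∪ x.2.1) := by
    intro x hx
    refine ⟨(hW.inter x.1.2.1).union x.2.2.1, ?_⟩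
    intro K hKc hKo
    have hsub : x.1.1 \ x.2.1 ⊆ E := by
      rw [ht]; exact subset_biUnion_of_mem (u := fun y => y.1.1 \ y.2.1) hx
    have e : ((W ∩ x.1.1) ∪ x.2.1) ∩ K =
        ((E ∩ W ∩ (x.1.1 ∩ K)) ∩ x.2.1ᶜ) ∪ (x.2.1 ∩ K) := by
      ext y
      simp only [mem_inter_iff, mem_union, mem_compl_iff]
      constructor
      · rintro ⟨(⟨hyW, hy1⟩ | hy2), hyK⟩
        · by_cases hy2 : y ∈ x.2.1
          · exact Or.inr ⟨hy2, hyK⟩
          · exact Or.inl ⟨⟨⟨hsub ⟨hy1, hy2⟩, hyW⟩, hy1, hyK⟩, hy2⟩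
        · exact Or.inr ⟨hy2, hyK⟩
      · rintro (⟨⟨⟨_, hyW⟩, hy1, hyK⟩, _⟩ | ⟨hy2, hyK⟩)
        · exact ⟨Or.inl ⟨hyW, hy1⟩, hyK⟩
        · exact ⟨Or.inr hy2, hyK⟩
    rw [e]
    refine IsCompact.union ?_ (x.2.2.2 hKc hKo)
    exact (key _ (x.1.2.2 hKc hKo) (x.1.2.1.inter hKo)).inter_right x.2.2.1.isClosed_compl
  have e : E ∩ W = ⋃ x ∈ t, ((x.1.1 \ x.2.1) ∩ ((W ∩ x.1.1) ∪ x.2.1)) := by
    ext y
    simp only [mem_inter_iff, mem_iUnion, mem_sdiff, mem_union, exists_prop]
    constructor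
    · rintro ⟨hyE, hyW⟩
      rw [ht] at hyE
      simp only [mem_iUnion, mem_sdiff, exists_prop] at hyE
      obtain ⟨x, hx, hy1, hy2⟩ := hyE
      exact ⟨x, hx, ⟨hy1, hy2⟩, Or.inl ⟨hyW, hy1⟩⟩
    · rintro ⟨x, hx, ⟨hy1, hy2⟩, (⟨hyW, _⟩ | hy2')⟩
      · refine ⟨?_, hyW⟩
        rw [ht]
        simp only [mem_iUnion, mem_sdiff, exists_prop]
        exact ⟨x, hx, hy1, hy2⟩
      · exact absurd hy2' hy2
  rw [e]
  refine Topology.IsConstructible.biUnion t.finite_toSet fun x hx => ?_
  exact ((x.1.2.2.isConstructible x.1.2.1).sdiff (x.2.2.2.isConstructible x.2.2.1)).inter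
    ((hWx x hx).2.isConstructible (hWx x hx).1)

/-- A constructible subset of a constructible subspace is constructible in the ambient space. -/
lemma isConstructible_image_val_of_isConstructible [PrespectralSpace X]
    (E : Set X) (hE : Topology.IsConstructible E) (F : Set E) (hF : Topology.IsConstructible F) :
    Topology.IsConstructible ((Subtype.val : E → X) '' F) := by
  induction hF using Topology.IsConstructible.empty_union_induction with
  | open_retrocompact U hUo hUr =>
    exact isConstructible_image_val_of_isOpen_isRetrocompact E hE U hUo hUr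
  | union s hs t ht hs' ht' => rw [image_union]; exact hs'.union ht'
  | compl s hs hs' =>
    have : (Subtype.val : E → X) '' sᶜ = E \ (Subtype.val : E → X) '' s := by
      have h := range_sdiff_image (f := (Subtype.val : E → X)) Subtype.val_injective s
      rw [Subtype.range_coe] at h
      exact h.symm
    rw [this]
    exact hE.sdiff hs'

section JacobsonClosedPoints

variable [JacobsonSpace X]

/-- In a Jacobson space, a locally closed set without closed points is empty. -/
lemma eq_empty_of_isLocallyClosed_of_inter_closedPoints {Z : Set X} (hZ : IsLocallyClosed Z)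
    (h : Z ∩ closedPoints X = ∅) : Z = ∅ := by
  by_contra hne
  have := nonempty_inter_closedPoints (nonempty_iff_ne_empty.mpr hne) hZ
  rw [h] at this
  exact not_nonempty_empty this

/-- In a Jacobson space, an open set whose closed points are covered by a family of opens is
covered by this family. -/
lemma subset_iUnion_of_inter_closedPoints_subset {ι : Type*} {U : Set X} (hU : IsOpen U)
    (V : ι → Set X) (hV : ∀ i, IsOpen (V i)) (h : U ∩ closedPoints X ⊆ ⋃ i, V i) :
    U ⊆ ⋃ i, V i := by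
  have hZ : IsLocallyClosed (U ∩ (⋃ i, V i)ᶜ) :=
    hU.isLocallyClosed.inter (isOpen_iUnion hV).isClosed_compl.isLocallyClosed
  have := eq_empty_of_isLocallyClosed_of_inter_closedPoints hZ (by
    ext y
    simp only [mem_inter_iff, mem_compl_iff, mem_empty_iff_false, iff_false, not_and]
    rintro ⟨hyU, hyV⟩ hy
    exact hyV (h ⟨hyU, hy⟩))
  intro y hy
  by_contra hyV
  have : y ∈ U ∩ (⋃ i, V i)ᶜ := ⟨hy, hyV⟩
  rw [‹U ∩ (⋃ i, V i)ᶜ = ∅›] at this
  exact this

lemma isCompact_iff_isCompact_inter_closedPoints {U : Set X} (hU : IsOpen U) :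
    IsCompact U ↔ IsCompact (U ∩ closedPoints X) := by
  constructor
  · intro hc
    rw [isCompact_iff_finite_subcover]
    intro ι V hV hcov
    have hcov' := subset_iUnion_of_inter_closedPoints_subset hU V hV hcov
    obtain ⟨t, ht⟩ := hc.elim_finite_subcover V hV hcov'
    exact ⟨t, inter_subset_left.trans ht⟩
  · intro hc
    rw [isCompact_iff_finite_subcover]
    intro ι V hV hcov
    obtain ⟨t, ht⟩ := hc.elim_finite_subcover V hV (inter_subset_left.trans hcov)
    refine ⟨t, ?_⟩
    have := subset_iUnion_of_inter_closedPoints_subset hU (fun i : t => V i.1)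
      (fun i => hV i.1) (by
        intro y hy
        obtain ⟨i, hi, hyi⟩ := mem_iUnion₂.mp (ht hy)
        exact mem_iUnion.mpr ⟨⟨i, hi⟩, hyi⟩)
    intro y hy
    obtain ⟨i, hyi⟩ := mem_iUnion.mp (this hy)
    exact mem_iUnion₂.mpr ⟨i.1, i.2, hyi⟩

lemma isCompact_iff_isCompact_preimage_val_closedPoints {U : Set X} (hU : IsOpen U) :
    IsCompact U ↔ IsCompact ((Subtype.val : closedPoints X → X) ⁻¹' U) := by
  rw [isCompact_iff_isCompact_inter_closedPoints hU,
    Topology.IsEmbedding.subtypeVal.isCompact_iff, Subtype.image_preimage_coe, inter_comm]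

lemma isRetrocompact_iff_isRetrocompact_preimage_val_closedPoints {U : Set X} (hU : IsOpen U) :
    IsRetrocompact U ↔ IsRetrocompact ((Subtype.val : closedPoints X → X) ⁻¹' U) := by
  constructor
  · intro hr K₀ hK₀c hK₀o
    obtain ⟨K, hK, rfl⟩ := isOpen_induced_iff.mp hK₀o
    have hKc : IsCompact K := (isCompact_iff_isCompact_preimage_val_closedPoints hK).mpr hK₀c
    rw [← preimage_inter]
    exact (isCompact_iff_isCompact_preimage_val_closedPoints (hU.inter hK)).mp (hr hKc hK)
  · intro hr K hKc hKo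
    have h1 := (isCompact_iff_isCompact_preimage_val_closedPoints hKo).mp hKc
    have h2 := hr h1 (hKo.preimage continuous_subtype_val)
    rw [← preimage_inter] at h2
    exact (isCompact_iff_isCompact_preimage_val_closedPoints (hU.inter hKo)).mpr h2

lemma isConstructible_preimage_val_closedPoints {E : Set X} (hE : Topology.IsConstructible E) :
    Topology.IsConstructible ((Subtype.val : closedPoints X → X) ⁻¹' E) :=
  hE.preimage continuous_subtype_val fun _ hso hsr =>
    (isRetrocompact_iff_isRetrocompact_preimage_val_closedPoints hso).mp hsr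

lemma eq_empty_of_isConstructible_of_inter_closedPoints {E : Set X}
    (hE : Topology.IsConstructible E) (h : E ∩ closedPoints X = ∅) : E = ∅ := by
  obtain ⟨t, rfl⟩ := exists_finset_of_isConstructible hE
  simp only [iUnion_eq_empty]
  intro x hx
  refine eq_empty_of_isLocallyClosed_of_inter_closedPoints
    (x.1.2.1.isLocallyClosed.inter x.2.2.1.isClosed_compl.isLocallyClosed) ?_
  apply subset_empty_iff.mp
  rw [← h]
  exact inter_subset_inter_left _ (subset_biUnion_of_mem (u := fun y => y.1.1 \ y.2.1) hx)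

lemma preimage_val_closedPoints_subset_iff {E E' : Set X} (hE : Topology.IsConstructible E)
    (hE' : Topology.IsConstructible E') :
    ((Subtype.val : closedPoints X → X) ⁻¹' E ⊆ Subtype.val ⁻¹' E' ↔ E ⊆ E') := by
  constructor
  · intro h
    have := eq_empty_of_isConstructible_of_inter_closedPoints (hE.sdiff hE') (by
      ext y
      simp only [mem_inter_iff, mem_sdiff, mem_empty_iff_false, iff_false, not_and]
      rintro ⟨hyE, hyE'⟩ hy
      exact hyE' (h (a := ⟨y, hy⟩) hyE))
    exact sdiff_eq_empty.mp this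
  · intro h
    exact preimage_mono h

lemma exists_isConstructible_preimage_val_closedPoints_eq (F : Set (closedPoints X))
    (hF : Topology.IsConstructible F) :
    ∃ E : Set X, Topology.IsConstructible E ∧ (Subtype.val : closedPoints X → X) ⁻¹' E = F := by
  induction hF using Topology.IsConstructible.empty_union_induction with
  | open_retrocompact U hUo hUr =>
    obtain ⟨W, hW, rfl⟩ := isOpen_induced_iff.mp hUo
    exact ⟨W, ((isRetrocompact_iff_isRetrocompact_preimage_val_closedPoints hW).mpr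
      hUr).isConstructible hW, rfl⟩
  | union s hs t ht hs' ht' =>
    obtain ⟨Es, hEs, rfl⟩ := hs'
    obtain ⟨Et, hEt, rfl⟩ := ht'
    exact ⟨Es ∪ Et, hEs.union hEt, preimage_union⟩
  | compl s hs hs' =>
    obtain ⟨Es, hEs, rfl⟩ := hs'
    exact ⟨Esᶜ, hEs.compl, preimage_compl⟩

end JacobsonClosedPoints

end Groth.Agent.Helper6
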