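import Mathlib
import Groth.Prelude.Def_DerCA
import Groth.Agent.Lib.Helper6.ARSysBasic

set_option autoImplicit false

universe v u

open CategoryTheory CategoryTheory.Limits Opposite ARSys

namespace Groth.Agent.Helper6.EssConst

open Groth.Agent.Helper6.ARSysBasic

section General

variable {D : Type u} [Category.{v} D]

lemma cone_tr {X : PS D} {A : D} (c : (Functor.const ℕᵒᵖ).obj A ⟶ X) {n m : ℕ} (h : n ≤ m) :
    c.app (op m) ≫ tr X h = c.app (op n) :=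
  (Cone.mk A c).w (homOfLE h).op

lemma tr_comp_assoc (X : PS D) {n m k : ℕ} (h₁ : n ≤ m) (h₂ : m ≤ k) {W : D}
    (g : X.obj (op n) ⟶ W) : tr X h₂ ≫ tr X h₁ ≫ g = tr X (h₁.trans h₂) ≫ g := by
  rw [← Category.assoc, tr_comp]

/-- A compatible family gives a cone. -/
def mkCone {Y : PS D} {B : D} (t : ∀ n : ℕ, B ⟶ Y.obj (op n))
    (ht : ∀ (n m : ℕ) (h : n ≤ m), t m ≫ tr Y h = t n) : (Functor.const ℕᵒᵖ).obj B ⟶ Y where
  app k := t k.unop
  naturality := by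
    intro k l φ
    obtain ⟨n'⟩ := k
    obtain ⟨n⟩ := l
    have hle : n ≤ n' := leOfHom φ.unop
    have hφ : φ = (homOfLE hle).op := hom_eq _ _
    subst hφ
    show 𝟙 B ≫ t n = t n' ≫ tr Y hle
    rw [Category.id_comp]
    exact (ht n n' hle).symm

lemma rebase₁ {X : PS D} {A : D} (c : ∀ n : ℕ, A ⟶ X.obj (op n))
    (hc : ∀ (n m : ℕ) (h : n ≤ m), c m ≫ tr X h = c n) {i : ℕ} (s : X.obj (op i) ⟶ A)
    (h1 : c i ≫ s = 𝟙 A)
    (h2 : ∀ j : ℕ, ∃ (k : ℕ) (hi : i ≤ k) (hj : j ≤ k), tr X hj = tr X hi ≫ s ≫ c j)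
    {N : ℕ} (hN : i ≤ N) :
    c N ≫ (tr X hN ≫ s) = 𝟙 A ∧
    ∀ j : ℕ, ∃ (k : ℕ) (hNk : N ≤ k) (hj : j ≤ k),
      tr X hj = tr X hNk ≫ (tr X hN ≫ s) ≫ c j := by
  refine ⟨by rw [← Category.assoc, hc i N hN, h1], fun j => ?_⟩
  obtain ⟨k, hi, hj, e⟩ := h2 (max N j)
  refine ⟨k, (le_max_left N j).trans hj, (le_max_right N j).trans hj, ?_⟩
  rw [← tr_comp X (le_max_right N j) hj, e]
  simp only [Category.assoc]
  rw [tr_comp_assoc, hc j (max N j) (le_max_right N j)]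

lemma rebase₂ {X : PS D} {A : D} (c : ∀ n : ℕ, A ⟶ X.obj (op n)) {N : ℕ} (s : X.obj (op N) ⟶ A)
    (h2 : ∀ j : ℕ, ∃ (k : ℕ) (hN : N ≤ k) (hj : j ≤ k), tr X hj = tr X hN ≫ s ≫ c j) (j : ℕ) :
    ∃ k : ℕ, j ≤ k ∧ ∀ (k' : ℕ) (_ : k ≤ k') (hjk' : j ≤ k'),
      tr X (Nat.add_le_add_left hjk' N) = (tr X (Nat.le_add_right N k') ≫ s) ≫ c (N + j) := by
  obtain ⟨k0, hN, hj, e⟩ := h2 (N + j)
  obtain ⟨k, rfl⟩ : ∃ k, k0 = N + k := ⟨k0 - N, by omega⟩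
  refine ⟨k, by omega, fun k' hk hjk' => ?_⟩
  rw [← tr_comp X hj (Nat.add_le_add_left hk N), e, tr_comp_assoc, Category.assoc]

end General

section Pre

open Pretriangulated

variable {D : Type u} [Category.{v} D] [Preadditive D]

/-- The isomorphism with a biproduct given by a split decomposition. -/
noncomputable def splitIso [HasBinaryBiproducts D] {X A Z : D} (c : A ⟶ X) (s : X ⟶ A)
    (g : X ⟶ Z) (r : Z ⟶ X)
    (cs : c ≫ s = 𝟙 A) (rg : r ≫ g = 𝟙 Z) (cg : c ≫ g = 0) (rs : r ≫ s = 0)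
    (tot : s ≫ c + g ≫ r = 𝟙 X) : X ≅ A ⊞ Z where
  hom := biprod.lift s g
  inv := biprod.desc c r
  hom_inv_id := by rw [biprod.lift_desc]; exact tot
  inv_hom_id := by
    apply biprod.hom_ext' <;> apply biprod.hom_ext <;> simp [cs, rg, cg, rs]

variable [HasZeroObject D] [HasShift D ℤ] [∀ n : ℤ, (shiftFunctor D n).Additive]
  [Pretriangulated D]

lemma exists_complement {A X : D} (c : A ⟶ X) (s : X ⟶ A) (cs : c ≫ s = 𝟙 A) :
    ∃ (Z : D) (g : X ⟶ Z) (r : Z ⟶ X),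
      c ≫ g = 0 ∧ r ≫ g = 𝟙 Z ∧ r ≫ s = 0 ∧ s ≫ c + g ≫ r = 𝟙 X := by
  obtain ⟨Z, g, h, hT⟩ := distinguished_cocone_triangle c
  have cg : c ≫ g = 0 := comp_distTriang_mor_zero₁₂ _ hT
  have h0 : h = 0 := by
    have e : h ≫ c⟦(1 : ℤ)⟧' = 0 := comp_distTriang_mor_zero₃₁ _ hT
    calc h = h ≫ (c ≫ s)⟦(1 : ℤ)⟧' := by rw [cs, CategoryTheory.Functor.map_id, Category.comp_id]
      _ = (h ≫ c⟦(1 : ℤ)⟧') ≫ s⟦(1 : ℤ)⟧' := by rw [CategoryTheory.Functor.map_comp, Category.assoc]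
      _ = 0 := by rw [e, zero_comp]
  have : Epi g := Triangle.epi₂ _ hT h0
  obtain ⟨r, hr⟩ := Triangle.yoneda_exact₂ _ hT (𝟙 X - s ≫ c) (by
    show c ≫ (𝟙 X - s ≫ c) = 0
    rw [Preadditive.comp_sub, Category.comp_id, ← Category.assoc, cs, Category.id_comp, sub_self])
  have hr' : 𝟙 X - s ≫ c = g ≫ r := hr
  refine ⟨Z, g, r, cg, ?_, ?_, ?_⟩
  · rw [← cancel_epi g, ← Category.assoc, ← hr', Preadditive.sub_comp, Category.id_comp,
      Category.assoc, cg, comp_zero, sub_zero, Category.comp_id]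
  · rw [← cancel_epi g, ← Category.assoc, ← hr', Preadditive.sub_comp, Category.id_comp,
      Category.assoc, cs, Category.comp_id, sub_self, comp_zero]
  · rw [← hr']
    abel

theorem split_clean (X : PS D) (A : D) (cf : ∀ n : ℕ, A ⟶ X.obj (op n))
    (hcf : ∀ (n m : ℕ) (h : n ≤ m), cf m ≫ tr X h = cf n)
    (i : ℕ) (s : X.obj (op i) ⟶ A) (hs : cf i ≫ s = 𝟙 A)
    (hfac : ∀ j : ℕ, ∃ (k : ℕ) (hi : i ≤ k) (hj : j ≤ k), tr X hj = tr X hi ≫ s ≫ cf j) :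
    ∃ (Z : ℕ → D) (e : ∀ j : ℕ, X.obj (op (i + j)) ≅ A ⊞ Z j)
      (z : ∀ j k : ℕ, j ≤ k → (Z k ⟶ Z j)),
      (∀ j : ℕ, cf (i + j) ≫ (e j).hom = biprod.inl) ∧
      (∀ (j k : ℕ) (hjk : j ≤ k), (e k).inv ≫ tr X (Nat.add_le_add_left hjk i) =
        biprod.map (𝟙 A) (z j k hjk) ≫ (e j).inv) ∧
      (∀ j : ℕ, ∃ (k : ℕ) (hjk : j ≤ k), z j k hjk = 0) := by
  obtain ⟨sf, hsf⟩ : ∃ sf : ∀ j : ℕ, X.obj (op (i + j)) ⟶ A,
      ∀ j, sf j = tr X (Nat.le_add_right i j) ≫ s := ⟨_, fun _ => rfl⟩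
  have hret : ∀ j : ℕ, cf (i + j) ≫ sf j = 𝟙 A := by
    intro j
    rw [hsf, ← Category.assoc, hcf i (i + j) (Nat.le_add_right i j), hs]
  have hsf_tr : ∀ (j k : ℕ) (hjk : j ≤ k), tr X (Nat.add_le_add_left hjk i) ≫ sf j = sf k := by
    intro j k hjk
    rw [hsf, hsf, tr_comp_assoc]
  have key : ∀ j : ℕ, ∃ (Zj : D) (g : X.obj (op (i + j)) ⟶ Zj) (r : Zj ⟶ X.obj (op (i + j))),
      cf (i + j) ≫ g = 0 ∧ r ≫ g = 𝟙 Zj ∧ r ≫ sf j = 0 ∧
        sf j ≫ cf (i + j) + g ≫ r = 𝟙 _ :=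
    fun j => exists_complement (cf (i + j)) (sf j) (hret j)
  choose Z g r h1 h2 h3 h4 using key
  have hE : ∀ j : ℕ, ∃ e : X.obj (op (i + j)) ≅ A ⊞ Z j,
      e.hom = biprod.lift (sf j) (g j) ∧ e.inv = biprod.desc (cf (i + j)) (r j) :=
    fun j => ⟨splitIso (cf (i + j)) (sf j) (g j) (r j) (hret j) (h2 j) (h1 j) (h3 j) (h4 j),
      rfl, rfl⟩
  choose e he_hom he_inv using hE
  refine ⟨Z, e, fun j k hjk => r k ≫ tr X (Nat.add_le_add_left hjk i) ≫ g j, ?_, ?_, ?_⟩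
  · intro j
    rw [he_hom j]
    apply biprod.hom_ext
    · rw [Category.assoc, biprod.lift_fst, biprod.inl_fst]
      exact hret j
    · rw [Category.assoc, biprod.lift_snd, biprod.inl_snd]
      exact h1 j
  · intro j k hjk
    rw [he_inv k, he_inv j]
    apply biprod.hom_ext'
    · rw [biprod.inl_desc_assoc, biprod.inl_map_assoc, biprod.inl_desc, Category.id_comp]
      exact hcf _ _ _
    · rw [biprod.inr_desc_assoc, biprod.inr_map_assoc, biprod.inr_desc]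
      show r k ≫ tr X (Nat.add_le_add_left hjk i) =
        (r k ≫ tr X (Nat.add_le_add_left hjk i) ≫ g j) ≫ r j
      have z0 : r k ≫ tr X (Nat.add_le_add_left hjk i) ≫ sf j = 0 := by
        rw [hsf_tr j k hjk]
        exact h3 k
      calc r k ≫ tr X (Nat.add_le_add_left hjk i)
          = r k ≫ tr X (Nat.add_le_add_left hjk i) ≫ (sf j ≫ cf (i + j) + g j ≫ r j) := by
            rw [h4 j, Category.comp_id]
        _ = (r k ≫ tr X (Nat.add_le_add_left hjk i) ≫ sf j) ≫ cf (i + j) +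
            (r k ≫ tr X (Nat.add_le_add_left hjk i) ≫ g j) ≫ r j := by
            simp only [Preadditive.comp_add, Category.assoc]
        _ = (r k ≫ tr X (Nat.add_le_add_left hjk i) ≫ g j) ≫ r j := by
            rw [z0, zero_comp, zero_add]
  · intro j
    obtain ⟨k0, hi, hj, hk⟩ := hfac (i + j)
    obtain ⟨k, rfl⟩ : ∃ k, k0 = i + k := ⟨k0 - i, by omega⟩
    refine ⟨k, by omega, ?_⟩
    show r k ≫ tr X hj ≫ g j = 0
    rw [hk]
    simp only [Category.assoc]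
    rw [h1 j, comp_zero, comp_zero, comp_zero]

end Pre

end Groth.Agent.Helper6.EssConst
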