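import Mathlib
import Groth.Prelude.Def_DerCA
import Groth.Agent.Lib.Helper6.ARSysBasic
import Groth.Agent.Lib.Helper6.EssConst

set_option autoImplicit false

universe v u

open CategoryTheory CategoryTheory.Limits Opposite ARSys

namespace Groth.Agent.Helper6.EssConst

open Groth.Agent.Helper6.ARSysBasic

section Pre

open Pretriangulated

variable {D : Type u} [Category.{v} D] [Preadditive D]
  [HasZeroObject D] [HasShift D ℤ] [∀ n : ℤ, (shiftFunctor D n).Additive] [Pretriangulated D]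

theorem core_fam (X Y Z : PS D) (f : X ⟶ Y) (g : Y ⟶ Z)
    (hf : ∀ n : ℕ, Z.obj (op n) ⟶ (X.obj (op n))⟦(1 : ℤ)⟧)
    (hf_nat : ∀ (n m : ℕ) (hnm : n ≤ m), tr Z hnm ≫ hf n = hf m ≫ (tr X hnm)⟦(1 : ℤ)⟧')
    (hT : ∀ n : ℕ, Triangle.mk (f.app (op n)) (g.app (op n)) (hf n) ∈ distTriang D)
    (N : ℕ)
    {A : D} (cA : ∀ n : ℕ, A ⟶ X.obj (op n))
    (sA : ∀ n : ℕ, X.obj (op (N + n)) ⟶ A)
    (hA1 : ∀ n : ℕ, cA (N + n) ≫ sA n = 𝟙 A)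
    (hA2 : ∀ j : ℕ, ∃ k : ℕ, j ≤ k ∧ ∀ (k' : ℕ) (_ : k ≤ k') (hjk' : j ≤ k'),
      tr X (Nat.add_le_add_left hjk' N) = sA k' ≫ cA (N + j))
    {C : D} (cC : ∀ n : ℕ, C ⟶ Z.obj (op n))
    (hcC : ∀ (n m : ℕ) (h : n ≤ m), cC m ≫ tr Z h = cC n)
    (sC : ∀ n : ℕ, Z.obj (op (N + n)) ⟶ C)
    (hC1 : ∀ n : ℕ, cC (N + n) ≫ sC n = 𝟙 C)
    (hC2 : ∀ j : ℕ, ∃ k : ℕ, j ≤ k ∧ ∀ (k' : ℕ) (_ : k ≤ k') (hjk' : j ≤ k'),
      tr Z (Nat.add_le_add_left hjk' N) = sC k' ≫ cC (N + j))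
    {B : D} (a : A ⟶ B) (b : B ⟶ C) (δ : C ⟶ A⟦(1 : ℤ)⟧)
    (hB : Triangle.mk a b δ ∈ distTriang D)
    (β : ∀ n : ℕ, Y.obj (op (N + n)) ⟶ B)
    (β_tr : ∀ (n m : ℕ) (hnm : n ≤ m), tr Y (Nat.add_le_add_left hnm N) ≫ β n = β m)
    (e1 : ∀ n : ℕ, f.app (op (N + n)) ≫ β n = sA n ≫ a)
    (e2 : ∀ n : ℕ, g.app (op (N + n)) ≫ sC n = β n ≫ b)
    (e3 : ∀ n : ℕ, hf (N + n) ≫ (sA n)⟦(1 : ℤ)⟧' = sC n ≫ δ) :
    ∃ (t : ∀ n : ℕ, B ⟶ Y.obj (op n)) (_ : ∀ (n m : ℕ) (h : n ≤ m), t m ≫ tr Y h = t n)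
      (i : ℕ) (s : Y.obj (op i) ⟶ B), t i ≫ s = 𝟙 B ∧
      ∀ j : ℕ, ∃ (k : ℕ) (hi : i ≤ k) (hj : j ≤ k), tr Y hj = tr Y hi ≫ s ≫ t j := by
  have hD : ∀ n : ℕ, cC (N + n) ≫ hf (N + n) = δ ≫ (cA (N + n))⟦(1 : ℤ)⟧' := by
    intro n
    obtain ⟨k, hnk, hk⟩ := hA2 n
    have hk' := hk k le_rfl hnk
    calc cC (N + n) ≫ hf (N + n)
        = (cC (N + k) ≫ tr Z (Nat.add_le_add_left hnk N)) ≫ hf (N + n) := by
          rw [hcC (N + n) (N + k) (Nat.add_le_add_left hnk N)]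
      _ = cC (N + k) ≫ hf (N + k) ≫ (tr X (Nat.add_le_add_left hnk N))⟦(1 : ℤ)⟧' := by
          rw [Category.assoc, hf_nat]
      _ = cC (N + k) ≫ (hf (N + k) ≫ (sA k)⟦(1 : ℤ)⟧') ≫ (cA (N + n))⟦(1 : ℤ)⟧' := by
          rw [hk', CategoryTheory.Functor.map_comp, Category.assoc]
      _ = (cC (N + k) ≫ sC k) ≫ δ ≫ (cA (N + n))⟦(1 : ℤ)⟧' := by
          rw [e3 k]
          simp only [Category.assoc]
      _ = δ ≫ (cA (N + n))⟦(1 : ℤ)⟧' := by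
          rw [hC1 k, Category.id_comp]
  have hInj : ∀ (n : ℕ) {E : D} (φ : B ⟶ E), β n ≫ φ = 0 → φ = 0 := by
    intro n E φ hφ
    have h1 : a ≫ φ = 0 := by
      calc a ≫ φ = (cA (N + n) ≫ sA n) ≫ a ≫ φ := by rw [hA1 n, Category.id_comp]
        _ = cA (N + n) ≫ (sA n ≫ a) ≫ φ := by simp only [Category.assoc]
        _ = cA (N + n) ≫ (f.app (op (N + n)) ≫ β n) ≫ φ := by rw [e1 n]
        _ = 0 := by rw [Category.assoc, hφ, comp_zero, comp_zero]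
    obtain ⟨ψ, hψ⟩ := Triangle.yoneda_exact₂ _ hB φ h1
    have hψ' : φ = b ≫ ψ := hψ
    have h2 : g.app (op (N + n)) ≫ (sC n ≫ ψ) = 0 := by
      rw [← Category.assoc, e2 n, Category.assoc, ← hψ', hφ]
    obtain ⟨χ, hχ⟩ := Triangle.yoneda_exact₃ _ (hT (N + n)) (sC n ≫ ψ) h2
    have hχ' : sC n ≫ ψ = hf (N + n) ≫ χ := hχ
    have h3 : ψ = δ ≫ (cA (N + n))⟦(1 : ℤ)⟧' ≫ χ := by
      calc ψ = (cC (N + n) ≫ sC n) ≫ ψ := by rw [hC1 n, Category.id_comp]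
        _ = cC (N + n) ≫ sC n ≫ ψ := by rw [Category.assoc]
        _ = cC (N + n) ≫ hf (N + n) ≫ χ := by rw [hχ']
        _ = (cC (N + n) ≫ hf (N + n)) ≫ χ := by rw [Category.assoc]
        _ = δ ≫ (cA (N + n))⟦(1 : ℤ)⟧' ≫ χ := by rw [hD n, Category.assoc]
    have hbδ : b ≫ δ = 0 := comp_distTriang_mor_zero₂₃ _ hB
    rw [hψ', h3, ← Category.assoc, hbδ, zero_comp]
  have hUniq : ∀ (n : ℕ) {E : D} (φ φ' : B ⟶ E), β n ≫ φ = β n ≫ φ' → φ = φ' := by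
    intro n E φ φ' hh
    have := hInj n (φ - φ') (by rw [Preadditive.comp_sub, hh, sub_self])
    exact sub_eq_zero.mp this
  have hSurj : ∀ n : ℕ, ∃ (m : ℕ) (bb : B ⟶ Y.obj (op (N + n))), n ≤ m ∧
      ∀ (m' : ℕ) (_ : m ≤ m') (hnm' : n ≤ m'),
        β m' ≫ bb = tr Y (Nat.add_le_add_left hnm' N) := by
    intro n
    obtain ⟨b', hb1', hb2⟩ : ∃ b' : B ⟶ Y.obj (op (N + n)),
        a ≫ b' = cA (N + n) ≫ f.app (op (N + n)) ∧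
        b ≫ cC (N + n) = b' ≫ g.app (op (N + n)) :=
      complete_distinguished_triangle_morphism₂ _ _ hB (hT (N + n))
        (cA (N + n)) (cC (N + n)) (hD n).symm
    obtain ⟨m1, hnm1, hm1⟩ := hA2 n
    have hm1' := hm1 m1 le_rfl hnm1
    have hz : f.app (op (N + m1)) ≫ (tr Y (Nat.add_le_add_left hnm1 N) - β m1 ≫ b') = 0 := by
      rw [Preadditive.comp_sub, ← nat_tr f, hm1', ← Category.assoc (f.app (op (N + m1))), e1 m1]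
      simp only [Category.assoc]
      rw [hb1', sub_self]
    obtain ⟨ψ, hψ⟩ := Triangle.yoneda_exact₂ _ (hT (N + m1))
      (tr Y (Nat.add_le_add_left hnm1 N) - β m1 ≫ b') hz
    have hψ' : tr Y (Nat.add_le_add_left hnm1 N) - β m1 ≫ b' = g.app (op (N + m1)) ≫ ψ := hψ
    obtain ⟨m2, hm12, hm2⟩ := hC2 m1
    refine ⟨m2, b' + b ≫ cC (N + m1) ≫ ψ, hnm1.trans hm12, ?_⟩
    intro m' hm hnm'
    have hm1m' : m1 ≤ m' := hm12.trans hm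
    have hC' := hm2 m' hm hm1m'
    have key : tr Y (Nat.add_le_add_left hnm' N) - β m' ≫ b' =
        β m' ≫ b ≫ cC (N + m1) ≫ ψ := by
      calc tr Y (Nat.add_le_add_left hnm' N) - β m' ≫ b'
          = tr Y (Nat.add_le_add_left hm1m' N) ≫
              (tr Y (Nat.add_le_add_left hnm1 N) - β m1 ≫ b') := by
            rw [Preadditive.comp_sub, tr_comp, ← Category.assoc, β_tr m1 m' hm1m']
        _ = tr Y (Nat.add_le_add_left hm1m' N) ≫ g.app (op (N + m1)) ≫ ψ := by rw [hψ']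
        _ = g.app (op (N + m')) ≫ tr Z (Nat.add_le_add_left hm1m' N) ≫ ψ := by
            rw [← Category.assoc, nat_tr g, Category.assoc]
        _ = g.app (op (N + m')) ≫ (sC m' ≫ cC (N + m1)) ≫ ψ := by rw [hC']
        _ = (g.app (op (N + m')) ≫ sC m') ≫ cC (N + m1) ≫ ψ := by simp only [Category.assoc]
        _ = β m' ≫ b ≫ cC (N + m1) ≫ ψ := by rw [e2 m', Category.assoc]
    rw [Preadditive.comp_add, ← key]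
    abel
  choose m bb hm hbb using hSurj
  have hinv : ∀ n : ℕ, bb n ≫ β n = 𝟙 B := by
    intro n
    apply hUniq (m n)
    rw [← Category.assoc, hbb n (m n) le_rfl (hm n), β_tr n (m n) (hm n), Category.comp_id]
  have hnat : ∀ (n n' : ℕ) (hnn : n ≤ n'),
      bb n' ≫ tr Y (Nat.add_le_add_left hnn N) = bb n := by
    intro n n' hnn
    apply hUniq (max (m n) (m n'))
    rw [← Category.assoc,
      hbb n' (max (m n) (m n')) (le_max_right _ _) ((hm n').trans (le_max_right _ _)),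
      tr_comp,
      hbb n (max (m n) (m n')) (le_max_left _ _) ((hm n).trans (le_max_left _ _))]
  refine ⟨fun n => bb n ≫ tr Y (Nat.le_add_left n N), ?_, N + 0, β 0, ?_, ?_⟩
  · intro n n' hnn
    show (bb n' ≫ tr Y (Nat.le_add_left n' N)) ≫ tr Y hnn = bb n ≫ tr Y (Nat.le_add_left n N)
    rw [Category.assoc, tr_comp, ← hnat n n' hnn, Category.assoc, tr_comp]
  · show (bb (N + 0) ≫ tr Y (Nat.le_add_left (N + 0) N)) ≫ β 0 = 𝟙 B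
    rw [hnat 0 (N + 0) (Nat.zero_le _)]
    exact hinv 0
  · intro j
    refine ⟨N + m j, Nat.add_le_add_left (Nat.zero_le _) N,
      (hm j).trans (Nat.le_add_left _ _), ?_⟩
    show tr Y _ = tr Y _ ≫ β 0 ≫ bb j ≫ tr Y (Nat.le_add_left j N)
    rw [← Category.assoc, β_tr 0 (m j) (Nat.zero_le _), ← Category.assoc,
      hbb j (m j) le_rfl (hm j), tr_comp]

theorem core_N (X Y Z : PS D) (f : X ⟶ Y) (g : Y ⟶ Z)
    (hf : ∀ n : ℕ, Z.obj (op n) ⟶ (X.obj (op n))⟦(1 : ℤ)⟧)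
    (hf_nat : ∀ (n m : ℕ) (hnm : n ≤ m), tr Z hnm ≫ hf n = hf m ≫ (tr X hnm)⟦(1 : ℤ)⟧')
    (hT : ∀ n : ℕ, Triangle.mk (f.app (op n)) (g.app (op n)) (hf n) ∈ distTriang D)
    (N : ℕ)
    {A : D} (cA : ∀ n : ℕ, A ⟶ X.obj (op n))
    (hcA : ∀ (n m : ℕ) (h : n ≤ m), cA m ≫ tr X h = cA n)
    (sA : X.obj (op N) ⟶ A) (hA1 : cA N ≫ sA = 𝟙 A)
    (hA2 : ∀ j : ℕ, ∃ (k : ℕ) (hN : N ≤ k) (hj : j ≤ k), tr X hj = tr X hN ≫ sA ≫ cA j)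
    {C : D} (cC : ∀ n : ℕ, C ⟶ Z.obj (op n))
    (hcC : ∀ (n m : ℕ) (h : n ≤ m), cC m ≫ tr Z h = cC n)
    (sC : Z.obj (op N) ⟶ C) (hC1 : cC N ≫ sC = 𝟙 C)
    (hC2 : ∀ j : ℕ, ∃ (k : ℕ) (hN : N ≤ k) (hj : j ≤ k), tr Z hj = tr Z hN ≫ sC ≫ cC j)
    {B : D} (a : A ⟶ B) (b : B ⟶ C) (δ : C ⟶ A⟦(1 : ℤ)⟧)
    (hB : Triangle.mk a b δ ∈ distTriang D)
    (β : Y.obj (op N) ⟶ B)
    (e1 : f.app (op N) ≫ β = sA ≫ a) (e2 : g.app (op N) ≫ sC = β ≫ b)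
    (e3 : hf N ≫ sA⟦(1 : ℤ)⟧' = sC ≫ δ) :
    ∃ (t : ∀ n : ℕ, B ⟶ Y.obj (op n)) (_ : ∀ (n m : ℕ) (h : n ≤ m), t m ≫ tr Y h = t n)
      (i : ℕ) (s : Y.obj (op i) ⟶ B), t i ≫ s = 𝟙 B ∧
      ∀ j : ℕ, ∃ (k : ℕ) (hi : i ≤ k) (hj : j ≤ k), tr Y hj = tr Y hi ≫ s ≫ t j := by
  obtain ⟨sAf, hsAf⟩ : ∃ sAf : ∀ n : ℕ, X.obj (op (N + n)) ⟶ A,
      ∀ n, sAf n = tr X (Nat.le_add_right N n) ≫ sA := ⟨_, fun _ => rfl⟩
  obtain ⟨sCf, hsCf⟩ : ∃ sCf : ∀ n : ℕ, Z.obj (op (N + n)) ⟶ C,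
      ∀ n, sCf n = tr Z (Nat.le_add_right N n) ≫ sC := ⟨_, fun _ => rfl⟩
  obtain ⟨βf, hβf⟩ : ∃ βf : ∀ n : ℕ, Y.obj (op (N + n)) ⟶ B,
      ∀ n, βf n = tr Y (Nat.le_add_right N n) ≫ β := ⟨_, fun _ => rfl⟩
  refine core_fam X Y Z f g hf hf_nat hT N cA sAf ?_ ?_ cC hcC sCf ?_ ?_ a b δ hB βf
    ?_ ?_ ?_ ?_
  · intro n
    rw [hsAf, ← Category.assoc, hcA N (N + n) (Nat.le_add_right N n), hA1]
  · intro j
    obtain ⟨k, hjk, hk⟩ := rebase₂ cA sA hA2 j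
    exact ⟨k, hjk, fun k' hk' hjk' => by rw [hsAf]; exact hk k' hk' hjk'⟩
  · intro n
    rw [hsCf, ← Category.assoc, hcC N (N + n) (Nat.le_add_right N n), hC1]
  · intro j
    obtain ⟨k, hjk, hk⟩ := rebase₂ cC sC hC2 j
    exact ⟨k, hjk, fun k' hk' hjk' => by rw [hsCf]; exact hk k' hk' hjk'⟩
  · intro n m hnm
    rw [hβf, hβf, tr_comp_assoc]
  · intro n
    rw [hβf, hsAf, ← Category.assoc, ← nat_tr f, Category.assoc, e1, Category.assoc]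
  · intro n
    rw [hβf, hsCf, ← Category.assoc, ← nat_tr g, Category.assoc, e2, Category.assoc]
  · intro n
    rw [hsAf, hsCf, CategoryTheory.Functor.map_comp, ← Category.assoc, ← hf_nat,
      Category.assoc, e3, Category.assoc]

theorem main_clean (X Y Z : PS D) (f : X ⟶ Y) (g : Y ⟶ Z)
    (hf : ∀ n : ℕ, Z.obj (op n) ⟶ (X.obj (op n))⟦(1 : ℤ)⟧)
    (hf_nat : ∀ (n m : ℕ) (hnm : n ≤ m), tr Z hnm ≫ hf n = hf m ≫ (tr X hnm)⟦(1 : ℤ)⟧')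
    (hT : ∀ n : ℕ, Triangle.mk (f.app (op n)) (g.app (op n)) (hf n) ∈ distTriang D)
    (A : D) (cA : ∀ n : ℕ, A ⟶ X.obj (op n))
    (hcA : ∀ (n m : ℕ) (h : n ≤ m), cA m ≫ tr X h = cA n)
    (iA : ℕ) (sA : X.obj (op iA) ⟶ A) (hA1 : cA iA ≫ sA = 𝟙 A)
    (hA2 : ∀ j : ℕ, ∃ (k : ℕ) (hi : iA ≤ k) (hj : j ≤ k), tr X hj = tr X hi ≫ sA ≫ cA j)
    (C : D) (cC : ∀ n : ℕ, C ⟶ Z.obj (op n))
    (hcC : ∀ (n m : ℕ) (h : n ≤ m), cC m ≫ tr Z h = cC n)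
    (iC : ℕ) (sC : Z.obj (op iC) ⟶ C) (hC1 : cC iC ≫ sC = 𝟙 C)
    (hC2 : ∀ j : ℕ, ∃ (k : ℕ) (hi : iC ≤ k) (hj : j ≤ k), tr Z hj = tr Z hi ≫ sC ≫ cC j) :
    ∃ (B : D) (t : ∀ n : ℕ, B ⟶ Y.obj (op n))
      (_ : ∀ (n m : ℕ) (h : n ≤ m), t m ≫ tr Y h = t n)
      (i : ℕ) (s : Y.obj (op i) ⟶ B), t i ≫ s = 𝟙 B ∧
      ∀ j : ℕ, ∃ (k : ℕ) (hi : i ≤ k) (hj : j ≤ k), tr Y hj = tr Y hi ≫ s ≫ t j := by
  obtain ⟨N, hi, hj, hN⟩ := hC2 (max iA iC)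
  have hiA' : iA ≤ max iA iC := le_max_left _ _
  have hiA : iA ≤ N := hiA'.trans hj
  obtain ⟨hA1', hA2'⟩ := rebase₁ cA hcA sA hA1 hA2 hiA
  obtain ⟨hC1', hC2'⟩ := rebase₁ cC hcC sC hC1 hC2 hi
  obtain ⟨δ, hδ⟩ : ∃ δ : C ⟶ A⟦(1 : ℤ)⟧, δ = cC (max iA iC) ≫ hf (max iA iC) ≫
      (tr X hiA' ≫ sA)⟦(1 : ℤ)⟧' := ⟨_, rfl⟩
  obtain ⟨B, a, b, hB⟩ := distinguished_cocone_triangle₂ δ
  have e3 : hf N ≫ (tr X hiA ≫ sA)⟦(1 : ℤ)⟧' = (tr Z hi ≫ sC) ≫ δ := by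
    have t1 : tr X hiA = tr X hj ≫ tr X hiA' := (tr_comp X hiA' hj).symm
    rw [t1, Category.assoc, CategoryTheory.Functor.map_comp, ← Category.assoc, ← hf_nat, hN, hδ]
    simp only [Category.assoc]
  obtain ⟨β, e1, e2⟩ : ∃ β : Y.obj (op N) ⟶ B,
      f.app (op N) ≫ β = (tr X hiA ≫ sA) ≫ a ∧ g.app (op N) ≫ (tr Z hi ≫ sC) = β ≫ b :=
    complete_distinguished_triangle_morphism₂ _ _ (hT N) hB
      (tr X hiA ≫ sA) (tr Z hi ≫ sC) e3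
  exact ⟨B, core_N X Y Z f g hf hf_nat hT N cA hcA _ hA1' hA2' cC hcC _ hC1' hC2' a b δ hB β
    e1 e2 e3⟩

end Pre

end Groth.Agent.Helper6.EssConst
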