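import Mathlib
import Groth.Prelude.Def_DerCA
import Groth.Agent.Lib.Helper6.ARSysBasic
import Groth.Agent.Lib.Helper6.EssConst
import Groth.Agent.Lib.Helper6.EssConst2

set_option autoImplicit false

universe v' u' v u

open CategoryTheory CategoryTheory.Limits Opposite ARSys

namespace Groth.Agent.Helper6.EssConst

open Groth.Agent.Helper6.ARSysBasic

section EC

variable {C : Type u} [Category.{v} C]

/-- Clean form of essential constancy. -/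
def EC (X : PS C) : Prop :=
  ∃ (B : C) (t : ∀ n : ℕ, B ⟶ X.obj (op n)) (_ : ∀ (n m : ℕ) (h : n ≤ m), t m ≫ tr X h = t n)
    (i : ℕ) (s : X.obj (op i) ⟶ B), t i ≫ s = 𝟙 B ∧
    ∀ j : ℕ, ∃ (k : ℕ) (hi : i ≤ k) (hj : j ≤ k), tr X hj = tr X hi ≫ s ≫ t j

lemma ec_of_isEssConstant {X : PS C} {B : C} (c : (Functor.const ℕᵒᵖ).obj B ⟶ X)
    (h : DerCA.IsEssConstant X B c) : EC X := by
  obtain ⟨i, s, h1, h2⟩ := h
  exact ⟨B, fun n => c.app (op n), fun n m h => cone_tr c h, i, s, h1, h2⟩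

lemma EC.exists_isEssConstant {X : PS C} (h : EC X) :
    ∃ (B : C) (c : (Functor.const ℕᵒᵖ).obj B ⟶ X), DerCA.IsEssConstant X B c := by
  obtain ⟨B, t, ht, i, s, h1, h2⟩ := h
  exact ⟨B, mkCone t ht, i, s, h1, h2⟩

lemma ec_of_iso {X X' : PS C} (φ : ∀ n : ℕ, X.obj (op n) ⟶ X'.obj (op n))
    [hφ : ∀ n, IsIso (φ n)]
    (nat : ∀ (n m : ℕ) (h : n ≤ m), tr X h ≫ φ n = φ m ≫ tr X' h) (hX : EC X) : EC X' := by
  obtain ⟨B, t, ht, i, s, h1, h2⟩ := hX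
  have nat' : ∀ (n m : ℕ) (h : n ≤ m), tr X' h ≫ inv (φ n) = inv (φ m) ≫ tr X h := by
    intro n m h
    rw [IsIso.eq_inv_comp, ← Category.assoc, ← nat n m h, Category.assoc, IsIso.hom_inv_id,
      Category.comp_id]
  refine ⟨B, fun n => t n ≫ φ n, ?_, i, inv (φ i) ≫ s, ?_, ?_⟩
  · intro n m h
    show (t m ≫ φ m) ≫ tr X' h = t n ≫ φ n
    rw [Category.assoc, ← nat n m h, ← Category.assoc, ht]
  · show (t i ≫ φ i) ≫ inv (φ i) ≫ s = 𝟙 B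
    rw [Category.assoc, IsIso.hom_inv_id_assoc, h1]
  · intro j
    obtain ⟨k, hi, hj, e⟩ := h2 j
    refine ⟨k, hi, hj, ?_⟩
    show tr X' hj = tr X' hi ≫ (inv (φ i) ≫ s) ≫ t j ≫ φ j
    have e1 : tr X' hj = inv (φ k) ≫ tr X hj ≫ φ j := by
      rw [nat j k hj, IsIso.inv_hom_id_assoc]
    rw [e1, e]
    simp only [Category.assoc]
    rw [← Category.assoc (tr X' hi) (inv (φ i)), nat' i k hi, Category.assoc]

lemma ec_of_iso' {X X' : PS C} (φ : ∀ n : ℕ, X.obj (op n) ⟶ X'.obj (op n))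
    [hφ : ∀ n, IsIso (φ n)]
    (nat : ∀ (n m : ℕ) (h : n ≤ m), tr X h ≫ φ n = φ m ≫ tr X' h) (hX' : EC X') : EC X := by
  refine ec_of_iso (fun n => inv (φ n)) ?_ hX'
  intro n m h
  show tr X' h ≫ inv (φ n) = inv (φ m) ≫ tr X h
  rw [IsIso.eq_inv_comp, ← Category.assoc, ← nat n m h, Category.assoc, IsIso.hom_inv_id,
    Category.comp_id]

lemma ec_zero [HasZeroMorphisms C] {X : PS C} (hz : ∀ n, IsZero (X.obj (op n))) : EC X := by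
  refine ⟨X.obj (op 0), fun n => 0, ?_, 0, 𝟙 _, ?_, ?_⟩
  · intro n m h
    exact (hz 0).eq_of_src _ _
  · exact (hz 0).eq_of_src _ _
  · intro j
    exact ⟨j, Nat.zero_le j, le_rfl, (hz j).eq_of_src _ _⟩

lemma ec_reflect {C' : Type u'} [Category.{v'} C'] (G : C ⥤ C') (S : C → Prop)
    (hS : ∀ P Q : C, S P → S Q → Function.Bijective (fun φ : P ⟶ Q => G.map φ))
    (hL : ∀ B' : C', ∃ L : C, S L ∧ Nonempty (G.obj L ≅ B'))
    {X : PS C} (hX : ∀ n, S (X.obj (op n))) (h : EC (X ⋙ G)) : EC X := by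
  obtain ⟨B', t, ht, i, s, h1, h2⟩ := h
  obtain ⟨L, hSL, ⟨e⟩⟩ := hL B'
  have hc : ∀ n : ℕ, ∃ c : L ⟶ X.obj (op n), G.map c = e.hom ≫ t n :=
    fun n => (hS L _ hSL (hX n)).2 _
  choose c hc using hc
  obtain ⟨s', hs'⟩ : ∃ s' : X.obj (op i) ⟶ L, G.map s' = s ≫ e.inv :=
    (hS _ L (hX i) hSL).2 _
  refine ⟨L, c, ?_, i, s', ?_, ?_⟩
  · intro n m h
    apply (hS L _ hSL (hX n)).1
    show G.map (c m ≫ tr X h) = G.map (c n)
    rw [G.map_comp, hc, hc, Category.assoc]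
    exact congrArg (fun z => e.hom ≫ z) (ht n m h)
  · apply (hS L L hSL hSL).1
    show G.map (c i ≫ s') = G.map (𝟙 L)
    rw [G.map_comp, hc, hs', G.map_id]
    simp only [Category.assoc]
    rw [← Category.assoc (t i), h1, Category.id_comp, e.hom_inv_id]
  · intro j
    obtain ⟨k, hi, hj, ee⟩ := h2 j
    refine ⟨k, hi, hj, ?_⟩
    apply (hS _ _ (hX k) (hX j)).1
    show G.map (tr X hj) = G.map (tr X hi ≫ s' ≫ c j)
    rw [G.map_comp, G.map_comp, hs', hc]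
    have ee' : G.map (tr X hj) = G.map (tr X hi) ≫ s ≫ t j := ee
    rw [ee']
    simp only [Category.assoc, Iso.inv_hom_id_assoc]

lemma ec_map {C' : Type u'} [Category.{v'} C'] (G : C ⥤ C') {X : PS C} (h : EC X) :
    EC (X ⋙ G) := by
  obtain ⟨B, t, ht, i, s, h1, h2⟩ := h
  refine ⟨G.obj B, fun n => G.map (t n), ?_, i, G.map s, ?_, ?_⟩
  · intro n m h
    show G.map (t m) ≫ G.map (tr X h) = G.map (t n)
    rw [← G.map_comp, ht]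
  · show G.map (t i) ≫ G.map s = 𝟙 (G.obj B)
    rw [← G.map_comp, h1, G.map_id]
  · intro j
    obtain ⟨k, hi, hj, e⟩ := h2 j
    refine ⟨k, hi, hj, ?_⟩
    show G.map (tr X hj) = G.map (tr X hi) ≫ G.map s ≫ G.map (t j)
    rw [e, G.map_comp, G.map_comp]

/-- Clean form of pro-isomorphism. -/
def PI {X X' : PS C} (u : ∀ n : ℕ, X.obj (op n) ⟶ X'.obj (op n)) : Prop :=
  ∀ n : ℕ, ∃ (m : ℕ) (h : n ≤ m) (b : X'.obj (op m) ⟶ X.obj (op n)),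
    u m ≫ b = tr X h ∧ b ≫ u n = tr X' h

lemma pi_zero [HasZeroMorphisms C] {X X' : PS C} (u : ∀ n : ℕ, X.obj (op n) ⟶ X'.obj (op n))
    (hz : ∀ n, IsZero (X.obj (op n))) (hz' : ∀ n, IsZero (X'.obj (op n))) : PI u := by
  intro n
  exact ⟨n, le_rfl, 0, (hz n).eq_of_src _ _, (hz' n).eq_of_src _ _⟩

lemma pi_of_iso_left {X X' W W' : PS C} (u : ∀ n : ℕ, X.obj (op n) ⟶ X'.obj (op n))
    (u2 : ∀ n : ℕ, W.obj (op n) ⟶ W'.obj (op n))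
    (α : ∀ n : ℕ, W.obj (op n) ⟶ X.obj (op n)) (α' : ∀ n : ℕ, W'.obj (op n) ⟶ X'.obj (op n))
    [∀ n, IsIso (α n)] [∀ n, IsIso (α' n)]
    (nα : ∀ (n m : ℕ) (h : n ≤ m), tr W h ≫ α n = α m ≫ tr X h)
    (nα' : ∀ (n m : ℕ) (h : n ≤ m), tr W' h ≫ α' n = α' m ≫ tr X' h)
    (sq : ∀ n, u2 n ≫ α' n = α n ≫ u n) (hu : PI u) : PI u2 := by
  intro n
  obtain ⟨m, h, b, hb1, hb2⟩ := hu n
  refine ⟨m, h, α' m ≫ b ≫ inv (α n), ?_, ?_⟩
  · rw [← Category.assoc, sq m, Category.assoc, ← Category.assoc (u m), hb1, ← Category.assoc,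
      ← nα n m h, Category.assoc, IsIso.hom_inv_id, Category.comp_id]
  · have e : inv (α n) ≫ u2 n = u n ≫ inv (α' n) := by
      rw [IsIso.inv_comp_eq, ← Category.assoc, ← sq n, Category.assoc, IsIso.hom_inv_id,
        Category.comp_id]
    simp only [Category.assoc]
    rw [e, ← Category.assoc b, hb2, ← Category.assoc, ← nα' n m h, Category.assoc,
      IsIso.hom_inv_id, Category.comp_id]

lemma pi_of_iso_right {X X' W W' : PS C} (u : ∀ n : ℕ, X.obj (op n) ⟶ X'.obj (op n))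
    (u2 : ∀ n : ℕ, W.obj (op n) ⟶ W'.obj (op n))
    (α : ∀ n : ℕ, X.obj (op n) ⟶ W.obj (op n)) (α' : ∀ n : ℕ, X'.obj (op n) ⟶ W'.obj (op n))
    [∀ n, IsIso (α n)] [∀ n, IsIso (α' n)]
    (nα : ∀ (n m : ℕ) (h : n ≤ m), tr X h ≫ α n = α m ≫ tr W h)
    (nα' : ∀ (n m : ℕ) (h : n ≤ m), tr X' h ≫ α' n = α' m ≫ tr W' h)
    (sq : ∀ n, u n ≫ α' n = α n ≫ u2 n) (hu : PI u) : PI u2 := by
  refine pi_of_iso_left u u2 (fun n => inv (α n)) (fun n => inv (α' n)) ?_ ?_ ?_ hu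
  · intro n m h
    show tr W h ≫ inv (α n) = inv (α m) ≫ tr X h
    rw [IsIso.eq_inv_comp, ← Category.assoc, ← nα n m h, Category.assoc, IsIso.hom_inv_id,
      Category.comp_id]
  · intro n m h
    show tr W' h ≫ inv (α' n) = inv (α' m) ≫ tr X' h
    rw [IsIso.eq_inv_comp, ← Category.assoc, ← nα' n m h, Category.assoc, IsIso.hom_inv_id,
      Category.comp_id]
  · intro n
    show u2 n ≫ inv (α' n) = inv (α n) ≫ u n
    rw [IsIso.eq_inv_comp, ← Category.assoc, ← sq n, Category.assoc, IsIso.hom_inv_id,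
      Category.comp_id]

lemma pi_enlarge {X X' : PS C} (u : X ⟶ X') {n m : ℕ} (h : n ≤ m)
    (b : X'.obj (op m) ⟶ X.obj (op n))
    (hb1 : u.app (op m) ≫ b = tr X h) {m' : ℕ} (h' : m ≤ m') :
    u.app (op m') ≫ (tr X' h' ≫ b) = tr X (h.trans h') := by
  rw [← Category.assoc, ← nat_tr u h', Category.assoc, hb1, tr_comp]

end EC

section Tri

open Pretriangulated

variable {D : Type u} [Category.{v} D] [Preadditive D]
  [HasZeroObject D] [HasShift D ℤ] [∀ n : ℤ, (shiftFunctor D n).Additive] [Pretriangulated D]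

theorem ec_triangle (X Y Z : PS D) (f : X ⟶ Y) (g : Y ⟶ Z)
    (hf : ∀ n : ℕ, Z.obj (op n) ⟶ (X.obj (op n))⟦(1 : ℤ)⟧)
    (hf_nat : ∀ (n m : ℕ) (hnm : n ≤ m), tr Z hnm ≫ hf n = hf m ≫ (tr X hnm)⟦(1 : ℤ)⟧')
    (hT : ∀ n : ℕ, Triangle.mk (f.app (op n)) (g.app (op n)) (hf n) ∈ distTriang D)
    (hX : EC X) (hZ : EC Z) : EC Y := by
  obtain ⟨A, cA, hcA, iA, sA, hA1, hA2⟩ := hX
  obtain ⟨C, cC, hcC, iC, sC, hC1, hC2⟩ := hZ
  exact main_clean X Y Z f g hf hf_nat hT A cA hcA iA sA hA1 hA2 C cC hcC iC sC hC1 hC2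

theorem pi_triangle (X Y Z X' Y' Z' : PS D)
    (f : X ⟶ Y) (g : Y ⟶ Z) (hh : ∀ n : ℕ, Z.obj (op n) ⟶ (X.obj (op n))⟦(1 : ℤ)⟧)
    (hh_nat : ∀ (n m : ℕ) (hnm : n ≤ m), tr Z hnm ≫ hh n = hh m ≫ (tr X hnm)⟦(1 : ℤ)⟧')
    (hT : ∀ n : ℕ, Triangle.mk (f.app (op n)) (g.app (op n)) (hh n) ∈ distTriang D)
    (f' : X' ⟶ Y') (g' : Y' ⟶ Z') (hh' : ∀ n : ℕ, Z'.obj (op n) ⟶ (X'.obj (op n))⟦(1 : ℤ)⟧)
    (hh'_nat : ∀ (n m : ℕ) (hnm : n ≤ m),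
      tr Z' hnm ≫ hh' n = hh' m ≫ (tr X' hnm)⟦(1 : ℤ)⟧')
    (hT' : ∀ n : ℕ, Triangle.mk (f'.app (op n)) (g'.app (op n)) (hh' n) ∈ distTriang D)
    (u : X ⟶ X') (v : Y ⟶ Y') (w : Z ⟶ Z')
    (c1 : ∀ n : ℕ, f.app (op n) ≫ v.app (op n) = u.app (op n) ≫ f'.app (op n))
    (c2 : ∀ n : ℕ, g.app (op n) ≫ w.app (op n) = v.app (op n) ≫ g'.app (op n))
    (c3 : ∀ n : ℕ, hh n ≫ (u.app (op n))⟦(1 : ℤ)⟧' = w.app (op n) ≫ hh' n)
    (hu : PI (fun n => u.app (op n))) (hw : PI (fun n => w.app (op n))) :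
    PI (fun n => v.app (op n)) := by
  have hu' : ∀ n : ℕ, ∃ (m : ℕ) (h : n ≤ m) (b : X'.obj (op m) ⟶ X.obj (op n)),
      u.app (op m) ≫ b = tr X h ∧ b ≫ u.app (op n) = tr X' h := hu
  have hw' : ∀ n : ℕ, ∃ (m : ℕ) (h : n ≤ m) (b : Z'.obj (op m) ⟶ Z.obj (op n)),
      w.app (op m) ≫ b = tr Z h ∧ b ≫ w.app (op n) = tr Z' h := hw
  -- Step A: pro-injectivity
  have hA : ∀ (n : ℕ) {E : D} (θ : Y'.obj (op n) ⟶ E), v.app (op n) ≫ θ = 0 →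
      ∃ (m : ℕ) (h : n ≤ m), tr Y' h ≫ θ = 0 := by
    intro n E θ hθ
    obtain ⟨m1, h1, bu, -, hbu⟩ := hu' n
    have e1 : f'.app (op m1) ≫ (tr Y' h1 ≫ θ) = 0 := by
      rw [← Category.assoc, ← nat_tr f' h1, ← hbu]
      simp only [Category.assoc]
      rw [← Category.assoc (u.app (op n)), ← c1 n, Category.assoc, hθ, comp_zero, comp_zero]
    obtain ⟨ψ, hψ⟩ := Triangle.yoneda_exact₂ _ (hT' m1) (tr Y' h1 ≫ θ) e1
    have hψ' : tr Y' h1 ≫ θ = g'.app (op m1) ≫ ψ := hψ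
    have e2 : g.app (op m1) ≫ (w.app (op m1) ≫ ψ) = 0 := by
      rw [← Category.assoc, c2 m1, Category.assoc, ← hψ', ← Category.assoc, ← nat_tr v h1,
        Category.assoc, hθ, comp_zero]
    obtain ⟨χ, hχ⟩ := Triangle.yoneda_exact₃ _ (hT m1) (w.app (op m1) ≫ ψ) e2
    have hχ' : w.app (op m1) ≫ ψ = hh m1 ≫ χ := hχ
    obtain ⟨m2, h2, bu2, hbu2, -⟩ := hu' m1
    have e3 : w.app (op m2) ≫ (tr Z' h2 ≫ ψ - hh' m2 ≫ bu2⟦(1 : ℤ)⟧' ≫ χ) = 0 := by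
      have a1 : w.app (op m2) ≫ tr Z' h2 ≫ ψ = hh m2 ≫ (tr X h2)⟦(1 : ℤ)⟧' ≫ χ := by
        rw [← Category.assoc, ← nat_tr w h2, Category.assoc, hχ', ← Category.assoc,
          hh_nat m1 m2 h2, Category.assoc]
      have a2 : w.app (op m2) ≫ hh' m2 ≫ bu2⟦(1 : ℤ)⟧' ≫ χ =
          hh m2 ≫ (tr X h2)⟦(1 : ℤ)⟧' ≫ χ := by
        rw [← Category.assoc, ← c3 m2, Category.assoc,
          ← Category.assoc ((u.app (op m2))⟦(1 : ℤ)⟧'), ← CategoryTheory.Functor.map_comp, hbu2]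
      rw [Preadditive.comp_sub, a1, a2, sub_self]
    obtain ⟨m3, h3, bw, -, hbw⟩ := hw' m2
    have e4 : tr Z' h3 ≫ (tr Z' h2 ≫ ψ - hh' m2 ≫ bu2⟦(1 : ℤ)⟧' ≫ χ) = 0 := by
      rw [← hbw, Category.assoc, e3, comp_zero]
    have e5 : tr Z' h3 ≫ tr Z' h2 ≫ ψ = tr Z' h3 ≫ hh' m2 ≫ bu2⟦(1 : ℤ)⟧' ≫ χ := by
      rw [Preadditive.comp_sub] at e4
      exact sub_eq_zero.mp e4
    have z : g'.app (op m3) ≫ hh' m3 = 0 := comp_distTriang_mor_zero₂₃ _ (hT' m3)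
    refine ⟨m3, h1.trans (h2.trans h3), ?_⟩
    calc tr Y' (h1.trans (h2.trans h3)) ≫ θ
        = tr Y' (h2.trans h3) ≫ tr Y' h1 ≫ θ := by rw [tr_comp_assoc]
      _ = tr Y' (h2.trans h3) ≫ g'.app (op m1) ≫ ψ := by rw [hψ']
      _ = g'.app (op m3) ≫ tr Z' (h2.trans h3) ≫ ψ := by
          rw [← Category.assoc, nat_tr g', Category.assoc]
      _ = g'.app (op m3) ≫ tr Z' h3 ≫ tr Z' h2 ≫ ψ := by rw [tr_comp_assoc]
      _ = g'.app (op m3) ≫ tr Z' h3 ≫ hh' m2 ≫ bu2⟦(1 : ℤ)⟧' ≫ χ := by rw [e5]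
      _ = (g'.app (op m3) ≫ hh' m3) ≫ (tr X' h3)⟦(1 : ℤ)⟧' ≫ bu2⟦(1 : ℤ)⟧' ≫ χ := by
          rw [← Category.assoc (tr Z' h3), hh'_nat m2 m3 h3]
          simp only [Category.assoc]
      _ = 0 := by rw [z, zero_comp]
  -- Step B: one-sided inverse
  have hB : ∀ n : ℕ, ∃ (m : ℕ) (h : n ≤ m) (b0 : Y'.obj (op m) ⟶ Y.obj (op n)),
      v.app (op m) ≫ b0 = tr Y h := by
    intro n
    obtain ⟨mu, hmu, bu0, hbu0, -⟩ := hu' n
    obtain ⟨mw, hmw, bw0, hbw0, -⟩ := hw' n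
    obtain ⟨m, hmum, hmwm⟩ : ∃ m, mu ≤ m ∧ mw ≤ m :=
      ⟨max mu mw, le_max_left _ _, le_max_right _ _⟩
    have hnm : n ≤ m := hmu.trans hmum
    obtain ⟨bu, hbu1⟩ : ∃ bu : X'.obj (op m) ⟶ X.obj (op n), u.app (op m) ≫ bu = tr X hnm :=
      ⟨_, pi_enlarge u hmu bu0 hbu0 hmum⟩
    obtain ⟨bw, hbw1⟩ : ∃ bw : Z'.obj (op m) ⟶ Z.obj (op n), w.app (op m) ≫ bw = tr Z hnm :=
      ⟨_, pi_enlarge w hmw bw0 hbw0 hmwm⟩
    have eΔ : w.app (op m) ≫ (hh' m ≫ bu⟦(1 : ℤ)⟧' - bw ≫ hh n) = 0 := by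
      have a1 : w.app (op m) ≫ hh' m ≫ bu⟦(1 : ℤ)⟧' = hh m ≫ (tr X hnm)⟦(1 : ℤ)⟧' := by
        rw [← Category.assoc, ← c3 m, Category.assoc, ← CategoryTheory.Functor.map_comp, hbu1]
      have a2 : w.app (op m) ≫ bw ≫ hh n = hh m ≫ (tr X hnm)⟦(1 : ℤ)⟧' := by
        rw [← Category.assoc, hbw1, hh_nat n m hnm]
      rw [Preadditive.comp_sub, a1, a2, sub_self]
    obtain ⟨m', hm', bw2, -, hbw2⟩ := hw' m
    have eΔ' : tr Z' hm' ≫ (hh' m ≫ bu⟦(1 : ℤ)⟧' - bw ≫ hh n) = 0 := by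
      rw [← hbw2, Category.assoc, eΔ, comp_zero]
    have comm : hh' m' ≫ (tr X' hm' ≫ bu)⟦(1 : ℤ)⟧' = (tr Z' hm' ≫ bw) ≫ hh n := by
      rw [CategoryTheory.Functor.map_comp, ← Category.assoc, ← hh'_nat m m' hm', Category.assoc,
        Category.assoc]
      rw [Preadditive.comp_sub] at eΔ'
      exact sub_eq_zero.mp eΔ'
    obtain ⟨bv, hbv1, hbv2⟩ : ∃ bv : Y'.obj (op m') ⟶ Y.obj (op n),
        f'.app (op m') ≫ bv = (tr X' hm' ≫ bu) ≫ f.app (op n) ∧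
        g'.app (op m') ≫ (tr Z' hm' ≫ bw) = bv ≫ g.app (op n) :=
      complete_distinguished_triangle_morphism₂ _ _ (hT' m') (hT n)
        (tr X' hm' ≫ bu) (tr Z' hm' ≫ bw) comm
    have hnm' : n ≤ m' := hnm.trans hm'
    have hbu'' : u.app (op m') ≫ (tr X' hm' ≫ bu) = tr X hnm' := pi_enlarge u hnm bu hbu1 hm'
    have eε : f.app (op m') ≫ (v.app (op m') ≫ bv - tr Y hnm') = 0 := by
      have a1 : f.app (op m') ≫ v.app (op m') ≫ bv = tr X hnm' ≫ f.app (op n) := by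
        rw [← Category.assoc, c1 m', Category.assoc, hbv1, ← Category.assoc, hbu'']
      rw [Preadditive.comp_sub, a1, nat_tr f hnm', sub_self]
    obtain ⟨ε1, hε1⟩ := Triangle.yoneda_exact₂ _ (hT m')
      (v.app (op m') ≫ bv - tr Y hnm') eε
    have hε1' : v.app (op m') ≫ bv - tr Y hnm' = g.app (op m') ≫ ε1 := hε1
    obtain ⟨m2, h2, bw3, hbw3, -⟩ := hw' m'
    refine ⟨m2, hnm'.trans h2, tr Y' h2 ≫ bv - g'.app (op m2) ≫ bw3 ≫ ε1, ?_⟩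
    have k1 : v.app (op m2) ≫ tr Y' h2 ≫ bv =
        tr Y h2 ≫ (g.app (op m') ≫ ε1 + tr Y hnm') := by
      rw [← hε1', sub_add_cancel, ← Category.assoc, ← nat_tr v h2, Category.assoc]
    have k2 : v.app (op m2) ≫ g'.app (op m2) ≫ bw3 ≫ ε1 = tr Y h2 ≫ g.app (op m') ≫ ε1 := by
      rw [← Category.assoc, ← c2 m2, Category.assoc, ← Category.assoc (w.app (op m2)), hbw3,
        ← Category.assoc, ← nat_tr g h2, Category.assoc]
    rw [Preadditive.comp_sub, k1, k2, Preadditive.comp_add, tr_comp, add_sub_cancel_left]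
  -- Step C
  intro n
  obtain ⟨m, hm, b0, hb0⟩ := hB n
  have hθ : v.app (op m) ≫ (b0 ≫ v.app (op n) - tr Y' hm) = 0 := by
    rw [Preadditive.comp_sub, ← Category.assoc, hb0, nat_tr v hm, sub_self]
  obtain ⟨m3, h3, e⟩ := hA m (b0 ≫ v.app (op n) - tr Y' hm) hθ
  refine ⟨m3, hm.trans h3, tr Y' h3 ≫ b0, ?_, ?_⟩
  · show v.app (op m3) ≫ tr Y' h3 ≫ b0 = tr Y (hm.trans h3)
    rw [← Category.assoc, ← nat_tr v h3, Category.assoc, hb0, tr_comp]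
  · show (tr Y' h3 ≫ b0) ≫ v.app (op n) = tr Y' (hm.trans h3)
    rw [Preadditive.comp_sub, sub_eq_zero] at e
    rw [Category.assoc, e, tr_comp]

end Tri

end Groth.Agent.Helper6.EssConst
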