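import Mathlib
import Groth.Prelude.Def_DerCA
import Groth.Agent.Lib.Helper6.ARSysBasic
import Groth.Agent.Lib.Helper6.EssConst
import Groth.Agent.Lib.Helper6.EssConst2
import Groth.Agent.Lib.Helper6.EssConst3

set_option autoImplicit false

universe w v u

open CategoryTheory CategoryTheory.Limits Opposite ARSys

namespace Groth.Agent.Helper6.EssConst

open Groth.Agent.Helper6.ARSysBasic Pretriangulated DerivedCategory

variable {A : Type u} [Category.{v} A] [Abelian A] [HasDerivedCategory.{w} A]

variable (A) in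
/-- The canonical t-structure. -/
noncomputable abbrev tS : CategoryTheory.Triangulated.TStructure (DerivedCategory A) :=
  DerivedCategory.TStructure.t

lemma isIso_H_truncLTι (X : DerivedCategory A) (b i : ℤ) (hi : i < b) :
    IsIso ((homologyFunctor A i).map (((tS A).truncLTι b).app X)) := by
  let T := ((tS A).triangleLTGE b).obj X
  have hT : T ∈ distTriang _ := (tS A).triangleLTGE_distinguished b X
  have z1 : IsZero ((homologyFunctor A i).obj T.obj₃) :=
    isZero_of_isGE (((tS A).truncGE b).obj X) b i hi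
  have z2 : IsZero ((homologyFunctor A (i - 1)).obj T.obj₃) :=
    isZero_of_isGE (((tS A).truncGE b).obj X) b (i - 1) (by omega)
  have hepi : Epi ((homologyFunctor A i).map T.mor₁) :=
    (HomologySequence.epi_homologyMap_mor₁_iff T hT i).2 (z1.eq_of_tgt _ _)
  have hmono : Mono ((homologyFunctor A i).map T.mor₁) :=
    (HomologySequence.mono_homologyMap_mor₁_iff T hT (i - 1) i (by omega)).2 (z2.eq_of_src _ _)
  exact isIso_of_mono_of_epi ((homologyFunctor A i).map T.mor₁)

lemma isIso_H_truncGEπ (X : DerivedCategory A) (b i : ℤ) (hi : b ≤ i) :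
    IsIso ((homologyFunctor A i).map (((tS A).truncGEπ b).app X)) := by
  let T := ((tS A).triangleLTGE b).obj X
  have hT : T ∈ distTriang _ := (tS A).triangleLTGE_distinguished b X
  have z1 : IsZero ((homologyFunctor A (i + 1)).obj T.obj₁) :=
    isZero_of_isLE (((tS A).truncLT b).obj X) (b - 1) (i + 1) (by omega)
  have z2 : IsZero ((homologyFunctor A i).obj T.obj₁) :=
    isZero_of_isLE (((tS A).truncLT b).obj X) (b - 1) i (by omega)
  have hepi : Epi ((homologyFunctor A i).map T.mor₂) :=
    (HomologySequence.epi_homologyMap_mor₂_iff T hT i (i + 1) rfl).2 (z1.eq_of_tgt _ _)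
  have hmono : Mono ((homologyFunctor A i).map T.mor₂) :=
    (HomologySequence.mono_homologyMap_mor₂_iff T hT i).2 (z2.eq_of_src _ _)
  exact isIso_of_mono_of_epi ((homologyFunctor A i).map T.mor₂)

lemma bijective_H_of_single_degree (d : ℤ) (P Q : DerivedCategory A)
    [P.IsGE d] [P.IsLE d] [Q.IsGE d] [Q.IsLE d] :
    Function.Bijective (fun φ : P ⟶ Q => (homologyFunctor A d).map φ) := by
  obtain ⟨Y, ⟨e⟩⟩ := exists_iso_singleFunctor_obj_of_isGE_of_isLE P d
  obtain ⟨Y', ⟨e'⟩⟩ := exists_iso_singleFunctor_obj_of_isGE_of_isLE Q d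
  have key : ∀ {Y₁ Y₂ : A} (p : Y₁ ⟶ Y₂), (homologyFunctor A d).map ((singleFunctor A d).map p) =
      (singleFunctorCompHomologyFunctorIso A d).hom.app Y₁ ≫ p ≫
        (singleFunctorCompHomologyFunctorIso A d).inv.app Y₂ := by
    intro Y₁ Y₂ p
    have h1 : (homologyFunctor A d).map ((singleFunctor A d).map p) ≫
        (singleFunctorCompHomologyFunctorIso A d).hom.app Y₂ =
        (singleFunctorCompHomologyFunctorIso A d).hom.app Y₁ ≫ p :=
      (singleFunctorCompHomologyFunctorIso A d).hom.naturality p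
    rw [← Category.assoc, ← h1, Category.assoc, Iso.hom_inv_id_app]
    exact (Category.comp_id _).symm
  constructor
  · intro φ φ' h
    have h' : (homologyFunctor A d).map φ = (homologyFunctor A d).map φ' := h
    obtain ⟨p, hp⟩ := (singleFunctor A d).map_surjective (e.inv ≫ φ ≫ e'.hom)
    obtain ⟨p', hp'⟩ := (singleFunctor A d).map_surjective (e.inv ≫ φ' ≫ e'.hom)
    have h2 : (homologyFunctor A d).map ((singleFunctor A d).map p) =
        (homologyFunctor A d).map ((singleFunctor A d).map p') := by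
      rw [hp, hp', Functor.map_comp, Functor.map_comp, Functor.map_comp, Functor.map_comp, h']
    rw [key, key] at h2
    have h3 : p = p' := by
      have := (cancel_epi _).1 h2
      exact (cancel_mono _).1 this
    have h4 : e.inv ≫ φ ≫ e'.hom = e.inv ≫ φ' ≫ e'.hom := by rw [← hp, ← hp', h3]
    have h5 := (cancel_epi _).1 h4
    exact (cancel_mono _).1 h5
  · intro θ
    refine ⟨e.hom ≫ (singleFunctor A d).map
      ((singleFunctorCompHomologyFunctorIso A d).inv.app Y ≫ (homologyFunctor A d).map e.inv ≫ θ ≫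
        (homologyFunctor A d).map e'.hom ≫ (singleFunctorCompHomologyFunctorIso A d).hom.app Y') ≫
      e'.inv, ?_⟩
    show (homologyFunctor A d).map (e.hom ≫ (singleFunctor A d).map _ ≫ e'.inv) = θ
    rw [Functor.map_comp, Functor.map_comp, key]
    simp

lemma ec_single_degree (d : ℤ) (V : PS (DerivedCategory A))
    (hge : ∀ n, (V.obj (op n)).IsGE d) (hle : ∀ n, (V.obj (op n)).IsLE d)
    (h : EC (V ⋙ homologyFunctor A d)) : EC V := by
  refine ec_reflect (homologyFunctor A d) (fun P => P.IsGE d ∧ P.IsLE d) ?_ ?_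
    (fun n => ⟨hge n, hle n⟩) h
  · rintro P Q ⟨h1, h2⟩ ⟨h3, h4⟩
    exact bijective_H_of_single_degree d P Q
  · intro B'
    exact ⟨(singleFunctor A d).obj B', ⟨inferInstance, inferInstance⟩,
      ⟨(singleFunctorCompHomologyFunctorIso A d).app B'⟩⟩

lemma pi_single_degree (d : ℤ) {X Y : PS (DerivedCategory A)}
    (f : ∀ n : ℕ, X.obj (op n) ⟶ Y.obj (op n))
    (hX : ∀ n, (X.obj (op n)).IsGE d ∧ (X.obj (op n)).IsLE d)
    (hY : ∀ n, (Y.obj (op n)).IsGE d ∧ (Y.obj (op n)).IsLE d)
    (h : PI (X := X ⋙ homologyFunctor A d) (X' := Y ⋙ homologyFunctor A d)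
      (fun n => (homologyFunctor A d).map (f n))) : PI f := by
  intro n
  obtain ⟨m, hm, b', hb1, hb2⟩ := h n
  have i1 := (hX n).1
  have i2 := (hX n).2
  have i3 := (hX m).1
  have i4 := (hX m).2
  have i5 := (hY n).1
  have i6 := (hY n).2
  have i7 := (hY m).1
  have i8 := (hY m).2
  obtain ⟨b, hb⟩ := (bijective_H_of_single_degree d (Y.obj (op m)) (X.obj (op n))).2 b'
  have hb' : (homologyFunctor A d).map b = b' := hb
  refine ⟨m, hm, b, ?_, ?_⟩
  · apply (bijective_H_of_single_degree d (X.obj (op m)) (X.obj (op n))).1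
    show (homologyFunctor A d).map (f m ≫ b) = (homologyFunctor A d).map (tr X hm)
    rw [Functor.map_comp, hb']
    exact hb1
  · apply (bijective_H_of_single_degree d (Y.obj (op m)) (Y.obj (op n))).1
    show (homologyFunctor A d).map (b ≫ f n) = (homologyFunctor A d).map (tr Y hm)
    rw [Functor.map_comp, hb']
    exact hb2

/-! ### truncated systems -/

/-- The system of truncations `τ_{<b} X_n`. -/
noncomputable abbrev ltSys (X : PS (DerivedCategory A)) (b : ℤ) : PS (DerivedCategory A) :=
  X ⋙ (tS A).truncLT b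

/-- The system of truncations `τ_{≥b} X_n`. -/
noncomputable abbrev geSys (X : PS (DerivedCategory A)) (b : ℤ) : PS (DerivedCategory A) :=
  X ⋙ (tS A).truncGE b

/-- The inclusion of the truncated system. -/
noncomputable def ιSys (X : PS (DerivedCategory A)) (b : ℤ) : ltSys X b ⟶ X where
  app j := ((tS A).truncLTι b).app (X.obj j)
  naturality _ _ φ := ((tS A).truncLTι b).naturality (X.map φ)

/-- The projection to the truncated system. -/
noncomputable def πSys (X : PS (DerivedCategory A)) (b : ℤ) : X ⟶ geSys X b where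
  app j := ((tS A).truncGEπ b).app (X.obj j)
  naturality _ _ φ := ((tS A).truncGEπ b).naturality (X.map φ)

/-- The connecting maps. -/
noncomputable def δFam (X : PS (DerivedCategory A)) (b : ℤ) (n : ℕ) :
    (geSys X b).obj (op n) ⟶ ((ltSys X b).obj (op n))⟦(1 : ℤ)⟧ :=
  ((tS A).truncGEδLT b).app (X.obj (op n))

lemma δFam_nat (X : PS (DerivedCategory A)) (b : ℤ) (n m : ℕ) (hnm : n ≤ m) :
    tr (geSys X b) hnm ≫ δFam X b n = δFam X b m ≫ (tr (ltSys X b) hnm)⟦(1 : ℤ)⟧' :=
  ((tS A).truncGEδLT b).naturality (X.map (homOfLE hnm).op)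

lemma sys_dist (X : PS (DerivedCategory A)) (b : ℤ) (n : ℕ) :
    Triangle.mk ((ιSys X b).app (op n)) ((πSys X b).app (op n)) (δFam X b n) ∈
      distTriang (DerivedCategory A) :=
  (tS A).triangleLTGE_distinguished b (X.obj (op n))

lemma ltSys_isGE (X : PS (DerivedCategory A)) (a b : ℤ) (hge : ∀ n, (X.obj (op n)).IsGE a)
    (n : ℕ) : ((ltSys X b).obj (op n)).IsGE a := by
  have := hge n
  show (tS A).IsGE (((tS A).truncLT b).obj (X.obj (op n))) a
  infer_instance

lemma ltSys_isLE (X : PS (DerivedCategory A)) (b : ℤ) (n : ℕ) :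
    ((ltSys X b).obj (op n)).IsLE (b - 1) := by
  show (tS A).IsLE (((tS A).truncLT b).obj (X.obj (op n))) (b - 1)
  infer_instance

lemma geSys_isGE (X : PS (DerivedCategory A)) (b : ℤ) (n : ℕ) :
    ((geSys X b).obj (op n)).IsGE b := by
  show (tS A).IsGE (((tS A).truncGE b).obj (X.obj (op n))) b
  infer_instance

lemma geSys_isLE (X : PS (DerivedCategory A)) (b c : ℤ) (hle : ∀ n, (X.obj (op n)).IsLE c)
    (n : ℕ) : ((geSys X b).obj (op n)).IsLE c := by
  have := hle n
  show (tS A).IsLE (((tS A).truncGE b).obj (X.obj (op n))) c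
  infer_instance

/-- `H^i` of the inclusion of the truncation. -/
noncomputable def Hι (X : PS (DerivedCategory A)) (b i : ℤ) (n : ℕ) :
    (ltSys X b ⋙ homologyFunctor A i).obj (op n) ⟶ (X ⋙ homologyFunctor A i).obj (op n) :=
  (homologyFunctor A i).map (((tS A).truncLTι b).app (X.obj (op n)))

/-- `H^i` of the projection to the truncation. -/
noncomputable def Hπ (X : PS (DerivedCategory A)) (b i : ℤ) (n : ℕ) :
    (X ⋙ homologyFunctor A i).obj (op n) ⟶ (geSys X b ⋙ homologyFunctor A i).obj (op n) :=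
  (homologyFunctor A i).map (((tS A).truncGEπ b).app (X.obj (op n)))

lemma Hι_isIso (X : PS (DerivedCategory A)) (b i : ℤ) (hi : i < b) (n : ℕ) :
    IsIso (Hι X b i n) := isIso_H_truncLTι _ b i hi

lemma Hπ_isIso (X : PS (DerivedCategory A)) (b i : ℤ) (hi : b ≤ i) (n : ℕ) :
    IsIso (Hπ X b i n) := isIso_H_truncGEπ _ b i hi

lemma Hι_nat (X : PS (DerivedCategory A)) (b i : ℤ) (n m : ℕ) (h : n ≤ m) :
    tr (ltSys X b ⋙ homologyFunctor A i) h ≫ Hι X b i n =
      Hι X b i m ≫ tr (X ⋙ homologyFunctor A i) h := by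
  show (homologyFunctor A i).map (((tS A).truncLT b).map (X.map (homOfLE h).op)) ≫
      (homologyFunctor A i).map (((tS A).truncLTι b).app (X.obj (op n))) =
    (homologyFunctor A i).map (((tS A).truncLTι b).app (X.obj (op m))) ≫
      (homologyFunctor A i).map (X.map (homOfLE h).op)
  rw [← Functor.map_comp, ← Functor.map_comp]
  exact congrArg _ (((tS A).truncLTι b).naturality (X.map (homOfLE h).op))

lemma Hπ_nat (X : PS (DerivedCategory A)) (b i : ℤ) (n m : ℕ) (h : n ≤ m) :
    tr (X ⋙ homologyFunctor A i) h ≫ Hπ X b i n =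
      Hπ X b i m ≫ tr (geSys X b ⋙ homologyFunctor A i) h := by
  show (homologyFunctor A i).map (X.map (homOfLE h).op) ≫
      (homologyFunctor A i).map (((tS A).truncGEπ b).app (X.obj (op n))) =
    (homologyFunctor A i).map (((tS A).truncGEπ b).app (X.obj (op m))) ≫
      (homologyFunctor A i).map (((tS A).truncGE b).map (X.map (homOfLE h).op))
  rw [← Functor.map_comp, ← Functor.map_comp]
  exact congrArg _ (((tS A).truncGEπ b).naturality (X.map (homOfLE h).op))

theorem ec_of_bounded (k : ℕ) : ∀ (a : ℤ) (X : PS (DerivedCategory A)),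
    (∀ n, (X.obj (op n)).IsGE a) → (∀ n, (X.obj (op n)).IsLE (a + k - 1)) →
    (∀ i : ℤ, EC (X ⋙ homologyFunctor A i)) → EC X := by
  induction k with
  | zero =>
    intro a X hge hle _
    apply ec_zero
    intro n
    have := hge n
    have h2 : (X.obj (op n)).IsLE (a - 1) := by simpa using hle n
    exact (tS A).isZero (X.obj (op n)) (a - 1) a (by omega)
  | succ k ih =>
    intro a X hge hle hH
    have hle' : ∀ n, (X.obj (op n)).IsLE (a + k) := by
      intro n
      have := hle n
      have e : a + ((k + 1 : ℕ) : ℤ) - 1 = a + (k : ℤ) := by push_cast; ring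
      rwa [e] at this
    have hU : EC (ltSys X (a + k)) := by
      apply ih a (ltSys X (a + k)) (ltSys_isGE X a (a + k) hge) (ltSys_isLE X (a + k))
      intro i
      by_cases hi : i < a + k
      · have : ∀ n, IsIso (Hι X (a + k) i n) := Hι_isIso X (a + k) i hi
        exact ec_of_iso' (Hι X (a + k) i) (Hι_nat X (a + k) i) (hH i)
      · apply ec_zero
        intro n
        have := ltSys_isLE X (a + k) n
        exact isZero_of_isLE ((ltSys X (a + k)).obj (op n)) (a + k - 1) i (by omega)
    have hV : EC (geSys X (a + k)) := by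
      apply ec_single_degree (a + k) (geSys X (a + k)) (geSys_isGE X (a + k))
        (geSys_isLE X (a + k) (a + k) hle')
      have : ∀ n, IsIso (Hπ X (a + k) (a + k) n) := Hπ_isIso X (a + k) (a + k) le_rfl
      exact ec_of_iso (Hπ X (a + k) (a + k)) (Hπ_nat X (a + k) (a + k)) (hH (a + k))
    exact ec_triangle (ltSys X (a + k)) X (geSys X (a + k)) (ιSys X (a + k)) (πSys X (a + k))
      (δFam X (a + k)) (δFam_nat X (a + k)) (sys_dist X (a + k)) hU hV

end Groth.Agent.Helper6.EssConst
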