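import Mathlib
import Groth.Prelude.Def_DerCA
import Groth.Agent.Lib.Helper6.ARSysBasic
import Groth.Agent.Lib.Helper6.EssConst
import Groth.Agent.Lib.Helper6.EssConst2
import Groth.Agent.Lib.Helper6.EssConst3
import Groth.Agent.Lib.Helper6.EssConst4

set_option autoImplicit false

universe w v u

open CategoryTheory CategoryTheory.Limits Opposite ARSys

namespace Groth.Agent.Helper6.EssConst

open Groth.Agent.Helper6.ARSysBasic Pretriangulated DerivedCategory

variable {A : Type u} [Category.{v} A] [Abelian A] [HasDerivedCategory.{w} A]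

lemma sq_lt {X Y : PS (DerivedCategory A)} (f : X ⟶ Y) (b i : ℤ) (n : ℕ) :
    (homologyFunctor A i).map ((Functor.whiskerRight f ((tS A).truncLT b)).app (op n)) ≫
      Hι Y b i n = Hι X b i n ≫ (homologyFunctor A i).map (f.app (op n)) := by
  show (homologyFunctor A i).map (((tS A).truncLT b).map (f.app (op n))) ≫
      (homologyFunctor A i).map (((tS A).truncLTι b).app (Y.obj (op n))) =
    (homologyFunctor A i).map (((tS A).truncLTι b).app (X.obj (op n))) ≫
      (homologyFunctor A i).map (f.app (op n))
  rw [← Functor.map_comp, ← Functor.map_comp]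
  exact congrArg _ (((tS A).truncLTι b).naturality (f.app (op n)))

lemma sq_ge {X Y : PS (DerivedCategory A)} (f : X ⟶ Y) (b i : ℤ) (n : ℕ) :
    (homologyFunctor A i).map (f.app (op n)) ≫ Hπ Y b i n =
      Hπ X b i n ≫
        (homologyFunctor A i).map ((Functor.whiskerRight f ((tS A).truncGE b)).app (op n)) := by
  show (homologyFunctor A i).map (f.app (op n)) ≫
      (homologyFunctor A i).map (((tS A).truncGEπ b).app (Y.obj (op n))) =
    (homologyFunctor A i).map (((tS A).truncGEπ b).app (X.obj (op n))) ≫
      (homologyFunctor A i).map (((tS A).truncGE b).map (f.app (op n)))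
  rw [← Functor.map_comp, ← Functor.map_comp]
  exact congrArg _ (((tS A).truncGEπ b).naturality (f.app (op n)))

theorem pi_of_bounded (k : ℕ) : ∀ (a : ℤ) (X Y : PS (DerivedCategory A)) (f : X ⟶ Y),
    (∀ n, (X.obj (op n)).IsGE a) → (∀ n, (X.obj (op n)).IsLE (a + k - 1)) →
    (∀ n, (Y.obj (op n)).IsGE a) → (∀ n, (Y.obj (op n)).IsLE (a + k - 1)) →
    (∀ i : ℤ, PI (X := X ⋙ homologyFunctor A i) (X' := Y ⋙ homologyFunctor A i)
      (fun n => (homologyFunctor A i).map (f.app (op n)))) →
    PI (fun n => f.app (op n)) := by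
  induction k with
  | zero =>
    intro a X Y f hgeX hleX hgeY hleY _
    apply pi_zero
    · intro n
      have := hgeX n
      have h2 : (X.obj (op n)).IsLE (a - 1) := by simpa using hleX n
      exact (tS A).isZero (X.obj (op n)) (a - 1) a (by omega)
    · intro n
      have := hgeY n
      have h2 : (Y.obj (op n)).IsLE (a - 1) := by simpa using hleY n
      exact (tS A).isZero (Y.obj (op n)) (a - 1) a (by omega)
  | succ k ih =>
    intro a X Y f hgeX hleX hgeY hleY hH
    have e : a + ((k + 1 : ℕ) : ℤ) - 1 = a + (k : ℤ) := by push_cast; ring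
    have hleX' : ∀ n, (X.obj (op n)).IsLE (a + k) := by
      intro n
      have := hleX n
      rwa [e] at this
    have hleY' : ∀ n, (Y.obj (op n)).IsLE (a + k) := by
      intro n
      have := hleY n
      rwa [e] at this
    have hU : PI (fun n => (Functor.whiskerRight f ((tS A).truncLT (a + k))).app (op n)) := by
      apply ih a (ltSys X (a + k)) (ltSys Y (a + k)) (Functor.whiskerRight f _)
        (ltSys_isGE X a (a + k) hgeX) (ltSys_isLE X (a + k))
        (ltSys_isGE Y a (a + k) hgeY) (ltSys_isLE Y (a + k))
      intro i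
      by_cases hi : i < a + k
      · have : ∀ n, IsIso (Hι X (a + k) i n) := Hι_isIso X (a + k) i hi
        have : ∀ n, IsIso (Hι Y (a + k) i n) := Hι_isIso Y (a + k) i hi
        exact pi_of_iso_left (X := X ⋙ homologyFunctor A i) (X' := Y ⋙ homologyFunctor A i)
          (W := ltSys X (a + k) ⋙ homologyFunctor A i)
          (W' := ltSys Y (a + k) ⋙ homologyFunctor A i)
          (fun n => (homologyFunctor A i).map (f.app (op n)))
          (fun n => (homologyFunctor A i).map
            ((Functor.whiskerRight f ((tS A).truncLT (a + k))).app (op n)))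
          (Hι X (a + k) i) (Hι Y (a + k) i) (Hι_nat X (a + k) i) (Hι_nat Y (a + k) i)
          (sq_lt f (a + k) i) (hH i)
      · apply pi_zero
        · intro n
          have := ltSys_isLE X (a + k) n
          exact isZero_of_isLE ((ltSys X (a + k)).obj (op n)) (a + k - 1) i (by omega)
        · intro n
          have := ltSys_isLE Y (a + k) n
          exact isZero_of_isLE ((ltSys Y (a + k)).obj (op n)) (a + k - 1) i (by omega)
    have hV : PI (fun n => (Functor.whiskerRight f ((tS A).truncGE (a + k))).app (op n)) := by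
      apply pi_single_degree (a + k) (X := geSys X (a + k)) (Y := geSys Y (a + k)) _
        (fun n => ⟨geSys_isGE X (a + k) n, geSys_isLE X (a + k) (a + k) hleX' n⟩)
        (fun n => ⟨geSys_isGE Y (a + k) n, geSys_isLE Y (a + k) (a + k) hleY' n⟩)
      have : ∀ n, IsIso (Hπ X (a + k) (a + k) n) := Hπ_isIso X (a + k) (a + k) le_rfl
      have : ∀ n, IsIso (Hπ Y (a + k) (a + k) n) := Hπ_isIso Y (a + k) (a + k) le_rfl
      exact pi_of_iso_right (X := X ⋙ homologyFunctor A (a + k))
        (X' := Y ⋙ homologyFunctor A (a + k))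
        (W := geSys X (a + k) ⋙ homologyFunctor A (a + k))
        (W' := geSys Y (a + k) ⋙ homologyFunctor A (a + k))
        (fun n => (homologyFunctor A (a + k)).map (f.app (op n)))
        (fun n => (homologyFunctor A (a + k)).map
          ((Functor.whiskerRight f ((tS A).truncGE (a + k))).app (op n)))
        (Hπ X (a + k) (a + k)) (Hπ Y (a + k) (a + k)) (Hπ_nat X (a + k) (a + k))
        (Hπ_nat Y (a + k) (a + k)) (sq_ge f (a + k) (a + k)) (hH (a + k))
    exact pi_triangle (ltSys X (a + k)) X (geSys X (a + k)) (ltSys Y (a + k)) Y (geSys Y (a + k))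
      (ιSys X (a + k)) (πSys X (a + k)) (δFam X (a + k)) (δFam_nat X (a + k)) (sys_dist X (a + k))
      (ιSys Y (a + k)) (πSys Y (a + k)) (δFam Y (a + k)) (δFam_nat Y (a + k)) (sys_dist Y (a + k))
      (Functor.whiskerRight f ((tS A).truncLT (a + k))) f
      (Functor.whiskerRight f ((tS A).truncGE (a + k)))
      (fun n => (((tS A).truncLTι (a + k)).naturality (f.app (op n))).symm)
      (fun n => (((tS A).truncGEπ (a + k)).naturality (f.app (op n))).symm)
      (fun n => (((tS A).truncGEδLT (a + k)).naturality (f.app (op n))).symm)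
      hU hV

end Groth.Agent.Helper6.EssConst
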