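import Mathlib
import Groth.Agent.Lib.Helper6.PerfTri
import Groth.Agent.S7153

/-!
# `Hom_{D(A)}(K, X[p])` for `K` represented by a bounded above complex of finite free modules:
cocycle description, and Artin–Rees type consequences.
-/

set_option autoImplicit false
set_option linter.style.haveILetI false

universe u

open CategoryTheory Category Limits Pretriangulated DerivedCategory

attribute [local instance] HasDerivedCategory.standard

namespace Groth.Agent.Helper6.ExtAR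

noncomputable section

variable {A : Type u} [CommRing A]

/-! ### linear algebra -/

lemma map_mem_smul_top {M N : Type*} [AddCommGroup M] [Module A M] [AddCommGroup N]
    [Module A N] (f : M →ₗ[A] N) (J : Ideal A) {x : M} (hx : x ∈ J • (⊤ : Submodule A M)) :
    f x ∈ J • (⊤ : Submodule A N) := by
  have h : (J • (⊤ : Submodule A M)).map f ≤ J • ⊤ := by
    rw [Submodule.map_smul'']
    exact Submodule.smul_mono le_rfl le_top
  exact h (Submodule.mem_map_of_mem hx)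

lemma apply_mem_of_mem_smul_top {N M : Type*} [AddCommGroup N] [Module A N] [AddCommGroup M]
    [Module A M] (J : Ideal A) {u : N →ₗ[A] M}
    (hu : u ∈ J • (⊤ : Submodule A (N →ₗ[A] M))) (x : N) :
    u x ∈ J • (⊤ : Submodule A M) :=
  map_mem_smul_top (LinearMap.applyₗ x) J hu

lemma mem_smul_top_of_forall_mem {N M : Type u} [AddCommGroup N] [Module A N]
    [Module.Finite A N] [Module.Free A N] [AddCommGroup M] [Module A M] (J : Ideal A)
    (z : N →ₗ[A] M) (hz : ∀ x, z x ∈ J • (⊤ : Submodule A M)) :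
    z ∈ J • (⊤ : Submodule A (N →ₗ[A] M)) := by
  classical
  let b := Module.Free.chooseBasis A N
  have key : ∀ (φ : N →ₗ[A] A) (m : M), m ∈ J • (⊤ : Submodule A M) →
      φ.smulRight m ∈ J • (⊤ : Submodule A (N →ₗ[A] M)) := by
    intro φ m hm
    refine Submodule.smul_induction_on hm (fun a ha x _ => ?_) (fun x y hx hy => ?_)
    · have h1 : φ.smulRight (a • x) = a • φ.smulRight x := by
        refine LinearMap.ext fun v => ?_
        simp only [LinearMap.smulRight_apply, LinearMap.smul_apply]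
        rw [smul_comm]
      rw [h1]
      exact Submodule.smul_mem_smul ha Submodule.mem_top
    · have h1 : φ.smulRight (x + y) = φ.smulRight x + φ.smulRight y := by
        refine LinearMap.ext fun v => ?_
        simp only [LinearMap.smulRight_apply, LinearMap.add_apply, smul_add]
      rw [h1]
      exact Submodule.add_mem _ hx hy
  have hsum : z = ∑ j, (b.coord j).smulRight (z (b j)) := by
    refine LinearMap.ext fun v => ?_
    have h1 : z v = ∑ j, b.repr v j • z (b j) := by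
      conv_lhs => rw [← b.sum_repr v]
      simp only [map_sum, map_smul]
    rw [h1]
    simp [LinearMap.sum_apply]
  rw [hsum]
  exact Submodule.sum_mem _ (fun j _ => key _ _ (hz (b j)))

/-! ### cocycles -/

section Cocycle

variable (P : CochainComplex (ModuleCat.{u} A) ℤ) (q : ℤ) (X : Type u) [AddCommGroup X]
  [Module A X]

/-- cocycles: maps `P^q → X` killing the image of the differential. -/
def Z : Submodule A (↑(P.X q) →ₗ[A] X) :=
  LinearMap.ker (LinearMap.lcomp A X (P.d (q - 1) q).hom)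

variable {P q X}

lemma mem_Z {z : ↑(P.X q) →ₗ[A] X} : z ∈ Z P q X ↔ z ∘ₗ (P.d (q - 1) q).hom = 0 := by
  rw [Z, LinearMap.mem_ker]
  rfl

lemma d_comp_d_hom : (P.d q (q + 1)).hom ∘ₗ (P.d (q - 1) q).hom = 0 :=
  congrArg ModuleCat.Hom.hom (P.d_comp_d (q - 1) q (q + 1))

lemma comp_d_mem_Z (w : ↑(P.X (q + 1)) →ₗ[A] X) : w ∘ₗ (P.d q (q + 1)).hom ∈ Z P q X := by
  rw [mem_Z, LinearMap.comp_assoc, d_comp_d_hom, LinearMap.comp_zero]

lemma comp_mem_Z {Y : Type u} [AddCommGroup Y] [Module A Y] (u : X →ₗ[A] Y)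
    {z : ↑(P.X q) →ₗ[A] X} (hz : z ∈ Z P q X) : u ∘ₗ z ∈ Z P q Y := by
  rw [mem_Z] at hz ⊢
  rw [LinearMap.comp_assoc, hz, LinearMap.comp_zero]

variable (P q X)

/-- the single complex. -/
abbrev Y : CochainComplex (ModuleCat.{u} A) ℤ :=
  (HomologicalComplex.single (ModuleCat.{u} A) (ComplexShape.up ℤ) q).obj (ModuleCat.of A X)

/-- the iso `Y^q ≅ X`. -/
abbrev sX : (Y q X).X q ≅ ModuleCat.of A X :=
  HomologicalComplex.singleObjXSelf (ComplexShape.up ℤ) q (ModuleCat.of A X)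

/-- the chain map associated to a cocycle. -/
def mk (z : ↥(Z P q X)) : P ⟶ Y q X :=
  HomologicalComplex.mkHomToSingle (ModuleCat.ofHom z.1) (by
    intro i hi
    have hi' : i = q - 1 := by
      have h1 : i + 1 = q := hi
      omega
    subst hi'
    exact ModuleCat.hom_ext (mem_Z.1 z.2))

variable {P q X}

lemma mk_f (z : ↥(Z P q X)) : (mk P q X z).f q = ModuleCat.ofHom z.1 ≫ (sX q X).inv :=
  HomologicalComplex.mkHomToSingle_f _ _

lemma mk_add (z w : ↥(Z P q X)) : mk P q X (z + w) = mk P q X z + mk P q X w := by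
  apply HomologicalComplex.to_single_hom_ext
  rw [HomologicalComplex.add_f_apply, mk_f, mk_f, mk_f, ← Preadditive.add_comp]
  rfl

lemma mk_smul (a : A) (z : ↥(Z P q X)) : mk P q X (a • z) = a • mk P q X z := by
  apply HomologicalComplex.to_single_hom_ext
  rw [HomologicalComplex.smul_f_apply, mk_f, mk_f, ← Linear.smul_comp]
  rfl

lemma mk_comp {Y' : Type u} [AddCommGroup Y'] [Module A Y'] (u : X →ₗ[A] Y')
    (z : ↥(Z P q X)) :
    mk P q Y' ⟨u ∘ₗ z.1, comp_mem_Z u z.2⟩ = mk P q X z ≫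
      (HomologicalComplex.single (ModuleCat.{u} A) (ComplexShape.up ℤ) q).map
        (ModuleCat.ofHom u) := by
  apply HomologicalComplex.to_single_hom_ext
  rw [HomologicalComplex.comp_f, mk_f, mk_f, HomologicalComplex.single_map_f_self, assoc,
    Iso.inv_hom_id_assoc, ← assoc]
  rfl

lemma mk_eq (g : P ⟶ Y q X) (hz : (g.f q ≫ (sX q X).hom).hom ∈ Z P q X) :
    mk P q X ⟨(g.f q ≫ (sX q X).hom).hom, hz⟩ = g := by
  apply HomologicalComplex.to_single_hom_ext
  rw [mk_f]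
  show (g.f q ≫ (sX q X).hom) ≫ (sX q X).inv = g.f q
  rw [assoc, Iso.hom_inv_id, comp_id]

lemma f_mem_Z (g : P ⟶ Y q X) : (g.f q ≫ (sX q X).hom).hom ∈ Z P q X := by
  rw [mem_Z]
  have h1 : P.d (q - 1) q ≫ g.f q = 0 := by
    rw [← g.comm, HomologicalComplex.single_obj_d, comp_zero]
  have h2 : P.d (q - 1) q ≫ g.f q ≫ (sX q X).hom = 0 := by
    rw [← assoc, h1, zero_comp]
  exact congrArg ModuleCat.Hom.hom h2

/-- coboundaries vanish in the derived category. -/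
lemma Q_map_mk_comp_d (w : ↑(P.X (q + 1)) →ₗ[A] X) :
    Q.map (mk P q X ⟨w ∘ₗ (P.d q (q + 1)).hom, comp_d_mem_Z w⟩) = 0 := by
  let hom : ∀ i j, (ComplexShape.up ℤ).Rel j i → (P.X i ⟶ (Y q X).X j) := fun i j _ =>
    if hj : j = q then (if hi : i = q + 1 then
      eqToHom (by rw [hi]) ≫ ModuleCat.ofHom w ≫ (sX q X).inv ≫ eqToHom (by rw [hj]) else 0)
    else 0
  have h1 : mk P q X ⟨w ∘ₗ (P.d q (q + 1)).hom, comp_d_mem_Z w⟩ =
      Homotopy.nullHomotopicMap' hom := by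
    apply HomologicalComplex.to_single_hom_ext
    rw [Homotopy.nullHomotopicMap'_f (k₂ := q - 1) (k₁ := q) (k₀ := q + 1) (by simp) (by simp),
      mk_f, HomologicalComplex.single_obj_d, comp_zero, add_zero]
    simp only [hom, dite_true, eqToHom_refl, id_comp, comp_id]
    rfl
  rw [h1]
  exact (Q_map_eq_of_homotopy _ (Homotopy.nullHomotopy' hom)).trans (Functor.map_zero _ _ _)

/-- conversely. -/
lemma exists_of_Q_map_mk_eq_zero [P.IsKProjective] (z : ↥(Z P q X))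
    (h : Q.map (mk P q X z) = 0) :
    ∃ w : ↑(P.X (q + 1)) →ₗ[A] X, z.1 = w ∘ₗ (P.d q (q + 1)).hom := by
  have h1 : (HomotopyCategory.quotient _ _).map (mk P q X z) =
      (HomotopyCategory.quotient _ _).map (0 : P ⟶ Y q X) := by
    apply (CochainComplex.IsKProjective.Qh_map_bijective P _).1
    show Q.map (mk P q X z) = Q.map (0 : P ⟶ Y q X)
    rw [h, Functor.map_zero]
  have H := HomotopyCategory.homotopyOfEq _ _ h1
  have hc := H.comm q
  rw [dNext_eq H.hom (show (ComplexShape.up ℤ).Rel q (q + 1) from rfl),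
    prevD_eq H.hom (show (ComplexShape.up ℤ).Rel (q - 1) q from by simp),
    HomologicalComplex.single_obj_d, comp_zero, add_zero, HomologicalComplex.zero_f,
    add_zero, mk_f] at hc
  refine ⟨(H.hom (q + 1) q ≫ (sX q X).hom).hom, ?_⟩
  have h2 : ModuleCat.ofHom z.1 = P.d q (q + 1) ≫ H.hom (q + 1) q ≫ (sX q X).hom := by
    have h3 := congrArg (fun t => t ≫ (sX q X).hom) hc
    simp only [assoc, Iso.inv_hom_id, comp_id] at h3
    exact h3
  exact congrArg ModuleCat.Hom.hom h2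

end Cocycle

section Gamma

variable (P : CochainComplex (ModuleCat.{u} A) ℤ) (p q : ℤ) (hpq : p + q = 0)
  (K : DerivedCategory (ModuleCat.{u} A)) (iso : Q.obj P ≅ K)

/-- `X[0][p] ≅ Q(X in degree q)`, naturally in `X`. -/
def Φ : DerivedCategory.singleFunctor (ModuleCat.{u} A) 0 ⋙
      shiftFunctor (DerivedCategory (ModuleCat.{u} A)) p ≅
    HomologicalComplex.single (ModuleCat.{u} A) (ComplexShape.up ℤ) q ⋙ DerivedCategory.Q :=
  (DerivedCategory.singleFunctors (ModuleCat.{u} A)).shiftIso p q 0 hpq ≪≫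
    DerivedCategory.singleFunctorIsoCompQ _ q

/-- the target group. -/
abbrev T (X : Type u) [AddCommGroup X] [Module A X] : Type (u + 1) :=
  K ⟶ ((DerivedCategory.singleFunctor (ModuleCat.{u} A) 0).obj (ModuleCat.of A X))⟦p⟧

/-- functoriality. -/
abbrev Tmap {X Y' : Type u} [AddCommGroup X] [Module A X] [AddCommGroup Y'] [Module A Y']
    (u : X →ₗ[A] Y') :
    ((DerivedCategory.singleFunctor (ModuleCat.{u} A) 0).obj (ModuleCat.of A X))⟦p⟧ ⟶
      ((DerivedCategory.singleFunctor (ModuleCat.{u} A) 0).obj (ModuleCat.of A Y'))⟦p⟧ :=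
  ((DerivedCategory.singleFunctor (ModuleCat.{u} A) 0).map (ModuleCat.ofHom u))⟦p⟧'

/-- cocycles to morphisms in the derived category. -/
def Γ (X : Type u) [AddCommGroup X] [Module A X] : ↥(Z P q X) →ₗ[A] T p K X where
  toFun z := iso.inv ≫ Q.map (mk P q X z) ≫ (Φ p q hpq).inv.app (ModuleCat.of A X)
  map_add' z w := by
    rw [mk_add, Functor.map_add, Preadditive.add_comp, Preadditive.comp_add]
  map_smul' a z := by
    rw [RingHom.id_apply, mk_smul, Functor.map_smul, Linear.smul_comp, Linear.comp_smul]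

lemma Γ_apply (X : Type u) [AddCommGroup X] [Module A X] (z : ↥(Z P q X)) :
    Γ P p q hpq K iso X z =
      iso.inv ≫ Q.map (mk P q X z) ≫ (Φ p q hpq).inv.app (ModuleCat.of A X) := rfl

lemma Γ_surjective [P.IsKProjective] (X : Type u) [AddCommGroup X] [Module A X]
    (e : T p K X) : ∃ z, Γ P p q hpq K iso X z = e := by
  obtain ⟨g, hg⟩ := PerfTri.lift_of_kproj (E := P) (E' := Y q X)
    (iso.hom ≫ e ≫ (Φ p q hpq).hom.app (ModuleCat.of A X))
  refine ⟨⟨_, f_mem_Z g⟩, ?_⟩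
  rw [Γ_apply, mk_eq g, hg]
  have hΦ : (Φ p q hpq).hom.app (ModuleCat.of A X) ≫ (Φ p q hpq).inv.app (ModuleCat.of A X) =
      𝟙 _ := Iso.hom_inv_id_app _ _
  calc iso.inv ≫ (iso.hom ≫ e ≫ (Φ p q hpq).hom.app (ModuleCat.of A X)) ≫
        (Φ p q hpq).inv.app (ModuleCat.of A X)
      = (iso.inv ≫ iso.hom) ≫ e ≫ ((Φ p q hpq).hom.app (ModuleCat.of A X) ≫
        (Φ p q hpq).inv.app (ModuleCat.of A X)) := by simp only [assoc]
    _ = e := by
      rw [hΦ, Iso.inv_hom_id, id_comp]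
      exact comp_id e

lemma Γ_comp {X Y' : Type u} [AddCommGroup X] [Module A X] [AddCommGroup Y'] [Module A Y']
    (u : X →ₗ[A] Y') (z : ↥(Z P q X)) :
    Γ P p q hpq K iso X z ≫ Tmap p u =
      Γ P p q hpq K iso Y' ⟨u ∘ₗ z.1, comp_mem_Z u z.2⟩ := by
  have hnat : (Φ p q hpq).inv.app (ModuleCat.of A X) ≫ Tmap p u =
      Q.map ((HomologicalComplex.single (ModuleCat.{u} A) (ComplexShape.up ℤ) q).map
        (ModuleCat.ofHom u)) ≫ (Φ p q hpq).inv.app (ModuleCat.of A Y') :=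
    ((Φ p q hpq).inv.naturality (ModuleCat.ofHom u)).symm
  rw [Γ_apply, Γ_apply, assoc, assoc, hnat, mk_comp, Functor.map_comp, assoc]

lemma Γ_eq_zero_iff [P.IsKProjective] (X : Type u) [AddCommGroup X] [Module A X]
    (z : ↥(Z P q X)) :
    Γ P p q hpq K iso X z = 0 ↔
      ∃ w : ↑(P.X (q + 1)) →ₗ[A] X, z.1 = w ∘ₗ (P.d q (q + 1)).hom := by
  have h0 : Γ P p q hpq K iso X z = 0 ↔ Q.map (mk P q X z) = 0 := by
    rw [Γ_apply]
    constructor
    · intro h
      have h1 := (cancel_epi iso.inv).1 (h.trans comp_zero.symm)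
      exact (cancel_mono ((Φ p q hpq).inv.app _)).1 (h1.trans zero_comp.symm)
    · intro h
      rw [h, zero_comp, comp_zero]
  rw [h0]
  constructor
  · exact exists_of_Q_map_mk_eq_zero z
  · rintro ⟨w, hw⟩
    have h1 : z = ⟨w ∘ₗ (P.d q (q + 1)).hom, comp_d_mem_Z w⟩ := Subtype.ext hw
    rw [h1]
    exact Q_map_mk_comp_d w

variable [IsNoetherianRing A] (I : Ideal A) [P.IsKProjective]
  (hP : ∀ i : ℤ, Module.Finite A (P.X i) ∧ Module.Free A (P.X i))
  (M : Type u) [AddCommGroup M] [Module A M] [Module.Finite A M]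

include q hpq iso hP in
/-- the image of `Ext^p(K, IⁿM) → Ext^p(K, M)` lies in `I^(n-c) Ext^p(K, M)`. -/
theorem image_mem :
    ∃ c : ℕ, ∀ n : ℕ, c ≤ n → ∀ e : T p K ↥(I ^ n • ⊤ : Submodule A M),
      e ≫ Tmap p (I ^ n • ⊤ : Submodule A M).subtype ∈
        (I ^ (n - c) • ⊤ : Submodule A (T p K M)) := by
  haveI := (hP q).1
  haveI := (hP q).2
  obtain ⟨k, hk⟩ := Ideal.exists_pow_inf_eq_pow_smul I (Z P q M)
  refine ⟨k, fun n hn e => ?_⟩
  obtain ⟨z, rfl⟩ := Γ_surjective P p q hpq K iso _ e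
  rw [Γ_comp]
  have hzI : (I ^ n • ⊤ : Submodule A M).subtype ∘ₗ z.1 ∈
      I ^ n • (⊤ : Submodule A (↑(P.X q) →ₗ[A] M)) :=
    mem_smul_top_of_forall_mem _ _ (fun x => (z.1 x).2)
  have h1 : (I ^ n • ⊤ : Submodule A M).subtype ∘ₗ z.1 ∈ I ^ n • ⊤ ⊓ Z P q M :=
    ⟨hzI, comp_mem_Z _ z.2⟩
  rw [hk n hn] at h1
  have h2 : (I ^ n • ⊤ : Submodule A M).subtype ∘ₗ z.1 ∈ I ^ (n - k) • Z P q M :=
    Submodule.smul_mono le_rfl inf_le_right h1
  have h3 : (⟨(I ^ n • ⊤ : Submodule A M).subtype ∘ₗ z.1, comp_mem_Z _ z.2⟩ : ↥(Z P q M)) ∈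
      I ^ (n - k) • (⊤ : Submodule A ↥(Z P q M)) := by
    rw [Submodule.mem_smul_top_iff]
    exact h2
  exact map_mem_smul_top (Γ P p q hpq K iso M) _ h3

include q hpq iso hP in
/-- injectivity of `Ext^p(K, M) → Ext^p(K, M/I^m M)` for `m` large, when the source is
`I`-power torsion. -/
theorem exists_injective
    (htors : ∀ e : T p K M, ∃ n : ℕ, ∀ x ∈ I ^ n, x • e = 0) :
    ∃ m : ℕ, ∀ e : T p K M, e ≫ Tmap p (I ^ m • ⊤ : Submodule A M).mkQ = 0 → e = 0 := by
  haveI := (hP q).1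
  haveI := (hP q).2
  haveI := (hP (q + 1)).1
  haveI := (hP (q + 1)).2
  obtain ⟨k, hk⟩ := Ideal.exists_pow_inf_eq_pow_smul I (Z P q M)
  obtain ⟨N, hN⟩ : ∃ N : ℕ, ∀ z : ↥(Z P q M), ∀ x ∈ I ^ N,
      x • Γ P p q hpq K iso M z = 0 := by
    obtain ⟨s, hs⟩ := (Module.Finite.fg_top : (⊤ : Submodule A ↥(Z P q M)).FG)
    choose nf hnf using fun z : ↥(Z P q M) => htors (Γ P p q hpq K iso M z)
    refine ⟨s.sup nf, fun z x hx => ?_⟩
    have hz : z ∈ Submodule.span A (s : Set ↥(Z P q M)) := by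
      rw [hs]
      trivial
    refine Submodule.span_induction (p := fun z _ => x • Γ P p q hpq K iso M z = 0)
      ?_ ?_ ?_ ?_ hz
    · intro y hy
      exact hnf y x (Ideal.pow_le_pow_right (Finset.le_sup (Finset.mem_coe.1 hy)) hx)
    · rw [map_zero, smul_zero]
    · intro y y' _ _ h1 h2
      rw [map_add, smul_add, h1, h2, add_zero]
    · intro a y _ h1
      rw [map_smul, smul_comm, h1, smul_zero]
  refine ⟨k + N, fun e he => ?_⟩
  obtain ⟨z, rfl⟩ := Γ_surjective P p q hpq K iso M e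
  rw [Γ_comp] at he
  obtain ⟨w, hw⟩ := (Γ_eq_zero_iff P p q hpq K iso _ _).1 he
  obtain ⟨w', hw'⟩ := Module.projective_lifting_property
    (I ^ (k + N) • ⊤ : Submodule A M).mkQ w (Submodule.mkQ_surjective _)
  have hwZ := comp_d_mem_Z (P := P) (q := q) w'
  have hz₁ : ∀ x, (z - ⟨w' ∘ₗ (P.d q (q + 1)).hom, hwZ⟩ : ↥(Z P q M)).1 x ∈
      (I ^ (k + N) • ⊤ : Submodule A M) := by
    intro x
    rw [← Submodule.Quotient.mk_eq_zero]
    have h1 := LinearMap.congr_fun hw x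
    have h2 := LinearMap.congr_fun hw' ((P.d q (q + 1)).hom x)
    simp only [LinearMap.comp_apply, Submodule.mkQ_apply] at h1 h2
    show Submodule.Quotient.mk (z.1 x - w' ((P.d q (q + 1)).hom x)) = 0
    rw [Submodule.Quotient.mk_sub, h1, h2, sub_self]
  have h1 : (z - ⟨w' ∘ₗ (P.d q (q + 1)).hom, hwZ⟩ : ↥(Z P q M)).1 ∈
      I ^ (k + N) • ⊤ ⊓ Z P q M :=
    ⟨mem_smul_top_of_forall_mem _ _ hz₁, Subtype.property _⟩
  rw [hk (k + N) (Nat.le_add_right k N), Nat.add_sub_cancel_left] at h1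
  have h2 : (z - ⟨w' ∘ₗ (P.d q (q + 1)).hom, hwZ⟩ : ↥(Z P q M)).1 ∈ I ^ N • Z P q M :=
    Submodule.smul_mono le_rfl inf_le_right h1
  have h3 : (z - ⟨w' ∘ₗ (P.d q (q + 1)).hom, hwZ⟩ : ↥(Z P q M)) ∈
      I ^ N • (⊤ : Submodule A ↥(Z P q M)) := by
    rw [Submodule.mem_smul_top_iff]
    exact h2
  have h4 : Γ P p q hpq K iso M (z - ⟨w' ∘ₗ (P.d q (q + 1)).hom, hwZ⟩) = 0 := by
    refine Submodule.smul_induction_on h3 (fun a ha y _ => ?_) (fun y y' h h' => ?_)
    · rw [map_smul]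
      exact hN y a ha
    · rw [map_add, h, h', add_zero]
  have h5 : Γ P p q hpq K iso M ⟨w' ∘ₗ (P.d q (q + 1)).hom, hwZ⟩ = 0 :=
    (Γ_eq_zero_iff P p q hpq K iso _ _).2 ⟨w', rfl⟩
  rw [map_sub, h5, sub_zero] at h4
  exact h4

include q hpq iso hP in
/-- Mittag-Leffler type statement. -/
theorem range_subset :
    ∃ c : ℕ, 0 < c ∧ ∀ (n : ℕ)
      (h : (I ^ (n + c) • ⊤ : Submodule A M) ≤
        Submodule.comap (LinearMap.id : M →ₗ[A] M) (I ^ n • ⊤ : Submodule A M))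
      (e : T p K (M ⧸ (I ^ (n + c) • ⊤ : Submodule A M))),
      ∃ e₀ : T p K M, e ≫ Tmap p (Submodule.mapQ (I ^ (n + c) • ⊤ : Submodule A M)
        (I ^ n • ⊤ : Submodule A M) (LinearMap.id : M →ₗ[A] M) h) =
        e₀ ≫ Tmap p (I ^ n • ⊤ : Submodule A M).mkQ := by
  haveI := (hP q).1
  haveI := (hP q).2
  haveI := (hP (q + 1)).1
  haveI := (hP (q + 1)).2
  haveI := (hP (q - 1)).1
  haveI := (hP (q - 1)).2
  have hαβ : LinearMap.lcomp A M (P.d (q - 1) q).hom ∘ₗ LinearMap.lcomp A M (P.d q (q + 1)).hom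
      = 0 := by
    refine LinearMap.ext fun w => ?_
    exact (mem_Z (P := P) (q := q)).1 (comp_d_mem_Z w)
  obtain ⟨c, hc, hS⟩ := Groth.Agent.S7153.result A I (↑(P.X (q + 1)) →ₗ[A] M)
    (↑(P.X q) →ₗ[A] M) (↑(P.X (q - 1)) →ₗ[A] M) (LinearMap.lcomp A M (P.d q (q + 1)).hom)
    (LinearMap.lcomp A M (P.d (q - 1) q).hom) hαβ
  refine ⟨c, hc, fun n h e => ?_⟩
  obtain ⟨zb, rfl⟩ := Γ_surjective P p q hpq K iso _ e
  obtain ⟨y, hy⟩ := Module.projective_lifting_property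
    (I ^ (n + c) • ⊤ : Submodule A M).mkQ zb.1 (Submodule.mkQ_surjective _)
  have hyβ : y ∈ (I ^ (n + c) • ⊤ : Submodule A (↑(P.X (q - 1)) →ₗ[A] M)).comap
      (LinearMap.lcomp A M (P.d (q - 1) q).hom) := by
    rw [Submodule.mem_comap]
    apply mem_smul_top_of_forall_mem
    intro x
    rw [← Submodule.Quotient.mk_eq_zero]
    have h1 := LinearMap.congr_fun hy ((P.d (q - 1) q).hom x)
    have h2 := LinearMap.congr_fun (mem_Z.1 zb.2) x
    simp only [LinearMap.comp_apply, Submodule.mkQ_apply] at h1 h2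
    show Submodule.Quotient.mk (y ((P.d (q - 1) q).hom x)) = 0
    rw [h1]
    exact h2
  obtain ⟨z, hzker, hyz⟩ := (hS n).1 y hyβ
  obtain ⟨a, ⟨w, rfl⟩, u, hu, hsum⟩ := Submodule.mem_sup.1 hyz
  have hzZ : z ∈ Z P q M := hzker
  refine ⟨Γ P p q hpq K iso M ⟨z, hzZ⟩, ?_⟩
  rw [Γ_comp, Γ_comp]
  have hkey : (Submodule.mapQ (I ^ (n + c) • ⊤ : Submodule A M)
      (I ^ n • ⊤ : Submodule A M) (LinearMap.id : M →ₗ[A] M) h) ∘ₗ zb.1 =
      (I ^ n • ⊤ : Submodule A M).mkQ ∘ₗ z +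
        ((I ^ n • ⊤ : Submodule A M).mkQ ∘ₗ w) ∘ₗ (P.d q (q + 1)).hom := by
    rw [← hy]
    refine LinearMap.ext fun x => ?_
    have hyx : y x = z x + (w ((P.d q (q + 1)).hom x) + u x) := by
      have h1 := LinearMap.congr_fun hsum x
      simp only [LinearMap.add_apply, LinearMap.sub_apply, LinearMap.lcomp_apply] at h1
      rw [h1]
      abel
    have hux : (Submodule.Quotient.mk (u x) : M ⧸ (I ^ n • ⊤ : Submodule A M)) = 0 := by
      rw [Submodule.Quotient.mk_eq_zero]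
      exact apply_mem_of_mem_smul_top _ hu x
    simp only [LinearMap.comp_apply, LinearMap.add_apply, Submodule.mkQ_apply,
      Submodule.mapQ_apply, LinearMap.id_apply]
    rw [hyx, Submodule.Quotient.mk_add, Submodule.Quotient.mk_add, hux, add_zero]
  have hsplit : (⟨(Submodule.mapQ (I ^ (n + c) • ⊤ : Submodule A M)
      (I ^ n • ⊤ : Submodule A M) (LinearMap.id : M →ₗ[A] M) h) ∘ₗ zb.1,
        comp_mem_Z _ zb.2⟩ : ↥(Z P q (M ⧸ (I ^ n • ⊤ : Submodule A M)))) =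
      ⟨(I ^ n • ⊤ : Submodule A M).mkQ ∘ₗ z, comp_mem_Z _ hzZ⟩ +
        ⟨((I ^ n • ⊤ : Submodule A M).mkQ ∘ₗ w) ∘ₗ (P.d q (q + 1)).hom, comp_d_mem_Z _⟩ :=
    Subtype.ext hkey
  have h0 : Γ P p q hpq K iso _ (⟨((I ^ n • ⊤ : Submodule A M).mkQ ∘ₗ w) ∘ₗ
      (P.d q (q + 1)).hom, comp_d_mem_Z _⟩ : ↥(Z P q (M ⧸ (I ^ n • ⊤ : Submodule A M)))) = 0 :=
    (Γ_eq_zero_iff P p q hpq K iso _ _).2 ⟨_, rfl⟩
  rw [hsplit, map_add, h0, add_zero]

end Gamma

end

end Groth.Agent.Helper6.ExtAR
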