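import Mathlib
import Groth.Agent.Lib.Helper6.PCm10
import Groth.Agent.Lib.Helper6.ExtFin
import Groth.Agent.Lib.Helper6.BddCx

/-!
# `Hom(K, -[n])` and filtered colimits of modules, for pseudo-coherent `K`
-/

set_option autoImplicit false
set_option linter.style.haveILetI false

universe u

open CategoryTheory Category Limits Pretriangulated DerivedCategory ZeroObject

attribute [local instance] HasDerivedCategory.standard

namespace Groth.Agent.Helper6.FiltExt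

noncomputable section

section Generic

variable {C : Type*} [Category C] {D : Type*} [Category D] [Preadditive D]
variable {J : Type*} [Category J] (F : J ⥤ C) (c : Cocone F)

/-- the cocone leg, with its natural type. -/
abbrev ci {F : J ⥤ C} (c : Cocone F) (j : J) : F.obj j ⟶ c.pt := c.ι.app j

/-- surjectivity of `colim_j Hom(K, G F_j) → Hom(K, G c.pt)`. -/
def Sur (G : C ⥤ D) (K : D) : Prop :=
  ∀ x : K ⟶ G.obj c.pt, ∃ (j : J) (y : K ⟶ G.obj (F.obj j)), y ≫ G.map (ci c j) = x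

/-- injectivity of `colim_j Hom(K, G F_j) → Hom(K, G c.pt)`. -/
def Inj (G : C ⥤ D) (K : D) : Prop :=
  ∀ (j : J) (y : K ⟶ G.obj (F.obj j)), y ≫ G.map (ci c j) = 0 →
    ∃ (j' : J) (f : j ⟶ j'), y ≫ G.map (F.map f) = 0

variable {F c}

lemma ι_compat (G : C ⥤ D) {j j' : J} (f : j ⟶ j') :
    G.map (F.map f) ≫ G.map (ci c j') = G.map (ci c j) := by
  rw [← G.map_comp]
  exact congrArg G.map (c.w f)

lemma Sur.of_iso {G : C ⥤ D} {K L : D} (e : K ≅ L) (h : Sur F c G K) : Sur F c G L := by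
  intro x
  obtain ⟨j, y, hy⟩ := h (e.hom ≫ x)
  exact ⟨j, e.inv ≫ y, by rw [assoc, hy, e.inv_hom_id_assoc]⟩

lemma Inj.of_iso {G : C ⥤ D} {K L : D} (e : K ≅ L) (h : Inj F c G K) : Inj F c G L := by
  intro j y hy
  obtain ⟨j', f, hf⟩ := h j (e.hom ≫ y) (by rw [assoc, hy, comp_zero])
  refine ⟨j', f, ?_⟩
  rw [assoc] at hf
  exact (cancel_epi e.hom).1 (hf.trans comp_zero.symm)

lemma Sur.of_natIso {G G' : C ⥤ D} (e : G ≅ G') {K : D} (h : Sur F c G K) : Sur F c G' K := by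
  intro x
  obtain ⟨j, y, hy⟩ := h (x ≫ e.inv.app c.pt)
  refine ⟨j, y ≫ e.hom.app (F.obj j), ?_⟩
  rw [assoc, ← e.hom.naturality, ← assoc, hy, assoc, Iso.inv_hom_id_app, comp_id]

lemma Inj.of_natIso {G G' : C ⥤ D} (e : G ≅ G') {K : D} (h : Inj F c G K) : Inj F c G' K := by
  intro j y hy
  obtain ⟨j', f, hf⟩ := h j (y ≫ e.inv.app (F.obj j)) (by
    rw [assoc, ← e.inv.naturality, ← assoc, hy, zero_comp])
  refine ⟨j', f, ?_⟩
  rw [assoc, ← e.inv.naturality, ← assoc] at hf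
  exact (cancel_mono (e.inv.app (F.obj j'))).1 (hf.trans zero_comp.symm)

lemma Sur.of_fullyFaithful {D' : Type*} [Category D'] [Preadditive D'] (H : D ⥤ D') [H.Full]
    [H.Faithful] {G : C ⥤ D} {K : D} (h : Sur F c G K) : Sur F c (G ⋙ H) (H.obj K) := by
  intro x
  obtain ⟨x', rfl⟩ := H.map_surjective x
  obtain ⟨j, y, hy⟩ := h x'
  exact ⟨j, H.map y, by rw [Functor.comp_map, ← H.map_comp, hy]⟩

lemma Inj.of_fullyFaithful {D' : Type*} [Category D'] [Preadditive D'] (H : D ⥤ D') [H.Full]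
    [H.Faithful] [H.PreservesZeroMorphisms] {G : C ⥤ D} {K : D} (h : Inj F c G K) :
    Inj F c (G ⋙ H) (H.obj K) := by
  intro j y hy
  obtain ⟨y', rfl⟩ := H.map_surjective y
  have h1 : y' ≫ G.map (ci c j) = 0 := H.map_injective (by
    rw [H.map_comp, H.map_zero]
    exact hy)
  obtain ⟨j', f, hf⟩ := h j y' h1
  exact ⟨j', f, by rw [Functor.comp_map, ← H.map_comp, hf, H.map_zero]⟩

lemma sur_inj_of_subsingleton [Nonempty J] (G : C ⥤ D) (K : D)
    (h : ∀ X : C, Subsingleton (K ⟶ G.obj X)) : Sur F c G K ∧ Inj F c G K := by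
  refine ⟨fun x => ⟨Classical.arbitrary J, 0, ?_⟩, fun j y _ => ⟨j, 𝟙 j, ?_⟩⟩
  · haveI := h c.pt
    exact Subsingleton.elim _ _
  · haveI := h (F.obj j)
    exact Subsingleton.elim _ _

variable [HasZeroObject D] [HasShift D ℤ] [∀ n : ℤ, (shiftFunctor D n).Additive]
  [Pretriangulated D]

/-- the connecting map `T₃⟦-1⟧ ⟶ T₁`. -/
def conn (T : Triangle D) : (T.obj₃⟦(-1 : ℤ)⟧) ⟶ T.obj₁ := T.invRotate.mor₁

lemma conn_comp (T : Triangle D) (hT : T ∈ distTriang D) : conn T ≫ T.mor₁ = 0 :=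
  comp_distTriang_mor_zero₁₂ _ (inv_rot_of_distTriang _ hT)

lemma exists_factor (T : Triangle D) (hT : T ∈ distTriang D) {W : D} (g₀ : T.obj₁ ⟶ W)
    (h : conn T ≫ g₀ = 0) : ∃ g₁ : T.obj₂ ⟶ W, g₀ = T.mor₁ ≫ g₁ :=
  Triangle.yoneda_exact₂ _ (inv_rot_of_distTriang _ hT) g₀ h

variable [IsFiltered J]

lemma sur_ext (G : C ⥤ D) (T : Triangle D) (hT : T ∈ distTriang D)
    (h1 : Sur F c G T.obj₁) (h3 : Sur F c G T.obj₃) (h3' : Inj F c G (T.obj₃⟦(-1 : ℤ)⟧)) :
    Sur F c G T.obj₂ := by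
  intro x
  obtain ⟨j₁, y₁, hy₁⟩ := h1 (T.mor₁ ≫ x)
  have hz : (conn T ≫ y₁) ≫ G.map (ci c j₁) = 0 := by
    rw [assoc, hy₁, ← assoc, conn_comp T hT, zero_comp]
  obtain ⟨j₂, u, hu⟩ := h3' j₁ (conn T ≫ y₁) hz
  obtain ⟨z, hz'⟩ := exists_factor T hT (y₁ ≫ G.map (F.map u)) (by
    rw [← assoc]
    exact hu)
  obtain ⟨w, hw⟩ := Triangle.yoneda_exact₂ T hT (x - z ≫ G.map (ci c j₂)) (by
    rw [Preadditive.comp_sub, ← assoc, ← hz', assoc, ι_compat G, hy₁, sub_self])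
  obtain ⟨j₃, w', hw'⟩ := h3 w
  refine ⟨IsFiltered.max j₂ j₃, z ≫ G.map (F.map (IsFiltered.leftToMax j₂ j₃)) +
      T.mor₂ ≫ w' ≫ G.map (F.map (IsFiltered.rightToMax j₂ j₃)), ?_⟩
  simp only [Preadditive.add_comp, assoc]
  rw [ι_compat G, ι_compat G, hw', ← hw]
  abel

lemma inj_ext (G : C ⥤ D) (T : Triangle D) (hT : T ∈ distTriang D)
    (h1 : Inj F c G T.obj₁) (h3 : Inj F c G T.obj₃) (h1' : Sur F c G (T.obj₁⟦(1 : ℤ)⟧)) :
    Inj F c G T.obj₂ := by
  intro j y hy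
  obtain ⟨j₁, u, hu⟩ := h1 j (T.mor₁ ≫ y) (by rw [assoc, hy, comp_zero])
  obtain ⟨w, hw⟩ := Triangle.yoneda_exact₂ T hT (y ≫ G.map (F.map u)) (by
    rw [← assoc]
    exact hu)
  obtain ⟨v, hv⟩ := Triangle.yoneda_exact₃ T hT (w ≫ G.map (ci c j₁)) (by
    rw [← assoc, ← hw, assoc, ι_compat G, hy])
  obtain ⟨j₂, v', hv'⟩ := h1' v
  obtain ⟨j₄, e, he⟩ := h3 (IsFiltered.max j₁ j₂)
    (w ≫ G.map (F.map (IsFiltered.leftToMax j₁ j₂)) -
      T.mor₃ ≫ v' ≫ G.map (F.map (IsFiltered.rightToMax j₁ j₂))) (by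
    simp only [Preadditive.sub_comp, assoc]
    rw [ι_compat G, ι_compat G, hv', hv, sub_self])
  refine ⟨j₄, u ≫ IsFiltered.leftToMax j₁ j₂ ≫ e, ?_⟩
  have h5 : w ≫ G.map (F.map (IsFiltered.leftToMax j₁ j₂)) ≫ G.map (F.map e) =
      T.mor₃ ≫ v' ≫ G.map (F.map (IsFiltered.rightToMax j₁ j₂)) ≫ G.map (F.map e) := by
    have h6 := he
    simp only [Preadditive.sub_comp, assoc] at h6
    exact sub_eq_zero.1 h6
  rw [F.map_comp, F.map_comp, G.map_comp, G.map_comp, ← assoc, hw, assoc, h5,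
    comp_distTriang_mor_zero₂₃_assoc _ hT, zero_comp]

variable (F c)

/-- the property of `K`: all the maps `colim_j Hom(K, G₀ F_j [n]) → Hom(K, G₀ c.pt [n])` are
bijective. -/
def PP (G₀ : C ⥤ D) (K : D) : Prop :=
  ∀ n : ℤ, Sur F c (G₀ ⋙ shiftFunctor D n) K ∧ Inj F c (G₀ ⋙ shiftFunctor D n) K

variable {F c}

/-- `G₀[a][s] ≅ G₀[n]` for `a + s = n`. -/
def shIso (G₀ : C ⥤ D) (a s n : ℤ) (h : a + s = n) :
    (G₀ ⋙ shiftFunctor D a) ⋙ shiftFunctor D s ≅ G₀ ⋙ shiftFunctor D n :=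
  Functor.associator _ _ _ ≪≫ Functor.isoWhiskerLeft G₀ (shiftFunctorAdd' D a s n h).symm

lemma PP.of_iso {G₀ : C ⥤ D} {K L : D} (e : K ≅ L) (h : PP F c G₀ K) : PP F c G₀ L :=
  fun n => ⟨(h n).1.of_iso e, (h n).2.of_iso e⟩

lemma PP.shift {G₀ : C ⥤ D} {K : D} (h : PP F c G₀ K) (s : ℤ) : PP F c G₀ (K⟦s⟧) := fun n =>
  ⟨((h (n - s)).1.of_fullyFaithful (shiftFunctor D s)).of_natIso
      (shIso G₀ (n - s) s n (by omega)),
    ((h (n - s)).2.of_fullyFaithful (shiftFunctor D s)).of_natIso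
      (shIso G₀ (n - s) s n (by omega))⟩

lemma PP.ext {G₀ : C ⥤ D} (T : Triangle D) (hT : T ∈ distTriang D) (h1 : PP F c G₀ T.obj₁)
    (h3 : PP F c G₀ T.obj₃) : PP F c G₀ T.obj₂ := fun n =>
  ⟨sur_ext _ T hT (h1 n).1 (h3 n).1 ((h3.shift (-1)) n).2,
    inj_ext _ T hT (h1 n).2 (h3 n).2 ((h1.shift 1) n).1⟩

lemma PP.of_isZero {G₀ : C ⥤ D} {K : D} (hK : IsZero K) : PP F c G₀ K := by
  haveI : Nonempty J := IsFiltered.nonempty
  exact fun n => sur_inj_of_subsingleton _ _ (fun X => ⟨fun f g => hK.eq_of_src f g⟩)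

end Generic

section Concrete

variable (R : Type u) [CommRing R]

/-- a module in degree `0`. -/
abbrev G0 : ModuleCat.{u} R ⥤ DerivedCategory (ModuleCat.{u} R) :=
  DerivedCategory.singleFunctor (ModuleCat.{u} R) 0

/-- `G0[0] ≅ G0`. -/
def zIso : G0 R ⋙ shiftFunctor (DerivedCategory (ModuleCat.{u} R)) (0 : ℤ) ≅ G0 R :=
  Functor.isoWhiskerLeft (G0 R) (shiftFunctorZero (DerivedCategory (ModuleCat.{u} R)) ℤ) ≪≫
    Functor.rightUnitor (G0 R)

variable {R} {J : Type u} [SmallCategory J] [IsFiltered J] (F : J ⥤ ModuleCat.{u} R)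
  (c : Cocone F) (hc : IsColimit c)

include hc in
lemma sur_base : Sur F c (G0 R) ((G0 R).obj (ModuleCat.of R R)) := by
  intro x
  obtain ⟨x₀, rfl⟩ := (G0 R).map_surjective x
  obtain ⟨j, t, ht⟩ := Concrete.isColimit_exists_rep F hc (x₀.hom (1 : R))
  refine ⟨j, (G0 R).map (ModuleCat.ofHom (LinearMap.toSpanSingleton R _ t)), ?_⟩
  rw [← Functor.map_comp]
  congr 1
  ext
  simp only [ModuleCat.hom_comp, ModuleCat.hom_ofHom, LinearMap.comp_apply,
    LinearMap.toSpanSingleton_apply, one_smul]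
  exact ht

include hc in
lemma inj_base : Inj F c (G0 R) ((G0 R).obj (ModuleCat.of R R)) := by
  intro j y hy
  obtain ⟨y₀, rfl⟩ := (G0 R).map_surjective y
  have h1 : y₀ ≫ c.ι.app j = 0 := (G0 R).map_injective (by
    rw [Functor.map_comp, hy, Functor.map_zero])
  have h2 : c.ι.app j (y₀.hom (1 : R)) = c.ι.app j (0 : F.obj j) := by
    have h3 : (y₀ ≫ ci c j).hom (1 : R) = 0 := by rw [h1]; rfl
    rw [map_zero]
    exact h3
  obtain ⟨k, f, g, hfg⟩ := Concrete.isColimit_exists_of_rep_eq F hc _ _ h2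
  refine ⟨k, f, ?_⟩
  rw [← Functor.map_comp]
  have h4 : y₀ ≫ F.map f = 0 := by
    ext
    simp only [ModuleCat.hom_comp, LinearMap.comp_apply]
    rw [map_zero] at hfg
    exact hfg
  rw [h4, Functor.map_zero]

include hc in
lemma pp_base : PP F c (G0 R) ((G0 R).obj (ModuleCat.of R R)) := by
  haveI : Nonempty J := IsFiltered.nonempty
  intro n
  rcases lt_trichotomy n 0 with hn | rfl | hn
  · exact sur_inj_of_subsingleton _ _
      (fun X => ExtFin.subsingleton_hom_single_neg (ModuleCat.of R R) X n hn)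
  · exact ⟨(sur_base F c hc).of_natIso (zIso R).symm, (inj_base F c hc).of_natIso (zIso R).symm⟩
  · haveI : Projective (ModuleCat.of R R) := ModuleCat.projective_of_categoryTheory_projective _
    exact sur_inj_of_subsingleton _ _
      (fun X => ExtFin.subsingleton_hom_single_proj (ModuleCat.of R R) X n hn)

/-- `PP` for a module in degree `0`. -/
def PPM (M : Type u) [AddCommGroup M] [Module R M] : Prop :=
  PP F c (G0 R) ((G0 R).obj (ModuleCat.of R M))

lemma ppm_prod (M N : Type u) [AddCommGroup M] [Module R M] [AddCommGroup N] [Module R N]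
    (hM : PPM F c M) (hN : PPM F c N) : PPM F c (M × N) := by
  let S : ShortComplex (ModuleCat.{u} R) :=
    ShortComplex.mk (ModuleCat.ofHom (LinearMap.inl R M N))
      (ModuleCat.ofHom (LinearMap.snd R M N)) (by
        ext x
        rfl)
  have hS : S.ShortExact :=
    { exact := (ShortComplex.ShortExact.moduleCat_exact_iff_function_exact S).2
        Function.Exact.inl_snd
      mono_f := (ModuleCat.mono_iff_injective _).2 LinearMap.inl_injective
      epi_g := (ModuleCat.epi_iff_surjective _).2 LinearMap.snd_surjective }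
  have hT := hS.singleTriangle_distinguished
  exact PP.ext _ hT hM hN

lemma ppm_of_subsingleton (M : Type u) [AddCommGroup M] [Module R M] [Subsingleton M] :
    PPM F c M :=
  PP.of_isZero (Functor.map_isZero _ (ModuleCat.isZero_of_subsingleton _))

lemma ppm_of_equiv {M N : Type u} [AddCommGroup M] [Module R M] [AddCommGroup N]
    [Module R N] (e : M ≃ₗ[R] N) (hM : PPM F c M) : PPM F c N :=
  PP.of_iso ((G0 R).mapIso e.toModuleIso) hM

include hc in
lemma ppm_pi (n : ℕ) : PPM F c (Fin n → R) := by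
  induction n with
  | zero => exact ppm_of_subsingleton F c _
  | succ n ih =>
    exact ppm_of_equiv F c (Fin.consLinearEquiv R (fun _ : Fin (n + 1) => R))
      (ppm_prod F c R (Fin n → R) (pp_base F c hc) ih)

include hc in
lemma ppm_free (M : Type u) [AddCommGroup M] [Module R M]
    [Module.Finite R M] [Module.Free R M] : PPM F c M := by
  rcases subsingleton_or_nontrivial R with hR | hR
  · haveI : Subsingleton M := Module.subsingleton R M
    exact ppm_of_subsingleton F c M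
  · exact ppm_of_equiv F c (Module.finBasis R M).equivFun.symm (ppm_pi F c hc _)

include hc in
lemma pp_Q (E : CochainComplex (ModuleCat.{u} R) ℤ) (a b : ℤ)
    (h0 : ∀ i : ℤ, i < a ∨ b < i → IsZero (E.X i))
    (hE : ∀ i : ℤ, Module.Finite R (E.X i) ∧ Module.Free R (E.X i)) :
    PP F c (G0 R) (Q.obj E) := by
  refine BddCx.prop_of_bounded_complex' (PP F c (G0 R))
    (fun e h => h.of_iso e) (fun K n h => h.shift n) (fun T hT h₁ h₃ => PP.ext T hT h₁ h₃)
    E a b h0 (fun i => ?_)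
  haveI := (hE i).1
  haveI := (hE i).2
  exact ppm_free F c hc (E.X i)

include hc in
theorem main (m : ℤ) (K : DerivedCategory (ModuleCat.{u} R)) (hK : PCm.IsPC m K) :
    (∀ n : ℤ, n < -m →
      Sur F c (G0 R ⋙ shiftFunctor (DerivedCategory (ModuleCat.{u} R)) n) K) ∧
    (∀ n : ℤ, n ≤ -m →
      Inj F c (G0 R ⋙ shiftFunctor (DerivedCategory (ModuleCat.{u} R)) n) K) := by
  obtain ⟨E, a, b, α, hE0, hE, h1, h2⟩ := hK
  have hQ := pp_Q F c hc E a b hE0 hE
  obtain ⟨C₁, β, δ, hT⟩ := distinguished_cocone_triangle α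
  have hC : C₁.IsLE (m - 1) := (PCm.isLE_cone_iff (Triangle.mk α β δ) hT m).2 ⟨h1, h2⟩
  have van : ∀ (n : ℤ) (X : ModuleCat.{u} R), n ≤ -m →
      ∀ w : C₁ ⟶ ((G0 R).obj X)⟦n⟧, w = 0 := by
    intro n X hn w
    haveI : (TStructure.t (C := ModuleCat.{u} R)).IsGE (((G0 R).obj X)⟦n⟧) (-n) :=
      (TStructure.t (C := ModuleCat.{u} R)).isGE_shift ((G0 R).obj X) 0 n (-n) (by omega)
    haveI : (TStructure.t (C := ModuleCat.{u} R)).IsLE C₁ (m - 1) := hC
    exact (TStructure.t (C := ModuleCat.{u} R)).zero w (m - 1) (-n) (by omega)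
  have van1 : ∀ (n : ℤ) (X : ModuleCat.{u} R), n < -m →
      Subsingleton (C₁ ⟶ (((G0 R).obj X)⟦n⟧)⟦(1 : ℤ)⟧) := by
    intro n X hn
    haveI : (TStructure.t (C := ModuleCat.{u} R)).IsGE (((G0 R).obj X)⟦n⟧) (-n) :=
      (TStructure.t (C := ModuleCat.{u} R)).isGE_shift ((G0 R).obj X) 0 n (-n) (by omega)
    haveI : (TStructure.t (C := ModuleCat.{u} R)).IsGE ((((G0 R).obj X)⟦n⟧)⟦(1 : ℤ)⟧)
        (-n - 1) :=
      (TStructure.t (C := ModuleCat.{u} R)).isGE_shift (((G0 R).obj X)⟦n⟧) (-n) 1 (-n - 1)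
        (by omega)
    haveI : (TStructure.t (C := ModuleCat.{u} R)).IsLE C₁ (m - 1) := hC
    have key : ∀ w : C₁ ⟶ (((G0 R).obj X)⟦n⟧)⟦(1 : ℤ)⟧, w = 0 := fun w =>
      (TStructure.t (C := ModuleCat.{u} R)).zero w (m - 1) (-n - 1) (by omega)
    exact ⟨fun f g => by rw [key f, key g]⟩
  have ex2 : ∀ {W : DerivedCategory (ModuleCat.{u} R)} (d : K ⟶ W), α ≫ d = 0 →
      ∃ w : C₁ ⟶ W, d = β ≫ w := fun d hd =>
    Triangle.yoneda_exact₂ (Triangle.mk α β δ) hT d hd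
  have exf : ∀ (W : DerivedCategory (ModuleCat.{u} R)), Subsingleton (C₁ ⟶ W⟦(1 : ℤ)⟧) →
      ∀ g₀ : Q.obj E ⟶ W, ∃ g₁ : K ⟶ W, g₀ = α ≫ g₁ := fun W hs g₀ =>
    ExtFin.exists_factor_of_subsingleton (Triangle.mk α β δ) hT W hs g₀
  constructor
  · intro n hn x
    obtain ⟨j₁, y₁, hy₁⟩ := (hQ n).1 (α ≫ x)
    obtain ⟨z, hz⟩ := exf _ (van1 n (F.obj j₁) hn) y₁
    obtain ⟨w, hw⟩ := ex2
      (x - z ≫ (G0 R ⋙ shiftFunctor (DerivedCategory (ModuleCat.{u} R)) n).map (ci c j₁))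
      (by rw [Preadditive.comp_sub, ← assoc, ← hz, hy₁, sub_self])
    refine ⟨j₁, z, ?_⟩
    have hw0 : w = 0 := van n c.pt hn.le w
    rw [hw0, comp_zero] at hw
    exact (sub_eq_zero.1 hw).symm
  · intro n hn j y hy
    obtain ⟨j', f, hf⟩ := (hQ n).2 j (α ≫ y) (by rw [assoc, hy, comp_zero])
    obtain ⟨w, hw⟩ := ex2
      (y ≫ (G0 R ⋙ shiftFunctor (DerivedCategory (ModuleCat.{u} R)) n).map (F.map f))
      (by
        rw [← assoc]
        exact hf)
    refine ⟨j', f, ?_⟩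
    have hw0 : w = 0 := van n (F.obj j') hn w
    rw [hw, hw0, comp_zero]

end Concrete

end

end Groth.Agent.Helper6.FiltExt
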