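import Mathlib
import Groth.Agent.Lib.Helper6.ExtAR
import Groth.Agent.Lib.Helper6.FiltExt
import Groth.Agent.Lib.Helper6.ExtFin

/-!
# `Ext^p(M, N) → Ext^p(IⁿM, N)` factors through `Ext^p(IⁿM, I^(n-c)N)`
-/

set_option autoImplicit false
set_option linter.style.haveILetI false

universe u

open CategoryTheory Category Limits Pretriangulated DerivedCategory

attribute [local instance] HasDerivedCategory.standard

namespace Groth.Agent.Helper6.ExtAR2

noncomputable section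

variable {A : Type u} [CommRing A]

section SES

variable {X Y X' Y' : Type u} [AddCommGroup X] [Module A X] [AddCommGroup Y] [Module A Y]
  [AddCommGroup X'] [Module A X'] [AddCommGroup Y'] [Module A Y']

/-- the short complex `ker f → X → Y`. -/
abbrev sesOf (f : X →ₗ[A] Y) : ShortComplex (ModuleCat.{u} A) :=
  ShortComplex.mk (ModuleCat.ofHom (LinearMap.ker f).subtype) (ModuleCat.ofHom f) (by
    ext x
    exact x.2)

lemma sesOf_shortExact (f : X →ₗ[A] Y) (hf : Function.Surjective f) : (sesOf f).ShortExact :=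
  { exact := (ShortComplex.ShortExact.moduleCat_exact_iff_function_exact (sesOf f)).2
      (LinearMap.exact_subtype_ker_map f)
    mono_f := (ModuleCat.mono_iff_injective _).2 (Submodule.injective_subtype _)
    epi_g := (ModuleCat.epi_iff_surjective _).2 hf }

/-- the induced map on kernels. -/
def kerMap (f' : X' →ₗ[A] Y') (f : X →ₗ[A] Y) (a : X' →ₗ[A] X) (b : Y' →ₗ[A] Y)
    (h : f ∘ₗ a = b ∘ₗ f') : ↥(LinearMap.ker f') →ₗ[A] ↥(LinearMap.ker f) :=
  (a ∘ₗ (LinearMap.ker f').subtype).codRestrict (LinearMap.ker f) (fun x => by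
    rw [LinearMap.mem_ker]
    have h1 := LinearMap.congr_fun h x.1
    simp only [LinearMap.comp_apply] at h1
    simp only [LinearMap.comp_apply, Submodule.subtype_apply]
    rw [h1, LinearMap.mem_ker.1 x.2, map_zero])

/-- the induced map of short complexes. -/
def sesMap (f' : X' →ₗ[A] Y') (f : X →ₗ[A] Y) (a : X' →ₗ[A] X) (b : Y' →ₗ[A] Y)
    (h : f ∘ₗ a = b ∘ₗ f') : sesOf f' ⟶ sesOf f :=
  ShortComplex.homMk (ModuleCat.ofHom (kerMap f' f a b h)) (ModuleCat.ofHom a)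
    (ModuleCat.ofHom b) (by
      ext x
      rfl) (by
      ext x
      exact LinearMap.congr_fun h x)

end SES

section Claim

variable [IsNoetherianRing A] (I : Ideal A) (N : Type u) [AddCommGroup N] [Module A N]

/-- the factorization property. -/
def Claim (G : ModuleCat.{u} A ⥤ DerivedCategory (ModuleCat.{u} A)) (M : Type u)
    [AddCommGroup M] [Module A M] : Prop :=
  ∃ c : ℕ, ∀ n k : ℕ, k + c = n →
    ∀ e : (FiltExt.G0 A).obj (ModuleCat.of A M) ⟶ G.obj (ModuleCat.of A N),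
    ∃ e' : (FiltExt.G0 A).obj (ModuleCat.of A ↥(I ^ n • ⊤ : Submodule A M)) ⟶
        G.obj (ModuleCat.of A ↥(I ^ k • ⊤ : Submodule A N)),
      e' ≫ G.map (ModuleCat.ofHom (I ^ k • ⊤ : Submodule A N).subtype) =
        (FiltExt.G0 A).map (ModuleCat.ofHom (I ^ n • ⊤ : Submodule A M).subtype) ≫ e

variable {I N}

lemma Claim.of_natIso {G G' : ModuleCat.{u} A ⥤ DerivedCategory (ModuleCat.{u} A)}
    (θ : G ≅ G') {M : Type u} [AddCommGroup M] [Module A M] (h : Claim I N G M) :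
    Claim I N G' M := by
  obtain ⟨c, hc⟩ := h
  refine ⟨c, fun n k hk e => ?_⟩
  obtain ⟨e'', he''⟩ := hc n k hk (e ≫ θ.inv.app _)
  refine ⟨e'' ≫ θ.hom.app _, ?_⟩
  rw [assoc, ← θ.hom.naturality, ← assoc, he'', assoc, assoc, Iso.inv_hom_id_app, comp_id]

variable (I N)

lemma claim_zero (M : Type u) [AddCommGroup M] [Module A M] : Claim I N (FiltExt.G0 A) M := by
  refine ⟨0, fun n k hk e => ?_⟩
  obtain rfl : k = n := by omega
  obtain ⟨e₀, rfl⟩ := (FiltExt.G0 A).map_surjective e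
  let φ : ↥(I ^ k • ⊤ : Submodule A M) →ₗ[A] ↥(I ^ k • ⊤ : Submodule A N) :=
    (e₀.hom ∘ₗ (I ^ k • ⊤ : Submodule A M).subtype).codRestrict _
      (fun x => ExtAR.map_mem_smul_top e₀.hom _ x.2)
  refine ⟨(FiltExt.G0 A).map (ModuleCat.ofHom φ), ?_⟩
  rw [← Functor.map_comp, ← Functor.map_comp]
  congr 1

set_option backward.isDefEq.respectTransparency false in
lemma claim_step (G : ModuleCat.{u} A ⥤ DerivedCategory (ModuleCat.{u} A))
    (hvan : ∀ (t : ℕ) (X : ModuleCat.{u} A),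
      Subsingleton ((FiltExt.G0 A).obj (ModuleCat.of A (Fin t → A)) ⟶ (G.obj X)⟦(1 : ℤ)⟧))
    (h : ∀ (K : Type u) [AddCommGroup K] [Module A K] [Module.Finite A K], Claim I N G K)
    (M : Type u) [AddCommGroup M] [Module A M] [Module.Finite A M] :
    Claim I N (G ⋙ shiftFunctor (DerivedCategory (ModuleCat.{u} A)) (1 : ℤ)) M := by
  obtain ⟨t, π, hπ⟩ := Module.Finite.exists_fin' (R := A) (M := M)
  haveI : Module.Finite A ↥(LinearMap.ker π) :=
    Module.Finite.iff_fg.2 (IsNoetherian.noetherian _)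
  obtain ⟨c₁, hc₁⟩ := h ↥(LinearMap.ker π)
  obtain ⟨c₀, hc₀⟩ := Ideal.exists_pow_inf_eq_pow_smul I (LinearMap.ker π)
  have hS := sesOf_shortExact π hπ
  refine ⟨c₀ + c₁, fun n k hk e => ?_⟩
  have hT := hS.singleTriangle_distinguished
  obtain ⟨g, hg⟩ := Triangle.yoneda_exact₃ _ hT e
    (@Subsingleton.elim _ (hvan t (ModuleCat.of A N)) _ _)
  obtain ⟨e₁, rfl⟩ := (shiftFunctor (DerivedCategory (ModuleCat.{u} A)) (1 : ℤ)).map_surjective g
  let πn : ↥(I ^ n • ⊤ : Submodule A (Fin t → A)) →ₗ[A] ↥(I ^ n • ⊤ : Submodule A M) :=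
    (π ∘ₗ (I ^ n • ⊤ : Submodule A (Fin t → A)).subtype).codRestrict _
      (fun x => ExtAR.map_mem_smul_top π _ x.2)
  have hπn : Function.Surjective πn := by
    rintro ⟨y, hy⟩
    have h1 : (I ^ n • ⊤ : Submodule A M) = (I ^ n • ⊤ : Submodule A (Fin t → A)).map π := by
      rw [Submodule.map_smul'', Submodule.map_top, LinearMap.range_eq_top.2 hπ]
    rw [h1] at hy
    obtain ⟨x, hx, rfl⟩ := hy
    exact ⟨⟨x, hx⟩, rfl⟩
  have hSn := sesOf_shortExact πn hπn
  have hsq : π ∘ₗ (I ^ n • ⊤ : Submodule A (Fin t → A)).subtype =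
      (I ^ n • ⊤ : Submodule A M).subtype ∘ₗ πn := rfl
  have hδ := (ShortComplex.ShortExact.singleTriangle.map hSn hS
    (sesMap πn π _ _ hsq)).comm₃
  obtain ⟨e₁', he₁'⟩ := hc₁ (k + c₁) k rfl e₁
  have hκ : ∀ x, kerMap πn π _ _ hsq x ∈
      (I ^ (k + c₁) • ⊤ : Submodule A ↥(LinearMap.ker π)) := by
    intro x
    rw [Submodule.mem_smul_top_iff]
    have h1 : ((kerMap πn π _ _ hsq x : ↥(LinearMap.ker π)) : Fin t → A) ∈
        I ^ n • ⊤ ⊓ LinearMap.ker π := ⟨x.1.2, (kerMap πn π _ _ hsq x).2⟩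
    rw [hc₀ n (by omega)] at h1
    have h2 : n - c₀ = k + c₁ := by omega
    rw [h2] at h1
    exact Submodule.smul_mono le_rfl inf_le_right h1
  refine ⟨hSn.singleδ ≫ ((FiltExt.G0 A).map (ModuleCat.ofHom
    ((kerMap πn π _ _ hsq).codRestrict _ hκ)) ≫ e₁')⟦(1 : ℤ)⟧', ?_⟩
  have h3 : (FiltExt.G0 A).map (ModuleCat.ofHom ((kerMap πn π _ _ hsq).codRestrict _ hκ)) ≫
      (FiltExt.G0 A).map (ModuleCat.ofHom
        (X := ↥(I ^ (k + c₁) • ⊤ : Submodule A ↥(LinearMap.ker π))) (Y := ↥(LinearMap.ker π))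
        (I ^ (k + c₁) • ⊤ : Submodule A ↥(LinearMap.ker π)).subtype) =
      (FiltExt.G0 A).map (ModuleCat.ofHom (X := ↥(LinearMap.ker πn))
        (Y := ↥(LinearMap.ker π)) (kerMap πn π _ _ hsq)) := by
    rw [← Functor.map_comp]
    rfl
  have hδ' : hSn.singleδ ≫ ((FiltExt.G0 A).map (ModuleCat.ofHom (X := ↥(LinearMap.ker πn))
      (Y := ↥(LinearMap.ker π)) (kerMap πn π _ _ hsq)))⟦(1 : ℤ)⟧' =
      (FiltExt.G0 A).map (ModuleCat.ofHom (I ^ n • ⊤ : Submodule A M).subtype) ≫ hS.singleδ := hδ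
  have hg' : e = hS.singleδ ≫ e₁⟦(1 : ℤ)⟧' := hg
  rw [assoc, Functor.comp_map, ← Functor.map_comp, assoc, he₁', ← assoc, h3, Functor.map_comp,
    ← assoc, hδ', assoc, ← hg']

end Claim

section Main

variable [IsNoetherianRing A] (I : Ideal A) (N : Type u) [AddCommGroup N] [Module A N]

variable (A) in
/-- iterated shifts. -/
def Gp : ℕ → (ModuleCat.{u} A ⥤ DerivedCategory (ModuleCat.{u} A))
  | 0 => FiltExt.G0 A
  | (p + 1) => Gp p ⋙ shiftFunctor (DerivedCategory (ModuleCat.{u} A)) (1 : ℤ)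

variable (A) in
/-- comparison with the shift by `p`. -/
def θ : ∀ p : ℕ, Gp A p ≅ FiltExt.G0 A ⋙ shiftFunctor (DerivedCategory (ModuleCat.{u} A)) (p : ℤ)
  | 0 => ((Functor.isoWhiskerLeft (FiltExt.G0 A)
      (shiftFunctorZero' (DerivedCategory (ModuleCat.{u} A)) ((0 : ℕ) : ℤ) Nat.cast_zero)) ≪≫
      Functor.rightUnitor (FiltExt.G0 A)).symm
  | (p + 1) => Functor.isoWhiskerRight (θ p) (shiftFunctor (DerivedCategory (ModuleCat.{u} A))
      (1 : ℤ)) ≪≫ FiltExt.shIso (FiltExt.G0 A) (p : ℤ) 1 ((p + 1 : ℕ) : ℤ) (by push_cast; ring)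

theorem claim_all (p : ℕ) : ∀ (M : Type u) [AddCommGroup M] [Module A M] [Module.Finite A M],
    Claim I N (Gp A p) M := by
  induction p with
  | zero =>
    intro M _ _ _
    exact claim_zero I N M
  | succ p ih =>
    intro M _ _ _
    refine claim_step I N (Gp A p) (fun t X => ?_) (fun K _ _ _ => ih K) M
    haveI : Projective (ModuleCat.of A (Fin t → A)) :=
      ModuleCat.projective_of_categoryTheory_projective _
    exact ExtFin.subsingleton_of_iso_right ((θ A (p + 1)).app X).symm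
      (ExtFin.subsingleton_hom_single_proj _ X ((p + 1 : ℕ) : ℤ) (by positivity))

theorem main (M : Type u) [AddCommGroup M] [Module A M] [Module.Finite A M] (p : ℕ) :
    Claim I N (FiltExt.G0 A ⋙ shiftFunctor (DerivedCategory (ModuleCat.{u} A)) (p : ℤ)) M :=
  (claim_all I N p M).of_natIso (θ A p)

end Main

end

end Groth.Agent.Helper6.ExtAR2
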