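import Mathlib.Algebra.Homology.DerivedCategory.Ext.ExactSequences
import Mathlib.CategoryTheory.Limits.Shapes.Biproducts
import Mathlib.CategoryTheory.Abelian.Basic

/-!
Formal vanishing lemmas for `Abelian.Ext` in an abstract abelian category:
transfer along isomorphisms and finite coproducts, and two-out-of-three from long exact sequences.
-/

namespace Groth.Agent.Helper6.ExtSigma

open CategoryTheory Limits Abelian

universe w v u

variable {C : Type u} [Category.{v} C] [Abelian C] [HasExt.{w} C]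

attribute [local instance] CategoryTheory.Abelian.hasFiniteBiproducts

lemma subsingleton_of_forall_eq_zero {α : Type*} [Zero α] (h : ∀ x : α, x = 0) : Subsingleton α :=
  ⟨fun x y => (h x).trans (h y).symm⟩

lemma subsingleton_iso_right {X Y Y' : C} (e : Y ≅ Y') (p : ℕ)
    (h : Subsingleton (Ext.{w} X Y' p)) : Subsingleton (Ext.{w} X Y p) := by
  apply subsingleton_of_forall_eq_zero
  intro x
  have h1 : (x.comp (Ext.mk₀ e.hom) (add_zero p)).comp (Ext.mk₀ e.inv) (add_zero p) = x := by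
    rw [Ext.comp_assoc_of_third_deg_zero, Ext.mk₀_comp_mk₀, e.hom_inv_id, Ext.comp_mk₀_id]
  rw [← h1, Subsingleton.elim (x.comp (Ext.mk₀ e.hom) (add_zero p)) 0, Ext.zero_comp]

lemma subsingleton_iso_left {X X' Y : C} (e : X ≅ X') (p : ℕ)
    (h : Subsingleton (Ext.{w} X' Y p)) : Subsingleton (Ext.{w} X Y p) := by
  apply subsingleton_of_forall_eq_zero
  intro x
  have h1 : (Ext.mk₀ e.hom).comp ((Ext.mk₀ e.inv).comp x (zero_add p)) (zero_add p) = x := by
    rw [Ext.mk₀_comp_mk₀_assoc, e.hom_inv_id, Ext.mk₀_id_comp]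
  rw [← h1, Subsingleton.elim ((Ext.mk₀ e.inv).comp x (zero_add p)) 0, Ext.comp_zero]

lemma subsingleton_sigma_right (X : C) {m : ℕ} (f : Fin m → C) (p : ℕ)
    (h : ∀ t, Subsingleton (Ext.{w} X (f t) p)) : Subsingleton (Ext.{w} X (∐ f) p) := by
  apply subsingleton_iso_right (biproduct.isoCoproduct f).symm
  haveI := h
  exact (Ext.addEquivBiproduct X (biproduct.isBilimit f) p).toEquiv.subsingleton

lemma subsingleton_sigma_left {m : ℕ} (f : Fin m → C) (Y : C) (p : ℕ)
    (h : ∀ t, Subsingleton (Ext.{w} (f t) Y p)) : Subsingleton (Ext.{w} (∐ f) Y p) := by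
  apply subsingleton_iso_left (biproduct.isoCoproduct f).symm
  haveI := h
  exact (Ext.biproductAddEquiv (biproduct.isBilimit f) Y p).toEquiv.subsingleton

/-- Covariant: `Ext^p(X, S.X₂) = 0` and `Ext^{p+1}(X, S.X₁) = 0` give `Ext^p(X, S.X₃) = 0`. -/
lemma subsingleton_X₃_right (X : C) {S : ShortComplex C} (hS : S.ShortExact) (p : ℕ)
    (h₂ : Subsingleton (Ext.{w} X S.X₂ p)) (h₁ : Subsingleton (Ext.{w} X S.X₁ (p + 1))) :
    Subsingleton (Ext.{w} X S.X₃ p) := by
  apply subsingleton_of_forall_eq_zero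
  intro x₃
  obtain ⟨x₂, hx₂⟩ := Ext.covariant_sequence_exact₃ X hS x₃ rfl (Subsingleton.elim _ _)
  rw [← hx₂, Subsingleton.elim x₂ 0, Ext.zero_comp]

/-- Contravariant: `Ext^{p+1}(S.X₂, Y) = 0` and `Ext^p(S.X₁, Y) = 0` give
`Ext^{p+1}(S.X₃, Y) = 0`. -/
lemma subsingleton_X₃_left {S : ShortComplex C} (hS : S.ShortExact) (Y : C) (p : ℕ)
    (h₂ : Subsingleton (Ext.{w} S.X₂ Y (p + 1))) (h₁ : Subsingleton (Ext.{w} S.X₁ Y p)) :
    Subsingleton (Ext.{w} S.X₃ Y (p + 1)) := by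
  apply subsingleton_of_forall_eq_zero
  intro x₃
  obtain ⟨x₁, hx₁⟩ := Ext.contravariant_sequence_exact₃ hS Y x₃ (Subsingleton.elim _ _)
    (add_comm 1 p)
  rw [← hx₁, Subsingleton.elim x₁ 0, Ext.comp_zero]

/-- Contravariant in degree zero: `Hom(S.X₂, Y) = 0` gives `Hom(S.X₃, Y) = 0`. -/
lemma subsingleton_X₃_left_zero {S : ShortComplex C} (hS : S.ShortExact) (Y : C)
    (h₂ : Subsingleton (Ext.{w} S.X₂ Y 0)) : Subsingleton (Ext.{w} S.X₃ Y 0) := by
  haveI := hS.epi_g
  exact (Ext.precomp_mk₀_injective_of_epi Y S.g).subsingleton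

end Groth.Agent.Helper6.ExtSigma
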