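import Mathlib

set_option autoImplicit false
universe v u
open CategoryTheory CategoryTheory.Limits

namespace Groth.Agent.Helper6.FinSubdiv

/-- a hom type expressing equality, in a chosen universe -/
@[ext]
structure EqHom.{w, w'} {α : Type w'} (x y : α) : Type w where
  h : x = y

instance EqHom.subsingleton.{w, w'} {α : Type w'} (x y : α) : Subsingleton (EqHom.{w} x y) :=
  ⟨fun a b => by cases a; cases b; rfl⟩

/-- the two legs out of an edge-object -/
@[ext]
structure LegHom.{w, w'} {α : Type w'} (p q x : α) : Type w where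
  b : Bool
  h : (bif b then q else p) = x

instance LegHom.finite.{w, w'} {α : Type w'} (p q x : α) : Finite (LegHom.{w} p q x) :=
  Finite.of_injective (fun f => f.b) (fun _ _ h => LegHom.ext h)

variable {I : Type u} [Category.{v} I]

/-- objects of the subdivision category: objects of `I` and generators. -/
inductive Sd (gen : Finset (Σ x y : I, x ⟶ y)) : Type (max u v)
  | vert (x : I) : Sd gen
  | edge (g : {a // a ∈ gen}) : Sd gen

variable {gen : Finset (Σ x y : I, x ⟶ y)}

abbrev src (g : {a // a ∈ gen}) : I := g.1.1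
abbrev tgt (g : {a // a ∈ gen}) : I := g.1.2.1
abbrev arr (g : {a // a ∈ gen}) : src g ⟶ tgt g := g.1.2.2

def Sd.Hom : Sd gen → Sd gen → Type (max u v)
  | .vert x, .vert y => EqHom.{max u v} x y
  | .edge g, .edge g' => EqHom.{max u v} g g'
  | .edge g, .vert x => LegHom.{max u v} (src g) (tgt g) x
  | .vert _, .edge _ => PEmpty.{max u v + 1}

def Sd.id : (a : Sd gen) → Sd.Hom a a
  | .vert _ => EqHom.mk rfl
  | .edge _ => EqHom.mk rfl

def Sd.comp : {a b c : Sd gen} → Sd.Hom a b → Sd.Hom b c → Sd.Hom a c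
  | .vert _, .vert _, .vert _, EqHom.mk h₁, EqHom.mk h₂ => EqHom.mk (h₁.trans h₂)
  | .edge _, .edge _, .edge _, EqHom.mk h₁, EqHom.mk h₂ => EqHom.mk (h₁.trans h₂)
  | .edge _, .edge _, .vert _, EqHom.mk h₁, LegHom.mk b h₂ => LegHom.mk b (by subst h₁; exact h₂)
  | .edge _, .vert _, .vert _, LegHom.mk b h₁, EqHom.mk h₂ => LegHom.mk b (h₁.trans h₂)
  | .vert _, .edge _, _, f, _ => PEmpty.elim f
  | .edge _, .vert _, .edge _, _, f => PEmpty.elim f
  | .vert _, .vert _, .edge _, _, f => PEmpty.elim f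

instance : Category.{max u v} (Sd gen) where
  Hom := Sd.Hom
  id := Sd.id
  comp := Sd.comp
  id_comp := by
    rintro (x | g) (y | g') f
    all_goals first | rfl | exact PEmpty.elim f
  comp_id := by
    rintro (x | g) (y | g') f
    all_goals first | rfl | exact PEmpty.elim f
  assoc := by
    rintro (x | g) (y | g') (z | g'') (w | g''') f₁ f₂ f₃
    all_goals first | rfl | exact PEmpty.elim f₁ | exact PEmpty.elim f₂ | exact PEmpty.elim f₃

def sLeg (g : {a // a ∈ gen}) : (Sd.edge g : Sd gen) ⟶ Sd.vert (src g) :=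
  (LegHom.mk false rfl : LegHom (src g) (tgt g) (src g))

def tLeg (g : {a // a ∈ gen}) : (Sd.edge g : Sd gen) ⟶ Sd.vert (tgt g) :=
  (LegHom.mk true rfl : LegHom (src g) (tgt g) (tgt g))

def Sd.obj : Sd gen → I
  | .vert x => x
  | .edge g => src g

def Sd.map : {a b : Sd gen} → Sd.Hom a b → (Sd.obj a ⟶ Sd.obj b)
  | .vert _, .vert _, EqHom.mk h => eqToHom h
  | .edge _, .edge _, EqHom.mk h => eqToHom (congrArg src h)
  | .edge _, .vert _, LegHom.mk false h => eqToHom h
  | .edge g, .vert _, LegHom.mk true h => arr g ≫ eqToHom h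
  | .vert _, .edge _, f => PEmpty.elim f

variable (gen)

def F₀ : Sd gen ⥤ I where
  obj := Sd.obj
  map := Sd.map
  map_id := by
    rintro (x | g)
    all_goals rfl
  map_comp := by
    rintro (x | g) (y | g') (z | g'') f₁ f₂
    · obtain ⟨h₁⟩ := f₁
      obtain ⟨h₂⟩ := f₂
      subst h₁; subst h₂
      show Sd.map (Sd.comp _ _) = Sd.map _ ≫ Sd.map _
      simp [Sd.map, Sd.comp]
    · exact PEmpty.elim f₂
    · exact PEmpty.elim f₁
    · exact PEmpty.elim f₁
    · obtain ⟨b, h₁⟩ := f₁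
      obtain ⟨h₂⟩ := f₂
      subst h₂
      cases b
      · show Sd.map (Sd.comp _ _) = Sd.map _ ≫ Sd.map _
        simp [Sd.map, Sd.comp]
      · show Sd.map (Sd.comp _ _) = Sd.map _ ≫ Sd.map _
        simp [Sd.map, Sd.comp]
    · exact PEmpty.elim f₂
    · obtain ⟨h₁⟩ := f₁
      obtain ⟨b, h₂⟩ := f₂
      subst h₁
      cases b
      · show Sd.map (Sd.comp _ _) = Sd.map _ ≫ Sd.map _
        simp [Sd.map, Sd.comp]
      · show Sd.map (Sd.comp _ _) = Sd.map _ ≫ Sd.map _
        simp [Sd.map, Sd.comp]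
    · obtain ⟨h₁⟩ := f₁
      obtain ⟨h₂⟩ := f₂
      subst h₁; subst h₂
      show Sd.map (Sd.comp _ _) = Sd.map _ ≫ Sd.map _
      simp [Sd.map, Sd.comp]

lemma F₀_map_sLeg (g : {a // a ∈ gen}) : (F₀ gen).map (sLeg g) = 𝟙 (src g) := rfl

lemma F₀_map_tLeg (g : {a // a ∈ gen}) : (F₀ gen).map (tLeg g) = arr g :=
  Category.comp_id _


/-! ### Finality -/

abbrev saV (d : I) {x : I} (ψ : d ⟶ x) : StructuredArrow d (F₀ gen) :=
  StructuredArrow.mk (Y := Sd.vert x) ψ

abbrev saE (d : I) (g : {a // a ∈ gen}) (ψ : d ⟶ src g) : StructuredArrow d (F₀ gen) :=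
  StructuredArrow.mk (Y := Sd.edge g) ψ

lemma zig_gen (d : I) (g : {a // a ∈ gen}) (ψ : d ⟶ src g) :
    Zigzag (saV gen d ψ) (saV gen d (ψ ≫ arr g)) :=
  Zigzag.of_inv_hom (j₂ := saE gen d g ψ)
    (StructuredArrow.homMk (sLeg g) (by
      exact Category.comp_id ψ))
    (StructuredArrow.homMk (tLeg g) (by
      exact congrArg (fun t => ψ ≫ t) (Category.comp_id (arr g))))

def PF (d : I) : MorphismProperty I := fun x _ φ =>
  ∀ ψ : d ⟶ x, Zigzag (saV gen d ψ) (saV gen d (ψ ≫ φ))

lemma PF_mult (d : I) : (PF gen d).IsMultiplicative where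
  id_mem X := by
    dsimp only [PF]
    intro ψ
    rw [Category.comp_id]
  comp_mem f g hf hg := by
    dsimp only [PF] at hf hg ⊢
    intro ψ
    rw [← Category.assoc]
    exact (hf ψ).trans (hg (ψ ≫ f))

lemma PF_gen (d : I) : ∀ a ∈ gen, PF gen d a.2.2 := by
  intro a ha
  dsimp only [PF]
  intro ψ
  exact zig_gen gen d ⟨a, ha⟩ ψ

variable {gen} in
lemma zig_base
    (hgen : ∀ P : MorphismProperty I, P.IsMultiplicative → (∀ a ∈ gen, P a.2.2) → P = ⊤)
    (d : I) (j : StructuredArrow d (F₀ gen)) : Zigzag j (saV gen d (𝟙 d)) := by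
  have hP : PF gen d = ⊤ := hgen _ (PF_mult gen d) (PF_gen gen d)
  have key : ∀ {x : I} (φ : d ⟶ x), Zigzag (saV gen d φ) (saV gen d (𝟙 d)) := by
    intro x φ
    have h : PF gen d φ := by rw [hP]; exact MorphismProperty.top_apply φ
    have h' := h (𝟙 d)
    rw [Category.id_comp] at h'
    exact h'.symm
  obtain ⟨a, φ, rfl⟩ : ∃ (a : Sd gen) (φ : d ⟶ (F₀ gen).obj a), j = StructuredArrow.mk φ :=
    ⟨j.right, j.hom, j.eq_mk⟩
  cases a with
  | vert x => exact key φ
  | edge g =>
    have m : saE gen d g φ ⟶ saV gen d (x := src g) φ :=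
      StructuredArrow.homMk (sLeg g) (by
        exact Category.comp_id φ)
    exact (Zigzag.of_hom m).trans (key (x := src g) φ)

variable {gen} in
theorem final_F₀
    (hgen : ∀ P : MorphismProperty I, P.IsMultiplicative → (∀ a ∈ gen, P a.2.2) → P = ⊤) :
    (F₀ gen).Final := by
  refine ⟨fun d => ?_⟩
  have : Nonempty (StructuredArrow d (F₀ gen)) := ⟨saV gen d (𝟙 d)⟩
  exact zigzag_isConnected
    (fun j₁ j₂ => (zig_base hgen d j₁).trans (zig_base hgen d j₂).symm)

/-! ### Initiality -/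

abbrev caV (d : I) {x : I} (ψ : x ⟶ d) : CostructuredArrow (F₀ gen) d :=
  CostructuredArrow.mk (Y := Sd.vert x) ψ

abbrev caE (d : I) (g : {a // a ∈ gen}) (ψ : src g ⟶ d) : CostructuredArrow (F₀ gen) d :=
  CostructuredArrow.mk (Y := Sd.edge g) ψ

lemma cozig_gen (d : I) (g : {a // a ∈ gen}) (ψ : tgt g ⟶ d) :
    Zigzag (caV gen d (arr g ≫ ψ)) (caV gen d ψ) :=
  Zigzag.of_inv_hom (j₂ := caE gen d g (arr g ≫ ψ))
    (CostructuredArrow.homMk (sLeg g) (by
      exact Category.id_comp (arr g ≫ ψ)))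
    (CostructuredArrow.homMk (tLeg g) (by
      exact congrArg (fun t => t ≫ ψ) (Category.comp_id (arr g))))

def PI (d : I) : MorphismProperty I := fun _ y φ =>
  ∀ ψ : y ⟶ d, Zigzag (caV gen d (φ ≫ ψ)) (caV gen d ψ)

lemma PI_mult (d : I) : (PI gen d).IsMultiplicative where
  id_mem X := by
    dsimp only [PI]
    intro ψ
    rw [Category.id_comp]
  comp_mem f g hf hg := by
    dsimp only [PI] at hf hg ⊢
    intro ψ
    rw [Category.assoc]
    exact (hf (g ≫ ψ)).trans (hg ψ)

lemma PI_gen (d : I) : ∀ a ∈ gen, PI gen d a.2.2 := by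
  intro a ha
  dsimp only [PI]
  intro ψ
  exact cozig_gen gen d ⟨a, ha⟩ ψ

variable {gen} in
lemma cozig_base
    (hgen : ∀ P : MorphismProperty I, P.IsMultiplicative → (∀ a ∈ gen, P a.2.2) → P = ⊤)
    (d : I) (j : CostructuredArrow (F₀ gen) d) : Zigzag j (caV gen d (𝟙 d)) := by
  have hP : PI gen d = ⊤ := hgen _ (PI_mult gen d) (PI_gen gen d)
  have key : ∀ {x : I} (φ : x ⟶ d), Zigzag (caV gen d φ) (caV gen d (𝟙 d)) := by
    intro x φ
    have h : PI gen d φ := by rw [hP]; exact MorphismProperty.top_apply φ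
    have h' := h (𝟙 d)
    rw [Category.comp_id] at h'
    exact h'
  obtain ⟨a, φ, rfl⟩ : ∃ (a : Sd gen) (φ : (F₀ gen).obj a ⟶ d), j = CostructuredArrow.mk φ :=
    ⟨j.left, j.hom, j.eq_mk⟩
  cases a with
  | vert x => exact key φ
  | edge g =>
    have m : caE gen d g φ ⟶ caV gen d (x := src g) φ :=
      CostructuredArrow.homMk (sLeg g) (by
        exact Category.id_comp φ)
    exact (Zigzag.of_hom m).trans (key (x := src g) φ)

variable {gen} in
theorem initial_F₀
    (hgen : ∀ P : MorphismProperty I, P.IsMultiplicative → (∀ a ∈ gen, P a.2.2) → P = ⊤) :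
    (F₀ gen).Initial := by
  refine ⟨fun d => ?_⟩
  have : Nonempty (CostructuredArrow (F₀ gen) d) := ⟨caV gen d (𝟙 d)⟩
  exact zigzag_isConnected
    (fun j₁ j₂ => (cozig_base hgen d j₁).trans (cozig_base hgen d j₂).symm)

/-! ### Finiteness and the main statement -/

instance finite_Sd [Finite I] : Finite (Sd gen) :=
  Finite.of_injective
    (fun a : Sd gen => match a with
      | .vert x => (Sum.inl x : I ⊕ {a // a ∈ gen})
      | .edge g => Sum.inr g)
    (by
      rintro (x | g) (y | g') h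
      · simpa using h
      · simp at h
      · simp at h
      · simpa using h)

variable {gen} in
lemma finite_hom : ∀ (a b : Sd gen), Finite (a ⟶ b)
  | .vert x, .vert y => (inferInstance : Finite (EqHom.{max u v} x y))
  | .edge g, .edge g' => (inferInstance : Finite (EqHom.{max u v} g g'))
  | .edge g, .vert x => (inferInstance : Finite (LegHom.{max u v} (src g) (tgt g) x))
  | .vert _, .edge _ => (inferInstance : Finite PEmpty.{max u v + 1})

variable {gen} in
theorem main [Finite I]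
    (hgen : ∀ P : MorphismProperty I, P.IsMultiplicative → (∀ a ∈ gen, P a.2.2) → P = ⊤) :
    ∃ (J : Type) (_ : SmallCategory J) (_ : FinCategory J) (F : J ⥤ I),
      F.Final ∧ F.Initial ∧ (IsConnected J ↔ IsConnected I) ∧ (Nonempty J ↔ Nonempty I) := by
  classical
  letI : Fintype (Sd gen) := Fintype.ofFinite _
  letI : FinCategory (Sd gen) :=
    { fintypeObj := inferInstance
      fintypeHom := fun a b => haveI := finite_hom a b; Fintype.ofFinite _ }
  let e := FinCategory.equivAsType (Sd gen)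
  haveI := final_F₀ hgen
  haveI := initial_F₀ hgen
  haveI : e.functor.Final := Functor.final_of_adjunction e.symm.toAdjunction
  haveI : e.functor.Initial := Functor.initial_of_adjunction e.toAdjunction
  haveI hF : (e.functor ⋙ F₀ gen).Final := inferInstance
  haveI hI : (e.functor ⋙ F₀ gen).Initial := inferInstance
  refine ⟨FinCategory.AsType (Sd gen), FinCategory.categoryAsType (Sd gen),
    FinCategory.asTypeFinCategory (Sd gen), e.functor ⋙ F₀ gen, hF, hI, ?_, ?_⟩
  · exact Functor.isConnected_iff_of_final (e.functor ⋙ F₀ gen)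
  · constructor
    · rintro ⟨j⟩
      exact ⟨(e.functor ⋙ F₀ gen).obj j⟩
    · rintro ⟨i⟩
      exact ⟨e.inverse.obj (Sd.vert i)⟩

end Groth.Agent.Helper6.FinSubdiv
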