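import Mathlib
import Groth.Agent.Lib.Helper6.Flat6

/-!
# Flatness of the cokernel of the differential of a bounded above flat complex with tor
amplitude in `[a, c]`.
-/

set_option autoImplicit false
set_option linter.style.haveILetI false

universe u

open CategoryTheory Category Limits Pretriangulated DerivedCategory ZeroObject TensorProduct
open CochainComplex

attribute [local instance] HasDerivedCategory.standard

namespace Groth.Agent.Helper6.FlatAmp

open Groth.Agent.Helper6.PerfTri Groth.Agent.Helper6.PCm Groth.Agent.Helper6.Perf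

variable {R : Type u} [CommRing R]

local macro "elt_of" e:term : tactic =>
  `(tactic| simpa only [ModuleCat.hom_comp, ModuleCat.hom_add, ModuleCat.hom_sub,
    ModuleCat.hom_neg, ModuleCat.hom_id, ModuleCat.hom_zero, LinearMap.comp_apply,
    LinearMap.add_apply, LinearMap.sub_apply, LinearMap.neg_apply, LinearMap.id_apply,
    LinearMap.zero_apply] using $e)

/-- transfer of flatness of opcycles along a quasi-isomorphism of bounded above complexes of
flat modules. -/
theorem opcycles_flat_transfer (X Y : CochainComplex (ModuleCat.{u} R) ℤ) (h : X ⟶ Y)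
    (hq : IsIso (Q.map h)) (bX bY a : ℤ)
    (hXb : ∀ i : ℤ, bX < i → IsZero (X.X i)) (hXf : ∀ i : ℤ, Module.Flat R (X.X i))
    (hYb : ∀ i : ℤ, bY < i → IsZero (Y.X i)) (hYf : ∀ i : ℤ, Module.Flat R (Y.X i))
    (hop : Module.Flat R (X.opcycles a)) : Module.Flat R (Y.opcycles a) := by
  have hZ0 : IsZero (Q.obj (mappingCone h)) :=
    (Triangle.isZero₃_iff_isIso₁ _ (mappingCone_triangle_distinguished h)).2 hq
  have hZac : ∀ i : ℤ, IsZero ((mappingCone h).homology i) := fun i =>
    IsZero.of_iso (Functor.map_isZero (homologyFunctor (ModuleCat.{u} R) i) hZ0)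
      ((homologyFunctorFactors (ModuleCat.{u} R) i).app _).symm
  have hZb : ∀ i : ℤ, max bX bY < i → IsZero ((mappingCone h).X i) :=
    fun i hi => cone_isZero h i (hXb _ (by omega)) (hYb _ (by omega))
  have hZf : ∀ i : ℤ, Module.Flat R ((mappingCone h).X i) := fun i => by
    haveI := hXf (i + 1)
    haveI := hYf i
    haveI : Module.Flat R (X.X (i + 1) × Y.X i) := flat_prod _ _
    exact Module.Flat.of_linearEquiv (coneEquiv h i)
  haveI hcyc : Module.Flat R ((mappingCone h).cycles (a + 1)) := by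
    have h0 := Int.self_le_toNat (max bX bY - (a + 1) + 1)
    exact cycles_flat _ (max bX bY) hZb (a + 1) (fun i _ => hZf i) (fun i _ => hZac i)
      (max bX bY - (a + 1) + 1).toNat (a + 1) le_rfl (by omega)
  haveI := isIso_opcyclesToCycles (mappingCone h) a (a + 1) rfl (hZac _) (hZac _)
  haveI hopZ : Module.Flat R ((mappingCone h).opcycles a) :=
    Module.Flat.of_linearEquiv
      (asIso ((mappingCone h).opcyclesToCycles a (a + 1))).toLinearEquiv
  obtain ⟨fstA, hfstA⟩ : ∃ φ : (mappingCone h).X a ⟶ X.X (a + 1),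
      φ = (mappingCone.fst h).1.v a (a + 1) rfl := ⟨_, rfl⟩
  obtain ⟨sndA, hsndA⟩ : ∃ φ : (mappingCone h).X a ⟶ Y.X a,
      φ = (mappingCone.snd h).v a a (add_zero a) := ⟨_, rfl⟩
  obtain ⟨inlA, hinlA⟩ : ∃ φ : X.X (a + 1) ⟶ (mappingCone h).X a,
      φ = (mappingCone.inl h).v (a + 1) a (by omega) := ⟨_, rfl⟩
  obtain ⟨inrA, hinrA⟩ : ∃ φ : Y.X a ⟶ (mappingCone h).X a,
      φ = (mappingCone.inr h).f a := ⟨_, rfl⟩
  obtain ⟨fstB, hfstB⟩ : ∃ φ : (mappingCone h).X (a - 1) ⟶ X.X a,
      φ = (mappingCone.fst h).1.v (a - 1) a (by omega) := ⟨_, rfl⟩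
  obtain ⟨sndB, hsndB⟩ : ∃ φ : (mappingCone h).X (a - 1) ⟶ Y.X (a - 1),
      φ = (mappingCone.snd h).v (a - 1) (a - 1) (add_zero _) := ⟨_, rfl⟩
  obtain ⟨inlB, hinlB⟩ : ∃ φ : X.X a ⟶ (mappingCone h).X (a - 1),
      φ = (mappingCone.inl h).v a (a - 1) (by omega) := ⟨_, rfl⟩
  obtain ⟨inrB, hinrB⟩ : ∃ φ : Y.X (a - 1) ⟶ (mappingCone h).X (a - 1),
      φ = (mappingCone.inr h).f (a - 1) := ⟨_, rfl⟩
  obtain ⟨fstC, hfstC⟩ : ∃ φ : (mappingCone h).X (a - 1 - 1) ⟶ X.X (a - 1),
      φ = (mappingCone.fst h).1.v (a - 1 - 1) (a - 1) (by omega) := ⟨_, rfl⟩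
  have idA : fstA ≫ inlA + sndA ≫ inrA = 𝟙 _ := by
    rw [hfstA, hinlA, hsndA, hinrA]
    exact mappingCone.id_X h a (a + 1) rfl
  have dfst : (mappingCone h).d (a - 1) a ≫ fstA = -(fstB ≫ X.d a (a + 1)) := by
    rw [hfstA, hfstB]
    exact mappingCone.d_fst_v h (a - 1) a (a + 1) (by omega) rfl
  have dfst' : (mappingCone h).d (a - 1 - 1) (a - 1) ≫ fstB = -(fstC ≫ X.d (a - 1) a) := by
    rw [hfstB, hfstC]
    exact mappingCone.d_fst_v h (a - 1 - 1) (a - 1) a (by omega) (by omega)
  have dsnd : (mappingCone h).d (a - 1) a ≫ sndA =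
      fstB ≫ h.f a + sndB ≫ Y.d (a - 1) a := by
    rw [hsndA, hfstB, hsndB]
    exact mappingCone.d_snd_v h (a - 1) a (by omega)
  have inld : inlB ≫ (mappingCone h).d (a - 1) a =
      h.f a ≫ inrA - X.d a (a + 1) ≫ inlA := by
    rw [hinlB, hinrA, hinlA]
    exact mappingCone.inl_v_d h a (a - 1) (a + 1) (by omega) (by omega)
  have inrd : inrB ≫ (mappingCone h).d (a - 1) a = Y.d (a - 1) a ≫ inrA := by
    rw [hinrB, hinrA]
    exact (mappingCone.inr h).comm (a - 1) a
  have inrfst : inrA ≫ fstA = 0 := by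
    rw [hinrA, hfstA]
    exact mappingCone.inr_f_fst_v h a (a + 1) rfl
  have inrfstB : inrB ≫ fstB = 0 := by
    rw [hinrB, hfstB]
    exact mappingCone.inr_f_fst_v h (a - 1) a (by omega)
  have inrsnd : inrA ≫ sndA = 𝟙 _ := by
    rw [hinrA, hsndA]
    exact mappingCone.inr_f_snd_v h a
  have inlfst : inlA ≫ fstA = 𝟙 _ := by
    rw [hinlA, hfstA]
    exact mappingCone.inl_v_fst_v h (a + 1) a rfl
  have inlfstB : inlB ≫ fstB = 𝟙 _ := by
    rw [hinlB, hfstB]
    exact mappingCone.inl_v_fst_v h a (a - 1) (by omega)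
  have inlsnd : inlA ≫ sndA = 0 := by
    rw [hinlA, hsndA]
    exact mappingCone.inl_v_snd_v h (a + 1) a (by omega)
  obtain ⟨ι, hι⟩ : ∃ ι : Y.opcycles a ⟶ (mappingCone h).opcycles a,
      Y.pOpcycles a ≫ ι = inrA ≫ (mappingCone h).pOpcycles a :=
    ⟨HomologicalComplex.opcyclesMap (mappingCone.inr h) a, by
      rw [hinrA]
      exact HomologicalComplex.p_opcyclesMap _ _⟩
  obtain ⟨σ, hσ⟩ : ∃ σ : X.opcycles a ⟶ X.X (a + 1),
      X.pOpcycles a ≫ σ = X.d a (a + 1) :=
    ⟨X.fromOpcycles a (a + 1), X.p_fromOpcycles a (a + 1)⟩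
  obtain ⟨φ, hφ⟩ : ∃ φ : X.opcycles a ⟶ Y.opcycles a,
      X.pOpcycles a ≫ φ = h.f a ≫ Y.pOpcycles a :=
    ⟨HomologicalComplex.opcyclesMap h a, HomologicalComplex.p_opcyclesMap _ _⟩
  -- elementwise versions
  have E1 : ∀ z : (mappingCone h).X a, inlA.hom (fstA.hom z) + inrA.hom (sndA.hom z) = z :=
    fun z => by elt_of hom_apply_of_eq idA z
  have E2 : ∀ w : (mappingCone h).X (a - 1), fstA.hom (((mappingCone h).d (a - 1) a).hom w) =
      -((X.d a (a + 1)).hom (fstB.hom w)) := fun w => by elt_of hom_apply_of_eq dfst w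
  have E2' : ∀ v : (mappingCone h).X (a - 1 - 1),
      fstB.hom (((mappingCone h).d (a - 1 - 1) (a - 1)).hom v) =
      -((X.d (a - 1) a).hom (fstC.hom v)) := fun v => by elt_of hom_apply_of_eq dfst' v
  have E3 : ∀ w : (mappingCone h).X (a - 1), sndA.hom (((mappingCone h).d (a - 1) a).hom w) =
      (h.f a).hom (fstB.hom w) + (Y.d (a - 1) a).hom (sndB.hom w) :=
    fun w => by elt_of hom_apply_of_eq dsnd w
  have E4 : ∀ x : X.X a, ((mappingCone h).d (a - 1) a).hom (inlB.hom x) =
      inrA.hom ((h.f a).hom x) - inlA.hom ((X.d a (a + 1)).hom x) :=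
    fun x => by elt_of hom_apply_of_eq inld x
  have E5 : ∀ y : Y.X a, fstA.hom (inrA.hom y) = 0 := fun y => by elt_of hom_apply_of_eq inrfst y
  have E5' : ∀ y : Y.X (a - 1), fstB.hom (inrB.hom y) = 0 :=
    fun y => by elt_of hom_apply_of_eq inrfstB y
  have E6 : ∀ y : Y.X a, sndA.hom (inrA.hom y) = y := fun y => by elt_of hom_apply_of_eq inrsnd y
  have E7 : ∀ y : Y.X (a - 1), ((mappingCone h).d (a - 1) a).hom (inrB.hom y) =
      inrA.hom ((Y.d (a - 1) a).hom y) := fun y => by elt_of hom_apply_of_eq inrd y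
  have E9 : ∀ w : (mappingCone h).X (a - 1),
      ((mappingCone h).pOpcycles a).hom (((mappingCone h).d (a - 1) a).hom w) = 0 :=
    fun w => by elt_of hom_apply_of_eq ((mappingCone h).d_pOpcycles (a - 1) a) w
  have E9Y : ∀ y : Y.X (a - 1), (Y.pOpcycles a).hom ((Y.d (a - 1) a).hom y) = 0 :=
    fun y => by elt_of hom_apply_of_eq (Y.d_pOpcycles (a - 1) a) y
  have E10 : ∀ x : X.X (a + 1), fstA.hom (inlA.hom x) = x :=
    fun x => by elt_of hom_apply_of_eq inlfst x
  have E10' : ∀ x : X.X a, fstB.hom (inlB.hom x) = x :=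
    fun x => by elt_of hom_apply_of_eq inlfstB x
  have E11 : ∀ x : X.X (a + 1), sndA.hom (inlA.hom x) = 0 :=
    fun x => by elt_of hom_apply_of_eq inlsnd x
  have Eι : ∀ y : Y.X a, ι.hom ((Y.pOpcycles a).hom y) =
      ((mappingCone h).pOpcycles a).hom (inrA.hom y) := fun y => by elt_of hom_apply_of_eq hι y
  have Eσ : ∀ x : X.X a, σ.hom ((X.pOpcycles a).hom x) = (X.d a (a + 1)).hom x :=
    fun x => by elt_of hom_apply_of_eq hσ x
  have Eφ : ∀ x : X.X a, φ.hom ((X.pOpcycles a).hom x) =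
      (Y.pOpcycles a).hom ((h.f a).hom x) := fun x => by elt_of hom_apply_of_eq hφ x
  have spX : Function.Surjective (X.pOpcycles a).hom :=
    (ModuleCat.epi_iff_surjective _).1 inferInstance
  have spY : Function.Surjective (Y.pOpcycles a).hom :=
    (ModuleCat.epi_iff_surjective _).1 inferInstance
  have spZ : Function.Surjective ((mappingCone h).pOpcycles a).hom :=
    (ModuleCat.epi_iff_surjective _).1 inferInstance
  have kX := range_d_eq_ker_pOpcycles X (a - 1) a (by omega)
  have kY := range_d_eq_ker_pOpcycles Y (a - 1) a (by omega)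
  have kZ := range_d_eq_ker_pOpcycles (mappingCone h) (a - 1) a (by omega)
  have exZ : LinearMap.range ((mappingCone h).d (a - 1 - 1) (a - 1)).hom =
      LinearMap.ker ((mappingCone h).d (a - 1) a).hom := by
    have hex := (HomologicalComplex.exactAt_iff_isZero_homology (mappingCone h) (a - 1)).2
      (hZac _)
    have := (HomologicalComplex.exactAt_iff' (mappingCone h) (a - 1 - 1) (a - 1) a (by simp)
      (by simp)).1 hex
    exact this.moduleCat_range_eq_ker
  obtain ⟨i, hi1, hi2⟩ : ∃ i : X.opcycles a →ₗ[R] (X.X (a + 1) × Y.opcycles a),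
      (∀ t, (i t).1 = -(σ.hom t)) ∧ (∀ t, (i t).2 = φ.hom t) :=
    ⟨LinearMap.prod (-σ.hom) φ.hom, fun t => rfl, fun t => rfl⟩
  obtain ⟨p, hp⟩ : ∃ p : (X.X (a + 1) × Y.opcycles a) →ₗ[R] (mappingCone h).opcycles a,
      ∀ x' u, p (x', u) = ((mappingCone h).pOpcycles a).hom (inlA.hom x') + ι.hom u :=
    ⟨LinearMap.coprod (((mappingCone h).pOpcycles a).hom ∘ₗ inlA.hom) ι.hom, fun x' u => rfl⟩
  haveI := hop
  have hM : Module.Flat R (X.X (a + 1) × Y.opcycles a) := by
    refine flat_of_ses_mid i p ?_ ?_ ?_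
    · rw [injective_iff_map_eq_zero]
      intro t ht
      obtain ⟨x, rfl⟩ := spX t
      have h1 : (X.d a (a + 1)).hom x = 0 := by
        have := congrArg Prod.fst ht
        rw [hi1, Eσ, Prod.fst_zero] at this
        exact neg_eq_zero.1 this
      have h2 : (Y.pOpcycles a).hom ((h.f a).hom x) = 0 := by
        have := congrArg Prod.snd ht
        rw [hi2, Eφ, Prod.snd_zero] at this
        exact this
      obtain ⟨y', hy'⟩ := LinearMap.mem_range.1
        (by rw [kY]; exact LinearMap.mem_ker.2 h2 :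
          (h.f a).hom x ∈ LinearMap.range (Y.d (a - 1) a).hom)
      have hw0 : ((mappingCone h).d (a - 1) a).hom (inlB.hom x - inrB.hom y') = 0 := by
        rw [map_sub, E4, E7, h1, map_zero, sub_zero, hy', sub_self]
      obtain ⟨v, hv⟩ := LinearMap.mem_range.1
        (by rw [exZ]; exact LinearMap.mem_ker.2 hw0 :
          inlB.hom x - inrB.hom y' ∈
            LinearMap.range ((mappingCone h).d (a - 1 - 1) (a - 1)).hom)
      have hx : x = (X.d (a - 1) a).hom (-(fstC.hom v)) := by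
        have := E2' v
        rw [hv, map_sub, E10', E5', sub_zero] at this
        rw [map_neg]
        exact this
      have hmem : x ∈ LinearMap.ker (X.pOpcycles a).hom := by
        rw [← kX]
        exact LinearMap.mem_range.2 ⟨_, hx.symm⟩
      exact LinearMap.mem_ker.1 hmem
    · intro t
      obtain ⟨z, rfl⟩ := spZ t
      refine ⟨(fstA.hom z, (Y.pOpcycles a).hom (sndA.hom z)), ?_⟩
      rw [hp, Eι, ← map_add, E1]
    · intro m
      constructor
      · intro hm
        obtain ⟨x', u⟩ := m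
        obtain ⟨y, rfl⟩ := spY u
        rw [hp, Eι, ← map_add] at hm
        obtain ⟨w, hw'⟩ := LinearMap.mem_range.1
          (by rw [kZ]; exact LinearMap.mem_ker.2 hm :
            inlA.hom x' + inrA.hom y ∈ LinearMap.range ((mappingCone h).d (a - 1) a).hom)
        have e2 : x' = -((X.d a (a + 1)).hom (fstB.hom w)) := by
          have := E2 w
          rw [hw', map_add, E10, E5, add_zero] at this
          exact this
        have e3 : y = (h.f a).hom (fstB.hom w) + (Y.d (a - 1) a).hom (sndB.hom w) := by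
          have := E3 w
          rw [hw', map_add, E11, E6, zero_add] at this
          exact this
        refine ⟨(X.pOpcycles a).hom (fstB.hom w), ?_⟩
        refine Prod.ext ?_ ?_
        · rw [hi1, Eσ, e2]
        · rw [hi2, Eφ, e3, map_add, E9Y, add_zero]
      · rintro ⟨t, rfl⟩
        obtain ⟨x, rfl⟩ := spX t
        have e : i ((X.pOpcycles a).hom x) =
            (-((X.d a (a + 1)).hom x), (Y.pOpcycles a).hom ((h.f a).hom x)) :=
          Prod.ext (by rw [hi1, Eσ]) (by rw [hi2, Eφ])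
        rw [e, hp, Eι, map_neg, map_neg, ← sub_eq_neg_add, ← map_sub, ← E4, E9]
  exact Module.Flat.of_retract (LinearMap.inr R (X.X (a + 1)) (Y.opcycles a))
    (LinearMap.snd R (X.X (a + 1)) (Y.opcycles a)) (LinearMap.ext fun x => rfl)

/-- the cokernel of the differential `K^(a-1) → K^a` of a bounded above complex of flat
modules with tor amplitude in `[a, c]` is flat. -/
theorem flat_quot_of_FA (K : CochainComplex (ModuleCat.{u} R) ℤ) (b : ℤ)
    (hb : ∀ i : ℤ, b < i → IsZero (K.X i)) (hflat : ∀ i : ℤ, Module.Flat R (K.X i)) (a c : ℤ)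
    (hamp : FA a c (Q.obj K)) :
    Module.Flat R ((K.X a) ⧸ LinearMap.range (K.d (a - 1) a).hom) := by
  obtain ⟨P, ⟨bP, hPb, hPp⟩, ⟨eP⟩⟩ := rep_BP_of_bounded (Q.obj K) a c
    (fun i hi => homology_isZero_of_FA hamp i hi)
  obtain ⟨_, hopP⟩ := criterion_of_FA hamp P bP hPb hPp eP
  haveI := kproj_of_bdd P bP hPb hPp
  obtain ⟨f, hf⟩ := lift_of_kproj eP.hom
  have hq : IsIso (Q.map f) := by
    rw [hf]
    infer_instance
  haveI hK : Module.Flat R (K.opcycles a) :=
    opcycles_flat_transfer P K f hq bP b a hPb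
      (fun i => by haveI := hPp i; exact Module.Flat.of_projective) hb hflat hopP
  have hsurj : Function.Surjective (K.pOpcycles a).hom :=
    (ModuleCat.epi_iff_surjective _).1 inferInstance
  have hker := range_d_eq_ker_pOpcycles K (a - 1) a (by omega)
  exact Module.Flat.of_linearEquiv ((Submodule.quotEquivOfEq _ _ hker).trans
    ((K.pOpcycles a).hom.quotKerEquivOfSurjective hsurj))

end Groth.Agent.Helper6.FlatAmp
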