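import Mathlib
import Groth.Agent.Lib.Helper6.Flat7

/-!
# Tor amplitude of modules of finite projective dimension.
-/

set_option autoImplicit false
set_option linter.style.haveILetI false

universe u

open CategoryTheory Category Limits Pretriangulated DerivedCategory ZeroObject

attribute [local instance] HasDerivedCategory.standard

namespace Groth.Agent.Helper6.FlatAmp

variable {R : Type u} [CommRing R]

lemma FA_mono {a b a' b' : ℤ} {K : DerivedCategory (ModuleCat.{u} R)} (h : FA a b K)
    (ha : a' ≤ a) (hb : b ≤ b') : FA a' b' K := by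
  obtain ⟨E, h0, hf, e⟩ := h
  exact ⟨E, fun i hi => h0 i (hi.elim (fun h => Or.inl (by omega)) (fun h => Or.inr (by omega))),
    hf, e⟩

lemma FA_single_of_flat (M : ModuleCat.{u} R) (hM : Module.Flat R M) :
    FA 0 0 ((singleFunctor (ModuleCat.{u} R) 0).obj M) := by
  refine ⟨(CochainComplex.singleFunctor (ModuleCat.{u} R) 0).obj M, fun i hi => ?_, fun i => ?_,
    ⟨((singleFunctorIsoCompQ (ModuleCat.{u} R) 0).app M).symm⟩⟩
  · exact HomologicalComplex.isZero_single_obj_X (ComplexShape.up ℤ) 0 M i
      (by rcases hi with h | h <;> omega)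
  · by_cases hi : i = 0
    · subst hi
      exact Module.Flat.of_linearEquiv
        (HomologicalComplex.singleObjXSelf (ComplexShape.up ℤ) 0 M).toLinearEquiv
    · exact flat_zero _ (HomologicalComplex.isZero_single_obj_X (ComplexShape.up ℤ) 0 M i hi)

/-- a module of projective dimension `≤ d` has tor amplitude in `[-d, 0]`. -/
theorem FA_single_of_projDim (d : ℕ) : ∀ (M : ModuleCat.{u} R),
    HasProjectiveDimensionLT M (d + 1) →
    FA (-(d : ℤ)) 0 ((singleFunctor (ModuleCat.{u} R) 0).obj M) := by
  induction d with
  | zero =>
    intro M hM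
    haveI : Projective M := projective_iff_hasProjectiveDimensionLT_one.2 hM
    haveI : Module.Projective R M := inferInstance
    exact FA_mono (FA_single_of_flat M Module.Flat.of_projective) (by simp) le_rfl
  | succ d ih =>
    intro M hM
    let S : ShortComplex (ModuleCat.{u} R) :=
      ShortComplex.mk (kernel.ι (Projective.π M)) (Projective.π M) (kernel.condition _)
    have hS : S.ShortExact :=
      { exact := ShortComplex.exact_of_f_is_kernel _ (kernelIsKernel (Projective.π M))
        mono_f := inferInstanceAs (Mono (kernel.ι (Projective.π M)))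
        epi_g := inferInstanceAs (Epi (Projective.π M)) }
    have hP : Projective S.X₂ := inferInstanceAs (Projective (Projective.over M))
    have hK : HasProjectiveDimensionLT S.X₁ (d + 1) :=
      (hS.hasProjectiveDimensionLT_X₃_iff d hP).1 hM
    have h1 := ih S.X₁ hK
    haveI : Module.Projective R S.X₂ := inferInstance
    have h2 : FA 0 0 ((singleFunctor (ModuleCat.{u} R) 0).obj S.X₂) :=
      FA_single_of_flat S.X₂ Module.Flat.of_projective
    have hT := hS.singleTriangle_distinguished
    exact (FA_two_of_three (-((d + 1 : ℕ) : ℤ)) 0 _ hT).1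
      (FA_mono h1 (by push_cast; omega) (by omega)) (FA_mono h2 (by push_cast; omega) le_rfl)

/-- over a ring of global dimension `≤ d`, bounded cohomology in `[a, b]` gives tor amplitude
in `[a - d, b]`. -/
theorem FA_of_bounded_of_projDim (d : ℕ)
    (hgl : ∀ M : ModuleCat.{u} R, HasProjectiveDimensionLT M (d + 1))
    (K : DerivedCategory (ModuleCat.{u} R)) (a b : ℤ)
    (hK : ∀ i : ℤ, i < a ∨ b < i → IsZero ((homologyFunctor (ModuleCat.{u} R) i).obj K)) :
    FA (a - d) b K := by
  refine FA_of_homology (a - d) b K a b hK (fun i => ?_)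
  by_cases hi : i < a ∨ b < i
  · exact FA_of_isZero _ _ _ (Functor.map_isZero _ (hK i hi))
  · exact FA_mono (FA_single_of_projDim d _ (hgl _)) (by omega) (by omega)

end Groth.Agent.Helper6.FlatAmp
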