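import Mathlib

/-! Geometrically reduced schemes over a field: products with arbitrary reduced schemes are
reduced (no Noetherian hypothesis). -/

set_option autoImplicit false

open CategoryTheory CategoryTheory.Limits AlgebraicGeometry TensorProduct

universe u

namespace Groth.Agent.Helper6

/-- If `A ⊗[k] C` is reduced for all finitely generated subalgebras `C` of `B`, then
`A ⊗[k] B` is reduced (`k` a field). -/
lemma isReduced_tensorProduct_of_forall_fg {k A B : Type*} [Field k] [CommRing A] [CommRing B]
    [Algebra k A] [Algebra k B]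
    (h : ∀ C : Subalgebra k B, C.FG → IsReduced (A ⊗[k] C)) : IsReduced (A ⊗[k] B) := by
  constructor
  intro z hz
  obtain ⟨C, hC, hzC⟩ := exists_fg_and_mem_baseChange (R := k) (A := A) (B := B) z
  obtain ⟨z₀, rfl⟩ := hzC
  have hred := h C hC
  have hinj : Function.Injective (Algebra.TensorProduct.map (AlgHom.id A A) C.val) := by
    have h1 : Function.Injective (LinearMap.lTensor A C.val.toLinearMap) :=
      Module.Flat.lTensor_preserves_injective_linearMap _ Subtype.val_injective
    have h2 : ∀ w, Algebra.TensorProduct.map (AlgHom.id A A) C.val w =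
        LinearMap.lTensor A C.val.toLinearMap w := by
      intro w
      induction w using TensorProduct.induction_on with
      | zero => simp
      | tmul a c => simp
      | add x y hx hy => simp only [map_add, hx, hy]
    intro a b hab
    apply h1
    rw [← h2, ← h2]
    exact hab
  obtain ⟨n, hn⟩ := hz
  have hz₀ : IsNilpotent z₀ := by
    refine ⟨n, hinj ?_⟩
    rw [map_pow, map_zero]
    exact hn
  have : z₀ = 0 := hred.eq_zero z₀ hz₀
  rw [this, map_zero]

/-- Precomposing a geometrically reduced morphism with an open immersion gives a geometrically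
reduced morphism. -/
lemma geometricallyReduced_comp_of_isOpenImmersion {U X Y : Scheme.{u}} (i : U ⟶ X) (f : X ⟶ Y)
    [IsOpenImmersion i] [GeometricallyReduced f] : GeometricallyReduced (i ≫ f) := by
  refine ⟨geometrically_iff_of_isClosedUnderIsomorphisms.mpr fun K _ y => ?_⟩
  have hX : IsReduced (pullback f y) :=
    pullback_of_geometrically (GeometricallyReduced.geometrically_isReduced (f := f)) K y
  have hW : IsReduced (pullback i (pullback.fst f y)) :=
    isReduced_of_isOpenImmersion (pullback.snd i (pullback.fst f y))
  exact isReduced_of_isOpenImmersion (pullbackRightPullbackFstIso f y i).inv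

/-- The affine case. -/
lemma isReduced_pullback_Spec_of_geometricallyReduced {k : Type u} [Field k]
    {A B : Type u} [CommRing A] [CommRing B] [Algebra k A] [Algebra k B]
    [GeometricallyReduced (Spec.map (CommRingCat.ofHom (algebraMap k A)))] [IsReduced B] :
    IsReduced (A ⊗[k] B) := by
  apply isReduced_tensorProduct_of_forall_fg
  intro C hC
  haveI : Algebra.FiniteType k C := (Subalgebra.fg_iff_finiteType C).mp hC
  haveI : IsNoetherianRing C := Algebra.FiniteType.isNoetherianRing k C
  haveI : IsReduced C := isReduced_of_injective C.val.toRingHom Subtype.val_injective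
  haveI : IsReduced (Spec (CommRingCat.of C)) := (affine_isReduced_iff _).mpr ‹_›
  haveI : IsReduced (pullback (Spec.map (CommRingCat.ofHom (algebraMap k A)))
      (Spec.map (CommRingCat.ofHom (algebraMap k C)))) := inferInstance
  haveI : IsReduced (Spec (CommRingCat.of (A ⊗[k] C))) :=
    isReduced_of_isOpenImmersion (pullbackSpecIso k A C).inv
  exact (affine_isReduced_iff (CommRingCat.of (A ⊗[k] C))).mp ‹_›

/-- `Spec.map` version of the affine case. -/
lemma isReduced_pullback_SpecMap_of_geometricallyReduced {k : Type u} [Field k]
    {A B : CommRingCat.{u}} (φ : CommRingCat.of k ⟶ A) (ψ : CommRingCat.of k ⟶ B)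
    [GeometricallyReduced (Spec.map φ)] [_root_.IsReduced B] :
    IsReduced (pullback (Spec.map φ) (Spec.map ψ)) := by
  letI := φ.hom.toAlgebra
  letI := ψ.hom.toAlgebra
  have h1 : CommRingCat.ofHom (algebraMap k A) = φ := rfl
  have h2 : CommRingCat.ofHom (algebraMap k B) = ψ := rfl
  haveI : GeometricallyReduced (Spec.map (CommRingCat.ofHom (algebraMap k A))) := by
    rw [h1]; infer_instance
  haveI : _root_.IsReduced (A ⊗[k] B) := isReduced_pullback_Spec_of_geometricallyReduced
  haveI : IsReduced (Spec (CommRingCat.of (A ⊗[k] B))) := (affine_isReduced_iff _).mpr ‹_›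
  have := isReduced_of_isOpenImmersion (pullbackSpecIso k A B).hom
  rwa [h1, h2] at this

/-- The case of affine schemes over a field. -/
lemma isReduced_pullback_of_isAffine_of_geometricallyReduced {k : Type u} [Field k]
    {U V : Scheme.{u}} [IsAffine U] [IsAffine V]
    (f : U ⟶ Spec (CommRingCat.of k)) (g : V ⟶ Spec (CommRingCat.of k))
    [GeometricallyReduced f] [IsReduced V] : IsReduced (pullback f g) := by
  haveI : GeometricallyReduced (U.isoSpec.inv ≫ f) :=
    geometricallyReduced_comp_of_isOpenImmersion _ _
  obtain ⟨φ, hφ⟩ := Spec.map_surjective (U.isoSpec.inv ≫ f)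
  obtain ⟨ψ, hψ⟩ := Spec.map_surjective (V.isoSpec.inv ≫ g)
  haveI : GeometricallyReduced (Spec.map φ) := by rw [hφ]; infer_instance
  haveI : IsReduced (pullback (Spec.map φ) (Spec.map ψ)) :=
    isReduced_pullback_SpecMap_of_geometricallyReduced φ ψ
  let e : pullback f g ⟶ pullback (Spec.map φ) (Spec.map ψ) :=
    pullback.map f g (Spec.map φ) (Spec.map ψ) U.isoSpec.hom V.isoSpec.hom (𝟙 _)
      (by rw [hφ]; simp) (by rw [hψ]; simp)
  haveI : IsIso e := by
    dsimp only [e]; infer_instance
  exact isReduced_of_isOpenImmersion e

/-- If `X` is geometrically reduced over a field `k` and `S` is any reduced `k`-scheme, then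
`X ×ₖ S` is reduced. -/
theorem isReduced_pullback_of_geometricallyReduced_field {k : Type u} [Field k] {X S : Scheme.{u}}
    (f : X ⟶ Spec (CommRingCat.of k)) (g : S ⟶ Spec (CommRingCat.of k)) [GeometricallyReduced f]
    [IsReduced S] : IsReduced (pullback f g) := by
  apply +allowSynthFailures @IsReduced.of_openCover
    (𝒰 := Scheme.Pullback.openCoverOfLeftRight X.affineCover S.affineCover f g)
  rintro ⟨i, j⟩
  haveI : GeometricallyReduced (X.affineCover.f i ≫ f) :=
    geometricallyReduced_comp_of_isOpenImmersion _ _
  haveI : IsReduced (S.affineCover.X j) := isReduced_of_isOpenImmersion (S.affineCover.f j)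
  exact isReduced_pullback_of_isAffine_of_geometricallyReduced
    (X.affineCover.f i ≫ f) (S.affineCover.f j ≫ g)

end Groth.Agent.Helper6
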