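import Mathlib
import Groth.Prelude.Def_NCTr

set_option autoImplicit false

namespace Groth.Agent.Helper6.HSTrace

open NCTr

lemma mk_comm {A : Type*} [Ring A] (a b : A) :
    (QuotientAddGroup.mk (a * b) : Abel A) = QuotientAddGroup.mk (b * a) := by
  rw [QuotientAddGroup.eq]
  have h : -(a * b) + b * a = b * a - a * b := by abel
  rw [h]
  exact AddSubgroup.subset_closure ⟨b, a, rfl⟩

lemma hsTrace_indep {A E κ κ' : Type*} [Ring A] [AddCommGroup E] [Module A E]
    [Fintype κ] [Fintype κ']
    (c : Module.Basis κ A E) (c' : Module.Basis κ' A E) (u : E →ₗ[A] E) :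
    hsTrace c' u = hsTrace c u := by
  classical
  let π : A →+ Abel A := QuotientAddGroup.mk' _
  have hπ : ∀ a b, π (a * b) = π (b * a) := fun a b => mk_comm a b
  have F1 : ∀ (x : E) (l : κ), c.repr x l = ∑ i, c'.repr x i * c.repr (c' i) l := by
    intro x l
    calc c.repr x l = c.repr (∑ i, c'.repr x i • c' i) l := by rw [c'.sum_repr]
      _ = ∑ i, c'.repr x i * c.repr (c' i) l := by
        rw [map_sum, Finsupp.finsetSum_apply]
        refine Finset.sum_congr rfl (fun i _ => ?_)
        rw [map_smul, Finsupp.smul_apply, smul_eq_mul]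
  have F1' : ∀ (x : E) (j : κ'), c'.repr x j = ∑ k, c.repr x k * c'.repr (c k) j := by
    intro x j
    calc c'.repr x j = c'.repr (∑ k, c.repr x k • c k) j := by rw [c.sum_repr]
      _ = ∑ k, c.repr x k * c'.repr (c k) j := by
        rw [map_sum, Finsupp.finsetSum_apply]
        refine Finset.sum_congr rfl (fun i _ => ?_)
        rw [map_smul, Finsupp.smul_apply, smul_eq_mul]
  have F3 : ∀ l k : κ, ∑ i, c'.repr (c l) i * c.repr (c' i) k = if l = k then 1 else 0 := by
    intro l k
    rw [← F1 (c l) k, c.repr_self, Finsupp.single_apply]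
  have F2 : ∀ i j, c'.repr (u (c' i)) j =
      ∑ k, ∑ l, c.repr (c' i) k * (c.repr (u (c k)) l * c'.repr (c l) j) := by
    intro i j
    have h1 : u (c' i) = ∑ k, c.repr (c' i) k • u (c k) := by
      calc u (c' i) = u (∑ k, c.repr (c' i) k • c k) := by rw [c.sum_repr]
        _ = ∑ k, c.repr (c' i) k • u (c k) := by
          rw [map_sum]
          exact Finset.sum_congr rfl (fun k _ => map_smul _ _ _)
    rw [h1, map_sum, Finsupp.finsetSum_apply]
    refine Finset.sum_congr rfl (fun k _ => ?_)
    rw [map_smul, Finsupp.smul_apply, smul_eq_mul, F1' (u (c k)) j, Finset.mul_sum]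
  show ∑ i, π (c'.repr (u (c' i)) i) = ∑ k, π (c.repr (u (c k)) k)
  calc ∑ i, π (c'.repr (u (c' i)) i)
      = ∑ i, ∑ k, ∑ l, π (c.repr (c' i) k * (c.repr (u (c k)) l * c'.repr (c l) i)) := by
        simp_rw [F2, map_sum]
    _ = ∑ i, ∑ k, ∑ l, π ((c.repr (u (c k)) l * c'.repr (c l) i) * c.repr (c' i) k) :=
        Finset.sum_congr rfl (fun i _ => Finset.sum_congr rfl (fun k _ =>
          Finset.sum_congr rfl (fun l _ => hπ _ _)))
    _ = ∑ k, ∑ l, ∑ i, π (c.repr (u (c k)) l * (c'.repr (c l) i * c.repr (c' i) k)) := by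
        rw [Finset.sum_comm]
        refine Finset.sum_congr rfl (fun k _ => ?_)
        rw [Finset.sum_comm]
        exact Finset.sum_congr rfl (fun l _ => Finset.sum_congr rfl (fun i _ => by
          rw [mul_assoc]))
    _ = ∑ k, ∑ l, π (c.repr (u (c k)) l * (if l = k then 1 else 0)) := by
        refine Finset.sum_congr rfl (fun k _ => Finset.sum_congr rfl (fun l _ => ?_))
        rw [← map_sum, ← Finset.mul_sum, F3]
    _ = ∑ k, π (c.repr (u (c k)) k) := by
        refine Finset.sum_congr rfl (fun k _ => ?_)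
        rw [Finset.sum_eq_single k]
        · simp
        · intro l _ hl
          simp [hl]
        · intro h
          exact absurd (Finset.mem_univ k) h

theorem main (Λ : Type*) [Ring Λ] (G : Type*) [Group G] [Fintype G]
    (P : Type*) [AddCommGroup P] [Module Λ P] [Module (MonoidAlgebra Λ G) P]
    [IsScalarTower Λ (MonoidAlgebra Λ G) P]
    {ι κ : Type*} [Fintype ι] [Fintype κ]
    (b : Module.Basis ι (MonoidAlgebra Λ G) P) (c : Module.Basis κ Λ P)
    (u : P →ₗ[MonoidAlgebra Λ G] P) :
    hsTrace c (u.restrictScalars Λ) =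
      Fintype.card G • ∑ i, (QuotientAddGroup.mk ((b.repr (u (b i)) i).coeff 1) : Abel Λ) := by
  classical
  let c' : Module.Basis (G × ι) Λ P := (MonoidAlgebra.basis G Λ).smulTower b
  rw [← hsTrace_indep c c' (u.restrictScalars Λ)]
  show ∑ p : G × ι, (QuotientAddGroup.mk (c'.repr ((u.restrictScalars Λ) (c' p)) p) : Abel Λ) = _
  have hterm : ∀ p : G × ι, c'.repr ((u.restrictScalars Λ) (c' p)) p =
      (b.repr (u (b p.2)) p.2).coeff 1 := by
    rintro ⟨g, i⟩
    have h1 : c' (g, i) = MonoidAlgebra.single g (1 : Λ) • b i := by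
      simp [c']
    rw [LinearMap.restrictScalars_apply, h1, map_smul]
    have h2 : c'.repr (MonoidAlgebra.single g (1 : Λ) • u (b i)) (g, i) =
        (b.repr (MonoidAlgebra.single g (1 : Λ) • u (b i)) i).coeff g := by
      simp [c', MonoidAlgebra.basis]
    rw [h2, map_smul, Finsupp.smul_apply, smul_eq_mul, MonoidAlgebra.coeff_single_mul_apply]
    simp
  simp_rw [hterm]
  rw [Fintype.sum_prod_type]
  simp [Finset.sum_const, Finset.card_univ]

end Groth.Agent.Helper6.HSTrace
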