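import Mathlib
import Groth.Prelude.Def_Hoch

set_option autoImplicit false

namespace Groth.Agent.Helper6.HochDiag

open TensorProduct

universe u v

section generic

variable {k : Type u} [CommRing k] {A : Type v} [Ring A] [Bialgebra k A]

noncomputable def Psi (π : A →ₗ[k] k) (W : Type*) [AddCommGroup W] [Module k W] :
    W ⊗[k] A →ₗ[k] W :=
  (TensorProduct.rid k W).toLinearMap ∘ₗ π.lTensor W

lemma Psi_tmul (π : A →ₗ[k] k) (W : Type*) [AddCommGroup W] [Module k W] (w : W) (a : A) :
    Psi π W (w ⊗ₜ a) = π a • w := by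
  simp [Psi]

lemma Psi_rTensor (π : A →ₗ[k] k) {W W' : Type*} [AddCommGroup W] [Module k W]
    [AddCommGroup W'] [Module k W'] (f : W →ₗ[k] W') :
    Psi π W' ∘ₗ f.rTensor A = f ∘ₗ Psi π W := by
  apply TensorProduct.ext'
  intro w a
  simp [Psi_tmul]

lemma Psi_assoc_symm (π : A →ₗ[k] k) {W : Type*} [AddCommGroup W] [Module k W] (w : W)
    (x : A ⊗[k] A) :
    Psi π (W ⊗[k] A) ((TensorProduct.assoc k W A A).symm (w ⊗ₜ x)) = w ⊗ₜ (Psi π A x) := by
  induction x using TensorProduct.induction_on with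
  | zero => simp
  | tmul a b => simp [Psi_tmul, tmul_smul]
  | add x y hx hy => simp only [tmul_add, map_add, hx, hy]

variable {V : Type v} [AddCommGroup V] [Module k V]

lemma Psi_tail (π : A →ₗ[k] k) (hπ1 : π 1 = 1)
    (hπ : ∀ a, Psi π A (Coalgebra.comul (R := k) a) = π a • (1 : A)) (y : V ⊗[k] A) :
    Psi π (V ⊗[k] A) (Hoch.tail k A V y) = -y := by
  induction y using TensorProduct.induction_on with
  | zero => simp
  | tmul v a =>
    rw [Hoch.tail_tmul, Psi_assoc_symm, map_sub, map_sub, hπ, Psi_tmul, Psi_tmul, hπ1]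
    have h : (π a • (1 : A) - (1 : k) • a - π a • (1 : A)) = -a := by
      rw [one_smul]; abel
    rw [h, tmul_neg]
  | add x y hx hy => simp only [map_add, hx, hy, neg_add]

variable [HopfRep.Comod k A V]

theorem main (π : A →ₗ[k] k) (hπ1 : π 1 = 1)
    (hπ : ∀ a, Psi π A (Coalgebra.comul (R := k) a) = π a • (1 : A)) :
    Hoch.cocycles k A V 1 ≤ Hoch.coboundaries k A V 1 := by
  intro c hc
  have hc0 : Hoch.d k A V 1 c = 0 := LinearMap.mem_ker.mp hc
  have hc' : (Hoch.d k A V 0).rTensor A c + ((-1 : k) ^ (0 + 1)) • Hoch.tail k A V c = 0 := hc0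
  have h1 := congrArg (Psi π (V ⊗[k] A)) hc'
  rw [map_add, map_smul, map_zero, Psi_tail π hπ1 hπ] at h1
  have h2 : Psi π (V ⊗[k] A) ((Hoch.d k A V 0).rTensor A c) = Hoch.d k A V 0 (Psi π V c) :=
    LinearMap.congr_fun (Psi_rTensor π (Hoch.d k A V 0)) c
  rw [h2] at h1
  have h3 : Hoch.d k A V 0 (Psi π V c) + c = 0 := by simpa using h1
  refine ⟨-(Psi π V c), ?_⟩
  rw [map_neg]
  exact neg_eq_of_add_eq_zero_right h3

end generic

section monoid

variable (k : Type u) [CommRing k] (M : Type u) [AddCommMonoid M]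

noncomputable def pi0 : AddMonoidAlgebra k M →ₗ[k] k :=
  (Finsupp.lapply (0 : M)) ∘ₗ (AddMonoidAlgebra.coeffLinearEquiv k).toLinearMap

lemma pi0_single [DecidableEq M] (m : M) (r : k) :
    pi0 k M (AddMonoidAlgebra.single m r) = if m = 0 then r else 0 := by
  simp [pi0, Finsupp.single_apply]

lemma pi0_one : pi0 k M 1 = 1 := by
  classical
  rw [AddMonoidAlgebra.one_def, pi0_single, if_pos rfl]

lemma pi0_comul (a : AddMonoidAlgebra k M) :
    Psi (pi0 k M) (AddMonoidAlgebra k M) (Coalgebra.comul (R := k) a) =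
      pi0 k M a • (1 : AddMonoidAlgebra k M) := by
  classical
  induction a using AddMonoidAlgebra.induction_linear with
  | zero => simp
  | add x y hx hy => rw [map_add, map_add, hx, hy, map_add, add_smul]
  | single m r =>
    rw [AddMonoidAlgebra.comul_single, CommSemiring.comul_apply, TensorProduct.map_tmul,
      AddMonoidAlgebra.lsingle_apply, AddMonoidAlgebra.lsingle_apply, Psi_tmul, pi0_single]
    by_cases h : m = 0
    · subst h
      rw [AddMonoidAlgebra.one_def]
    · rw [if_neg h, zero_smul, zero_smul]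

variable (V : Type u) [AddCommGroup V] [Module k V] [HopfRep.Comod k (AddMonoidAlgebra k M) V]

theorem result : Hoch.cocycles k (AddMonoidAlgebra k M) V 1 ≤
    Hoch.coboundaries k (AddMonoidAlgebra k M) V 1 :=
  main (pi0 k M) (pi0_one k M) (pi0_comul k M)

end monoid

end Groth.Agent.Helper6.HochDiag
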