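import Mathlib

/-!
# Morphisms from a complex to a shifted module, induced by a map out of the opcycles.
-/

set_option autoImplicit false
set_option linter.style.haveILetI false

universe u

open CategoryTheory Category Limits Pretriangulated DerivedCategory ZeroObject

attribute [local instance] HasDerivedCategory.standard

namespace Groth.Agent.Helper6.HomSingle

variable {R : Type u} [CommRing R]

/-- a map `q : E.opcycles i ⟶ N` induces a morphism `E ⟶ N[-i]` in the derived category whose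
effect on `H^i` is `H^i(E) ↪ E.opcycles i ⟶ N`. -/
theorem exists_hom_to_shift_single (E : CochainComplex (ModuleCat.{u} R) ℤ) (i : ℤ)
    (N : ModuleCat.{u} R) (q : E.opcycles i ⟶ N) :
    ∃ (f : Q.obj E ⟶ ((singleFunctor (ModuleCat.{u} R) 0).obj N)⟦-i⟧)
      (β : (homologyFunctor (ModuleCat.{u} R) i).obj
        (((singleFunctor (ModuleCat.{u} R) 0).obj N)⟦-i⟧) ≅ N)
      (α : (homologyFunctor (ModuleCat.{u} R) i).obj (Q.obj E) ≅ E.homology i),
      (homologyFunctor (ModuleCat.{u} R) i).map f ≫ β.hom = α.hom ≫ E.homologyι i ≫ q := by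
  obtain ⟨π, hπ⟩ : ∃ π : E ⟶
      (HomologicalComplex.single (ModuleCat.{u} R) (ComplexShape.up ℤ) i).obj N,
      π.f i = (E.pOpcycles i ≫ q) ≫
        (HomologicalComplex.singleObjXSelf (ComplexShape.up ℤ) i N).inv :=
    ⟨HomologicalComplex.mkHomToSingle (E.pOpcycles i ≫ q) (by intro j _; simp),
      HomologicalComplex.mkHomToSingle_f _ _⟩
  have hop : HomologicalComplex.opcyclesMap π i =
      q ≫ (HomologicalComplex.singleObjOpcyclesSelfIso (ComplexShape.up ℤ) i N).hom := by
    rw [← cancel_epi (E.pOpcycles i), HomologicalComplex.p_opcyclesMap, hπ,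
      HomologicalComplex.singleObjOpcyclesSelfIso_hom]
    simp only [assoc]
  have hH : HomologicalComplex.homologyMap π i ≫
      (HomologicalComplex.singleObjHomologySelfIso (ComplexShape.up ℤ) i N).hom =
      E.homologyι i ≫ q := by
    rw [← HomologicalComplex.homologyι_singleObjOpcyclesSelfIso_inv,
      HomologicalComplex.homologyι_naturality_assoc, hop, assoc, Iso.hom_inv_id, comp_id]
  have a : (singleFunctor (ModuleCat.{u} R) i).obj N ≅
      Q.obj ((HomologicalComplex.single (ModuleCat.{u} R) (ComplexShape.up ℤ) i).obj N) :=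
    (singleFunctorIsoCompQ (ModuleCat.{u} R) i).app N
  have b : ((singleFunctor (ModuleCat.{u} R) 0).obj N)⟦-i⟧ ≅
      (singleFunctor (ModuleCat.{u} R) i).obj N :=
    ((singleFunctors (ModuleCat.{u} R)).shiftIso (-i) i 0 (by omega)).app N
  obtain ⟨β, hβ⟩ : ∃ β : (homologyFunctor (ModuleCat.{u} R) i).obj
      (((singleFunctor (ModuleCat.{u} R) 0).obj N)⟦-i⟧) ≅ N,
      β.hom = (homologyFunctor (ModuleCat.{u} R) i).map (b.hom ≫ a.hom) ≫
        (homologyFunctorFactors (ModuleCat.{u} R) i).hom.app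
          ((HomologicalComplex.single (ModuleCat.{u} R) (ComplexShape.up ℤ) i).obj N) ≫
        (HomologicalComplex.singleObjHomologySelfIso (ComplexShape.up ℤ) i N).hom :=
    ⟨(homologyFunctor (ModuleCat.{u} R) i).mapIso (b ≪≫ a) ≪≫
      (homologyFunctorFactors (ModuleCat.{u} R) i).app _ ≪≫
      HomologicalComplex.singleObjHomologySelfIso (ComplexShape.up ℤ) i N, rfl⟩
  refine ⟨Q.map π ≫ a.inv ≫ b.inv, β, (homologyFunctorFactors (ModuleCat.{u} R) i).app E, ?_⟩
  have h0 : (Q.map π ≫ a.inv ≫ b.inv) ≫ b.hom ≫ a.hom = Q.map π := by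
    simp only [assoc, Iso.inv_hom_id_assoc, Iso.inv_hom_id, comp_id]
  have h1 : (homologyFunctor (ModuleCat.{u} R) i).map (Q.map π ≫ a.inv ≫ b.inv) ≫
      (homologyFunctor (ModuleCat.{u} R) i).map (b.hom ≫ a.hom) =
      (homologyFunctor (ModuleCat.{u} R) i).map (Q.map π) := by
    rw [← CategoryTheory.Functor.map_comp, h0]
  have h2 : (homologyFunctor (ModuleCat.{u} R) i).map (Q.map π) ≫
      (homologyFunctorFactors (ModuleCat.{u} R) i).hom.app _ =
      (homologyFunctorFactors (ModuleCat.{u} R) i).hom.app E ≫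
        HomologicalComplex.homologyMap π i :=
    (homologyFunctorFactors (ModuleCat.{u} R) i).hom.naturality π
  rw [hβ, reassoc_of% h1]
  exact (assoc _ _ _).symm.trans ((congrArg (fun x => x ≫
    (HomologicalComplex.singleObjHomologySelfIso (ComplexShape.up ℤ) i N).hom) h2).trans
    ((assoc _ _ _).trans (congrArg (fun x =>
      (homologyFunctorFactors (ModuleCat.{u} R) i).hom.app E ≫ x) hH)))

theorem exists_hom_to_shift_opcycles_mono (E : CochainComplex (ModuleCat.{u} R) ℤ) (i : ℤ) :
    ∃ (f : Q.obj E ⟶ ((singleFunctor (ModuleCat.{u} R) 0).obj (E.opcycles i))⟦-i⟧),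
      Mono ((homologyFunctor (ModuleCat.{u} R) i).map f) := by
  obtain ⟨f, β, α, hf⟩ := exists_hom_to_shift_single E i (E.opcycles i) (𝟙 _)
  refine ⟨f, ?_⟩
  haveI : Mono ((homologyFunctor (ModuleCat.{u} R) i).map f ≫ β.hom) := by
    rw [hf]
    infer_instance
  exact mono_of_mono _ β.hom

/-- Artin–Rees: a submodule `H ⊆ M` of a finite module over a Noetherian ring with `m H ≠ H`
is not contained in `m ^ n M` for some `n`. -/
theorem exists_quot_nonzero {A : Type u} [CommRing A] [IsNoetherianRing A] (m : Ideal A)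
    {H M : Type u} [AddCommGroup H] [Module A H] [AddCommGroup M] [Module A M]
    [Module.Finite A M] (ι : H →ₗ[A] M) (hι : Function.Injective ι)
    (hH : m • (⊤ : Submodule A H) ≠ ⊤) :
    ∃ n : ℕ, (m ^ n • (⊤ : Submodule A M)).mkQ ∘ₗ ι ≠ 0 := by
  obtain ⟨k, hk⟩ := Ideal.exists_pow_inf_eq_pow_smul m (LinearMap.range ι)
  refine ⟨k + 1, fun h0 => hH ?_⟩
  have h1 : LinearMap.range ι ≤ m ^ (k + 1) • ⊤ := by
    rintro _ ⟨x, rfl⟩
    have hx : (m ^ (k + 1) • (⊤ : Submodule A M)).mkQ (ι x) = 0 := LinearMap.congr_fun h0 x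
    exact (Submodule.Quotient.mk_eq_zero _).1 hx
  have h2 : LinearMap.range ι ≤ m • LinearMap.range ι := by
    have e := hk (k + 1) (by omega)
    have e' : k + 1 - k = 1 := by omega
    rw [e', pow_one] at e
    calc LinearMap.range ι = m ^ (k + 1) • ⊤ ⊓ LinearMap.range ι := (inf_eq_right.2 h1).symm
      _ = m • (m ^ k • ⊤ ⊓ LinearMap.range ι) := e
      _ ≤ m • LinearMap.range ι := Submodule.smul_mono le_rfl inf_le_right
  rw [LinearMap.range_eq_map, ← Submodule.map_smul''] at h2
  exact top_le_iff.1 ((Submodule.map_le_map_iff_of_injective hι _ _).1 h2)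

end Groth.Agent.Helper6.HomSingle
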