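import Mathlib
import Groth.Prelude.Def_KZero

set_option autoImplicit false

namespace Groth.Agent.Helper6.K0PID

open CategoryTheory KZero

universe u

variable (A : Type u) [CommRing A]

abbrev P : ObjectProperty (ModuleCat.{u} A) := fun M => Module.Finite A M

/-- class of a module -/
noncomputable def c (M : Type u) [AddCommGroup M] [Module A M] : K0sub (P A) :=
  clSub (P A) (ModuleCat.of A M)

variable {A}

lemma rel (S : ShortComplex (ModuleCat.{u} A)) (hS : S.ShortExact)
    (h₁ : P A S.X₁) (h₂ : P A S.X₂) (h₃ : P A S.X₃) :
    clSub (P A) S.X₂ = clSub (P A) S.X₁ + clSub (P A) S.X₃ := by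
  have hmem : FreeAbelianGroup.of (⟨S.X₂, h₂⟩ : Subtype (P A)) - FreeAbelianGroup.of ⟨S.X₁, h₁⟩
      - FreeAbelianGroup.of ⟨S.X₃, h₃⟩ ∈ relSub (P A) :=
    AddSubgroup.subset_closure ⟨S, h₁, h₂, h₃, hS, rfl⟩
  have h0 := (QuotientAddGroup.eq_zero_iff _).2 hmem
  simp only [QuotientAddGroup.mk_sub] at h0
  rw [sub_sub, sub_eq_zero] at h0
  unfold clSub
  rw [dif_pos h₁, dif_pos h₂, dif_pos h₃]
  exact h0

lemma c_ker_add [IsNoetherianRing A] {M M' : Type u} [AddCommGroup M] [Module A M]
    [AddCommGroup M'] [Module A M'] [Module.Finite A M]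
    (φ : M →ₗ[A] M') (hφ : Function.Surjective φ) :
    c A M = c A (LinearMap.ker φ) + c A M' := by
  haveI : Module.Finite A M' := Module.Finite.of_surjective φ hφ
  exact rel φ.shortComplexKer (LinearMap.shortExact_shortComplexKer hφ)
    (inferInstance : Module.Finite A (LinearMap.ker φ))
    (inferInstance : Module.Finite A M) (inferInstance : Module.Finite A M')

lemma c_subsingleton (M : Type u) [AddCommGroup M] [Module A M] [Subsingleton M] :
    c A M = 0 := by
  let S : ShortComplex (ModuleCat.{u} A) :=
    ShortComplex.mk (0 : ModuleCat.of A M ⟶ ModuleCat.of A M)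
      (0 : ModuleCat.of A M ⟶ ModuleCat.of A M) (by simp)
  have hS : S.ShortExact := ModuleCat.shortComplex_shortExact S
    (fun y => ⟨fun _ => ⟨0, Subsingleton.elim _ _⟩, fun _ => Subsingleton.elim _ _⟩)
    (fun a b _ => Subsingleton.elim (α := M) a b)
    (fun y => ⟨(0 : M), Subsingleton.elim (α := M) _ _⟩)
  have hfin : Module.Finite A M := Module.Finite.of_finite
  have := rel S hS hfin hfin hfin
  have h2 : c A M = c A M + c A M := this
  exact (add_eq_left.mp h2.symm)

lemma c_equiv [IsNoetherianRing A] {M M' : Type u} [AddCommGroup M] [Module A M]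
    [AddCommGroup M'] [Module A M'] [Module.Finite A M] (e : M ≃ₗ[A] M') :
    c A M = c A M' := by
  have h := c_ker_add (e : M →ₗ[A] M') e.surjective
  haveI : Subsingleton (LinearMap.ker (e : M →ₗ[A] M')) :=
    Submodule.subsingleton_iff_eq_bot.mpr (LinearMap.ker_eq_bot.mpr e.injective)
  rw [c_subsingleton (LinearMap.ker (e : M →ₗ[A] M')), zero_add] at h
  exact h

variable [IsDomain A] [IsPrincipalIdealRing A]

lemma c_cyclic {M' : Type u} [AddCommGroup M'] [Module A M'] (φ : A →ₗ[A] M')
    (hφ : Function.Surjective φ) : c A M' ∈ AddSubgroup.zmultiples (c A A) := by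
  have h := c_ker_add φ hφ
  obtain ⟨a, ha⟩ := (IsPrincipalIdealRing.principal (LinearMap.ker φ)).principal
  by_cases h0 : a = 0
  · have hbot : LinearMap.ker φ = ⊥ := by rw [ha, h0]; simp
    haveI : Subsingleton (LinearMap.ker φ) := Submodule.subsingleton_iff_eq_bot.mpr hbot
    rw [c_subsingleton (LinearMap.ker φ), zero_add] at h
    rw [← h]
    exact AddSubgroup.mem_zmultiples _
  · have h1 : c A (LinearMap.ker φ) = c A A := by
      rw [ha]
      exact (c_equiv (LinearEquiv.toSpanNonzeroSingleton A A a h0)).symm
    rw [h1] at h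
    have h2 : c A M' = 0 := by
      have := add_eq_left.mp h.symm
      exact this
    rw [h2]
    exact zero_mem _

lemma c_range_toSpanSingleton {M : Type u} [AddCommGroup M] [Module A M] (N : Submodule A M)
    (x : M) (hN : N = LinearMap.range (LinearMap.toSpanSingleton A M x)) :
    c A N ∈ AddSubgroup.zmultiples (c A A) := by
  subst hN
  exact c_cyclic (LinearMap.toSpanSingleton A M x).rangeRestrict
    (LinearMap.surjective_rangeRestrict _)

lemma main (n : ℕ) : ∀ (M : Type u) [AddCommGroup M] [Module A M] (s : Finset M),
    s.card ≤ n → Submodule.span A (s : Set M) = ⊤ →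
    c A M ∈ AddSubgroup.zmultiples (c A A) := by
  classical
  induction n with
  | zero =>
    intro M _ _ s hs hspan
    have hs0 : s = ∅ := Finset.card_eq_zero.mp (Nat.le_zero.mp hs)
    rw [hs0] at hspan
    simp only [Finset.coe_empty, Submodule.span_empty] at hspan
    haveI : Subsingleton M := by
      have : Subsingleton (Submodule A M) := subsingleton_of_bot_eq_top hspan
      exact Submodule.subsingleton_iff A |>.mp this
    rw [c_subsingleton M]
    exact zero_mem _
  | succ n ih =>
    intro M _ _ s hs hspan
    by_cases hs0 : s = ∅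
    · rw [hs0] at hspan
      simp only [Finset.coe_empty, Submodule.span_empty] at hspan
      haveI : Subsingleton M := by
        have : Subsingleton (Submodule A M) := subsingleton_of_bot_eq_top hspan
        exact Submodule.subsingleton_iff A |>.mp this
      rw [c_subsingleton M]
      exact zero_mem _
    · obtain ⟨x, hx⟩ := Finset.nonempty_iff_ne_empty.mpr hs0
      haveI : Module.Finite A M := ⟨⟨s, hspan⟩⟩
      set N : Submodule A M := Submodule.span A {x} with hN
      have h := c_ker_add N.mkQ (Submodule.mkQ_surjective N)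
      have hk : LinearMap.ker N.mkQ = LinearMap.range (LinearMap.toSpanSingleton A M x) := by
        rw [Submodule.ker_mkQ, hN, LinearMap.span_singleton_eq_range]
      have h1 := c_range_toSpanSingleton (LinearMap.ker N.mkQ) x hk
      have h2 : c A (M ⧸ N) ∈ AddSubgroup.zmultiples (c A A) := by
        apply ih (M ⧸ N) ((s.erase x).image N.mkQ)
        · calc ((s.erase x).image N.mkQ).card ≤ (s.erase x).card := Finset.card_image_le
            _ = s.card - 1 := Finset.card_erase_of_mem hx
            _ ≤ n := by omega
        · have e1 : Submodule.span A (N.mkQ '' (s : Set M)) = ⊤ := by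
            rw [← Submodule.map_span, hspan, Submodule.map_top, Submodule.range_mkQ]
          have e2 : (s : Set M) = insert x ((s.erase x : Finset M) : Set M) := by
            rw [← Finset.coe_insert, Finset.insert_erase hx]
          have e3 : N.mkQ x = 0 := by
            rw [Submodule.mkQ_apply, Submodule.Quotient.mk_eq_zero]
            exact Submodule.mem_span_singleton_self x
          rw [e2, Set.image_insert_eq, e3, Submodule.span_insert_zero] at e1
          rw [Finset.coe_image]
          exact e1
      rw [h]
      exact add_mem h1 h2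

/-- the rank homomorphism -/
noncomputable def rk : K0sub (P A) →+ ℤ :=
  QuotientAddGroup.lift (relSub (P A))
    (FreeAbelianGroup.lift (fun M : Subtype (P A) => (Module.finrank A M.1 : ℤ))) (by
      rw [relSub, AddSubgroup.closure_le]
      rintro x ⟨S, h₁, h₂, h₃, hS, rfl⟩
      rw [SetLike.mem_coe, AddMonoidHom.mem_ker]
      simp only [map_sub, FreeAbelianGroup.lift_apply_of]
      haveI : Module.Finite A S.X₂ := h₂
      have hinj := hS.moduleCat_injective_f
      have hsurj := hS.moduleCat_surjective_g
      have hex := hS.exact.moduleCat_range_eq_ker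
      have e1 : S.X₁ ≃ₗ[A] LinearMap.range S.f.hom := LinearEquiv.ofInjective S.f.hom hinj
      have e3 : (S.X₂ ⧸ LinearMap.ker S.g.hom) ≃ₗ[A] S.X₃ :=
        S.g.hom.quotKerEquivOfSurjective hsurj
      have key := (LinearMap.range S.f.hom).finrank_quotient_add_finrank
      rw [← e1.finrank_eq, hex, e3.finrank_eq] at key
      omega)

lemma rk_c_self : rk (c A A) = 1 := by
  have hfin : P A (ModuleCat.of A A) := (inferInstance : Module.Finite A A)
  unfold c clSub
  rw [dif_pos hfin]
  simp [rk]

theorem bij : Function.Bijective (fun k : ℤ => k • c A A) := by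
  constructor
  · intro k k' h
    have h' := congrArg (rk (A := A)) h
    simpa [rk_c_self] using h'
  · intro x
    have hx : x ∈ AddSubgroup.zmultiples (c A A) := by
      obtain ⟨y, rfl⟩ := QuotientAddGroup.mk_surjective x
      induction y using FreeAbelianGroup.induction_on with
      | zero => exact zero_mem _
      | of X =>
        obtain ⟨M, hM⟩ := X
        have e : (QuotientAddGroup.mk (FreeAbelianGroup.of (⟨M, hM⟩ : Subtype (P A))) :
            K0sub (P A)) = c A M := by
          unfold c clSub
          rw [dif_pos hM]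
        rw [e]
        obtain ⟨s, hs⟩ := (hM : Module.Finite A M).fg_top
        exact main s.card M s le_rfl hs
      | neg X ih => exact neg_mem ih
      | add x y hx hy => exact add_mem hx hy
    obtain ⟨k, hk⟩ := AddSubgroup.mem_zmultiples_iff.mp hx
    exact ⟨k, hk⟩

end Groth.Agent.Helper6.K0PID
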