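import Mathlib

set_option autoImplicit false

universe v u

open CategoryTheory CategoryTheory.Limits CategoryTheory.Pretriangulated CategoryTheory.Triangulated

namespace Groth.Agent.Helper6.Karoubi

/-- Two idempotents differing by a square-zero element are conjugate. -/
lemma ring_conj {R : Type*} [Ring R] (e e' n : R) (he : e * e = e) (he' : e' * e' = e')
    (hn : n * n = 0) (h : e = e' + n) :
    ∃ u v : R, u * v = 1 ∧ v * u = 1 ∧ e = v * e' * u := by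
  have star : e' * n + n * e' = n := by
    have h1 : (e' + n) * (e' + n) = e' + n := by rw [← h]; exact he
    have h2 : (e' + n) * (e' + n) = e' * e' + (e' * n + n * e') + n * n := by noncomm_ring
    rw [h2, he', hn, add_zero] at h1
    exact add_left_cancel h1
  have K1 : n * e' = n - e' * n := by
    rw [eq_sub_iff_add_eq, add_comm]; exact star
  have K2 : n * e' * n = 0 := by rw [K1, sub_mul, hn, mul_assoc, hn, mul_zero, sub_zero]
  have K3 : e' * (n * e') = 0 := by rw [K1, mul_sub, ← mul_assoc, he', sub_self]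
  have mm : (n - 2 * (e' * n)) * (n - 2 * (e' * n)) = 0 := by
    have : (n - 2 * (e' * n)) * (n - 2 * (e' * n)) =
        n * n - 2 * (n * e' * n) - 2 * (e' * (n * n)) + 4 * (e' * (n * e' * n)) := by
      noncomm_ring
    rw [this, hn, K2]; simp
  have huv : (1 - (n - 2 * (e' * n))) * (1 + (n - 2 * (e' * n))) = 1 := by
    have : (1 - (n - 2 * (e' * n))) * (1 + (n - 2 * (e' * n))) =
        1 - (n - 2 * (e' * n)) * (n - 2 * (e' * n)) := by noncomm_ring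
    rw [this, mm, sub_zero]
  have hvu : (1 + (n - 2 * (e' * n))) * (1 - (n - 2 * (e' * n))) = 1 := by
    have : (1 + (n - 2 * (e' * n))) * (1 - (n - 2 * (e' * n))) =
        1 - (n - 2 * (e' * n)) * (n - 2 * (e' * n)) := by noncomm_ring
    rw [this, mm, sub_zero]
  have c1 : e' * (1 - (n - 2 * (e' * n))) = e' + e' * n := by
    have : e' * (1 - (n - 2 * (e' * n))) = e' - e' * n + 2 * (e' * e' * n) := by noncomm_ring
    rw [this, he']; noncomm_ring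
  have c2 : (1 - (n - 2 * (e' * n))) * e = e' + e' * n := by
    have : (1 - (n - 2 * (e' * n))) * (e' + n) =
        e' + n - n * e' - n * n + 2 * (e' * (n * e')) + 2 * (e' * (n * n)) := by noncomm_ring
    rw [h, this, K3, hn, K1]; noncomm_ring
  refine ⟨1 - (n - 2 * (e' * n)), 1 + (n - 2 * (e' * n)), huv, hvu, ?_⟩
  calc e = ((1 + (n - 2 * (e' * n))) * (1 - (n - 2 * (e' * n)))) * e := by rw [hvu, one_mul]
    _ = (1 + (n - 2 * (e' * n))) * ((1 - (n - 2 * (e' * n))) * e) := by rw [mul_assoc]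
    _ = (1 + (n - 2 * (e' * n))) * (e' * (1 - (n - 2 * (e' * n)))) := by rw [c2, c1]
    _ = (1 + (n - 2 * (e' * n))) * e' * (1 - (n - 2 * (e' * n))) := by rw [mul_assoc]

variable {C : Type u} [Category.{v} C] [Preadditive C] [HasZeroObject C] [HasShift C ℤ]
  [∀ n : ℤ, (shiftFunctor C n).Additive] [Pretriangulated C]

/-- The idempotent `e` splits. -/
def Splits {X : C} (e : X ⟶ X) : Prop :=
  ∃ (Y : C) (s : Y ⟶ X) (r : X ⟶ Y), s ≫ r = 𝟙 Y ∧ r ≫ s = e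

lemma sq_zero_of_triangle {A X B : C} (i : A ⟶ X) (p : X ⟶ B) (δ : B ⟶ A⟦(1 : ℤ)⟧)
    (hT : Triangle.mk i p δ ∈ distTriang C) (n : X ⟶ X) (h1 : i ≫ n = 0) (h2 : n ≫ p = 0) :
    n ≫ n = 0 := by
  obtain ⟨g, hg⟩ : ∃ g : B ⟶ X, n = p ≫ g := Triangle.yoneda_exact₂ _ hT n h1
  calc n ≫ n = n ≫ (p ≫ g) := by rw [← hg]
    _ = (n ≫ p) ≫ g := by rw [Category.assoc]
    _ = 0 := by rw [h2, zero_comp]

theorem splits_glue {A X B : C} (i : A ⟶ X) (p : X ⟶ B) (δ : B ⟶ A⟦(1 : ℤ)⟧)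
    (hT : Triangle.mk i p δ ∈ distTriang C)
    (e : X ⟶ X) (he : e ≫ e = e) (eA : A ⟶ A) (eB : B ⟶ B)
    (h1 : i ≫ e = eA ≫ i) (h2 : e ≫ p = p ≫ eB) (h3 : δ ≫ eA⟦(1 : ℤ)⟧' = eB ≫ δ)
    (hA : Splits eA) (hB : Splits eB) : Splits e := by
  obtain ⟨A₁, sA, rA, hA1, hA2⟩ := hA
  obtain ⟨B₁, sB, rB, hB1, hB2⟩ := hB
  obtain ⟨Y, i₁, p₁, hT₁⟩ := distinguished_cocone_triangle₂ (sB ≫ δ ≫ rA⟦(1 : ℤ)⟧')
  have c1 : (sB ≫ δ ≫ rA⟦(1 : ℤ)⟧') ≫ sA⟦(1 : ℤ)⟧' = sB ≫ δ :=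
    calc (sB ≫ δ ≫ rA⟦(1 : ℤ)⟧') ≫ sA⟦(1 : ℤ)⟧' = sB ≫ δ ≫ (rA ≫ sA)⟦(1 : ℤ)⟧' := by
          simp only [Category.assoc, Functor.map_comp]
      _ = sB ≫ (eB ≫ δ) := by rw [hA2, h3]
      _ = (sB ≫ rB) ≫ sB ≫ δ := by rw [← hB2]; simp only [Category.assoc]
      _ = sB ≫ δ := by rw [hB1, Category.id_comp]
  have c2' : rB ≫ (sB ≫ δ ≫ rA⟦(1 : ℤ)⟧') = δ ≫ rA⟦(1 : ℤ)⟧' :=
    calc rB ≫ (sB ≫ δ ≫ rA⟦(1 : ℤ)⟧') = (rB ≫ sB) ≫ δ ≫ rA⟦(1 : ℤ)⟧' := by
          simp only [Category.assoc]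
      _ = (eB ≫ δ) ≫ rA⟦(1 : ℤ)⟧' := by rw [hB2, Category.assoc]
      _ = δ ≫ (eA ≫ rA)⟦(1 : ℤ)⟧' := by rw [← h3, Category.assoc, ← Functor.map_comp]
      _ = δ ≫ rA⟦(1 : ℤ)⟧' := by rw [← hA2, Category.assoc, hA1, Category.comp_id]
  have c2 : δ ≫ rA⟦(1 : ℤ)⟧' = rB ≫ (sB ≫ δ ≫ rA⟦(1 : ℤ)⟧') := c2'.symm
  obtain ⟨s, hs1, hs2⟩ : ∃ s : Y ⟶ X, i₁ ≫ s = sA ≫ i ∧ p₁ ≫ sB = s ≫ p :=
    complete_distinguished_triangle_morphism₂ _ _ hT₁ hT sA sB c1
  obtain ⟨r, hr1, hr2⟩ : ∃ r : X ⟶ Y, i ≫ r = rA ≫ i₁ ∧ p ≫ rB = r ≫ p₁ :=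
    complete_distinguished_triangle_morphism₂ _ _ hT hT₁ rA rB c2
  obtain ⟨N, hN⟩ : ∃ N : Y ⟶ Y, N = s ≫ r - 𝟙 Y := ⟨_, rfl⟩
  have hsr : s ≫ r = 𝟙 Y + N := by rw [hN]; abel
  have n1a : i₁ ≫ N = 0 := by
    rw [hN, Preadditive.comp_sub, ← Category.assoc, hs1, Category.assoc, hr1, ← Category.assoc,
      hA1, Category.id_comp, Category.comp_id, sub_self]
  have n1b : N ≫ p₁ = 0 := by
    rw [hN, Preadditive.sub_comp, Category.assoc, ← hr2, ← Category.assoc, ← hs2, Category.assoc,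
      hB1, Category.comp_id, Category.id_comp, sub_self]
  have n1sq : N ≫ N = 0 := sq_zero_of_triangle i₁ p₁ _ hT₁ N n1a n1b
  obtain ⟨S', hS'⟩ : ∃ S' : Y ⟶ X, S' = (𝟙 Y - N) ≫ s := ⟨_, rfl⟩
  have hS'r : S' ≫ r = 𝟙 Y :=
    calc S' ≫ r = (𝟙 Y - N) ≫ (𝟙 Y + N) := by rw [hS', Category.assoc, hsr]
      _ = 𝟙 Y - N ≫ N := by
          simp only [Preadditive.comp_add, Preadditive.sub_comp, Category.id_comp,
            Category.comp_id]
          abel
      _ = 𝟙 Y := by rw [n1sq, sub_zero]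
  have he' : (r ≫ S') ≫ (r ≫ S') = r ≫ S' :=
    calc (r ≫ S') ≫ (r ≫ S') = r ≫ (S' ≫ r) ≫ S' := by simp only [Category.assoc]
      _ = r ≫ S' := by rw [hS'r, Category.id_comp]
  have hi1 : i₁ ≫ S' = sA ≫ i := by
    rw [hS', ← Category.assoc, Preadditive.comp_sub, Category.comp_id, n1a, sub_zero, hs1]
  have hie' : i ≫ (r ≫ S') = i ≫ e := by
    rw [← Category.assoc, hr1, Category.assoc, hi1, ← Category.assoc, hA2, h1]
  have hp1 : S' ≫ p = p₁ ≫ sB := by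
    rw [hS', Category.assoc, ← hs2, ← Category.assoc, Preadditive.sub_comp, Category.id_comp,
      n1b, sub_zero]
  have he'p : (r ≫ S') ≫ p = e ≫ p := by
    rw [Category.assoc, hp1, ← Category.assoc, ← hr2, Category.assoc, hB2, h2]
  have d1 : i ≫ (e - r ≫ S') = 0 := by rw [Preadditive.comp_sub, hie', sub_self]
  have d2 : (e - r ≫ S') ≫ p = 0 := by rw [Preadditive.sub_comp, he'p, sub_self]
  have dsq : (e - r ≫ S') ≫ (e - r ≫ S') = 0 := sq_zero_of_triangle i p δ hT _ d1 d2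
  obtain ⟨u, v, huv, hvu, hconj⟩ : ∃ u v : X ⟶ X, v ≫ u = 𝟙 X ∧ u ≫ v = 𝟙 X ∧
      e = u ≫ ((r ≫ S') ≫ v) :=
    ring_conj (R := End X) e (r ≫ S') (e - r ≫ S') he he' dsq (by abel)
  refine ⟨Y, S' ≫ v, u ≫ r, ?_, ?_⟩
  · calc (S' ≫ v) ≫ (u ≫ r) = S' ≫ (v ≫ u) ≫ r := by simp only [Category.assoc]
      _ = 𝟙 Y := by rw [huv, Category.id_comp, hS'r]
  · rw [hconj]
    simp only [Category.assoc]

variable (t : TStructure C)

lemma splits_compl_of_heart {X : C} (b : ℤ) [t.IsGE X b] [t.IsLE X b] (e : X ⟶ X)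
    (he : e ≫ e = e) : Splits (𝟙 X - e) := by
  obtain ⟨Z, g, h, hT⟩ := distinguished_cocone_triangle e
  have h0 : e ≫ (𝟙 X - e) = 0 := by rw [Preadditive.comp_sub, Category.comp_id, he, sub_self]
  obtain ⟨k, hk⟩ : ∃ k : Z ⟶ X, 𝟙 X - e = g ≫ k := Triangle.yoneda_exact₂ _ hT (𝟙 X - e) h0
  have eg : e ≫ g = 0 := comp_distTriang_mor_zero₁₂ _ hT
  have e1 : g ≫ k ≫ g = g := by
    rw [← Category.assoc, ← hk, Preadditive.sub_comp, Category.id_comp, eg, sub_zero]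
  have hm : g ≫ ((k ≫ g - 𝟙 Z) ≫ (t.truncGEπ b).app Z) = 0 := by
    rw [← Category.assoc, Preadditive.comp_sub, e1, Category.comp_id, sub_self, zero_comp]
  obtain ⟨w, hw⟩ : ∃ w : X⟦(1 : ℤ)⟧ ⟶ (t.truncGE b).obj Z,
      (k ≫ g - 𝟙 Z) ≫ (t.truncGEπ b).app Z = h ≫ w := Triangle.yoneda_exact₃ _ hT _ hm
  have hX1 : t.IsLE (X⟦(1 : ℤ)⟧) (b - 1) := t.isLE_shift X b 1 (b - 1) (by omega)
  have hw0 : w = 0 := t.zero_of_isLE_of_isGE w (b - 1) b (by omega) hX1 inferInstance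
  rw [hw0, comp_zero, Preadditive.sub_comp, Category.id_comp, sub_eq_zero] at hw
  refine ⟨(t.truncGE b).obj Z, t.descTruncGE k b, g ≫ (t.truncGEπ b).app Z, ?_, ?_⟩
  · apply t.from_truncGE_obj_ext
    rw [← Category.assoc, t.π_descTruncGE, Category.comp_id, ← Category.assoc]
    exact hw
  · rw [Category.assoc, t.π_descTruncGE, ← hk]

lemma splits_of_heart {X : C} (b : ℤ) [t.IsGE X b] [t.IsLE X b] (e : X ⟶ X)
    (he : e ≫ e = e) : Splits e := by
  have h := splits_compl_of_heart t b (𝟙 X - e) (Idempotents.idem_of_id_sub_idem e he)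
  rwa [sub_sub_cancel] at h

theorem splits_of_bounded [IsTriangulated C] (n : ℕ) : ∀ (X : C) (a b : ℤ), t.IsGE X a →
    t.IsLE X b → b < a + n → ∀ e : X ⟶ X, e ≫ e = e → Splits e := by
  induction n with
  | zero =>
    intro X a b ha hb hab e he
    have hz : IsZero X := t.isZero X b a (by omega)
    exact ⟨X, 𝟙 X, 𝟙 X, Category.comp_id _, hz.eq_of_src _ _⟩
  | succ n ih =>
    intro X a b ha hb hab e he
    by_cases hlt : b < a + n
    · exact ih X a b ha hb hlt e he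
    · have hba : b = a + n := by omega
      rcases Nat.eq_zero_or_pos n with hn | hn
      · subst hn
        have hba' : b = a := by simpa using hba
        subst hba'
        exact splits_of_heart t b e he
      · have hT := t.triangleLTGE_distinguished b X
        have iA1 : t.IsGE ((t.truncLT b).obj X) a := inferInstance
        have iA2 : t.IsLE ((t.truncLT b).obj X) (b - 1) := inferInstance
        have iB1 : t.IsGE ((t.truncGE b).obj X) b := inferInstance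
        have iB2 : t.IsLE ((t.truncGE b).obj X) b := inferInstance
        have sA := ih _ a (b - 1) iA1 iA2 (by omega) ((t.truncLT b).map e)
          (by rw [← Functor.map_comp, he])
        have sB := ih _ b b iB1 iB2 (by omega) ((t.truncGE b).map e)
          (by rw [← Functor.map_comp, he])
        exact splits_glue ((t.truncLTι b).app X) ((t.truncGEπ b).app X)
          ((t.truncGEδLT b).app X) hT e he ((t.truncLT b).map e) ((t.truncGE b).map e)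
          ((t.truncLTι b).naturality e).symm ((t.truncGEπ b).naturality e)
          ((t.truncGEδLT b).naturality e).symm sA sB

theorem isIdempotentComplete_of_bounded [IsTriangulated C] (hb : ∀ X : C, t.bounded X) :
    IsIdempotentComplete C := by
  refine ⟨fun X p hp => ?_⟩
  obtain ⟨⟨a, ha⟩, ⟨b, hb'⟩⟩ := hb X
  have h0 := Int.self_le_toNat (b - a + 1)
  obtain ⟨Y, s, r, h1, h2⟩ :=
    splits_of_bounded t (b - a + 1).toNat X a b ha hb' (by omega) p hp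
  exact ⟨Y, s, r, h1, h2⟩

end Groth.Agent.Helper6.Karoubi
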