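import Mathlib

set_option autoImplicit false

namespace Groth.Agent.Helper6.LexRefl

open CategoryTheory CategoryTheory.Limits Opposite

universe u

variable {C : Type u} [SmallCategory C] (P : ObjectProperty (Cᵒᵖ ⥤ Type u))

/-- lifting a morphism to the representable through a sieve -/
def liftToSieve {X : C} (S : Sieve X) {T : Cᵒᵖ ⥤ Type u} (φ : T ⟶ yoneda.obj X)
    (h : ∀ (Y : Cᵒᵖ) (v : T.obj Y), S (show Y.unop ⟶ X from φ.app Y v)) : T ⟶ S.functor where
  app Y := ↾fun v => ⟨φ.app Y v, h Y v⟩
  naturality := by
    intro Y Y' f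
    ext v
    apply Subtype.ext
    exact NatTrans.naturality_apply φ f v

lemma liftToSieve_comp {X : C} (S : Sieve X) {T : Cᵒᵖ ⥤ Type u} (φ : T ⟶ yoneda.obj X)
    (h : ∀ (Y : Cᵒᵖ) (v : T.obj Y), S (show Y.unop ⟶ X from φ.app Y v)) :
    liftToSieve S φ h ≫ S.functorInclusion = φ := by
  ext Y v
  rfl

section
variable [Reflective P.ι]

lemma isIso_iff_forall_isSheafFor {X : C} (S : Sieve X) :
    IsIso ((reflector P.ι).map S.functorInclusion) ↔
      ∀ G : Cᵒᵖ ⥤ Type u, P G → Presieve.IsSheafFor G S.arrows := by
  let adj := reflectorAdjunction P.ι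
  constructor
  · intro hI G hG
    rw [Presieve.isSheafFor_iff_yonedaSheafCondition]
    intro f
    let G' : P.FullSubcategory := ⟨G, hG⟩
    let f' : (reflector P.ι).obj S.functor ⟶ G' := (adj.homEquiv S.functor G').symm f
    refine ⟨adj.homEquiv (yoneda.obj X) G'
      (inv ((reflector P.ι).map S.functorInclusion) ≫ f'), ?_, ?_⟩
    · have h1 := adj.homEquiv_naturality_left S.functorInclusion
        (inv ((reflector P.ι).map S.functorInclusion) ≫ f')
      rw [IsIso.hom_inv_id_assoc] at h1
      have h2 : adj.homEquiv S.functor G' f' = f := Equiv.apply_symm_apply _ _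
      exact h1.symm.trans h2
    · intro g hg
      apply (adj.homEquiv (yoneda.obj X) G').symm.injective
      rw [Equiv.symm_apply_apply]
      have h1 := adj.homEquiv_naturality_left_symm (Y := G') S.functorInclusion g
      have h2 : (adj.homEquiv S.functor G').symm (S.functorInclusion ≫ g) = f' := by
        show _ = (adj.homEquiv S.functor G').symm f
        exact congrArg _ hg
      rw [h2] at h1
      rw [h1, IsIso.inv_hom_id_assoc]
  · intro h
    rw [isIso_iff_coyoneda_map_bijective]
    intro T
    have hT : Presieve.YonedaSheafCondition T.obj S :=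
      Presieve.isSheafFor_iff_yonedaSheafCondition.1 (h T.obj T.property)
    constructor
    · intro x₁ x₂ hx
      have h1 : adj.homEquiv _ _ ((reflector P.ι).map S.functorInclusion ≫ x₁) =
          adj.homEquiv _ _ ((reflector P.ι).map S.functorInclusion ≫ x₂) := congrArg _ hx
      rw [adj.homEquiv_naturality_left, adj.homEquiv_naturality_left] at h1
      have h2 := (hT (S.functorInclusion ≫ adj.homEquiv _ _ x₂)).unique h1 rfl
      exact (adj.homEquiv _ _).injective h2
    · intro y
      obtain ⟨g, hg, -⟩ := hT (adj.homEquiv _ _ y)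
      refine ⟨(adj.homEquiv _ _).symm g, ?_⟩
      have h1 := adj.homEquiv_naturality_left_symm (Y := T) S.functorInclusion g
      have h2 : (adj.homEquiv S.functor T).symm (S.functorInclusion ≫ g) = y := by
        have : S.functorInclusion ≫ g = adj.homEquiv _ _ y := hg
        rw [this, Equiv.symm_apply_apply]
      exact h1.symm.trans h2

lemma exists_t {X : C} (S : Sieve X) {A B : Cᵒᵖ ⥤ Type u} (m : A ⟶ B)
    (hm : ∀ Y, Function.Injective (m.app Y)) (x : yoneda.obj X ⟶ B)
    (hS : ∀ (Y : Cᵒᵖ) (g : Y.unop ⟶ X), S g → ∃ a : A.obj Y, m.app Y a = x.app Y g) :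
    ∃ t : S.functor ⟶ A, t ≫ m = S.functorInclusion ≫ x := by
  classical
  let ta : ∀ Y : Cᵒᵖ, S.functor.obj Y → A.obj Y := fun Y g => (hS Y g.1 g.2).choose
  have hta : ∀ (Y : Cᵒᵖ) (g : S.functor.obj Y), m.app Y (ta Y g) = x.app Y g.1 :=
    fun Y g => (hS Y g.1 g.2).choose_spec
  refine ⟨{ app := fun Y => ↾(ta Y), naturality := ?_ }, ?_⟩
  · intro Y Y' f
    ext g
    apply hm Y'
    calc m.app Y' (ta Y' (S.functor.map f g)) = x.app Y' (S.functor.map f g).1 := hta Y' _
      _ = x.app Y' ((yoneda.obj X).map f g.1) := rfl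
      _ = B.map f (x.app Y g.1) := NatTrans.naturality_apply x f g.1
      _ = B.map f (m.app Y (ta Y g)) := by rw [hta]
      _ = m.app Y' (A.map f (ta Y g)) := (NatTrans.naturality_apply m f _).symm
  · ext Y g
    exact hta Y g

variable [PreservesFiniteLimits (reflector P.ι)]

lemma isIso_of_square {X : C} (S : Sieve X) {A B : Cᵒᵖ ⥤ Type u} (m : A ⟶ B) [Mono m]
    (x : yoneda.obj X ⟶ B) (t : S.functor ⟶ A) (w : t ≫ m = S.functorInclusion ≫ x)
    (hS : ∀ (Y : Cᵒᵖ) (g : Y.unop ⟶ X) (a : A.obj Y), m.app Y a = x.app Y g → S g)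
    [IsIso ((reflector P.ι).map m)] : IsIso ((reflector P.ι).map S.functorInclusion) := by
  let lift : ∀ s : PullbackCone m x, s.pt ⟶ S.functor := fun s =>
    liftToSieve S s.snd (fun Y v => hS Y _ (s.fst.app Y v)
      (congrArg (fun φ : s.pt ⟶ B => φ.app Y v) s.condition))
  have fr : ∀ s : PullbackCone m x, lift s ≫ S.functorInclusion = s.snd :=
    fun s => liftToSieve_comp _ _ _
  have pb : IsPullback t S.functorInclusion m x :=
    IsPullback.of_isLimit (PullbackCone.IsLimit.mk w lift
      (fun s => by
        rw [← cancel_mono m, Category.assoc, w, reassoc_of% (fr s), s.condition])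
      fr
      (fun s m' _ h2 => (cancel_mono S.functorInclusion).1 (h2.trans (fr s).symm)))
  exact (pb.map (reflector P.ι)).isIso_snd_of_isIso

lemma isIso_pullback {X Y : C} (S : Sieve X) (f : Y ⟶ X)
    [IsIso ((reflector P.ι).map S.functorInclusion)] :
    IsIso ((reflector P.ι).map (S.pullback f).functorInclusion) := by
  let t : (S.pullback f).functor ⟶ S.functor :=
    { app := fun Z => ↾fun g => ⟨g.1 ≫ f, g.2⟩
      naturality := by
        intro Z Z' h
        ext g
        apply Subtype.ext
        exact Category.assoc h.unop g.1 f }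
  refine isIso_of_square P (S.pullback f) S.functorInclusion (yoneda.map f) t ?_ ?_
  · ext Z g
    rfl
  · intro Z g a ha
    show S (g ≫ f)
    have h1 : a.1 = g ≫ f := ha
    rw [← h1]
    exact a.2

theorem main [P.IsClosedUnderIsomorphisms] :
    ∃ J : GrothendieckTopology C,
      (∀ (X : C) (S : Sieve X), S ∈ J X ↔ IsIso ((reflector P.ι).map S.functorInclusion)) ∧
      ∀ F : Cᵒᵖ ⥤ Type u, P F ↔ Presieve.IsSheaf J F := by
  let L := reflector P.ι
  let adj := reflectorAdjunction P.ι
  let J := Sheaf.finestTopology {G : Cᵒᵖ ⥤ Type u | P G}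
  have hJ : ∀ (X : C) (S : Sieve X), S ∈ J X ↔ IsIso (L.map S.functorInclusion) := by
    intro X S
    constructor
    · intro hS
      rw [isIso_iff_forall_isSheafFor]
      intro G hG
      exact Sheaf.sheaf_for_finestTopology _ hG S hS
    · intro hI
      apply Sheaf.mem_finestTopology_of_forall_isSheafFor
      intro G hG Y f
      have h1 : IsIso ((reflector P.ι).map S.functorInclusion) := hI
      have h2 := isIso_pullback P S f
      exact (isIso_iff_forall_isSheafFor P _).1 h2 G hG
  refine ⟨J, hJ, fun F => ⟨fun hF => Sheaf.sheaf_for_finestTopology _ hF, fun hF => ?_⟩⟩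
  let η : F ⟶ (L.obj F).obj := adj.unit.app F
  have hLη : IsIso (L.map η) := by
    have h1 : L.map η ≫ adj.counit.app (L.obj F) = 𝟙 _ := adj.left_triangle_components F
    have h2 : IsIso (L.map η ≫ adj.counit.app (L.obj F)) := by
      rw [h1]; infer_instance
    exact IsIso.of_isIso_comp_right _ (adj.counit.app (L.obj F))
  have hG : P (L.obj F).obj := (L.obj F).property
  have hGsh : Presieve.IsSheaf J (L.obj F).obj := Sheaf.sheaf_for_finestTopology _ hG
  -- injectivity
  have hinj' : ∀ X : C, Function.Injective (η.app (op X)) := by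
    intro X a b hab
    let S : Sieve X :=
      { arrows := fun Z f => F.map f.op a = F.map f.op b
        downward_closed := by
          intro Z W f hf g
          show F.map (g ≫ f).op a = F.map (g ≫ f).op b
          rw [op_comp, Functor.map_comp_apply, Functor.map_comp_apply, hf] }
    let a' : yoneda.obj X ⟶ F := yonedaEquiv.symm a
    let b' : yoneda.obj X ⟶ F := yonedaEquiv.symm b
    have ha' : ∀ (Z : Cᵒᵖ) (g : Z.unop ⟶ X), a'.app Z g = F.map g.op a := fun Z g => rfl
    have hb' : ∀ (Z : Cᵒᵖ) (g : Z.unop ⟶ X), b'.app Z g = F.map g.op b := fun Z g => rfl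
    have hS : S ∈ J X := by
      rw [hJ]
      have w : S.functorInclusion ≫ a' = S.functorInclusion ≫ b' := by
        ext Z g
        exact g.2
      have hlim : IsLimit (Fork.ofι S.functorInclusion w) :=
        Fork.IsLimit.mk _
          (fun s => liftToSieve S s.ι (fun Z v =>
            congrArg (fun φ : s.pt ⟶ F => φ.app Z v) s.condition))
          (fun s => liftToSieve_comp _ _ _)
          (fun s m' h2 => (cancel_mono S.functorInclusion).1
            (h2.trans (liftToSieve_comp _ _ _).symm))
      have hab' : L.map a' = L.map b' := by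
        have h3 : a' ≫ η = b' ≫ η := by
          apply yonedaEquiv.injective
          rw [yonedaEquiv_comp, yonedaEquiv_comp, Equiv.apply_symm_apply,
            Equiv.apply_symm_apply]
          exact hab
        rw [← cancel_mono (L.map η), ← L.map_comp, ← L.map_comp, h3]
      have h2 := isLimitForkMapOfIsLimit L w hlim
      exact isIso_limit_cone_parallelPair_of_eq hab' h2
    exact (hF S hS).isSeparatedFor.ext (fun Z f hf => hf)
  have hinj : ∀ Y : Cᵒᵖ, Function.Injective (η.app Y) := fun Y => hinj' Y.unop
  have : Mono η := by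
    have : ∀ Y, Mono (η.app Y) := fun Y => (mono_iff_injective _).2 (hinj Y)
    exact NatTrans.mono_of_mono_app η
  -- surjectivity
  have hsurj : ∀ X : C, Function.Surjective (η.app (op X)) := by
    intro X z
    let x : yoneda.obj X ⟶ (L.obj F).obj := yonedaEquiv.symm z
    let S : Sieve X :=
      { arrows := fun Z f => ∃ a : F.obj (op Z), η.app (op Z) a = x.app (op Z) f
        downward_closed := by
          rintro Z W f ⟨a, ha⟩ g
          refine ⟨F.map g.op a, ?_⟩
          calc η.app (op W) (F.map g.op a)
              = (L.obj F).obj.map g.op (η.app (op Z) a) := NatTrans.naturality_apply η g.op a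
            _ = (L.obj F).obj.map g.op (x.app (op Z) f) := by rw [ha]
            _ = x.app (op W) ((yoneda.obj X).map g.op f) :=
                (NatTrans.naturality_apply x g.op f).symm
            _ = x.app (op W) (g ≫ f) := rfl }
    obtain ⟨t, ht⟩ := exists_t S η hinj x (fun Y g hg => hg)
    have hSJ : S ∈ J X := by
      rw [hJ]
      exact isIso_of_square P S η x t ht (fun Y g a ha => ⟨a, ha⟩)
    obtain ⟨g, hg, -⟩ := (Presieve.isSheafFor_iff_yonedaSheafCondition.1 (hF S hSJ)) t
    have hgx : g ≫ η = x := by
      have hG' := Presieve.isSheafFor_iff_yonedaSheafCondition.1 (hGsh S hSJ)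
      have e1 : S.functorInclusion ≫ (g ≫ η) = S.functorInclusion ≫ x := by
        have hg' : S.functorInclusion ≫ g = t := hg
        rw [← Category.assoc, hg', ht]
      exact (hG' (S.functorInclusion ≫ x)).unique e1 rfl
    refine ⟨yonedaEquiv g, ?_⟩
    have h4 := congrArg yonedaEquiv hgx
    rw [yonedaEquiv_comp, Equiv.apply_symm_apply] at h4
    exact h4
  have hiso : IsIso η := by
    have : ∀ Y, IsIso (η.app Y) := fun Y => by
      rw [isIso_iff_bijective]
      exact ⟨hinj Y, hsurj Y.unop⟩
    exact NatIso.isIso_of_isIso_app η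
  exact P.prop_of_iso (asIso η).symm hG

end

end Groth.Agent.Helper6.LexRefl
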