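import Mathlib

set_option autoImplicit false

universe v v' v₁ u u' u₁

open CategoryTheory MorphismProperty

namespace Groth.Agent.Helper6.LocSub

variable {D : Type u} [Category.{v} D] {E : Type u'} [Category.{v'} E]

/-- The restriction of a class with right calculus of fractions to a full subcategory with
enough "resolutions" still has right calculus of fractions. -/
lemma hasRightCalculusOfFractions_inverseImage (P : ObjectProperty D) (S : MorphismProperty D)
    [S.HasRightCalculusOfFractions]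
    (hP : ∀ X : D, ∃ (X' : D) (s : X' ⟶ X), P X' ∧ S s) :
    (S.inverseImage P.ι).HasRightCalculusOfFractions where
  exists_rightFraction X Y φ := by
    obtain ⟨ψ', hψ'⟩ := (LeftFraction.mk (W := S) φ.f.hom φ.s.hom φ.hs).exists_rightFraction
    obtain ⟨Z, r, hZ, hr⟩ := hP ψ'.X'
    refine ⟨RightFraction.mk (W := S.inverseImage P.ι) (X' := ⟨Z, hZ⟩)
      (ObjectProperty.homMk (r ≫ ψ'.s)) (S.comp_mem _ _ hr ψ'.hs)
      (ObjectProperty.homMk (r ≫ ψ'.f)), ?_⟩
    apply ObjectProperty.hom_ext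
    show (r ≫ ψ'.s) ≫ φ.f.hom = (r ≫ ψ'.f) ≫ φ.s.hom
    rw [Category.assoc, Category.assoc]
    exact congrArg (r ≫ ·) hψ'
  ext X Y Y' f₁ f₂ s hs h := by
    have h0 : f₁.hom ≫ s.hom = f₂.hom ≫ s.hom := congrArg (fun k => k.hom) h
    obtain ⟨X'', t', ht', h'⟩ :=
      HasRightCalculusOfFractions.ext (W := S) f₁.hom f₂.hom s.hom hs h0
    obtain ⟨Z, r, hZ, hr⟩ := hP X''
    refine ⟨⟨Z, hZ⟩, ObjectProperty.homMk (r ≫ t'), S.comp_mem _ _ hr ht', ?_⟩
    apply ObjectProperty.hom_ext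
    show (r ≫ t') ≫ f₁.hom = (r ≫ t') ≫ f₂.hom
    rw [Category.assoc, Category.assoc, h']

lemma core (P : ObjectProperty D) (S : MorphismProperty D) [S.HasRightCalculusOfFractions]
    (Q : D ⥤ E) [Q.IsLocalization S]
    (hP : ∀ X : D, ∃ (X' : D) (s : X' ⟶ X), P X' ∧ S s)
    [(S.inverseImage P.ι).HasRightCalculusOfFractions]
    {D₁ : Type u₁} [Category.{v₁} D₁] (L₁ : P.FullSubcategory ⥤ D₁)
    [L₁.IsLocalization (S.inverseImage P.ι)] (G : D₁ ⥤ E)
    (eX : ∀ X : P.FullSubcategory, G.obj (L₁.obj X) ≅ Q.obj X.obj)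
    (nat : ∀ {X Y : P.FullSubcategory} (u : X ⟶ Y),
      G.map (L₁.map u) ≫ (eX Y).hom = (eX X).hom ≫ Q.map u.hom) :
    G.EssSurj ∧ G.Full ∧ G.Faithful := by
  have nat' : ∀ {X Y : P.FullSubcategory} (u : X ⟶ Y),
      G.map (L₁.map u) = (eX X).hom ≫ Q.map u.hom ≫ (eX Y).inv := by
    intro X Y u
    rw [← Category.assoc, ← nat u, Category.assoc, Iso.hom_inv_id, Category.comp_id]
  have natMk : ∀ {X Y : P.FullSubcategory} (u : X.obj ⟶ Y.obj),
      G.map (L₁.map (ObjectProperty.homMk u : X ⟶ Y)) =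
        (eX X).hom ≫ Q.map u ≫ (eX Y).inv := fun u => nat' (ObjectProperty.homMk u)
  have star : ∀ {X Y : P.FullSubcategory} (Z : D) (hZ : P Z) (s : Z ⟶ X.obj) (hs : S s)
      (f : Z ⟶ Y.obj),
      G.map ((RightFraction.mk (W := S.inverseImage P.ι) (X' := ⟨Z, hZ⟩)
        (ObjectProperty.homMk s) hs (ObjectProperty.homMk f)).map L₁
          (Localization.inverts L₁ _)) =
      (eX X).hom ≫ (RightFraction.mk (W := S) s hs f).map Q (Localization.inverts Q S) ≫
        (eX Y).inv := by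
    intro X Y Z hZ s hs f
    have : IsIso (L₁.map (ObjectProperty.homMk s : (⟨Z, hZ⟩ : P.FullSubcategory) ⟶ X)) :=
      Localization.inverts L₁ (S.inverseImage P.ι) _ hs
    have k1 : L₁.map (ObjectProperty.homMk s : (⟨Z, hZ⟩ : P.FullSubcategory) ⟶ X) ≫
        (RightFraction.mk (W := S.inverseImage P.ι) (X' := ⟨Z, hZ⟩)
          (ObjectProperty.homMk s) hs (ObjectProperty.homMk f)).map L₁
            (Localization.inverts L₁ _) =
        L₁.map (ObjectProperty.homMk f : (⟨Z, hZ⟩ : P.FullSubcategory) ⟶ Y) :=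
      RightFraction.map_s_comp_map (RightFraction.mk (W := S.inverseImage P.ι) (X' := ⟨Z, hZ⟩)
          (ObjectProperty.homMk s) hs (ObjectProperty.homMk f)) L₁ (Localization.inverts L₁ _)
    have k2 : Q.map s ≫ (RightFraction.mk (W := S) s hs f).map Q (Localization.inverts Q S) =
        Q.map f := RightFraction.map_s_comp_map (RightFraction.mk (W := S) s hs f) Q
          (Localization.inverts Q S)
    rw [← cancel_epi (G.map (L₁.map
      (ObjectProperty.homMk s : (⟨Z, hZ⟩ : P.FullSubcategory) ⟶ X))), ← G.map_comp, k1,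
      natMk (X := ⟨Z, hZ⟩) (Y := Y) f, natMk (X := ⟨Z, hZ⟩) (Y := X) s]
    simp only [Category.assoc, Iso.inv_hom_id_assoc]
    rw [← k2, Category.assoc]
  refine ⟨⟨fun Y => ?_⟩, ?_, ?_⟩
  · have : Q.EssSurj := Localization.essSurj Q S
    obtain ⟨X', s, hX', hs⟩ := hP (Q.objPreimage Y)
    have : IsIso (Q.map s) := Localization.inverts Q S s hs
    exact ⟨L₁.obj ⟨X', hX'⟩, ⟨eX ⟨X', hX'⟩ ≪≫ asIso (Q.map s) ≪≫ Q.objObjPreimageIso Y⟩⟩
  · have : L₁.EssSurj := Localization.essSurj L₁ (S.inverseImage P.ι)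
    refine G.full_of_comp_essSurj L₁ (fun X₁ X₂ φ => ?_)
    obtain ⟨ρ, hρ⟩ := Localization.exists_rightFraction Q S ((eX X₁).inv ≫ φ ≫ (eX X₂).hom)
    obtain ⟨Z, r, hZ, hr⟩ := hP ρ.X'
    refine ⟨(RightFraction.mk (W := S.inverseImage P.ι) (X' := ⟨Z, hZ⟩)
        (ObjectProperty.homMk (r ≫ ρ.s)) (S.comp_mem _ _ hr ρ.hs)
        (ObjectProperty.homMk (r ≫ ρ.f))).map L₁ (Localization.inverts L₁ _), ?_⟩
    rw [star Z hZ (r ≫ ρ.s) (S.comp_mem _ _ hr ρ.hs) (r ≫ ρ.f)]
    have h1 : (RightFraction.mk (W := S) (r ≫ ρ.s) (S.comp_mem _ _ hr ρ.hs) (r ≫ ρ.f)).map Q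
        (Localization.inverts Q S) = ρ.map Q (Localization.inverts Q S) := by
      have : IsIso (Q.map (r ≫ ρ.s)) := Localization.inverts Q S _ (S.comp_mem _ _ hr ρ.hs)
      have k1 : Q.map (r ≫ ρ.s) ≫
          (RightFraction.mk (W := S) (r ≫ ρ.s) (S.comp_mem _ _ hr ρ.hs) (r ≫ ρ.f)).map Q
            (Localization.inverts Q S) = Q.map (r ≫ ρ.f) :=
        RightFraction.map_s_comp_map (RightFraction.mk (W := S) (r ≫ ρ.s)
          (S.comp_mem _ _ hr ρ.hs) (r ≫ ρ.f)) Q (Localization.inverts Q S)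
      rw [← cancel_epi (Q.map (r ≫ ρ.s)), k1, Q.map_comp, Q.map_comp, Category.assoc,
        RightFraction.map_s_comp_map]
    rw [h1, ← hρ]
    simp
  · have : L₁.EssSurj := Localization.essSurj L₁ (S.inverseImage P.ι)
    refine G.faithful_of_comp_essSurj L₁ (fun X₁ X₂ f g hfg => ?_)
    obtain ⟨α, hα⟩ := Localization.exists_rightFraction L₁ (S.inverseImage P.ι) f
    obtain ⟨β, hβ⟩ := Localization.exists_rightFraction L₁ (S.inverseImage P.ι) g
    have sα := star α.X'.obj α.X'.property α.s.hom α.hs α.f.hom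
    have sβ := star β.X'.obj β.X'.property β.s.hom β.hs β.f.hom
    have e1 : (RightFraction.mk (W := S) α.s.hom α.hs α.f.hom).map Q (Localization.inverts Q S) =
        (RightFraction.mk (W := S) β.s.hom β.hs β.f.hom).map Q (Localization.inverts Q S) := by
      have h2 : G.map (α.map L₁ (Localization.inverts L₁ _)) =
          G.map (β.map L₁ (Localization.inverts L₁ _)) := by rw [← hα, ← hβ, hfg]
      have h3 := (sα.symm.trans h2).trans sβ
      have h4 := (cancel_epi _).1 h3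
      exact (cancel_mono _).1 h4
    obtain ⟨Z, t₁, t₂, hst, hft, ht⟩ := (RightFraction.map_eq_iff Q S _ _).1 e1
    obtain ⟨Z', r, hZ', hr⟩ := hP Z
    have rel : RightFractionRel α β := by
      refine ⟨⟨Z', hZ'⟩, ObjectProperty.homMk (r ≫ t₁), ObjectProperty.homMk (r ≫ t₂),
        ?_, ?_, ?_⟩
      · apply ObjectProperty.hom_ext
        show (r ≫ t₁) ≫ α.s.hom = (r ≫ t₂) ≫ β.s.hom
        rw [Category.assoc, Category.assoc]
        exact congrArg (r ≫ ·) hst
      · apply ObjectProperty.hom_ext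
        show (r ≫ t₁) ≫ α.f.hom = (r ≫ t₂) ≫ β.f.hom
        rw [Category.assoc, Category.assoc]
        exact congrArg (r ≫ ·) hft
      · show S ((r ≫ t₁) ≫ α.s.hom)
        rw [Category.assoc]
        exact S.comp_mem _ _ hr ht
    rw [hα, hβ]
    exact (RightFraction.map_eq_iff L₁ (S.inverseImage P.ι) α β).2 rel

/-- Localization of a full subcategory with enough resolutions (Kashiwara–Schapira 7.2.1). -/
theorem isLocalization_of_resolutions (P : ObjectProperty D) (S : MorphismProperty D)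
    [S.HasRightCalculusOfFractions] (Q : D ⥤ E) [Q.IsLocalization S]
    (hP : ∀ X : D, ∃ (X' : D) (s : X' ⟶ X), P X' ∧ S s) :
    (P.ι ⋙ Q).IsLocalization (S.inverseImage P.ι) := by
  have := hasRightCalculusOfFractions_inverseImage P S hP
  have h : (S.inverseImage P.ι).IsInvertedBy (P.ι ⋙ Q) :=
    fun X Y f hf => Localization.inverts Q S _ hf
  let G := Localization.lift (P.ι ⋙ Q) h (S.inverseImage P.ι).Q
  let e : (S.inverseImage P.ι).Q ⋙ G ≅ P.ι ⋙ Q := Localization.fac _ h _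
  obtain ⟨h1, h2, h3⟩ := core P S Q hP (S.inverseImage P.ι).Q G (fun X => e.app X)
    (fun u => e.hom.naturality u)
  have : G.IsEquivalence := { }
  exact Functor.IsLocalization.of_equivalence_target (S.inverseImage P.ι).Q (S.inverseImage P.ι)
    (P.ι ⋙ Q) G.asEquivalence e

end Groth.Agent.Helper6.LocSub
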