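import Mathlib
import Groth.Agent.Lib.Helper6.Spectral

set_option autoImplicit false
universe u

namespace Groth.Agent.Helper6

open Topology TopologicalSpace Set

/-- Under a continuous generalizing map of quasi-sober spaces, the closure of the image of an
irreducible component is an irreducible component. -/
lemma closure_image_mem_irreducibleComponents {X Y : Type*} [TopologicalSpace X]
    [TopologicalSpace Y] [QuasiSober X] [QuasiSober Y] (f : X → Y) (hfc : Continuous f)
    (hf : GeneralizingMap f) (T : Set X) (hT : T ∈ irreducibleComponents X) :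
    closure (f '' T) ∈ irreducibleComponents Y := by
  have hTcl : IsClosed T := isClosed_of_mem_irreducibleComponents T hT
  have hTirr : IsIrreducible T := hT.1
  obtain ⟨ξ, hξ⟩ := QuasiSober.sober hTirr hTcl
  have himg : IsIrreducible (closure (f '' T)) := (hTirr.image f hfc.continuousOn).closure
  refine ⟨himg, fun Z hZ hTZ => ?_⟩
  obtain ⟨η, hη⟩ := QuasiSober.sober hZ.closure isClosed_closure
  have hfξZ : f ξ ∈ closure Z := subset_closure (hTZ (subset_closure ⟨ξ, hξ.mem, rfl⟩))
  have hηξ : η ⤳ f ξ := hη.specializes hfξZ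
  obtain ⟨ξ', hξ'ξ, hfξ'⟩ := hf hηξ
  -- closure {ξ'} is irreducible and contains T
  have hTsub : T ⊆ closure ({ξ'} : Set X) := by
    rw [← hξ.def]
    exact (isClosed_closure.closure_subset_iff).mpr
      (singleton_subset_iff.mpr (specializes_iff_mem_closure.mp hξ'ξ))
  have hmax := hT.2 (isIrreducible_singleton (x := ξ')).closure hTsub
  have hξ'T : ξ' ∈ T := hmax (subset_closure rfl)
  have hξξ' : ξ ⤳ ξ' := hξ.specializes hξ'T
  have h1 : f ξ ⤳ η := by
    rw [← hfξ']
    exact hξξ'.map hfc
  intro z hz
  have hzη : z ∈ closure ({η} : Set Y) := by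
    rw [hη.def]; exact subset_closure hz
  have hfξT : f ξ ∈ f '' T := ⟨ξ, hξ.mem, rfl⟩
  have hsub : ({f ξ} : Set Y) ⊆ f '' T := singleton_subset_iff.mpr hfξT
  have hη1 : η ∈ closure ({f ξ} : Set Y) := specializes_iff_mem_closure.mp h1
  have hηcl : η ∈ closure (f '' T) := closure_mono hsub hη1
  exact (isClosed_closure.closure_subset_iff).mpr (singleton_subset_iff.mpr hηcl) hzη

end Groth.Agent.Helper6
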