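import Mathlib
import Groth.Agent.Lib.Helper6.PCm12

/-!
# `m`-pseudo-coherence, part 16: quotients by a regular element, finite free algebras,
integral generators, and relative pseudo-coherence along finite maps.
-/

set_option autoImplicit false
set_option linter.style.haveILetI false

universe u

open CategoryTheory Category Limits Pretriangulated DerivedCategory ZeroObject

attribute [local instance] HasDerivedCategory.standard

namespace Groth.Agent.Helper6.PCm

open Groth.Agent.Helper6.PerfTri

section Regular

variable {A B : Type u} [CommRing A] [CommRing B]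

/-- a surjection whose kernel is generated by a regular element is `ResPC`. -/
lemma resPC_of_regular (π : A →+* B) (hπ : Function.Surjective π) (a : A)
    (ha : IsLeftRegular a) (hker : ∀ x : A, π x = 0 ↔ a ∣ x) : ResPC π := by
  intro k
  let g₀ : A →ₗ[A] ((ModuleCat.restrictScalars.{u} π).obj (ModuleCat.of B B)) :=
    { toFun := fun p => (π p : B)
      map_add' := fun p q => (map_add π p q : π (p + q) = π p + π q)
      map_smul' := fun q p => (map_mul π q p : π (q * p) = π q * π p) }
  let S : ShortComplex (ModuleCat.{u} A) :=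
    ShortComplex.mk (ModuleCat.ofHom (LinearMap.mulLeft A a)) (ModuleCat.ofHom g₀) (by
      ext
      show (π (a * 1) : B) = 0
      rw [hker]
      exact ⟨1, rfl⟩)
  have hS : S.ShortExact :=
    { exact := (ShortComplex.ShortExact.moduleCat_exact_iff_function_exact S).2 (by
        intro p
        constructor
        · intro hp
          have hp' : (π (p : A) : B) = 0 := hp
          obtain ⟨q, hq⟩ := (hker p).1 hp'
          exact ⟨q, hq.symm⟩
        · rintro ⟨q, rfl⟩
          show (π (a * q) : B) = 0
          exact (hker _).2 ⟨q, rfl⟩)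
      mono_f := (ModuleCat.mono_iff_injective _).2 (fun p q (h : a * p = a * q) => ha h)
      epi_g := (ModuleCat.epi_iff_surjective _).2 (fun r => hπ (r : B)) }
  have hT := hS.singleTriangle_distinguished
  exact isPC_cone _ hT k
    (isPC_of_rep (k + 1) (rep_single_free (ModuleCat.of A A)))
    (isPC_of_rep k (rep_single_free (ModuleCat.of A A)))

/-- a finite free algebra is `ResPC`. -/
lemma resPC_algebraMap_of_finite_free [Algebra A B] [Module.Finite A B] [Module.Free A B] :
    ResPC (algebraMap A B) := by
  intro k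
  let l : B ≃ₗ[A] ((ModuleCat.restrictScalars.{u} (algebraMap A B)).obj (ModuleCat.of B B)) :=
    { toFun := fun x => x
      invFun := fun y => y
      map_add' := fun x y => rfl
      map_smul' := fun a x => (Algebra.smul_def a x : a • x = algebraMap A B a * x)
      left_inv := fun x => rfl
      right_inv := fun y => rfl }
  exact isPC_of_iso ((singleFunctor (ModuleCat.{u} A) 0).mapIso l.toModuleIso)
    (isPC_of_rep k (rep_single_free (ModuleCat.of A B)))

end Regular

section Poly

variable {C : Type u} [CommRing C]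

/-- if `γ X` is a root of a monic polynomial, pseudo-coherence over `T[y]` and over `T` agree. -/
lemma isPC_resD_poly_iff {T : Type u} [CommRing T] (γ : Polynomial T →+* C)
    (p : Polynomial T) (hp : p.Monic)
    (h0 : Polynomial.eval₂ (γ.comp Polynomial.C) (γ Polynomial.X) p = 0)
    (K : DerivedCategory (ModuleCat.{u} C)) (m : ℤ) :
    IsPC m ((resD γ).obj K) ↔ IsPC m ((resD (γ.comp Polynomial.C)).obj K) := by
  obtain ⟨γ', hγ'⟩ : ∃ γ' : AdjoinRoot p →+* C,
      γ' = AdjoinRoot.lift (γ.comp Polynomial.C) (γ Polynomial.X) h0 := ⟨_, rfl⟩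
  have h1 : γ = γ'.comp (AdjoinRoot.mk p) := by
    apply Polynomial.ringHom_ext
    · intro a
      simp [hγ']
    · simp [hγ']
  have h2 : γ.comp Polynomial.C = γ'.comp (AdjoinRoot.of p) := by
    ext a
    simp [hγ']
  have hmk : ResPC (AdjoinRoot.mk p) :=
    resPC_of_regular _ AdjoinRoot.mk_surjective p hp.isRegular.left
      (fun x => AdjoinRoot.mk_eq_zero)
  have hof : ResPC (AdjoinRoot.of p) := by
    haveI : Module.Finite T (AdjoinRoot p) := (AdjoinRoot.powerBasis' hp).finite
    haveI : Module.Free T (AdjoinRoot p) :=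
      Module.Free.of_basis (AdjoinRoot.powerBasis' hp).basis
    have h := resPC_algebraMap_of_finite_free (A := T) (B := AdjoinRoot p)
    rwa [AdjoinRoot.algebraMap_eq] at h
  have key1 : IsPC m ((resD γ).obj K) ↔ IsPC m ((resD γ').obj K) := by
    have h := isPC_resD_comp_iff (AdjoinRoot.mk p) γ' hmk K m
    rwa [← h1] at h
  have key2 : IsPC m ((resD (γ.comp Polynomial.C)).obj K) ↔ IsPC m ((resD γ').obj K) := by
    have h := isPC_resD_comp_iff (AdjoinRoot.of p) γ' hof K m
    rwa [← h2] at h
  exact key1.trans key2.symm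

/-- if all `γ (X j)` are integral over `T`, pseudo-coherence over `T[y_1, …, y_k]` and over `T`
agree. -/
theorem isPC_resD_mvPoly_iff (K : DerivedCategory (ModuleCat.{u} C)) (m : ℤ) (k : ℕ) :
    ∀ (T : Type u) [CommRing T] (γ : MvPolynomial (Fin k) T →+* C)
      (_ : ∀ j, ∃ p : Polynomial T, p.Monic ∧
        Polynomial.eval₂ (γ.comp MvPolynomial.C) (γ (MvPolynomial.X j)) p = 0),
      IsPC m ((resD γ).obj K) ↔ IsPC m ((resD (γ.comp MvPolynomial.C)).obj K) := by
  induction k with
  | zero =>
    intro T _ γ _
    have hC : (MvPolynomial.C : T →+* MvPolynomial (Fin 0) T) =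
        (MvPolynomial.isEmptyRingEquiv T (Fin 0)).symm.toRingHom := by
      refine RingHom.ext (fun r => ?_)
      exact (MvPolynomial.isEmptyRingEquiv_symm_apply (R := T) (σ := Fin 0) r).symm
    have hres : ResPC (MvPolynomial.C : T →+* MvPolynomial (Fin 0) T) := by
      rw [hC]
      exact resPC_ringEquiv _
    exact (isPC_resD_comp_iff (MvPolynomial.C : T →+* MvPolynomial (Fin 0) T) γ hres K m).symm
  | succ k ih =>
    intro T _ γ hint
    obtain ⟨e, he⟩ : ∃ e : MvPolynomial (Fin (k + 1)) T ≃+* Polynomial (MvPolynomial (Fin k) T),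
        e = (MvPolynomial.finSuccEquiv T k).toRingEquiv := ⟨_, rfl⟩
    have heX : e (MvPolynomial.X 0) = Polynomial.X := by
      rw [he]; exact MvPolynomial.finSuccEquiv_X_zero
    have heS : ∀ j : Fin k, e (MvPolynomial.X j.succ) = Polynomial.C (MvPolynomial.X j) := by
      intro j; rw [he]; exact MvPolynomial.finSuccEquiv_X_succ
    have heC : ∀ t : T, e (MvPolynomial.C t) = Polynomial.C (MvPolynomial.C t) := by
      intro t; rw [he]
      show (MvPolynomial.finSuccEquiv T k) (MvPolynomial.C t) = _
      simp [MvPolynomial.finSuccEquiv_apply]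
    obtain ⟨γt, hγt⟩ : ∃ γt : Polynomial (MvPolynomial (Fin k) T) →+* C,
        γt = γ.comp e.symm.toRingHom := ⟨_, rfl⟩
    have hγ : γ = γt.comp e.toRingHom := by
      rw [hγt]
      ext x <;> simp
    have happ : ∀ x, γt (e x) = γ x := by
      intro x
      rw [hγt]
      show γ (e.symm (e x)) = γ x
      rw [RingEquiv.symm_apply_apply]
    have hX : γt Polynomial.X = γ (MvPolynomial.X 0) := by rw [← heX, happ]
    have hCX : ∀ j : Fin k, γt (Polynomial.C (MvPolynomial.X j)) = γ (MvPolynomial.X j.succ) := by
      intro j; rw [← heS, happ]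
    have hCC : ∀ t : T, γt (Polynomial.C (MvPolynomial.C t)) = γ (MvPolynomial.C t) := by
      intro t; rw [← heC, happ]
    have hfin : (γt.comp Polynomial.C).comp
        (MvPolynomial.C : T →+* MvPolynomial (Fin k) T) = γ.comp MvPolynomial.C := by
      ext t
      exact hCC t
    have s1 : IsPC m ((resD γ).obj K) ↔ IsPC m ((resD γt).obj K) := by
      have h := isPC_resD_comp_iff e.toRingHom γt (resPC_ringEquiv e) K m
      rwa [← hγ] at h
    obtain ⟨p, hp, hp0⟩ := hint 0
    have s2 : IsPC m ((resD γt).obj K) ↔ IsPC m ((resD (γt.comp Polynomial.C)).obj K) := by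
      refine isPC_resD_poly_iff γt
        (p.map (MvPolynomial.C : T →+* MvPolynomial (Fin k) T)) (hp.map _) ?_ K m
      rw [Polynomial.eval₂_map, hX, hfin]
      exact hp0
    have s3 := ih T (γt.comp Polynomial.C) (fun j => by
      obtain ⟨q, hq, hq0⟩ := hint j.succ
      refine ⟨q, hq, ?_⟩
      rw [hfin]
      show Polynomial.eval₂ _ (γt (Polynomial.C (MvPolynomial.X j))) q = 0
      rw [hCX]
      exact hq0)
    rw [hfin] at s3
    exact s1.trans (s2.trans s3)

end Poly

section Assembly

variable {R A : Type u} [CommRing R] [CommRing A] [Algebra R A]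

/-- relative pseudo-coherence can be tested on a surjection from any `R`-algebra isomorphic to a
polynomial ring in finitely many variables. -/
theorem relPC_iff_of_algEquiv {N : ℕ} {P' : Type u} [CommRing P'] [Algebra R P']
    (E : MvPolynomial (Fin N) R ≃ₐ[R] P') (γ : P' →ₐ[R] A) (hγ : Function.Surjective γ) (m : ℤ)
    (X : DerivedCategory (ModuleCat.{u} A)) :
    (∃ (n : ℕ) (α : MvPolynomial (Fin n) R →ₐ[R] A), Function.Surjective α ∧
      IsPC m ((resD (α : MvPolynomial (Fin n) R →+* A)).obj X)) ↔
    IsPC m ((resD (γ : P' →+* A)).obj X) := by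
  have hsurj : Function.Surjective (γ.comp E.toAlgHom) := hγ.comp E.surjective
  rw [relPC_iff (γ.comp E.toAlgHom) hsurj m X]
  have hcomp : ((γ.comp E.toAlgHom : MvPolynomial (Fin N) R →ₐ[R] A) :
      MvPolynomial (Fin N) R →+* A) = (γ : P' →+* A).comp E.toRingEquiv.toRingHom :=
    RingHom.ext (fun x => rfl)
  rw [hcomp]
  exact isPC_resD_comp_iff E.toRingEquiv.toRingHom (γ : P' →+* A) (resPC_ringEquiv _) X m

end Assembly

end Groth.Agent.Helper6.PCm
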