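import Mathlib
import Groth.Agent.Lib.Helper6.PCm16

/-!
# `m`-pseudo-coherence, part 17: relative pseudo-coherence and restriction along a finite map.
-/

set_option autoImplicit false
set_option linter.style.haveILetI false

universe u

open CategoryTheory Category Limits Pretriangulated DerivedCategory ZeroObject

attribute [local instance] HasDerivedCategory.standard

namespace Groth.Agent.Helper6.PCm

open Groth.Agent.Helper6.PerfTri

theorem relPC_finite_iff {R A B : Type u} [CommRing R] [CommRing A] [CommRing B]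
    [Algebra R A] [Algebra A B] [Algebra R B] [IsScalarTower R A B] [Algebra.FiniteType R A]
    [Module.Finite A B] (K : DerivedCategory (ModuleCat.{u} B)) (m : ℤ) :
    (∃ (n : ℕ) (β : MvPolynomial (Fin n) R →ₐ[R] B), Function.Surjective β ∧
      IsPC m ((resD (β : MvPolynomial (Fin n) R →+* B)).obj K)) ↔
    (∃ (n : ℕ) (α : MvPolynomial (Fin n) R →ₐ[R] A), Function.Surjective α ∧
      IsPC m ((resD (α : MvPolynomial (Fin n) R →+* A)).obj
        ((resD (algebraMap A B)).obj K))) := by
  obtain ⟨n, α, hα⟩ := Algebra.FiniteType.iff_quotient_mvPolynomial''.1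
    (inferInstance : Algebra.FiniteType R A)
  obtain ⟨k, b, hb⟩ := Module.Finite.exists_fin (R := A) (M := B)
  obtain ⟨g, hg⟩ : ∃ g : MvPolynomial (Fin n) R →+* B,
      g = (algebraMap A B).comp (α : MvPolynomial (Fin n) R →+* A) := ⟨_, rfl⟩
  have hgapp : ∀ x, g x = algebraMap A B (α x) := fun x => by rw [hg]; rfl
  have hgR : ∀ r : R, g (MvPolynomial.C r) = algebraMap R B r := by
    intro r
    rw [hgapp, ← MvPolynomial.algebraMap_eq, α.commutes, ← IsScalarTower.algebraMap_apply]
  let γ : MvPolynomial (Fin k) (MvPolynomial (Fin n) R) →ₐ[R] B :=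
    { toRingHom := MvPolynomial.eval₂Hom g b
      commutes' := fun r => by
        show MvPolynomial.eval₂Hom g b (algebraMap R _ r) = _
        rw [MvPolynomial.algebraMap_apply, MvPolynomial.eval₂Hom_C, MvPolynomial.algebraMap_eq,
          hgR] }
  have hγC : (γ : MvPolynomial (Fin k) (MvPolynomial (Fin n) R) →+* B).comp MvPolynomial.C = g :=
    RingHom.ext fun x => MvPolynomial.eval₂Hom_C g b x
  have hγX : ∀ j, (γ : MvPolynomial (Fin k) (MvPolynomial (Fin n) R) →+* B)
      (MvPolynomial.X j) = b j := fun j => MvPolynomial.eval₂Hom_X' g b j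
  have hγapp : ∀ x, γ x = (γ : MvPolynomial (Fin k) (MvPolynomial (Fin n) R) →+* B) x :=
    fun x => rfl
  have hγsurj : Function.Surjective γ := by
    intro x
    have hx : x ∈ Submodule.span A (Set.range b) := by rw [hb]; trivial
    induction hx using Submodule.span_induction with
    | mem y hy =>
      obtain ⟨j, rfl⟩ := hy
      exact ⟨MvPolynomial.X j, hγX j⟩
    | zero => exact ⟨0, map_zero γ⟩
    | add y z _ _ hy hz =>
      obtain ⟨p, rfl⟩ := hy
      obtain ⟨q, rfl⟩ := hz
      exact ⟨p + q, map_add γ p q⟩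
    | smul a y _ hy =>
      obtain ⟨q, rfl⟩ := hy
      obtain ⟨pa, rfl⟩ := hα a
      refine ⟨MvPolynomial.C pa * q, ?_⟩
      rw [map_mul, Algebra.smul_def]
      congr 1
      show MvPolynomial.eval₂Hom g b (MvPolynomial.C pa) = _
      rw [MvPolynomial.eval₂Hom_C, hgapp]
  have hint : ∀ j, ∃ p : Polynomial (MvPolynomial (Fin n) R), p.Monic ∧
      Polynomial.eval₂
        ((γ : MvPolynomial (Fin k) (MvPolynomial (Fin n) R) →+* B).comp MvPolynomial.C)
        ((γ : MvPolynomial (Fin k) (MvPolynomial (Fin n) R) →+* B) (MvPolynomial.X j)) p = 0 := by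
    intro j
    obtain ⟨q, hq, hq0⟩ := Algebra.IsIntegral.isIntegral (R := A) (b j)
    have hl : q ∈ Polynomial.lifts (α : MvPolynomial (Fin n) R →+* A) :=
      (Polynomial.lifts_iff_coeff_lifts _).2 (fun i => hα _)
    obtain ⟨p, hpq, -, hp⟩ := Polynomial.lifts_and_natDegree_eq_and_monic hl hq
    refine ⟨p, hp, ?_⟩
    rw [hγC, hγX, hg, ← Polynomial.eval₂_map, hpq]
    exact hq0
  have E : MvPolynomial (Fin (k + n)) R ≃ₐ[R] MvPolynomial (Fin k) (MvPolynomial (Fin n) R) :=
    (MvPolynomial.renameEquiv R finSumFinEquiv).symm.trans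
      (MvPolynomial.sumAlgEquiv R (Fin k) (Fin n))
  rw [relPC_iff_of_algEquiv E γ hγsurj m K, relPC_iff α hα m ((resD (algebraMap A B)).obj K),
    isPC_resD_mvPoly_iff K m k _
      (γ : MvPolynomial (Fin k) (MvPolynomial (Fin n) R) →+* B) hint, hγC, hg]
  obtain ⟨e⟩ := resD_comp_iso (α : MvPolynomial (Fin n) R →+* A) (algebraMap A B) K
  exact ⟨isPC_of_iso e.symm, isPC_of_iso e⟩

end Groth.Agent.Helper6.PCm
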