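import Mathlib
import Groth.Agent.Lib.Helper6.PCm15
import Groth.Agent.Lib.Helper6.PCm16

/-!
# `m`-pseudo-coherence, part 18: polynomial base change of `ResPC`, and relative
pseudo-coherence over an intermediate algebra.
-/

set_option autoImplicit false
set_option linter.style.haveILetI false

universe u

open CategoryTheory Category Limits Pretriangulated DerivedCategory ZeroObject TensorProduct

attribute [local instance] HasDerivedCategory.standard

namespace Groth.Agent.Helper6.PCm

open Groth.Agent.Helper6.PerfTri

section BaseChange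

variable {P A : Type u} [CommRing P] [CommRing A]

/-- `P[σ] ⊗_P A ≅ A[σ]`, linear over `P[σ]`. -/
noncomputable def polyBaseChange (α : P →+* A) (k : ℕ) :
    (MvPolynomial (Fin k) P ⊗[P]
        ((ModuleCat.restrictScalars.{u} α).obj (ModuleCat.of A A))) ≃ₗ[MvPolynomial (Fin k) P]
      ((ModuleCat.restrictScalars.{u}
        (MvPolynomial.map α : MvPolynomial (Fin k) P →+* MvPolynomial (Fin k) A)).obj
        (ModuleCat.of (MvPolynomial (Fin k) A) (MvPolynomial (Fin k) A))) := by
  letI : Algebra P A := α.toAlgebra
  let toA : ((ModuleCat.restrictScalars.{u} α).obj (ModuleCat.of A A)) → A := fun x => x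
  let ofA : A → ((ModuleCat.restrictScalars.{u} α).obj (ModuleCat.of A A)) := fun x => x
  let e₀ : ((ModuleCat.restrictScalars.{u} α).obj (ModuleCat.of A A)) ≃ₗ[P] A :=
    { toFun := toA
      invFun := ofA
      map_add' := fun _ _ => rfl
      map_smul' := fun r x => (Algebra.smul_def r (toA x)).symm
      left_inv := fun _ => rfl
      right_inv := fun _ => rfl }
  let c : (MvPolynomial (Fin k) P ⊗[P]
      ((ModuleCat.restrictScalars.{u} α).obj (ModuleCat.of A A))) ≃ₗ[P] MvPolynomial (Fin k) A :=
    (TensorProduct.congr (LinearEquiv.refl P (MvPolynomial (Fin k) P)) e₀).trans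
      ((TensorProduct.comm P (MvPolynomial (Fin k) P) A).trans
        ((MvPolynomial.algebraTensorAlgEquiv P A).toLinearEquiv.restrictScalars P))
  have hc : ∀ (s : MvPolynomial (Fin k) P)
      (m : ((ModuleCat.restrictScalars.{u} α).obj (ModuleCat.of A A))),
      c (s ⊗ₜ[P] m) = toA m • MvPolynomial.map α s := by
    intro s m
    show (MvPolynomial.algebraTensorAlgEquiv P A) (toA m ⊗ₜ[P] s) = _
    rw [MvPolynomial.algebraTensorAlgEquiv_tmul]
    rfl
  have key : ∀ (s' : MvPolynomial (Fin k) P) (x : MvPolynomial (Fin k) P ⊗[P]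
      ((ModuleCat.restrictScalars.{u} α).obj (ModuleCat.of A A))),
      c (s' • x) = MvPolynomial.map α s' * c x := by
    intro s' x
    induction x using TensorProduct.induction_on with
    | zero => rw [smul_zero, map_zero, mul_zero]
    | tmul s m =>
      rw [TensorProduct.smul_tmul', smul_eq_mul, hc, hc, map_mul, mul_smul_comm]
    | add x y hx hy => rw [smul_add, map_add, hx, hy, map_add, mul_add]
  exact
    { toFun := fun x => c x
      invFun := fun y => c.symm y
      map_add' := fun x y => map_add c x y
      map_smul' := fun s x => key s x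
      left_inv := fun x => c.symm_apply_apply x
      right_inv := fun y => c.apply_symm_apply y }

/-- `ResPC` is stable under adjoining polynomial variables. -/
lemma resPC_mvPolyMap (α : P →+* A) (hα : ResPC α) (k : ℕ) :
    ResPC (MvPolynomial.map α : MvPolynomial (Fin k) P →+* MvPolynomial (Fin k) A) := by
  intro k'
  have h1 : IsPC k' ((mapD (extF P (MvPolynomial (Fin k) P))).obj
      ((singleFunctor (ModuleCat.{u} P) 0).obj
        ((ModuleCat.restrictScalars.{u} α).obj (ModuleCat.of A A)))) :=
    isPC_extF (hα k')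
  exact isPC_of_iso
    (mapDSingleIso (extF P (MvPolynomial (Fin k) P))
        ((ModuleCat.restrictScalars.{u} α).obj (ModuleCat.of A A)) ≪≫
      (singleFunctor (ModuleCat.{u} (MvPolynomial (Fin k) P)) 0).mapIso
        ((extIso (S := MvPolynomial (Fin k) P)
          ((ModuleCat.restrictScalars.{u} α).obj (ModuleCat.of A A))).trans
            (polyBaseChange α k)).toModuleIso) h1

end BaseChange

theorem relPC_intermediate_iff {R A B : Type u} [CommRing R] [CommRing A] [CommRing B]
    [Algebra R A] [Algebra A B] [Algebra R B] [IsScalarTower R A B] [Algebra.FiniteType R A]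
    [Algebra.FiniteType A B]
    (hA : ∀ m : ℤ, ∃ (n : ℕ) (α : MvPolynomial (Fin n) R →ₐ[R] A), Function.Surjective α ∧
      IsPC m ((resD (α : MvPolynomial (Fin n) R →+* A)).obj
        ((singleFunctor (ModuleCat.{u} A) 0).obj (ModuleCat.of A A))))
    (K : DerivedCategory (ModuleCat.{u} B)) (m : ℤ) :
    (∃ (n : ℕ) (β : MvPolynomial (Fin n) A →ₐ[A] B), Function.Surjective β ∧
      IsPC m ((resD (β : MvPolynomial (Fin n) A →+* B)).obj K)) ↔
    (∃ (n : ℕ) (β : MvPolynomial (Fin n) R →ₐ[R] B), Function.Surjective β ∧
      IsPC m ((resD (β : MvPolynomial (Fin n) R →+* B)).obj K)) := by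
  obtain ⟨n, α, hα⟩ := Algebra.FiniteType.iff_quotient_mvPolynomial''.1
    (inferInstance : Algebra.FiniteType R A)
  obtain ⟨k, δ, hδ⟩ := Algebra.FiniteType.iff_quotient_mvPolynomial''.1
    (inferInstance : Algebra.FiniteType A B)
  have hres : ResPC (α : MvPolynomial (Fin n) R →+* A) := by
    intro k'
    have h := (relPC_iff α hα k' _).1 (hA k')
    exact isPC_of_iso (resDSingleIso (α : MvPolynomial (Fin n) R →+* A) (ModuleCat.of A A)) h
  have hmap : ResPC (MvPolynomial.map (α : MvPolynomial (Fin n) R →+* A) :
      MvPolynomial (Fin k) (MvPolynomial (Fin n) R) →+* MvPolynomial (Fin k) A) :=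
    resPC_mvPolyMap _ hres k
  let γ : MvPolynomial (Fin k) (MvPolynomial (Fin n) R) →ₐ[R] B :=
    { toRingHom := (δ : MvPolynomial (Fin k) A →+* B).comp
        (MvPolynomial.map (α : MvPolynomial (Fin n) R →+* A))
      commutes' := fun r => by
        show δ (MvPolynomial.map (α : MvPolynomial (Fin n) R →+* A) (algebraMap R _ r)) = _
        rw [MvPolynomial.algebraMap_apply, MvPolynomial.map_C]
        have h1 : (α : MvPolynomial (Fin n) R →+* A)
            (algebraMap R (MvPolynomial (Fin n) R) r) = algebraMap R A r := α.commutes r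
        rw [h1, ← MvPolynomial.algebraMap_eq, δ.commutes, ← IsScalarTower.algebraMap_apply] }
  have hγsurj : Function.Surjective γ := hδ.comp (MvPolynomial.map_surjective _ hα)
  have E : MvPolynomial (Fin (k + n)) R ≃ₐ[R] MvPolynomial (Fin k) (MvPolynomial (Fin n) R) :=
    (MvPolynomial.renameEquiv R finSumFinEquiv).symm.trans
      (MvPolynomial.sumAlgEquiv R (Fin k) (Fin n))
  rw [relPC_iff δ hδ m K, relPC_iff_of_algEquiv E γ hγsurj m K]
  exact (isPC_resD_comp_iff _ (δ : MvPolynomial (Fin k) A →+* B) hmap K m).symm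

end Groth.Agent.Helper6.PCm
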