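import Mathlib
import Groth.Agent.Lib.Helper6.PCm18

/-!
# `m`-pseudo-coherence, part 19: localization at an element commutes with restriction of scalars.
-/

set_option autoImplicit false
set_option linter.style.haveILetI false

universe u

open CategoryTheory Category Limits Pretriangulated DerivedCategory ZeroObject TensorProduct

attribute [local instance] HasDerivedCategory.standard

namespace Groth.Agent.Helper6.PCm

open Groth.Agent.Helper6.PerfTri

section Clean

variable {P A : Type u} [CommRing P] [CommRing A] (α : P →+* A) (g : P)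

/-- the induced map on localizations. -/
noncomputable abbrev awayMap : Localization.Away g →+* Localization.Away (α g) :=
  IsLocalization.Away.map (Localization.Away g) (Localization.Away (α g)) α g

lemma awayMap_algebraMap (p : P) :
    awayMap α g (algebraMap P (Localization.Away g) p) =
      algebraMap A (Localization.Away (α g)) (α p) :=
  IsLocalization.map_eq _ p

variable (M : Type u) [AddCommGroup M] [Module A M] [Module P M]
  (hM : ∀ (p : P) (m : M), p • m = α p • m)

/-- `P_g ⊗_P M → A_f ⊗_A M`. -/
noncomputable def locHom :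
    (Localization.Away g ⊗[P] M) →+ (Localization.Away (α g) ⊗[A] M) :=
  TensorProduct.liftAddHom
    { toFun := fun s =>
        (TensorProduct.mk A (Localization.Away (α g)) M (awayMap α g s)).toAddMonoidHom
      map_zero' := by
        ext m
        show (awayMap α g 0) ⊗ₜ[A] m = 0
        rw [map_zero, TensorProduct.zero_tmul]
      map_add' := fun s t => by
        ext m
        show (awayMap α g (s + t)) ⊗ₜ[A] m = (awayMap α g s) ⊗ₜ[A] m + (awayMap α g t) ⊗ₜ[A] m
        rw [map_add, TensorProduct.add_tmul] }
    (fun p s m => by
      show (awayMap α g (p • s)) ⊗ₜ[A] m = (awayMap α g s) ⊗ₜ[A] (p • m)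
      have h1 : awayMap α g (p • s) = α p • awayMap α g s := by
        rw [Algebra.smul_def, map_mul, awayMap_algebraMap, ← Algebra.smul_def]
      rw [h1, hM, TensorProduct.smul_tmul])

lemma locHom_tmul (s : Localization.Away g) (m : M) :
    locHom α g M hM (s ⊗ₜ[P] m) = (awayMap α g s) ⊗ₜ[A] m := rfl

lemma locHom_smul (s' : Localization.Away g) (x : Localization.Away g ⊗[P] M) :
    locHom α g M hM (s' • x) = awayMap α g s' • locHom α g M hM x := by
  induction x using TensorProduct.induction_on with
  | zero => rw [smul_zero, map_zero, smul_zero]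
  | tmul s m =>
    rw [TensorProduct.smul_tmul', smul_eq_mul, locHom_tmul, locHom_tmul, map_mul,
      TensorProduct.smul_tmul', smul_eq_mul]
  | add x y hx hy => rw [smul_add, map_add, hx, hy, map_add, smul_add]

lemma locHom_injective : Function.Injective (locHom α g M hM) := by
  rw [injective_iff_map_eq_zero]
  intro y hy
  obtain ⟨⟨m, s⟩, hs⟩ := IsLocalizedModule.surj (Submonoid.powers g)
    (TensorProduct.mk P (Localization.Away g) M 1) y
  have hs0 : (s : P) • y = (1 : Localization.Away g) ⊗ₜ[P] m := hs
  have hs' : (algebraMap P (Localization.Away g) (s : P)) • y =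
      (1 : Localization.Away g) ⊗ₜ[P] m := by
    rw [algebraMap_smul]
    exact hs0
  have h1 : locHom α g M hM ((1 : Localization.Away g) ⊗ₜ[P] m) = 0 := by
    rw [← hs', locHom_smul, hy, smul_zero]
  have h2 : (TensorProduct.mk A (Localization.Away (α g)) M 1) m = 0 := by
    rw [locHom_tmul, map_one] at h1
    exact h1
  obtain ⟨t, ht⟩ := (IsLocalizedModule.eq_zero_iff (S := Submonoid.powers (α g))
    (f := TensorProduct.mk A (Localization.Away (α g)) M 1)).1 h2
  obtain ⟨k, hk⟩ := t.2
  have ht0 : (t : A) • m = 0 := ht
  have h3 : (g ^ k) • m = 0 := by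
    rw [hM, map_pow]
    have hk' : α g ^ k = (t : A) := hk
    rw [hk']
    exact ht0
  have h4 : (g ^ k) • ((1 : Localization.Away g) ⊗ₜ[P] m) = 0 := by
    rw [← TensorProduct.tmul_smul, h3, TensorProduct.tmul_zero]
  let u : Submonoid.powers g := ⟨g ^ k, ⟨k, rfl⟩⟩ * s
  have hu : u • y = 0 := by
    show ((g ^ k * (s : P)) : P) • y = 0
    rw [mul_smul, hs0, h4]
  exact IsLocalizedModule.smul_injective (TensorProduct.mk P (Localization.Away g) M 1) u
    (by
      show u • y = u • 0
      rw [smul_zero]
      exact hu)

lemma locHom_surjective : Function.Surjective (locHom α g M hM) := by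
  intro y
  induction y using TensorProduct.induction_on with
  | zero => exact ⟨0, map_zero _⟩
  | add y z hy hz =>
    obtain ⟨a, rfl⟩ := hy
    obtain ⟨b, rfl⟩ := hz
    exact ⟨a + b, map_add _ _ _⟩
  | tmul x m =>
    obtain ⟨k, a, hka⟩ := IsLocalization.Away.surj (α g) x
    have hu : IsUnit (algebraMap P (Localization.Away g) (g ^ k)) :=
      IsLocalization.map_units (Localization.Away g)
        (⟨g ^ k, ⟨k, rfl⟩⟩ : Submonoid.powers g)
    obtain ⟨v, hv⟩ := hu.exists_right_inv
    refine ⟨v ⊗ₜ[P] (a • m), ?_⟩
    rw [locHom_tmul]
    have h1 : algebraMap A (Localization.Away (α g)) (α g ^ k) * awayMap α g v = 1 := by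
      rw [← map_pow, ← awayMap_algebraMap, ← map_mul, hv, map_one]
    have h2 : a • awayMap α g v = x := by
      rw [Algebra.smul_def, ← hka, ← map_pow, mul_assoc, h1, mul_one]
    rw [← TensorProduct.smul_tmul, h2]

end Clean

section ModCat

variable {P A : Type u} [CommRing P] [CommRing A] (α : P →+* A) (g : P)

instance preservesFiniteLimits_extF_away (R : Type u) [CommRing R] (x : R) :
    PreservesFiniteLimits (extF R (Localization.Away x)) :=
  ModuleCat.preservesFiniteLimits_extendScalars_of_flat
    (RingHom.flat_algebraMap_iff.2 (IsLocalization.flat _ (Submonoid.powers x)))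

/-- `locHom` for objects of module categories. -/
noncomputable def locHomM (M : ModuleCat.{u} A) :
    (Localization.Away g ⊗[P] ((ModuleCat.restrictScalars.{u} α).obj M)) →+
      (Localization.Away (α g) ⊗[A] M) :=
  @locHom P A _ _ α g M _ _ ((ModuleCat.restrictScalars.{u} α).obj M).isModule (fun _ _ => rfl)

lemma locHomM_smul (M : ModuleCat.{u} A) (s' : Localization.Away g)
    (x : Localization.Away g ⊗[P] ((ModuleCat.restrictScalars.{u} α).obj M)) :
    locHomM α g M (s' • x) = awayMap α g s' • locHomM α g M x :=
  @locHom_smul P A _ _ α g M _ _ ((ModuleCat.restrictScalars.{u} α).obj M).isModule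
    (fun _ _ => rfl) s' x

lemma locHomM_bijective (M : ModuleCat.{u} A) : Function.Bijective (locHomM α g M) :=
  ⟨@locHom_injective P A _ _ α g M _ _ ((ModuleCat.restrictScalars.{u} α).obj M).isModule
      (fun _ _ => rfl),
    @locHom_surjective P A _ _ α g M _ _ ((ModuleCat.restrictScalars.{u} α).obj M).isModule
      (fun _ _ => rfl)⟩

/-- the comparison map `P_g ⊗_P M → A_f ⊗_A M` on module categories. -/
noncomputable def locLin (M : ModuleCat.{u} A) :
    ((extF P (Localization.Away g)).obj
      ((ModuleCat.restrictScalars.{u} α).obj M)) →ₗ[Localization.Away g]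
      ((ModuleCat.restrictScalars.{u} (awayMap α g)).obj
        ((extF A (Localization.Away (α g))).obj M)) where
  toFun x := (extIso (S := Localization.Away (α g)) M).symm
    (locHomM α g M
      (extIso (S := Localization.Away g) ((ModuleCat.restrictScalars.{u} α).obj M) x))
  map_add' x y := by
    rw [map_add, map_add, map_add]
    rfl
  map_smul' s x := by
    rw [map_smul, locHomM_smul, map_smul]
    rfl

lemma locLin_bijective (M : ModuleCat.{u} A) : Function.Bijective (locLin α g M) := by
  have h1 := (extIso (S := Localization.Away g)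
    ((ModuleCat.restrictScalars.{u} α).obj M)).bijective
  have h2 := locHomM_bijective α g M
  have h3 := (extIso (S := Localization.Away (α g)) M).symm.bijective
  exact h3.comp (h2.comp h1)

/-- the comparison iso `P_g ⊗_P M ≅ A_f ⊗_A M` on module categories. -/
noncomputable def locIso (M : ModuleCat.{u} A) :
    (extF P (Localization.Away g)).obj ((ModuleCat.restrictScalars.{u} α).obj M) ≅
      (ModuleCat.restrictScalars.{u} (awayMap α g)).obj
        ((extF A (Localization.Away (α g))).obj M) :=
  (LinearEquiv.ofBijective (locLin α g M) (locLin_bijective α g M)).toModuleIso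

lemma locIso_naturality {M M' : ModuleCat.{u} A} (φ : M ⟶ M') :
    (extF P (Localization.Away g)).map ((ModuleCat.restrictScalars.{u} α).map φ) ≫
        (locIso α g M').hom =
      (locIso α g M).hom ≫ (ModuleCat.restrictScalars.{u} (awayMap α g)).map
        ((extF A (Localization.Away (α g))).map φ) := by
  apply ModuleCat.ExtendScalars.hom_ext
  intro m
  rfl

/-- the comparison iso on complexes. -/
noncomputable def locCxIso (K : CochainComplex (ModuleCat.{u} A) ℤ) :
    ((extF P (Localization.Away g)).mapHomologicalComplex (ComplexShape.up ℤ)).obj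
      (((ModuleCat.restrictScalars.{u} α).mapHomologicalComplex (ComplexShape.up ℤ)).obj K) ≅
    ((ModuleCat.restrictScalars.{u} (awayMap α g)).mapHomologicalComplex
      (ComplexShape.up ℤ)).obj
      (((extF A (Localization.Away (α g))).mapHomologicalComplex (ComplexShape.up ℤ)).obj K) :=
  HomologicalComplex.Hom.isoOfComponents (fun i => locIso α g (K.X i))
    (fun i j _ => (locIso_naturality α g (K.d i j)).symm)

/-- the comparison iso in the derived category. -/
lemma locD_iso (K : CochainComplex (ModuleCat.{u} A) ℤ) :
    Nonempty ((mapD (extF P (Localization.Away g))).obj ((resD α).obj (Q.obj K)) ≅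
      (resD (awayMap α g)).obj (Q.obj (((extF A (Localization.Away (α g))).mapHomologicalComplex
        (ComplexShape.up ℤ)).obj K))) :=
  ⟨(mapD (extF P (Localization.Away g))).mapIso
      ((ModuleCat.restrictScalars.{u} α).mapDerivedCategoryFactors.app K) ≪≫
    mapDQIso (extF P (Localization.Away g)) _ ≪≫ Q.mapIso (locCxIso α g K) ≪≫
    ((ModuleCat.restrictScalars.{u} (awayMap α g)).mapDerivedCategoryFactors.app _).symm⟩

end ModCat

end Groth.Agent.Helper6.PCm
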