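import Mathlib
import Groth.Agent.Lib.Helper6.PCm19

/-!
# `m`-pseudo-coherence, part 20: polynomial-like algebras, localization at an element, and
relative pseudo-coherence.
-/

set_option autoImplicit false
set_option linter.style.haveILetI false

universe u

open CategoryTheory Category Limits Pretriangulated DerivedCategory ZeroObject TensorProduct

attribute [local instance] HasDerivedCategory.standard

namespace Groth.Agent.Helper6.PCm

open Groth.Agent.Helper6.PerfTri

/-- `C` is the quotient of a polynomial ring over `R` by a `ResPC` surjection. -/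
def PolyPC (R C : Type u) [CommRing R] [CommRing C] [Algebra R C] : Prop :=
  ∃ (N : ℕ) (Φ : MvPolynomial (Fin N) R →ₐ[R] C), Function.Surjective Φ ∧
    ResPC (Φ : MvPolynomial (Fin N) R →+* C)

section PolyPC

variable {R C D : Type u} [CommRing R] [CommRing C] [CommRing D] [Algebra R C] [Algebra R D]

theorem relPC_iff_of_polyPC (hC : PolyPC R C) (ψ : C →ₐ[R] D) (hψ : Function.Surjective ψ)
    (m : ℤ) (X : DerivedCategory (ModuleCat.{u} D)) :
    (∃ (n : ℕ) (β : MvPolynomial (Fin n) R →ₐ[R] D), Function.Surjective β ∧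
      IsPC m ((resD (β : MvPolynomial (Fin n) R →+* D)).obj X)) ↔
    IsPC m ((resD (ψ : C →+* D)).obj X) := by
  obtain ⟨N, Φ, hΦ, hres⟩ := hC
  rw [relPC_iff (ψ.comp Φ) (hψ.comp hΦ) m X]
  have hcomp : ((ψ.comp Φ : MvPolynomial (Fin N) R →ₐ[R] D) : MvPolynomial (Fin N) R →+* D) =
      (ψ : C →+* D).comp (Φ : MvPolynomial (Fin N) R →+* C) := RingHom.ext (fun x => rfl)
  rw [hcomp]
  exact isPC_resD_comp_iff (Φ : MvPolynomial (Fin N) R →+* C) (ψ : C →+* D) hres X m

lemma PolyPC.comp (hC : PolyPC R C) (ρ : C →ₐ[R] D) (hρ : Function.Surjective ρ)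
    (hres : ResPC (ρ : C →+* D)) : PolyPC R D := by
  obtain ⟨N, Φ, hΦ, hΦres⟩ := hC
  refine ⟨N, ρ.comp Φ, hρ.comp hΦ, ?_⟩
  have hcomp : ((ρ.comp Φ : MvPolynomial (Fin N) R →ₐ[R] D) : MvPolynomial (Fin N) R →+* D) =
      (ρ : C →+* D).comp (Φ : MvPolynomial (Fin N) R →+* C) := RingHom.ext (fun x => rfl)
  rw [hcomp]
  exact resPC_comp _ _ hΦres hres

variable (R) in
lemma polyPC_self : PolyPC R R := by
  refine ⟨0, (MvPolynomial.isEmptyAlgEquiv R (Fin 0)).toAlgHom,
    (MvPolynomial.isEmptyAlgEquiv R (Fin 0)).surjective, ?_⟩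
  have h : (((MvPolynomial.isEmptyAlgEquiv R (Fin 0)).toAlgHom :
      MvPolynomial (Fin 0) R →ₐ[R] R) : MvPolynomial (Fin 0) R →+* R) =
      (MvPolynomial.isEmptyAlgEquiv R (Fin 0)).toRingEquiv.toRingHom :=
    RingHom.ext (fun x => rfl)
  rw [h]
  exact resPC_ringEquiv _

variable (R) in
lemma polyPC_mvPolynomial_self (n : ℕ) : PolyPC R (MvPolynomial (Fin n) R) := by
  refine ⟨n, AlgHom.id R _, Function.surjective_id, ?_⟩
  have h : ((AlgHom.id R (MvPolynomial (Fin n) R) :
      MvPolynomial (Fin n) R →ₐ[R] MvPolynomial (Fin n) R) :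
      MvPolynomial (Fin n) R →+* MvPolynomial (Fin n) R) =
      (RingEquiv.refl (MvPolynomial (Fin n) R)).toRingHom := RingHom.ext (fun x => rfl)
  rw [h]
  exact resPC_ringEquiv _

lemma PolyPC.mvPolynomial (hC : PolyPC R C) (k : ℕ) : PolyPC R (MvPolynomial (Fin k) C) := by
  obtain ⟨N, Φ, hΦ, hres⟩ := hC
  obtain ⟨E⟩ : Nonempty (MvPolynomial (Fin (k + N)) R ≃ₐ[R]
      MvPolynomial (Fin k) (MvPolynomial (Fin N) R)) :=
    ⟨(MvPolynomial.renameEquiv R finSumFinEquiv).symm.trans
      (MvPolynomial.sumAlgEquiv R (Fin k) (Fin N))⟩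
  refine ⟨k + N, (MvPolynomial.mapAlgHom Φ).comp E.toAlgHom, ?_, ?_⟩
  · exact (MvPolynomial.map_surjective (Φ : MvPolynomial (Fin N) R →+* C) hΦ).comp E.surjective
  · have hcomp : (((MvPolynomial.mapAlgHom Φ).comp E.toAlgHom :
        MvPolynomial (Fin (k + N)) R →ₐ[R] MvPolynomial (Fin k) C) :
        MvPolynomial (Fin (k + N)) R →+* MvPolynomial (Fin k) C) =
        (MvPolynomial.map (Φ : MvPolynomial (Fin N) R →+* C)).comp E.toRingEquiv.toRingHom :=
      RingHom.ext (fun x => rfl)
    rw [hcomp]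
    exact resPC_comp _ _ (resPC_ringEquiv _) (resPC_mvPolyMap _ hres k)

end PolyPC

section Away

variable {C : Type u} [CommRing C]

lemma isLeftRegular_C_mul_X_sub_one (g : C) :
    IsLeftRegular (Polynomial.C g * Polynomial.X - 1 : Polynomial C) := by
  intro p q h
  have h' : (Polynomial.C g * Polynomial.X - 1) * p =
      (Polynomial.C g * Polynomial.X - 1) * q := h
  have hd : Polynomial.C g * (Polynomial.X * (p - q)) - (p - q) = 0 := by
    have : (Polynomial.C g * Polynomial.X - 1) * (p - q) = 0 := by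
      rw [mul_sub, h', sub_self]
    rw [← this]
    ring
  have hz : ∀ n, (p - q).coeff n = 0 := by
    intro n
    induction n with
    | zero =>
      have h0 := congrArg (fun r => Polynomial.coeff r 0) hd
      simp only [Polynomial.coeff_sub, Polynomial.coeff_C_mul, Polynomial.coeff_X_mul_zero,
        mul_zero, zero_sub, Polynomial.coeff_zero, neg_eq_zero] at h0
      rw [Polynomial.coeff_sub]
      exact h0
    | succ n ih =>
      have h0 := congrArg (fun r => Polynomial.coeff r (n + 1)) hd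
      simp only [Polynomial.coeff_C_mul, Polynomial.coeff_X_mul, Polynomial.coeff_sub] at h0
      rw [Polynomial.coeff_sub] at ih
      rw [ih, mul_zero, zero_sub, Polynomial.coeff_zero, neg_eq_zero] at h0
      rw [Polynomial.coeff_sub]
      exact h0
  have : p - q = 0 := Polynomial.ext (fun n => by rw [hz n, Polynomial.coeff_zero])
  exact sub_eq_zero.1 this

/-- the presentation `C[X] → C_g`. -/
noncomputable def awayPres (g : C) : Polynomial C →ₐ[C] Localization.Away g :=
  (Localization.awayEquivAdjoin g).symm.toAlgHom.comp (AdjoinRoot.mkₐ _)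

lemma awayPres_apply (g : C) (x : Polynomial C) :
    awayPres g x = (Localization.awayEquivAdjoin g).symm (AdjoinRoot.mk _ x) := rfl

lemma awayPres_surjective (g : C) : Function.Surjective (awayPres g) := by
  intro y
  obtain ⟨x, hx⟩ := AdjoinRoot.mk_surjective (Localization.awayEquivAdjoin g y)
  refine ⟨x, ?_⟩
  rw [awayPres_apply, hx, AlgEquiv.symm_apply_apply]

lemma resPC_awayPres (g : C) : ResPC (awayPres g : Polynomial C →+* Localization.Away g) := by
  refine resPC_of_regular _ (awayPres_surjective g) (Polynomial.C g * Polynomial.X - 1)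
    (isLeftRegular_C_mul_X_sub_one g) (fun x => ?_)
  show awayPres g x = 0 ↔ _
  rw [awayPres_apply, map_eq_zero_iff _ (Localization.awayEquivAdjoin g).symm.injective,
    AdjoinRoot.mk_eq_zero]

lemma PolyPC.away {R : Type u} [CommRing R] [Algebra R C] (hC : PolyPC R C) (g : C) :
    PolyPC R (Localization.Away g) := by
  have h1 := hC.mvPolynomial 1
  obtain ⟨e⟩ : Nonempty (MvPolynomial (Fin 1) C ≃ₐ[C] Polynomial C) :=
    ⟨(MvPolynomial.finSuccEquiv C 0).trans
      (Polynomial.mapAlgEquiv (MvPolynomial.isEmptyAlgEquiv C (Fin 0)))⟩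
  refine h1.comp (((awayPres g).comp e.toAlgHom).restrictScalars R)
    ((awayPres_surjective g).comp e.surjective) ?_
  have hcomp : ((((awayPres g).comp e.toAlgHom).restrictScalars R :
      MvPolynomial (Fin 1) C →ₐ[R] Localization.Away g) :
      MvPolynomial (Fin 1) C →+* Localization.Away g) =
      (awayPres g : Polynomial C →+* Localization.Away g).comp e.toRingEquiv.toRingHom :=
    RingHom.ext (fun x => rfl)
  rw [hcomp]
  exact resPC_comp _ _ (resPC_ringEquiv _) (resPC_awayPres g)

end Away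

end Groth.Agent.Helper6.PCm
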