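import Mathlib
import Groth.Agent.Lib.Helper6.PCm20

/-!
# `m`-pseudo-coherence, part 21: relative pseudo-coherence and localization at elements.
-/

set_option autoImplicit false
set_option linter.style.haveILetI false

universe u

open CategoryTheory Category Limits Pretriangulated DerivedCategory ZeroObject TensorProduct

attribute [local instance] HasDerivedCategory.standard

namespace Groth.Agent.Helper6.PCm

open Groth.Agent.Helper6.PerfTri

section Transfer

variable {R P A : Type u} [CommRing R] [CommRing P] [CommRing A] [Algebra R P] [Algebra R A]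

/-- the induced `R`-algebra map on localizations. -/
noncomputable def awayMapAlg (α : P →+* A)
    (hαR : ∀ r : R, α (algebraMap R P r) = algebraMap R A r) (g : P) :
    Localization.Away g →ₐ[R] Localization.Away (α g) :=
  { toRingHom := awayMap α g
    commutes' := fun r => by
      show awayMap α g (algebraMap R (Localization.Away g) r) =
        algebraMap R (Localization.Away (α g)) r
      rw [IsScalarTower.algebraMap_apply R P (Localization.Away g), awayMap_algebraMap, hαR,
        ← IsScalarTower.algebraMap_apply] }

theorem relPC_away_iff (hP : PolyPC R P) (α : P →+* A) (hα : Function.Surjective α)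
    (hαR : ∀ r : R, α (algebraMap R P r) = algebraMap R A r) (g : P)
    (K : CochainComplex (ModuleCat.{u} A) ℤ) (m : ℤ) :
    (∃ (n : ℕ) (β : MvPolynomial (Fin n) R →ₐ[R] Localization.Away (α g)),
      Function.Surjective β ∧
      IsPC m ((resD (β : MvPolynomial (Fin n) R →+* Localization.Away (α g))).obj
        (Q.obj (((extF A (Localization.Away (α g))).mapHomologicalComplex
          (ComplexShape.up ℤ)).obj K)))) ↔
    IsPC m ((mapD (extF P (Localization.Away g))).obj ((resD α).obj (Q.obj K))) := by
  have hψ : Function.Surjective (awayMapAlg α hαR g) :=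
    (IsLocalization.Away.map_surjective_iff _ _ α g).2 (fun a => by
      obtain ⟨b, hb⟩ := hα a
      exact ⟨b, 0, by rw [hb, pow_zero, one_mul]⟩)
  rw [relPC_iff_of_polyPC (hP.away g) (awayMapAlg α hαR g) hψ m _]
  obtain ⟨e⟩ := locD_iso α g K
  exact ⟨isPC_of_iso e.symm, isPC_of_iso e⟩

/-- the localization at an element killed by `α` vanishes. -/
lemma isPC_away_of_map_eq_zero (α : P →+* A) (h0 : P) (hα0 : α h0 = 0)
    (K : CochainComplex (ModuleCat.{u} A) ℤ) (m : ℤ) :
    IsPC m ((mapD (extF P (Localization.Away h0))).obj ((resD α).obj (Q.obj K))) := by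
  obtain ⟨e⟩ := locD_iso α h0 K
  refine isPC_of_iso e.symm (isPC_of_isZero _ _ (Functor.map_isZero _ (Functor.map_isZero _ ?_)))
  haveI : Subsingleton (Localization.Away (α h0)) :=
    IsLocalization.subsingleton (M := Submonoid.powers (α h0)) ⟨1, by show α h0 ^ 1 = 0; rw [pow_one, hα0]⟩
  rw [IsZero.iff_id_eq_zero]
  refine HomologicalComplex.hom_ext _ _ (fun i => ?_)
  haveI : Subsingleton ((((extF A (Localization.Away (α h0))).mapHomologicalComplex
      (ComplexShape.up ℤ)).obj K).X i) := Module.subsingleton (Localization.Away (α h0)) _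
  exact (ModuleCat.isZero_of_subsingleton _).eq_of_src _ _

end Transfer

theorem relPC_localization_iff {R A : Type u} [CommRing R] [CommRing A] [Algebra R A]
    [Algebra.FiniteType R A] (K : CochainComplex (ModuleCat.{u} A) ℤ) (m : ℤ) {r : ℕ}
    (f : Fin r → A) (hf : Ideal.span (Set.range f) = ⊤) :
    (∃ (n : ℕ) (β : MvPolynomial (Fin n) R →ₐ[R] A), Function.Surjective β ∧
      IsPC m ((resD (β : MvPolynomial (Fin n) R →+* A)).obj (Q.obj K))) ↔
    ∀ i, ∃ (n : ℕ) (β : MvPolynomial (Fin n) R →ₐ[R] Localization.Away (f i)),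
      Function.Surjective β ∧
      IsPC m ((resD (β : MvPolynomial (Fin n) R →+* Localization.Away (f i))).obj
        (Q.obj (((extF A (Localization.Away (f i))).mapHomologicalComplex
          (ComplexShape.up ℤ)).obj K))) := by
  obtain ⟨n, α, hα⟩ := Algebra.FiniteType.iff_quotient_mvPolynomial''.1
    (inferInstance : Algebra.FiniteType R A)
  choose g hg using fun i => hα (f i)
  obtain rfl : f = fun i => α (g i) := funext fun i => (hg i).symm
  have hαR : ∀ r' : R, (α : MvPolynomial (Fin n) R →+* A)
      (algebraMap R (MvPolynomial (Fin n) R) r') = algebraMap R A r' := fun r' => α.commutes r'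
  rw [relPC_iff α hα m (Q.obj K)]
  have key := fun i => relPC_away_iff (polyPC_mvPolynomial_self R n)
    (α : MvPolynomial (Fin n) R →+* A) hα hαR (g i) K m
  constructor
  · intro h i
    haveI : Module.Flat (MvPolynomial (Fin n) R) (Localization.Away (g i)) :=
      IsLocalization.flat _ (Submonoid.powers (g i))
    exact (key i).2 (isPC_extF h)
  · intro h
    have h1 : (1 : A) ∈ Ideal.span (Set.range fun i => α (g i)) := by rw [hf]; trivial
    obtain ⟨c, hc⟩ := Ideal.mem_span_range_iff_exists_fun.1 h1
    choose c' hc' using fun i => hα (c i)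
    obtain ⟨h0, hh0⟩ : ∃ h0 : MvPolynomial (Fin n) R, h0 = 1 - ∑ i, c' i * g i := ⟨_, rfl⟩
    have hα0 : (α : MvPolynomial (Fin n) R →+* A) h0 = 0 := by
      rw [hh0, map_sub, map_one, map_sum]
      have : ∀ i, (α : MvPolynomial (Fin n) R →+* A) (c' i * g i) = c i * α (g i) := by
        intro i
        rw [map_mul]
        exact congrArg (· * α (g i)) (hc' i)
      rw [Finset.sum_congr rfl (fun i _ => this i), hc, sub_self]
    have hg' : Ideal.span (Set.range (Fin.cons h0 g : Fin (r + 1) → MvPolynomial (Fin n) R)) =
        ⊤ := by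
      rw [Ideal.eq_top_iff_one]
      have h2 : (1 : MvPolynomial (Fin n) R) = h0 + ∑ i, c' i * g i := by rw [hh0]; ring
      rw [h2]
      refine Ideal.add_mem _ (Ideal.subset_span ⟨0, rfl⟩)
        (Ideal.sum_mem _ fun i _ => Ideal.mul_mem_left _ _ (Ideal.subset_span ⟨i.succ, rfl⟩))
    refine isPC_of_extF_away (Fin.cons h0 g : Fin (r + 1) → MvPolynomial (Fin n) R) hg' _
      (fun i => ?_)
    refine Fin.cases ?_ (fun j => ?_) i
    · exact isPC_away_of_map_eq_zero (α : MvPolynomial (Fin n) R →+* A) h0 hα0 K m
    · exact (key j).1 (h j)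

theorem relPC_away_of_base_away {R A : Type u} [CommRing R] [CommRing A] (f : R) [Algebra R A]
    [Algebra (Localization.Away f) A] [IsScalarTower R (Localization.Away f) A]
    [Algebra.FiniteType (Localization.Away f) A] (g : A)
    (K : CochainComplex (ModuleCat.{u} A) ℤ) (m : ℤ)
    (h : ∃ (n : ℕ) (β : MvPolynomial (Fin n) (Localization.Away f) →ₐ[Localization.Away f] A),
      Function.Surjective β ∧
      IsPC m ((resD (β : MvPolynomial (Fin n) (Localization.Away f) →+* A)).obj (Q.obj K))) :
    ∃ (n : ℕ) (β : MvPolynomial (Fin n) R →ₐ[R] Localization.Away g), Function.Surjective β ∧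
      IsPC m ((resD (β : MvPolynomial (Fin n) R →+* Localization.Away g)).obj
        (Q.obj (((extF A (Localization.Away g)).mapHomologicalComplex
          (ComplexShape.up ℤ)).obj K))) := by
  obtain ⟨n, α, hα⟩ := Algebra.FiniteType.iff_quotient_mvPolynomial''.1
    (inferInstance : Algebra.FiniteType (Localization.Away f) A)
  obtain ⟨g', rfl⟩ := hα g
  have hP : PolyPC R (MvPolynomial (Fin n) (Localization.Away f)) :=
    ((polyPC_self R).away f).mvPolynomial n
  have hαR : ∀ r : R, (α : MvPolynomial (Fin n) (Localization.Away f) →+* A)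
      (algebraMap R (MvPolynomial (Fin n) (Localization.Away f)) r) = algebraMap R A r := by
    intro r
    rw [IsScalarTower.algebraMap_apply R (Localization.Away f)
      (MvPolynomial (Fin n) (Localization.Away f))]
    show α (algebraMap _ _ _) = _
    rw [α.commutes, ← IsScalarTower.algebraMap_apply]
  have h1 := (relPC_iff α hα m (Q.obj K)).1 h
  haveI : Module.Flat (MvPolynomial (Fin n) (Localization.Away f)) (Localization.Away g') :=
    IsLocalization.flat _ (Submonoid.powers g')
  exact (relPC_away_iff hP (α : MvPolynomial (Fin n) (Localization.Away f) →+* A) hα hαR g'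
    K m).2 (isPC_extF h1)

end Groth.Agent.Helper6.PCm
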