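import Mathlib
import Groth.Agent.Lib.Helper6.PCm9

/-!
# Pseudo-coherence over coherent rings.
-/

set_option autoImplicit false
set_option linter.style.haveILetI false

universe w u

open CategoryTheory Category Limits Pretriangulated DerivedCategory ZeroObject

namespace Groth.Agent.Helper6.PCm

open Groth.Agent.Helper6.PerfTri

variable {R : Type u} [CommRing R]

section Algebra

/-- over a coherent ring, finitely generated submodules of `R^n` are finitely presented. -/
lemma fp_of_fg_sub_fin (hR : ∀ I : Ideal R, I.FG → Module.FinitePresentation R I) :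
    ∀ (n : ℕ) (N : Submodule R (Fin n → R)), N.FG → Module.FinitePresentation R N := by
  intro n
  induction n with
  | zero =>
    intro N _
    haveI : Subsingleton N := ⟨fun a b => Subtype.ext (Subsingleton.elim _ _)⟩
    infer_instance
  | succ n ih =>
    intro N hN
    haveI : Module.Finite R N := Module.Finite.iff_fg.2 hN
    obtain ⟨l0, hl0⟩ : ∃ l0 : N →ₗ[R] R, ∀ x : N, l0 x = x.1 0 :=
      ⟨(LinearMap.proj 0).comp N.subtype, fun x => rfl⟩
    have hI : (LinearMap.range l0).FG := by
      rw [LinearMap.range_eq_map]
      exact Module.Finite.fg_top.map l0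
    haveI : Module.FinitePresentation R (LinearMap.range l0) := hR (LinearMap.range l0) hI
    have hl : Function.Surjective l0.rangeRestrict := LinearMap.surjective_rangeRestrict l0
    have hker : (LinearMap.ker l0.rangeRestrict).FG :=
      Module.FinitePresentation.fg_ker l0.rangeRestrict hl
    obtain ⟨t, ht⟩ : ∃ t : LinearMap.ker l0.rangeRestrict →ₗ[R] (Fin n → R),
        ∀ (x : LinearMap.ker l0.rangeRestrict) (j : Fin n), t x j = x.1.1 j.succ :=
      ⟨(LinearMap.funLeft R R Fin.succ).comp
        (N.subtype.comp (LinearMap.ker l0.rangeRestrict).subtype), fun x j => rfl⟩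
    have htinj : Function.Injective t := by
      rw [injective_iff_map_eq_zero]
      intro x hx
      apply Subtype.ext
      apply Subtype.ext
      funext j
      refine Fin.cases ?_ (fun j' => ?_) j
      · have h0 : l0.rangeRestrict x.1 = 0 := LinearMap.mem_ker.1 x.2
        have h1 : l0 x.1 = 0 := congrArg Subtype.val h0
        rw [hl0] at h1
        exact h1
      · have := congrFun hx j'
        rw [ht] at this
        exact this
    haveI : Module.Finite R (LinearMap.ker l0.rangeRestrict) := Module.Finite.iff_fg.2 hker
    have hfg : (LinearMap.range t).FG := by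
      rw [LinearMap.range_eq_map]
      exact Module.Finite.fg_top.map t
    haveI : Module.FinitePresentation R (LinearMap.range t) := ih _ hfg
    haveI : Module.FinitePresentation R (LinearMap.ker l0.rangeRestrict) :=
      Module.FinitePresentation.of_equiv (R := R) (M := LinearMap.range t)
        (N := LinearMap.ker l0.rangeRestrict) (LinearEquiv.ofInjective t htinj).symm
    exact Module.finitePresentation_of_ker l0.rangeRestrict hl

/-- over a coherent ring, finitely generated submodules of finite free modules are finitely
presented. -/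
lemma fp_of_fg_sub_free (hR : ∀ I : Ideal R, I.FG → Module.FinitePresentation R I)
    (F : Type u) [AddCommGroup F] [Module R F] [Module.Finite R F] [Module.Free R F]
    (N : Submodule R F) (hN : N.FG) : Module.FinitePresentation R N := by
  obtain ⟨n, ⟨e⟩⟩ : ∃ n : ℕ, Nonempty (F ≃ₗ[R] (Fin n → R)) :=
    ⟨Fintype.card (Module.Free.ChooseBasisIndex R F),
      ⟨((Module.Free.chooseBasis R F).reindex (Fintype.equivFin _)).equivFun⟩⟩
  have hfg : (N.map e.toLinearMap).FG := hN.map _
  haveI := fp_of_fg_sub_fin hR n _ hfg
  exact Module.FinitePresentation.of_equiv (R := R) (M := N.map e.toLinearMap) (N := N)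
    (Submodule.equivMapOfInjective e.toLinearMap e.injective N).symm

/-- over a coherent ring, the cohomology of a complex of finite free modules is finitely
presented. -/
theorem homology_fp_of_coh (hR : ∀ I : Ideal R, I.FG → Module.FinitePresentation R I)
    (E : CochainComplex (ModuleCat.{u} R) ℤ) (i : ℤ)
    (h0 : Module.Finite R (E.X (i - 1)))
    (h1 : Module.Finite R (E.X i) ∧ Module.Free R (E.X i))
    (h2 : Module.Finite R (E.X (i + 1)) ∧ Module.Free R (E.X (i + 1))) :
    Module.FinitePresentation R (E.homology i) := by
  haveI := h0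
  haveI := h1.1
  haveI := h1.2
  haveI := h2.1
  haveI := h2.2
  have hB : (LinearMap.range (E.d i (i + 1)).hom).FG := by
    rw [LinearMap.range_eq_map]
    exact Module.Finite.fg_top.map _
  haveI : Module.FinitePresentation R (LinearMap.range (E.d i (i + 1)).hom) :=
    fp_of_fg_sub_free hR _ _ hB
  have hZ : (LinearMap.ker (E.d i (i + 1)).hom).FG := by
    have := Module.FinitePresentation.fg_ker (E.d i (i + 1)).hom.rangeRestrict
      (LinearMap.surjective_rangeRestrict _)
    rwa [LinearMap.ker_rangeRestrict] at this
  haveI : Module.FinitePresentation R (LinearMap.ker (E.d i (i + 1)).hom) :=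
    fp_of_fg_sub_free hR _ _ hZ
  have hinj : Function.Injective (E.iCycles i).hom :=
    (ModuleCat.mono_iff_injective _).1 inferInstance
  have hrange : LinearMap.range (E.iCycles i).hom = LinearMap.ker (E.d i (i + 1)).hom := by
    have hex : (ShortComplex.mk (E.iCycles i) (E.d i (i + 1)) (E.iCycles_d i (i + 1))).Exact :=
      ShortComplex.exact_of_f_is_kernel _ (E.cyclesIsKernel i (i + 1) (by simp))
    exact hex.moduleCat_range_eq_ker
  haveI : Module.FinitePresentation R (E.cycles i) :=
    Module.FinitePresentation.of_equiv (R := R) (M := LinearMap.ker (E.d i (i + 1)).hom)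
      (N := E.cycles i)
      ((LinearEquiv.ofInjective _ hinj).trans (LinearEquiv.ofEq _ _ hrange)).symm
  refine Module.finitePresentation_of_surjective (E.homologyπ i).hom
    ((ModuleCat.epi_iff_surjective _).1 inferInstance) ?_
  have hex' : (ShortComplex.mk (E.toCycles (i - 1) i) (E.homologyπ i)
      (E.toCycles_comp_homologyπ (i - 1) i)).Exact :=
    ShortComplex.exact_of_g_is_cokernel _ (E.homologyIsCokernel (i - 1) i (by simp))
  rw [← hex'.moduleCat_range_eq_ker, LinearMap.range_eq_map]
  exact Module.Finite.fg_top.map _

end Algebra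

variable [HasDerivedCategory.{w} (ModuleCat.{u} R)]

lemma isPC_single_of_fp_coh_aux (hR : ∀ I : Ideal R, I.FG → Module.FinitePresentation R I)
    (d : ℕ) : ∀ (k : ℤ), 1 ≤ k + d →
    ∀ (M : ModuleCat.{u} R) [Module.FinitePresentation R M],
      IsPC k ((singleFunctor (ModuleCat.{u} R) 0).obj M) := by
  induction d with
  | zero =>
    intro k hk M _
    haveI : ((singleFunctor (ModuleCat.{u} R) 0).obj M).IsLE (k - 1) :=
      TStructure.t.isLE_of_le _ 0 (k - 1) (by omega)
    exact isPC_of_isLE k _
  | succ d ih =>
    intro k hk M _
    obtain ⟨n, f, hf⟩ := Module.Finite.exists_fin' (R := R) (M := M)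
    have hker : (LinearMap.ker f).FG := Module.FinitePresentation.fg_ker f hf
    haveI : Module.FinitePresentation R (ModuleCat.of R (LinearMap.ker f)) :=
      fp_of_fg_sub_fin hR n _ hker
    let S : ShortComplex (ModuleCat.{u} R) :=
      ShortComplex.mk (ModuleCat.ofHom (LinearMap.ker f).subtype)
        (ModuleCat.ofHom f : ModuleCat.of R (Fin n → R) ⟶ M) (by
          ext x
          exact x.2)
    have hS : S.ShortExact :=
      { exact := (ShortComplex.ShortExact.moduleCat_exact_iff_function_exact S).2
          (LinearMap.exact_subtype_ker_map f)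
        mono_f := (ModuleCat.mono_iff_injective _).2 (Submodule.injective_subtype _)
        epi_g := (ModuleCat.epi_iff_surjective _).2 hf }
    have hT := hS.singleTriangle_distinguished
    have h1 : IsPC (k + 1) hS.singleTriangle.obj₁ :=
      ih (k + 1) (by omega) (ModuleCat.of R (LinearMap.ker f))
    have h2 : IsPC k hS.singleTriangle.obj₂ :=
      isPC_of_rep k (rep_single_free (ModuleCat.of R (Fin n → R)))
    exact isPC_cone _ hT k h1 h2

/-- over a coherent ring a finitely presented module is `k`-pseudo-coherent for all `k`. -/
lemma isPC_single_of_fp_coh (hR : ∀ I : Ideal R, I.FG → Module.FinitePresentation R I)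
    (M : ModuleCat.{u} R) [Module.FinitePresentation R M] (k : ℤ) :
    IsPC k ((singleFunctor (ModuleCat.{u} R) 0).obj M) := by
  have h0 := Int.self_le_toNat (1 - k)
  exact isPC_single_of_fp_coh_aux hR (1 - k).toNat k (by omega) M

/-- the criterion for `m`-pseudo-coherence over a coherent ring. -/
theorem isPC_iff_of_coh (hR : ∀ I : Ideal R, I.FG → Module.FinitePresentation R I) (m : ℤ)
    (K : DerivedCategory (ModuleCat.{u} R))
    (hb : ∃ b : ℤ, ∀ i : ℤ, b < i →
      Subsingleton ((homologyFunctor (ModuleCat.{u} R) i).obj K)) :
    IsPC m K ↔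
      Module.Finite R ((homologyFunctor (ModuleCat.{u} R) m).obj K) ∧
      ∀ i : ℤ, m < i →
        Module.FinitePresentation R ((homologyFunctor (ModuleCat.{u} R) i).obj K) := by
  constructor
  · intro h
    obtain ⟨E, a, b', α, hE0, hE, h1, h2⟩ := h
    have hfp : ∀ i : ℤ, Module.FinitePresentation R
        ((HomologicalComplex.homologyFunctor (ModuleCat.{u} R) (ComplexShape.up ℤ) i).obj E) :=
      fun i => homology_fp_of_coh hR E i (hE (i - 1)).1 (hE i) (hE (i + 1))
    refine ⟨?_, fun i hi => ?_⟩
    · haveI := hfp m
      haveI := h2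
      haveI : Epi (((homologyFunctorFactors (ModuleCat.{u} R) m).app E).inv ≫
          (homologyFunctor (ModuleCat.{u} R) m).map α) := epi_comp _ _
      exact Module.Finite.of_surjective
        (((homologyFunctorFactors (ModuleCat.{u} R) m).app E).inv ≫
          (homologyFunctor (ModuleCat.{u} R) m).map α).hom
        ((ModuleCat.epi_iff_surjective _).1 inferInstance)
    · haveI := hfp i
      haveI := h1 i hi
      exact Module.FinitePresentation.of_equiv
        (((homologyFunctorFactors (ModuleCat.{u} R) i).app E).symm ≪≫
          asIso ((homologyFunctor (ModuleCat.{u} R) i).map α)).toLinearEquiv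
  · rintro ⟨hfin, hfp⟩
    obtain ⟨b, hb⟩ := hb
    have hle : K.IsLE b := by
      rw [isLE_iff]
      intro i hi
      haveI := hb i hi
      exact ModuleCat.isZero_of_subsingleton _
    refine isPC_of_homology m K b hle (fun i => ?_)
    rcases lt_trichotomy m i with hi | hi | hi
    · haveI := hfp i hi
      exact isPC_single_of_fp_coh hR _ (m - i)
    · subst hi
      haveI := hfin
      rw [sub_self]
      exact isPC_single_of_finite _
    · haveI : ((singleFunctor (ModuleCat.{u} R) 0).obj
          ((homologyFunctor (ModuleCat.{u} R) i).obj K)).IsLE (m - i - 1) :=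
        TStructure.t.isLE_of_le _ 0 (m - i - 1) (by omega)
      exact isPC_of_isLE (m - i) _

end Groth.Agent.Helper6.PCm
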