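import Groth.Agent.Lib.Helper6.PerfTri

set_option autoImplicit false
set_option linter.style.haveILetI false

universe w v u

open CategoryTheory Category Limits Pretriangulated DerivedCategory

namespace Groth.Agent.Helper6.PerfTri

variable {C : Type u} [Category.{v} C] [Abelian C] [HasDerivedCategory.{w} C]
variable {W : CochainComplex C ℤ → Prop}

/-- an object with bounded cohomology, all of whose cohomology objects (placed in degree `0`)
are representable in the class, is representable in the class. -/
theorem rep_of_bounded (h : Good W) (n : ℕ) : ∀ (K : DerivedCategory C) (a b : ℤ),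
    K.IsGE a → K.IsLE b → b < a + n →
    (∀ i : ℤ, Rep W ((singleFunctor C 0).obj ((homologyFunctor C i).obj K))) → Rep W K := by
  induction n with
  | zero =>
    intro K a b ha hb hab hK
    have hz : IsZero K := (TStructure.t (C := C)).isZero K b a (by omega)
    have hz' : IsZero ((singleFunctor C 0).obj ((homologyFunctor C 0).obj K)) :=
      Functor.map_isZero _ (Functor.map_isZero _ hz)
    exact rep_of_iso (hz'.iso hz) (hK 0)
  | succ n ih =>
    intro K a b ha hb hab hK
    by_cases hlt : b < a
    · have hz : IsZero K := (TStructure.t (C := C)).isZero K b a hlt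
      have hz' : IsZero ((singleFunctor C 0).obj ((homologyFunctor C 0).obj K)) :=
        Functor.map_isZero _ (Functor.map_isZero _ hz)
      exact rep_of_iso (hz'.iso hz) (hK 0)
    · have hT := (TStructure.t (C := C)).triangleLTGE_distinguished b K
      have iA1 : (((TStructure.t (C := C)).truncLT b).obj K).IsGE a := inferInstance
      have iA2 : (((TStructure.t (C := C)).truncLT b).obj K).IsLE (b - 1) := inferInstance
      have iB1 : (((TStructure.t (C := C)).truncGE b).obj K).IsGE b := inferInstance
      have iB2 : (((TStructure.t (C := C)).truncGE b).obj K).IsLE b := inferInstance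
      have hZ0 : ∀ M : C, IsZero M → Rep W ((singleFunctor C 0).obj M) := by
        intro M hM
        have h1 : IsZero ((homologyFunctor C (b + 1)).obj K) :=
          K.isZero_of_isLE b (b + 1) (by omega)
        exact rep_of_iso ((singleFunctor C 0).mapIso (h1.iso hM)) (hK (b + 1))
      have hA : ∀ i : ℤ, Rep W ((singleFunctor C 0).obj
          ((homologyFunctor C i).obj (((TStructure.t (C := C)).truncLT b).obj K))) := by
        intro i
        by_cases hi : i < b
        · haveI : Mono ((homologyFunctor C i).map (((TStructure.t (C := C)).truncLTι b).app K)) :=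
            (HomologySequence.mono_homologyMap_mor₁_iff _ hT (i - 1) i (by omega)).2
              (((((TStructure.t (C := C)).truncGE b).obj K).isZero_of_isGE b (i - 1)
                (by omega)).eq_of_src _ _)
          haveI : Epi ((homologyFunctor C i).map (((TStructure.t (C := C)).truncLTι b).app K)) :=
            (HomologySequence.epi_homologyMap_mor₁_iff _ hT i).2
              (((((TStructure.t (C := C)).truncGE b).obj K).isZero_of_isGE b i hi).eq_of_tgt _ _)
          haveI : IsIso ((homologyFunctor C i).map
              (((TStructure.t (C := C)).truncLTι b).app K)) := isIso_of_mono_of_epi _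
          exact rep_of_iso ((singleFunctor C 0).mapIso (asIso ((homologyFunctor C i).map
            (((TStructure.t (C := C)).truncLTι b).app K))).symm) (hK i)
        · exact hZ0 _ ((((TStructure.t (C := C)).truncLT b).obj K).isZero_of_isLE (b - 1) i
            (by omega))
      have rA := ih _ a (b - 1) iA1 iA2 (by omega) hA
      obtain ⟨M, ⟨eB⟩⟩ := exists_iso_singleFunctor_obj_of_isGE_of_isLE
        (((TStructure.t (C := C)).truncGE b).obj K) b
      haveI : Mono ((homologyFunctor C b).map (((TStructure.t (C := C)).truncGEπ b).app K)) :=
        (HomologySequence.mono_homologyMap_mor₂_iff _ hT b).2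
          (((((TStructure.t (C := C)).truncLT b).obj K).isZero_of_isLE (b - 1) b
            (by omega)).eq_of_src _ _)
      haveI : Epi ((homologyFunctor C b).map (((TStructure.t (C := C)).truncGEπ b).app K)) :=
        (HomologySequence.epi_homologyMap_mor₂_iff _ hT b (b + 1) rfl).2
          (((((TStructure.t (C := C)).truncLT b).obj K).isZero_of_isLE (b - 1) (b + 1)
            (by omega)).eq_of_tgt _ _)
      haveI : IsIso ((homologyFunctor C b).map
          (((TStructure.t (C := C)).truncGEπ b).app K)) := isIso_of_mono_of_epi _
      have eM : (homologyFunctor C b).obj K ≅ M :=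
        asIso ((homologyFunctor C b).map (((TStructure.t (C := C)).truncGEπ b).app K)) ≪≫
          (homologyFunctor C b).mapIso eB ≪≫ (singleFunctorCompHomologyFunctorIso C b).app M
      have rM : Rep W ((singleFunctor C 0).obj M) :=
        rep_of_iso ((singleFunctor C 0).mapIso eM) (hK b)
      have rB : Rep W (((TStructure.t (C := C)).truncGE b).obj K) :=
        rep_of_iso (((singleFunctors C).shiftIso (-b) b 0 (by omega)).app M ≪≫ eB.symm)
          (rep_shift h (-b) rM)
      exact (two_of_three h _ hT).2.1 rA rB

theorem rep_of_bounded' (h : Good W) (K : DerivedCategory C) (a b : ℤ)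
    (hK0 : ∀ i : ℤ, i < a ∨ b < i → IsZero ((homologyFunctor C i).obj K))
    (hK : ∀ i : ℤ, Rep W ((singleFunctor C 0).obj ((homologyFunctor C i).obj K))) :
    Rep W K := by
  have ha : K.IsGE a := by
    rw [isGE_iff]
    intro i hi
    exact hK0 i (Or.inl hi)
  have hb : K.IsLE b := by
    rw [isLE_iff]
    intro i hi
    exact hK0 i (Or.inr hi)
  have h0 := Int.self_le_toNat (b - a + 1)
  exact rep_of_bounded h (b - a + 1).toNat K a b ha hb (by omega) hK

end Groth.Agent.Helper6.PerfTri
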