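import Mathlib
import Groth.Prelude.Def_SGA6

set_option autoImplicit false

universe v u

open CategoryTheory CategoryTheory.Limits

namespace Groth.Agent.Helper6.Resol

variable {C : Type u} [Category.{v} C] [Abelian C]

lemma se_kernel {L A : C} (p : L ⟶ A) [Epi p] :
    (ShortComplex.mk (kernel.ι p) p (kernel.condition p)).ShortExact :=
  ShortComplex.ShortExact.mk' (ShortComplex.exact_of_f_is_kernel _ (kernelIsKernel p))
    (inferInstanceAs (Mono (kernel.ι p))) (inferInstanceAs (Epi p))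

lemma se_pullback_snd {K L M A : C} (i : K ⟶ L) (p : L ⟶ A) (w : i ≫ p = 0)
    (h : (ShortComplex.mk i p w).ShortExact) (q : M ⟶ A) :
    ∃ (k : K ⟶ pullback p q) (w' : k ≫ pullback.snd p q = 0),
      (ShortComplex.mk k (pullback.snd p q) w').ShortExact := by
  have hm : Mono i := h.mono_f
  have he : Epi p := h.epi_g
  obtain ⟨k, hk1, hk2⟩ : ∃ k : K ⟶ pullback p q,
      k ≫ pullback.fst p q = i ∧ k ≫ pullback.snd p q = 0 :=
    ⟨pullback.lift i 0 (by rw [w, zero_comp]), pullback.lift_fst _ _ _, pullback.lift_snd _ _ _⟩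
  have hmk : Mono k := mono_of_mono_fac hk1
  refine ⟨k, hk2, ShortComplex.ShortExact.mk' (ShortComplex.exact_of_f_is_kernel _ ?_) hmk
    (inferInstanceAs (Epi (pullback.snd p q)))⟩
  refine KernelFork.IsLimit.ofι' _ _ (fun {W} g hg => ?_) (hi := hmk)
  have hg2 : g ≫ pullback.snd p q = 0 := hg
  have hg' : (g ≫ pullback.fst p q) ≫ p = 0 := by
    rw [Category.assoc, pullback.condition, ← Category.assoc, hg2, zero_comp]
  haveI : Mono (ShortComplex.mk i p w).f := hm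
  refine ⟨h.exact.lift (g ≫ pullback.fst p q) hg', ?_⟩
  have hl : h.exact.lift (g ≫ pullback.fst p q) hg' ≫ i = g ≫ pullback.fst p q :=
    h.exact.lift_f _ _
  show h.exact.lift (g ≫ pullback.fst p q) hg' ≫ k = g
  apply pullback.hom_ext
  · rw [Category.assoc, hk1, hl]
  · rw [Category.assoc, hk2, comp_zero, hg2]

lemma se_pullback_fst {K L M A : C} (i : K ⟶ M) (q : M ⟶ A) (w : i ≫ q = 0)
    (h : (ShortComplex.mk i q w).ShortExact) (p : L ⟶ A) :
    ∃ (k : K ⟶ pullback p q) (w' : k ≫ pullback.fst p q = 0),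
      (ShortComplex.mk k (pullback.fst p q) w').ShortExact := by
  have hm : Mono i := h.mono_f
  have he : Epi q := h.epi_g
  obtain ⟨k, hk1, hk2⟩ : ∃ k : K ⟶ pullback p q,
      k ≫ pullback.fst p q = 0 ∧ k ≫ pullback.snd p q = i :=
    ⟨pullback.lift 0 i (by rw [w, zero_comp]), pullback.lift_fst _ _ _, pullback.lift_snd _ _ _⟩
  have hmk : Mono k := mono_of_mono_fac hk2
  refine ⟨k, hk1, ShortComplex.ShortExact.mk' (ShortComplex.exact_of_f_is_kernel _ ?_) hmk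
    (inferInstanceAs (Epi (pullback.fst p q)))⟩
  refine KernelFork.IsLimit.ofι' _ _ (fun {W} g hg => ?_) (hi := hmk)
  have hg2 : g ≫ pullback.fst p q = 0 := hg
  have hg' : (g ≫ pullback.snd p q) ≫ q = 0 := by
    rw [Category.assoc, ← pullback.condition, ← Category.assoc, hg2, zero_comp]
  haveI : Mono (ShortComplex.mk i q w).f := hm
  refine ⟨h.exact.lift (g ≫ pullback.snd p q) hg', ?_⟩
  have hl : h.exact.lift (g ≫ pullback.snd p q) hg' ≫ i = g ≫ pullback.snd p q :=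
    h.exact.lift_f _ _
  show h.exact.lift (g ≫ pullback.snd p q) hg' ≫ k = g
  apply pullback.hom_ext
  · rw [Category.assoc, hk1, comp_zero, hg2]
  · rw [Category.assoc, hk2, hl]

lemma se_preimage {A' A A'' L : C} (j : A' ⟶ A) (q : A ⟶ A'') (w : j ≫ q = 0)
    (h : (ShortComplex.mk j q w).ShortExact) (p : L ⟶ A) [Epi p] :
    ∃ (w' : pullback.fst p j ≫ p ≫ q = 0),
      (ShortComplex.mk (pullback.fst p j) (p ≫ q) w').ShortExact := by
  have hm : Mono j := h.mono_f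
  have he : Epi q := h.epi_g
  have w' : pullback.fst p j ≫ p ≫ q = 0 := by
    rw [← Category.assoc, pullback.condition, Category.assoc, w, comp_zero]
  have hmf : Mono (pullback.fst p j) := inferInstance
  refine ⟨w', ShortComplex.ShortExact.mk' (ShortComplex.exact_of_f_is_kernel _ ?_) hmf
    (inferInstanceAs (Epi (p ≫ q)))⟩
  refine KernelFork.IsLimit.ofι' _ _ (fun {W} g hg => ?_) (hi := hmf)
  have hg2 : (g ≫ p) ≫ q = 0 := by rw [Category.assoc]; exact hg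
  haveI : Mono (ShortComplex.mk j q w).f := hm
  have hl : h.exact.lift (g ≫ p) hg2 ≫ j = g ≫ p := h.exact.lift_f _ _
  exact ⟨pullback.lift g (h.exact.lift (g ≫ p) hg2) hl.symm, pullback.lift_fst _ _ _⟩

lemma exact_epi_comp_comp_mono {X₀ X₁ X₂ X₃ X₄ : C} (e : X₀ ⟶ X₁) (f : X₁ ⟶ X₂) (g : X₂ ⟶ X₃)
    (m : X₃ ⟶ X₄) [Epi e] [Mono m] (w : f ≫ g = 0) (h : (ShortComplex.mk f g w).Exact)
    (w' : (e ≫ f) ≫ (g ≫ m) = 0) :
    (ShortComplex.mk (e ≫ f) (g ≫ m) w').Exact := by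
  have w₁ : (e ≫ f) ≫ g = 0 := by rw [Category.assoc, w, comp_zero]
  let φ₁ : ShortComplex.mk (e ≫ f) g w₁ ⟶ ShortComplex.mk f g w :=
    { τ₁ := e, τ₂ := 𝟙 _, τ₃ := 𝟙 _, comm₁₂ := by simp, comm₂₃ := by simp }
  let φ₂ : ShortComplex.mk (e ≫ f) g w₁ ⟶ ShortComplex.mk (e ≫ f) (g ≫ m) w' :=
    { τ₁ := 𝟙 _, τ₂ := 𝟙 _, τ₃ := m, comm₁₂ := by simp, comm₂₃ := by simp }
  haveI : Epi φ₁.τ₁ := inferInstanceAs (Epi e)
  haveI : IsIso φ₁.τ₂ := inferInstanceAs (IsIso (𝟙 X₂))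
  haveI : Mono φ₁.τ₃ := inferInstanceAs (Mono (𝟙 X₃))
  haveI : Epi φ₂.τ₁ := inferInstanceAs (Epi (𝟙 X₀))
  haveI : IsIso φ₂.τ₂ := inferInstanceAs (IsIso (𝟙 X₂))
  haveI : Mono φ₂.τ₃ := inferInstanceAs (Mono m)
  have h1 : (ShortComplex.mk (e ≫ f) g w₁).Exact :=
    (ShortComplex.exact_iff_of_epi_of_isIso_of_mono φ₁).mpr h
  exact (ShortComplex.exact_iff_of_epi_of_isIso_of_mono φ₂).mp h1

end Groth.Agent.Helper6.Resol
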