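import Mathlib
import Groth.Prelude.Def_SGA6
import Groth.Agent.Lib.Helper6.ResolAb

set_option autoImplicit false

universe v u

open CategoryTheory CategoryTheory.Limits KZero

namespace Groth.Agent.Helper6.Resol

variable {C : Type u} [Category.{v} C] [Abelian C]

/-- class of an object in `K0sub P` -/
def cls (P : ObjectProperty C) (X : C) (h : P X) : K0sub P :=
  QuotientAddGroup.mk (FreeAbelianGroup.of ⟨X, h⟩)

lemma cls_rel {P : ObjectProperty C} (S : ShortComplex C) (hS : S.ShortExact)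
    (h₁ : P S.X₁) (h₂ : P S.X₂) (h₃ : P S.X₃) :
    cls P S.X₂ h₂ = cls P S.X₁ h₁ + cls P S.X₃ h₃ := by
  have hmem : FreeAbelianGroup.of (⟨S.X₂, h₂⟩ : Subtype P) - FreeAbelianGroup.of ⟨S.X₁, h₁⟩
      - FreeAbelianGroup.of ⟨S.X₃, h₃⟩ ∈ relSub P :=
    AddSubgroup.subset_closure ⟨S, h₁, h₂, h₃, hS, rfl⟩
  have h0 := (QuotientAddGroup.eq_zero_iff _).2 hmem
  simp only [QuotientAddGroup.mk_sub] at h0
  rw [sub_sub, sub_eq_zero] at h0
  exact h0

lemma K0sub_induction {P : ObjectProperty C} {motive : K0sub P → Prop} (h0 : motive 0)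
    (hcls : ∀ X h, motive (cls P X h)) (hneg : ∀ x, motive x → motive (-x))
    (hadd : ∀ x y, motive x → motive y → motive (x + y)) (x : K0sub P) : motive x := by
  obtain ⟨y, rfl⟩ := QuotientAddGroup.mk_surjective x
  induction y using FreeAbelianGroup.induction_on with
  | zero => exact h0
  | of X => exact hcls X.1 X.2
  | neg X ih => exact hneg _ ih
  | add x y hx hy => exact hadd _ _ hx hy

lemma mapSub_cls {P Q : ObjectProperty C} (hle : ∀ X, P X → Q X) (X : C) (h : P X) :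
    SGA6.mapSub (𝟭 C) P Q hle (cls P X h) = cls Q X (hle X h) := by
  unfold cls SGA6.mapSub
  rw [QuotientAddGroup.map_mk, FreeAbelianGroup.map_of_apply]
  rfl

lemma mapSub_comp {P Q T : ObjectProperty C} (h1 : ∀ X, P X → Q X) (h2 : ∀ X, Q X → T X)
    (x : K0sub P) :
    SGA6.mapSub (𝟭 C) Q T h2 (SGA6.mapSub (𝟭 C) P Q h1 x) =
      SGA6.mapSub (𝟭 C) P T (fun X h => h2 X (h1 X h)) x := by
  induction x using K0sub_induction with
  | h0 => simp only [map_zero]
  | hcls X h => rw [mapSub_cls, mapSub_cls, mapSub_cls]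
  | hneg x ih => simp only [map_neg, ih]
  | hadd x y hx hy => simp only [map_add, hx, hy]

/-- Homomorphisms out of `K0sub P` from additive functions on objects. -/
noncomputable def liftK0 {P : ObjectProperty C} {G : Type*} [AddCommGroup G] (φ : Subtype P → G)
    (hφ : ∀ (S : ShortComplex C) (h₁ : P S.X₁) (h₂ : P S.X₂) (h₃ : P S.X₃), S.ShortExact →
      φ ⟨S.X₂, h₂⟩ = φ ⟨S.X₁, h₁⟩ + φ ⟨S.X₃, h₃⟩) : K0sub P →+ G :=
  QuotientAddGroup.lift (relSub P) (FreeAbelianGroup.lift φ) (by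
    rw [relSub, AddSubgroup.closure_le]
    rintro x ⟨S, h₁, h₂, h₃, hS, rfl⟩
    rw [SetLike.mem_coe, AddMonoidHom.mem_ker]
    simp only [map_sub, FreeAbelianGroup.lift_apply_of]
    rw [hφ S h₁ h₂ h₃ hS]
    abel)

lemma liftK0_cls {P : ObjectProperty C} {G : Type*} [AddCommGroup G] (φ : Subtype P → G)
    (hφ : ∀ (S : ShortComplex C) (h₁ : P S.X₁) (h₂ : P S.X₂) (h₃ : P S.X₃), S.ShortExact →
      φ ⟨S.X₂, h₂⟩ = φ ⟨S.X₁, h₁⟩ + φ ⟨S.X₃, h₃⟩) (X : C) (h : P X) :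
    liftK0 φ hφ (cls P X h) = φ ⟨X, h⟩ := by
  unfold liftK0 cls
  rw [QuotientAddGroup.lift_mk, FreeAbelianGroup.lift_apply_of]

/-- The one-step resolution theorem. -/
theorem step (P Q : ObjectProperty C) (hle : ∀ X, P X → Q X)
    (hextP : ∀ S : ShortComplex C, S.ShortExact → P S.X₁ → P S.X₃ → P S.X₂)
    (hK : ∀ S : ShortComplex C, S.ShortExact → P S.X₂ → Q S.X₃ → P S.X₁)
    (hcov : ∀ A, Q A → ∃ (L : C) (p : L ⟶ A), P L ∧ Epi p) :
    Function.Bijective (SGA6.mapSub (𝟭 C) P Q hle) := by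
  classical
  choose Lc pc hLc hpc using fun a : Subtype Q => hcov a.1 a.2
  have hker : ∀ a : Subtype Q, P (kernel (pc a)) := fun a => by
    haveI := hpc a
    exact hK _ (se_kernel (pc a)) (hLc a) a.2
  let χ₀ : Subtype Q → K0sub P := fun a => cls P (Lc a) (hLc a) - cls P (kernel (pc a)) (hker a)
  have indep : ∀ (a : Subtype Q) (K L : C) (i : K ⟶ L) (p : L ⟶ a.1) (w : i ≫ p = 0)
      (_ : (ShortComplex.mk i p w).ShortExact) (hL : P L) (hKP : P K),
      χ₀ a = cls P L hL - cls P K hKP := by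
    intro a K L i p w hse hL hKP
    haveI := hpc a
    obtain ⟨k1, w1, se1⟩ := se_pullback_snd (kernel.ι (pc a)) (pc a) (kernel.condition _)
      (se_kernel (pc a)) p
    obtain ⟨k2, w2, se2⟩ := se_pullback_fst i p w hse (pc a)
    have hT : P (pullback (pc a) p) := hextP _ se1 (hker a) hL
    have e1 := cls_rel _ se1 (hker a) hT hL
    have e2 := cls_rel _ se2 hKP hT (hLc a)
    simp only at e1 e2
    have e3 := e1.symm.trans e2
    show cls P (Lc a) (hLc a) - cls P (kernel (pc a)) (hker a) = cls P L hL - cls P K hKP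
    rw [sub_eq_sub_iff_add_eq_add]
    calc cls P (Lc a) (hLc a) + cls P K hKP = cls P K hKP + cls P (Lc a) (hLc a) := add_comm _ _
      _ = cls P (kernel (pc a)) (hker a) + cls P L hL := e3.symm
      _ = cls P L hL + cls P (kernel (pc a)) (hker a) := add_comm _ _
  have hadd : ∀ (S : ShortComplex C) (h₁ : Q S.X₁) (h₂ : Q S.X₂) (h₃ : Q S.X₃), S.ShortExact →
      χ₀ ⟨S.X₂, h₂⟩ = χ₀ ⟨S.X₁, h₁⟩ + χ₀ ⟨S.X₃, h₃⟩ := by
    intro S h₁ h₂ h₃ hS
    haveI := hpc ⟨S.X₂, h₂⟩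
    obtain ⟨w', se3⟩ := se_preimage S.f S.g S.zero hS (pc ⟨S.X₂, h₂⟩)
    have hT' : P (pullback (pc ⟨S.X₂, h₂⟩) S.f) := hK _ se3 (hLc _) h₃
    obtain ⟨k, wk, se4⟩ := se_pullback_snd (kernel.ι (pc ⟨S.X₂, h₂⟩)) (pc ⟨S.X₂, h₂⟩)
      (kernel.condition _) (se_kernel _) S.f
    have e3 := indep ⟨S.X₃, h₃⟩ _ _ _ _ w' se3 (hLc _) hT'
    have e1 := indep ⟨S.X₁, h₁⟩ _ _ _ _ wk se4 hT' (hker _)
    rw [e1, e3]
    show cls P (Lc ⟨S.X₂, h₂⟩) (hLc _) - cls P (kernel (pc ⟨S.X₂, h₂⟩)) (hker _) = _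
    abel
  let χ : K0sub Q →+ K0sub P := liftK0 χ₀ hadd
  have hχ : ∀ A (hA : Q A), χ (cls Q A hA) = χ₀ ⟨A, hA⟩ := fun A hA => liftK0_cls χ₀ hadd A hA
  rw [Function.bijective_iff_has_inverse]
  refine ⟨χ, ?_, ?_⟩
  · intro x
    induction x using K0sub_induction with
    | h0 => simp only [map_zero]
    | hcls X h =>
      rw [mapSub_cls, hχ]
      haveI := hpc ⟨X, hle X h⟩
      have e := cls_rel _ (se_kernel (pc ⟨X, hle X h⟩)) (hker _) (hLc _) h
      simp only at e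
      show cls P (Lc ⟨X, hle X h⟩) (hLc _) - cls P (kernel (pc ⟨X, hle X h⟩)) (hker _) = _
      rw [e]
      abel
    | hneg x ih => simp only [map_neg, ih]
    | hadd x y hx hy => simp only [map_add, hx, hy]
  · intro y
    induction y using K0sub_induction with
    | h0 => simp only [map_zero]
    | hcls A hA =>
      rw [hχ]
      haveI := hpc ⟨A, hA⟩
      have e := cls_rel (P := Q) _ (se_kernel (pc ⟨A, hA⟩)) (hle _ (hker _)) (hle _ (hLc _)) hA
      simp only at e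
      show SGA6.mapSub (𝟭 C) P Q hle
        (cls P (Lc ⟨A, hA⟩) (hLc _) - cls P (kernel (pc ⟨A, hA⟩)) (hker _)) = _
      rw [map_sub, mapSub_cls, mapSub_cls, e]
      abel
    | hneg x ih => simp only [map_neg, ih]
    | hadd x y hx hy => simp only [map_add, hx, hy]

end Groth.Agent.Helper6.Resol
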