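import Mathlib
import Groth.Prelude.Def_SGA6
import Groth.Agent.Lib.Helper6.ResolStep

set_option autoImplicit false

universe v u

open CategoryTheory CategoryTheory.Limits KZero

namespace Groth.Agent.Helper6.Resol

variable {C : Type u} [Category.{v} C] [Abelian C]

/-- `R P Q n`: objects of `Q` all of whose `n`-th syzygies (w.r.t. `P`) lie in `P`. -/
def R (P Q : ObjectProperty C) : ℕ → ObjectProperty C
  | 0 => fun A => P A
  | (n + 1) => fun A => Q A ∧ ∀ (K L : C) (i : K ⟶ L) (p : L ⟶ A) (w : i ≫ p = 0),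
      (ShortComplex.mk i p w).ShortExact → P L → R P Q n K

/-- `E P Q n`: objects of `Q` having some `n`-th syzygy (w.r.t. `P`) in `P`. -/
def E (P Q : ObjectProperty C) : ℕ → ObjectProperty C
  | 0 => fun A => P A
  | (n + 1) => fun A => Q A ∧ ∃ (K L : C) (i : K ⟶ L) (p : L ⟶ A) (w : i ≫ p = 0),
      (ShortComplex.mk i p w).ShortExact ∧ P L ∧ E P Q n K

structure Good (P Q : ObjectProperty C) (n : ℕ) : Prop where
  ext : ∀ S : ShortComplex C, S.ShortExact → R P Q n S.X₁ → R P Q n S.X₃ → R P Q n S.X₂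
  ker : ∀ S : ShortComplex C, S.ShortExact → R P Q n S.X₂ → R P Q (n + 1) S.X₃ → R P Q n S.X₁
  mono : ∀ A, R P Q n A → R P Q (n + 1) A
  base : ∀ A, P A → R P Q n A

section

variable {P Q : ObjectProperty C}

lemma R_sub (hle : ∀ X, P X → Q X) : ∀ (n : ℕ) (A : C), R P Q n A → Q A
  | 0, A, h => hle A h
  | (_ + 1), _, h => h.1

variable (hle : ∀ X, P X → Q X)
  (hextP : ∀ S : ShortComplex C, S.ShortExact → P S.X₁ → P S.X₃ → P S.X₂)
  (hextQ : ∀ S : ShortComplex C, S.ShortExact → Q S.X₁ → Q S.X₃ → Q S.X₂)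
  (kP : ∀ S : ShortComplex C, S.ShortExact → P S.X₂ → P S.X₃ → P S.X₁)
  (kQ : ∀ S : ShortComplex C, S.ShortExact → Q S.X₂ → Q S.X₃ → Q S.X₁)
  (hcov : ∀ A, Q A → ∃ (L : C) (p : L ⟶ A), P L ∧ Epi p)

include hle hextP kP in
lemma good_zero : Good P Q 0 where
  ext := fun S hS h1 h3 => hextP S hS h1 h3
  ker := fun S hS h2 h3 => h3.2 S.X₁ S.X₂ S.f S.g S.zero hS h2
  mono := fun A hA => ⟨hle A hA, fun _ _ _ _ _ hse hL => kP _ hse hL hA⟩
  base := fun _ hA => hA

include hle hextQ kQ hcov in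
lemma good_succ (n : ℕ) (g : Good P Q n) : Good P Q (n + 1) := by
  refine ⟨?_, ?_, ?_, ?_⟩
  · intro S hS h1 h3
    refine ⟨hextQ S hS (R_sub hle _ _ h1) (R_sub hle _ _ h3), ?_⟩
    intro K L i p w hse hL
    haveI : Epi p := hse.epi_g
    obtain ⟨w', se3⟩ := se_preimage S.f S.g S.zero hS p
    have hT' : R P Q n (pullback p S.f) := h3.2 _ _ _ _ w' se3 hL
    obtain ⟨k, wk, se4⟩ := se_pullback_snd i p w hse S.f
    exact g.ker _ se4 hT' h1
  · intro S hS h2 h3
    refine ⟨kQ S hS h2.1 h3.1, ?_⟩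
    intro N M i m w hse hM
    haveI : Epi m := hse.epi_g
    obtain ⟨L, p, hL, hp⟩ := hcov S.X₂ h2.1
    haveI := hp
    have hK1 : R P Q n (kernel p) := h2.2 _ _ _ _ _ (se_kernel p) hL
    obtain ⟨w', se3⟩ := se_preimage S.f S.g S.zero hS p
    have hK2 : R P Q (n + 1) (pullback p S.f) := h3.2 _ _ _ _ w' se3 hL
    obtain ⟨k, wk, se4⟩ := se_pullback_snd (kernel.ι p) p (kernel.condition p) (se_kernel p) S.f
    obtain ⟨k5, w5, se5⟩ := se_pullback_snd i m w hse (pullback.snd p S.f)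
    obtain ⟨k6, w6, se6⟩ := se_pullback_fst k (pullback.snd p S.f) wk se4 m
    have hT : R P Q n (pullback m (pullback.snd p S.f)) := g.ext _ se6 hK1 (g.base _ hM)
    exact g.ker _ se5 hT hK2
  · intro A hA
    exact ⟨hA.1, fun K L i p w hse hL => g.mono _ (hA.2 K L i p w hse hL)⟩
  · intro A hA
    exact g.mono _ (g.base _ hA)

include hle hextP hextQ kP kQ hcov in
theorem good_all : ∀ n : ℕ, Good P Q n
  | 0 => good_zero hle hextP kP
  | (n + 1) => good_succ hle hextQ kQ hcov n (good_all n)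

include hle hextP hextQ kP kQ hcov in
lemma R_mono {m n : ℕ} (hmn : m ≤ n) (A : C) (h : R P Q m A) : R P Q n A := by
  induction n, hmn using Nat.le_induction with
  | base => exact h
  | succ n _ ih => exact (good_all hle hextP hextQ kP kQ hcov n).mono A ih

include hle hextP hextQ kP kQ hcov in
lemma E_sub_R : ∀ (n : ℕ) (A : C), E P Q n A → R P Q n A
  | 0, _, h => h
  | (n + 1), A, ⟨hQ, K₀, L₀, i₀, p₀, w₀, se0, hL₀, hK₀⟩ => by
    have g := good_all hle hextP hextQ kP kQ hcov n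
    have hRK₀ := E_sub_R n K₀ hK₀
    refine ⟨hQ, fun K L i p w hse hL => ?_⟩
    obtain ⟨k1, w1, se1⟩ := se_pullback_snd i₀ p₀ w₀ se0 p
    obtain ⟨k2, w2, se2⟩ := se_pullback_fst i p w hse p₀
    have hT := g.ext _ se1 hRK₀ (g.base _ hL)
    exact g.ker _ se2 hT (g.mono _ (g.base _ hL₀))

end

end Groth.Agent.Helper6.Resol
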