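import Mathlib
import Groth.Prelude.Def_SGA6
import Groth.Agent.Lib.Helper6.ResolDim

set_option autoImplicit false
set_option linter.style.haveILetI false

universe v u

open CategoryTheory CategoryTheory.Limits KZero

namespace Groth.Agent.Helper6.Resol

variable {C : Type u} [Category.{v} C] [Abelian C]

/-- iterated syzygies for a choice of covers -/
noncomputable def Om (cov : ∀ A : C, Σ L : C, (L ⟶ A)) (A : C) : ℕ → C
  | 0 => A
  | (n + 1) => kernel (cov (Om cov A n)).2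

/-- the inclusion of the next syzygy -/
noncomputable def OmI (cov : ∀ A : C, Σ L : C, (L ⟶ A)) (A : C) (n : ℕ) :
    Om cov A (n + 1) ⟶ (cov (Om cov A n)).1 :=
  kernel.ι (cov (Om cov A n)).2

lemma OmI_comp (cov : ∀ A : C, Σ L : C, (L ⟶ A)) (A : C) (n : ℕ) :
    OmI cov A n ≫ (cov (Om cov A n)).2 = 0 :=
  kernel.condition _

instance OmI_mono (cov : ∀ A : C, Σ L : C, (L ⟶ A)) (A : C) (n : ℕ) : Mono (OmI cov A n) :=
  inferInstanceAs (Mono (kernel.ι (cov (Om cov A n)).2))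

lemma OmI_se (cov : ∀ A : C, Σ L : C, (L ⟶ A)) (A : C) (n : ℕ) [Epi (cov (Om cov A n)).2] :
    (ShortComplex.mk (OmI cov A n) (cov (Om cov A n)).2 (OmI_comp cov A n)).ShortExact :=
  se_kernel (cov (Om cov A n)).2

noncomputable def OmI_isKernel (cov : ∀ A : C, Σ L : C, (L ⟶ A)) (A : C) (n : ℕ) :
    IsLimit (KernelFork.ofι (OmI cov A n) (OmI_comp cov A n)) :=
  kernelIsKernel (cov (Om cov A n)).2

lemma cx_sq (cov : ∀ A : C, Σ L : C, (L ⟶ A)) (A : C) (n : ℕ) :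
    ((cov (Om cov A (n + 1 + 1))).2 ≫ OmI cov A (n + 1)) ≫
      ((cov (Om cov A (n + 1))).2 ≫ OmI cov A n) = 0 := by
  rw [Category.assoc, ← Category.assoc (OmI cov A (n + 1)), OmI_comp, zero_comp, comp_zero]

/-- the canonical resolution attached to a choice of covers -/
noncomputable def cx (cov : ∀ A : C, Σ L : C, (L ⟶ A)) (A : C) : ChainComplex C ℕ :=
  ChainComplex.of (fun n => (cov (Om cov A n)).1)
    (fun n => (cov (Om cov A (n + 1))).2 ≫ OmI cov A n)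
    (fun n => cx_sq cov A n)

lemma exact_of_eq {X₁ X₂ X₃ : C} {f f' : X₁ ⟶ X₂} {g g' : X₂ ⟶ X₃} (hf : f = f') (hg : g = g')
    (w : f ≫ g = 0) (w' : f' ≫ g' = 0) (h : (ShortComplex.mk f' g' w').Exact) :
    (ShortComplex.mk f g w).Exact := by
  subst hf hg
  exact h

section

variable {P Q : ObjectProperty C} (hle : ∀ X, P X → Q X)
  (kQ : ∀ S : ShortComplex C, S.ShortExact → Q S.X₂ → Q S.X₃ → Q S.X₁)
  (cov : ∀ A : C, Σ L : C, (L ⟶ A))
  (hspec : ∀ A, Q A → P (cov A).1 ∧ Epi (cov A).2)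
  {A : C} (hA : Q A)

include hle kQ hspec hA in
lemma Om_Q : ∀ n : ℕ, Q (Om cov A n)
  | 0 => hA
  | (n + 1) => by
    have h := Om_Q n
    obtain ⟨hL, hp⟩ := hspec _ h
    haveI := hp
    exact kQ _ (OmI_se cov A n) (hle _ hL) h

lemma cx_d (n : ℕ) : (cx cov A).d (n + 1) n = (cov (Om cov A (n + 1))).2 ≫ OmI cov A n := by
  unfold cx
  exact ChainComplex.of_d (V := C) (fun n => (cov (Om cov A n)).1)
    (fun n => (cov (Om cov A (n + 1))).2 ≫ OmI cov A n) n

include hle kQ hspec hA in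
lemma cx_exactAt (n : ℕ) : (cx cov A).ExactAt (n + 1) := by
  rw [HomologicalComplex.exactAt_iff' _ (n + 1 + 1) (n + 1) n (by simp) (by simp)]
  obtain ⟨-, hp1⟩ := hspec _ (Om_Q hle kQ cov hspec hA (n + 1))
  obtain ⟨-, hp2⟩ := hspec _ (Om_Q hle kQ cov hspec hA (n + 1 + 1))
  haveI := hp1
  haveI := hp2
  have key := exact_epi_comp_comp_mono (cov (Om cov A (n + 1 + 1))).2
    (OmI cov A (n + 1)) (cov (Om cov A (n + 1))).2
    (OmI cov A n) (OmI_comp cov A (n + 1))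
    (OmI_se cov A (n + 1)).exact (cx_sq cov A n)
  exact exact_of_eq (cx_d cov (n + 1)) (cx_d cov n) _ _ key

include hle kQ hspec hA in
lemma cx_homology : Nonempty ((cx cov A).homology 0 ≅ A) := by
  obtain ⟨-, hp0⟩ := hspec _ (Om_Q hle kQ cov hspec hA 0)
  obtain ⟨-, hp1⟩ := hspec _ (Om_Q hle kQ cov hspec hA (0 + 1))
  haveI := hp0
  haveI := hp1
  have hd : (cx cov A).d (0 + 1) 0 = (cov (Om cov A (0 + 1))).2 ≫ OmI cov A 0 := cx_d cov 0
  have hcok : IsColimit (CokernelCofork.ofπ (cov (Om cov A 0)).2 (OmI_comp cov A 0)) :=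
    (OmI_se cov A 0).gIsCokernel
  have hcok' := isCokernelEpiComp hcok (cov (Om cov A (0 + 1))).2 hd
  have h2 := (cx cov A).opcyclesIsCokernel (0 + 1) 0 (by simp)
  have e2 : (cx cov A).opcycles 0 ≅ Om cov A 0 := IsColimit.coconePointUniqueUpToIso h2 hcok'
  have e3 : (cx cov A).homology 0 ≅ Om cov A 0 := (cx cov A).isoHomologyι₀ ≪≫ e2
  exact ⟨e3⟩

lemma cx_cycles (n : ℕ) : Nonempty ((cx cov A).cycles (n + 1) ≅ Om cov A (n + 1 + 1)) := by
  have h1 := (cx cov A).cyclesIsKernel (n + 1) n (by simp)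
  have hd := cx_d cov (A := A) n
  have h2 := isKernelCompMono (OmI_isKernel cov A (n + 1)) (OmI cov A n) hd
  have e1 : (cx cov A).cycles (n + 1) ≅ Om cov A (n + 1 + 1) :=
    IsLimit.conePointUniqueUpToIso h1 h2
  exact ⟨e1⟩

include hle kQ hspec hA in
lemma E_of_Om : ∀ (k m : ℕ), P (Om cov A (m + k)) → E P Q k (Om cov A m)
  | 0, _, h => h
  | (k + 1), m, h => by
    have hQm := Om_Q hle kQ cov hspec hA m
    obtain ⟨hL, hp⟩ := hspec _ hQm
    haveI := hp
    have h' : P (Om cov A (m + 1 + k)) := by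
      rwa [show m + 1 + k = m + (k + 1) by omega]
    have ih : E P Q k (Om cov A (m + 1)) := E_of_Om k (m + 1) h'
    exact ⟨hQm, _, _, _, _, _, OmI_se cov A m, hL, ih⟩

include hle kQ hspec in
theorem exists_E [P.IsClosedUnderIsomorphisms]
    (h3 : ∀ A : C, Q A → ∃ d : ℕ, ∀ L : ChainComplex C ℕ, (∀ i, P (L.X i)) →
      (∀ i, 1 ≤ i → L.ExactAt i) → Nonempty (L.homology 0 ≅ A) → P (L.cycles (d + 1)))
    (A : C) (hA : Q A) : ∃ n, E P Q n A := by
  obtain ⟨d, hd⟩ := h3 A hA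
  have hcyc := hd (cx cov A) (fun i => (hspec _ (Om_Q hle kQ cov hspec hA i)).1)
    (fun i hi => by
      obtain ⟨j, rfl⟩ := Nat.exists_eq_succ_of_ne_zero (show i ≠ 0 by omega)
      exact cx_exactAt hle kQ cov hspec hA j)
    (cx_homology hle kQ cov hspec hA)
  obtain ⟨e⟩ := cx_cycles cov (A := A) d
  have hOm : P (Om cov A (0 + (d + 1 + 1))) := by
    rw [Nat.zero_add]
    exact P.prop_of_iso e hcyc
  exact ⟨d + 1 + 1, E_of_Om hle kQ cov hspec hA (d + 1 + 1) 0 hOm⟩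

end

end Groth.Agent.Helper6.Resol
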