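import Mathlib
import Groth.Prelude.Def_SGA6
import Groth.Agent.Lib.Helper6.ResolCx

set_option autoImplicit false

universe v u

open CategoryTheory CategoryTheory.Limits KZero

namespace Groth.Agent.Helper6.Resol

variable {C : Type u} [Category.{v} C] [Abelian C]

lemma freeAb_map_injective {α β : Type*} (f : α → β) (hf : Function.Injective f) :
    Function.Injective (FreeAbelianGroup.map f) := by
  rcases isEmpty_or_nonempty α with h | h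
  · intro x y _
    exact Subsingleton.elim _ _
  · obtain ⟨r, hr⟩ := hf.hasLeftInverse
    intro x y hxy
    have := congrArg (FreeAbelianGroup.map r) hxy
    rw [← FreeAbelianGroup.map_comp_apply, ← FreeAbelianGroup.map_comp_apply] at this
    have hid : r ∘ f = id := funext hr
    rw [hid, FreeAbelianGroup.map_id_apply, FreeAbelianGroup.map_id_apply] at this
    exact this

lemma map_objMap_comp {P Q T : ObjectProperty C} (h1 : ∀ X, P X → Q X) (h2 : ∀ X, Q X → T X)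
    (h12 : ∀ X, P X → T X) (z : FreeAbelianGroup (Subtype P)) :
    FreeAbelianGroup.map (SGA6.objMap (𝟭 C) Q T h2)
      (FreeAbelianGroup.map (SGA6.objMap (𝟭 C) P Q h1) z) =
      FreeAbelianGroup.map (SGA6.objMap (𝟭 C) P T h12) z := by
  rw [← FreeAbelianGroup.map_comp_apply]
  rfl

lemma objMap_injective {P Q : ObjectProperty C} (h : ∀ X, P X → Q X) :
    Function.Injective (SGA6.objMap (𝟭 C) P Q h) := by
  intro a b hab
  have h1 : (SGA6.objMap (𝟭 C) P Q h a).1 = (SGA6.objMap (𝟭 C) P Q h b).1 :=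
    congrArg Subtype.val hab
  exact Subtype.ext h1

theorem main (P₀ P₁ : ObjectProperty C) [P₀.IsClosedUnderIsomorphisms]
    (hle : ∀ X, P₀ X → P₁ X)
    (hext₀ : ∀ S : ShortComplex C, S.ShortExact → P₀ S.X₁ → P₀ S.X₃ → P₀ S.X₂)
    (hext₁ : ∀ S : ShortComplex C, S.ShortExact → P₁ S.X₁ → P₁ S.X₃ → P₁ S.X₂)
    (h1₀ : ∀ S : ShortComplex C, S.ShortExact → P₀ S.X₂ → P₀ S.X₃ → P₀ S.X₁)
    (h1₁ : ∀ S : ShortComplex C, S.ShortExact → P₁ S.X₂ → P₁ S.X₃ → P₁ S.X₁)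
    (h2 : ∀ (A B D : C) (u : A ⟶ B) (v : D ⟶ B), Epi u → P₁ A → P₁ B → P₁ D →
      ∃ (L : C) (u' : L ⟶ D) (v' : L ⟶ A), P₀ L ∧ Epi u' ∧ u' ≫ v = v' ≫ u)
    (h3 : ∀ A : C, P₁ A → ∃ d : ℕ, ∀ L : ChainComplex C ℕ, (∀ i, P₀ (L.X i)) →
      (∀ i, 1 ≤ i → L.ExactAt i) → Nonempty (L.homology 0 ≅ A) → P₀ (L.cycles (d + 1))) :
    Function.Bijective (SGA6.mapSub (𝟭 C) P₀ P₁ hle) := by
  classical
  have hcov : ∀ A, P₁ A → ∃ (L : C) (p : L ⟶ A), P₀ L ∧ Epi p := by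
    intro A hA
    obtain ⟨L, u', v', hL, hu', _⟩ := h2 A A A (𝟙 A) (𝟙 A) inferInstance hA hA hA
    exact ⟨L, u', hL, hu'⟩
  have g := good_all hle hext₀ hext₁ h1₀ h1₁ hcov
  obtain ⟨cov, hspec⟩ : ∃ cov : ∀ A : C, Σ L : C, (L ⟶ A),
      ∀ A, P₁ A → P₀ (cov A).1 ∧ Epi (cov A).2 := by
    refine ⟨fun A => if h : P₁ A then ⟨(hcov A h).choose, (hcov A h).choose_spec.choose⟩
      else ⟨A, 𝟙 A⟩, ?_⟩
    intro A h
    beta_reduce
    rw [dif_pos h]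
    exact (hcov A h).choose_spec.choose_spec
  have hex : ∀ A, P₁ A → ∃ n, R P₀ P₁ n A := by
    intro A hA
    obtain ⟨n, hn⟩ := exists_E hle h1₁ cov hspec h3 A hA
    exact ⟨n, E_sub_R hle hext₀ hext₁ h1₀ h1₁ hcov n A hn⟩
  have hmono : ∀ {m n : ℕ}, m ≤ n → ∀ X, R P₀ P₁ m X → R P₀ P₁ n X :=
    fun hmn X h => R_mono hle hext₀ hext₁ h1₀ h1₁ hcov hmn X h
  have hstep : ∀ n, Function.Bijective
      (SGA6.mapSub (𝟭 C) (R P₀ P₁ n) (R P₀ P₁ (n + 1)) (g n).mono) := by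
    intro n
    apply step _ _ _ (g n).ext (g n).ker
    intro A hA
    obtain ⟨L, p, hL, hp⟩ := hcov A hA.1
    exact ⟨L, p, (g n).base L hL, hp⟩
  have hbij : ∀ n, Function.Bijective (SGA6.mapSub (𝟭 C) P₀ (R P₀ P₁ n) (g n).base) := by
    intro n
    induction n with
    | zero =>
      apply step _ _ _ hext₀ (fun S hS a b => h1₀ S hS a b)
      intro A hA
      exact ⟨A, 𝟙 A, hA, inferInstance⟩
    | succ n ih =>
      have hcomp : ⇑(SGA6.mapSub (𝟭 C) P₀ (R P₀ P₁ (n + 1)) (g (n + 1)).base) =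
          ⇑(SGA6.mapSub (𝟭 C) (R P₀ P₁ n) (R P₀ P₁ (n + 1)) (g n).mono) ∘
            ⇑(SGA6.mapSub (𝟭 C) P₀ (R P₀ P₁ n) (g n).base) := by
        funext x
        exact (mapSub_comp _ _ x).symm
      rw [hcomp]
      exact (hstep n).comp ih
  have hRQ : ∀ n X, R P₀ P₁ n X → P₁ X := R_sub hle
  have hfac : ∀ n (x : K0sub P₀), SGA6.mapSub (𝟭 C) (R P₀ P₁ n) P₁ (hRQ n)
      (SGA6.mapSub (𝟭 C) P₀ (R P₀ P₁ n) (g n).base x) = SGA6.mapSub (𝟭 C) P₀ P₁ hle x :=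
    fun n x => mapSub_comp _ _ x
  constructor
  · rw [injective_iff_map_eq_zero]
    intro x hx
    obtain ⟨xt, rfl⟩ := QuotientAddGroup.mk_surjective x
    have hx' : FreeAbelianGroup.map (SGA6.objMap (𝟭 C) P₀ P₁ hle) xt ∈ relSub P₁ := by
      have e : SGA6.mapSub (𝟭 C) P₀ P₁ hle (QuotientAddGroup.mk xt) =
          QuotientAddGroup.mk (FreeAbelianGroup.map (SGA6.objMap (𝟭 C) P₀ P₁ hle) xt) := rfl
      rw [e] at hx
      exact (QuotientAddGroup.eq_zero_iff _).mp hx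
    have claim : ∀ y ∈ relSub P₁, ∃ n, ∃ z ∈ relSub (R P₀ P₁ n),
        FreeAbelianGroup.map (SGA6.objMap (𝟭 C) (R P₀ P₁ n) P₁ (hRQ n)) z = y := by
      intro y hy
      refine AddSubgroup.closure_induction
        (p := fun y _ => ∃ n, ∃ z ∈ relSub (R P₀ P₁ n),
          FreeAbelianGroup.map (SGA6.objMap (𝟭 C) (R P₀ P₁ n) P₁ (hRQ n)) z = y)
        ?_ ?_ ?_ ?_ hy
      · rintro y ⟨S, h₁, h₂, h₃, hS, rfl⟩
        obtain ⟨n₁, r₁⟩ := hex _ h₁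
        obtain ⟨n₂, r₂⟩ := hex _ h₂
        obtain ⟨n₃, r₃⟩ := hex _ h₃
        have q₁ : R P₀ P₁ (max n₁ (max n₂ n₃)) S.X₁ := hmono (le_max_left _ _) _ r₁
        have q₂ : R P₀ P₁ (max n₁ (max n₂ n₃)) S.X₂ :=
          hmono ((le_max_left _ _).trans (le_max_right _ _)) _ r₂
        have q₃ : R P₀ P₁ (max n₁ (max n₂ n₃)) S.X₃ :=
          hmono ((le_max_right _ _).trans (le_max_right _ _)) _ r₃
        refine ⟨max n₁ (max n₂ n₃), FreeAbelianGroup.of ⟨S.X₂, q₂⟩ - FreeAbelianGroup.of ⟨S.X₁, q₁⟩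
          - FreeAbelianGroup.of ⟨S.X₃, q₃⟩, AddSubgroup.subset_closure ⟨S, q₁, q₂, q₃, hS, rfl⟩, ?_⟩
        simp only [map_sub, FreeAbelianGroup.map_of_apply]
        rfl
      · exact ⟨0, 0, zero_mem _, map_zero _⟩
      · rintro y₁ y₂ _ _ ⟨n₁, z₁, hz₁, rfl⟩ ⟨n₂, z₂, hz₂, rfl⟩
        have m₁ : ∀ X, R P₀ P₁ n₁ X → R P₀ P₁ (max n₁ n₂) X := hmono (le_max_left _ _)
        have m₂ : ∀ X, R P₀ P₁ n₂ X → R P₀ P₁ (max n₁ n₂) X := hmono (le_max_right _ _)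
        refine ⟨max n₁ n₂,
          FreeAbelianGroup.map (SGA6.objMap (𝟭 C) (R P₀ P₁ n₁) (R P₀ P₁ (max n₁ n₂)) m₁) z₁ +
          FreeAbelianGroup.map (SGA6.objMap (𝟭 C) (R P₀ P₁ n₂) (R P₀ P₁ (max n₁ n₂)) m₂) z₂,
          add_mem (SGA6.relSub_le_comap (𝟭 C) _ _ m₁ hz₁) (SGA6.relSub_le_comap (𝟭 C) _ _ m₂ hz₂),
          ?_⟩
        rw [map_add, map_objMap_comp m₁ (hRQ _) (hRQ n₁), map_objMap_comp m₂ (hRQ _) (hRQ n₂)]
      · rintro y _ ⟨n, z, hz, rfl⟩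
        exact ⟨n, -z, neg_mem hz, map_neg _ _⟩
    obtain ⟨n, z, hz, hzy⟩ := claim _ hx'
    have e : FreeAbelianGroup.map (SGA6.objMap (𝟭 C) (R P₀ P₁ n) P₁ (hRQ n))
        (FreeAbelianGroup.map (SGA6.objMap (𝟭 C) P₀ (R P₀ P₁ n) (g n).base) xt) =
        FreeAbelianGroup.map (SGA6.objMap (𝟭 C) P₀ P₁ hle) xt :=
      map_objMap_comp _ _ _ xt
    have hz' : z = FreeAbelianGroup.map (SGA6.objMap (𝟭 C) P₀ (R P₀ P₁ n) (g n).base) xt :=
      freeAb_map_injective _ (objMap_injective (hRQ n)) (hzy.trans e.symm)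
    have h0 : SGA6.mapSub (𝟭 C) P₀ (R P₀ P₁ n) (g n).base (QuotientAddGroup.mk xt) = 0 := by
      have e' : SGA6.mapSub (𝟭 C) P₀ (R P₀ P₁ n) (g n).base (QuotientAddGroup.mk xt) =
          QuotientAddGroup.mk
            (FreeAbelianGroup.map (SGA6.objMap (𝟭 C) P₀ (R P₀ P₁ n) (g n).base) xt) := rfl
      rw [e', ← hz']
      exact (QuotientAddGroup.eq_zero_iff _).mpr hz
    exact (hbij n).1 (h0.trans (map_zero _).symm)
  · intro y
    induction y using K0sub_induction with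
    | h0 => exact ⟨0, map_zero _⟩
    | hcls A hA =>
      obtain ⟨n, hn⟩ := hex A hA
      obtain ⟨x, hx⟩ := (hbij n).2 (cls (R P₀ P₁ n) A hn)
      refine ⟨x, ?_⟩
      rw [← hfac n x, hx, mapSub_cls]
    | hneg y ih =>
      obtain ⟨x, rfl⟩ := ih
      exact ⟨-x, map_neg _ _⟩
    | hadd y₁ y₂ h₁ h₂ =>
      obtain ⟨x₁, rfl⟩ := h₁
      obtain ⟨x₂, rfl⟩ := h₂
      exact ⟨x₁ + x₂, map_add _ _ _⟩

end Groth.Agent.Helper6.Resol
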