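import Mathlib

/-! Normal domains with separably closed fraction field: residue fields are algebraically closed. -/

set_option autoImplicit false

open Polynomial

namespace Groth.Agent.Helper6.SCN

theorem exists_algebraMap_eq_of_isIntegral {B L : Type*} [CommRing B] [CommRing L] [IsDomain L]
    [Algebra B L] (H : ∀ g : B[X], g.Monic → 0 < g.natDegree → ∃ b, g.eval b = 0) (w : L)
    (hw : IsIntegral B w) : ∃ b, algebraMap B L b = w := by
  haveI : Nontrivial B := (algebraMap B L).domain_nontrivial
  have key : ∀ n : ℕ, ∀ g : B[X], g.Monic → g.natDegree = n → aeval w g = 0 →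
      ∃ b, algebraMap B L b = w := by
    intro n
    induction n with
    | zero =>
      intro g hg hn h0
      have h1 : g = 1 := eq_one_of_monic_natDegree_zero hg hn
      rw [h1, map_one] at h0
      exact absurd h0 one_ne_zero
    | succ n ih =>
      intro g hg hn h0
      obtain ⟨b, hb⟩ := H g hg (by omega)
      have hfac : (X - C b) * (g /ₘ (X - C b)) = g := mul_divByMonic_eq_iff_isRoot.mpr hb
      have hmon : (g /ₘ (X - C b)).Monic := by
        apply Monic.of_mul_monic_left (monic_X_sub_C b)
        rw [hfac]; exact hg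
      have hdeg : (g /ₘ (X - C b)).natDegree = n := by
        have := natDegree_divByMonic g (monic_X_sub_C b)
        rw [hn, natDegree_X_sub_C] at this
        omega
      rw [← hfac, map_mul] at h0
      rcases mul_eq_zero.mp h0 with h1 | h1
      · refine ⟨b, ?_⟩
        rw [map_sub, aeval_X, aeval_C] at h1
        exact (sub_eq_zero.mp h1).symm
      · exact ih _ hmon hdeg h1
  obtain ⟨g, hg, hgw⟩ := hw
  exact key _ g hg rfl (by rw [aeval_def]; exact hgw)

theorem isAlgClosed_of_forall_monic_exists_root (B κ : Type*) [CommRing B] [IsDomain B] [Field κ]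
    [Algebra B κ] [IsFractionRing B κ]
    (H : ∀ g : B[X], g.Monic → 0 < g.natDegree → ∃ b, g.eval b = 0) : IsAlgClosed κ := by
  apply IsAlgClosed.of_exists_root
  intro q _ hirr
  obtain ⟨z, hz⟩ := IsAlgClosed.exists_aeval_eq_zero (AlgebraicClosure κ) q
    (degree_pos_of_irreducible hirr).ne'
  have hzalg : IsAlgebraic κ z := ⟨q, hirr.ne_zero, hz⟩
  have hzB : IsAlgebraic B z :=
    (IsFractionRing.isAlgebraic_iff B κ (AlgebraicClosure κ)).mpr hzalg
  obtain ⟨y, hy0, hyint⟩ := hzB.exists_integral_multiple
  obtain ⟨b, hb⟩ := exists_algebraMap_eq_of_isIntegral H (y • z) hyint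
  have hy' : algebraMap B κ y ≠ 0 :=
    fun h0 => hy0 ((IsFractionRing.injective B κ) (by rw [h0, map_zero]))
  have hyL : algebraMap κ (AlgebraicClosure κ) (algebraMap B κ y) ≠ 0 :=
    (map_ne_zero_iff _ (algebraMap κ (AlgebraicClosure κ)).injective).mpr hy'
  have hz' : z = algebraMap κ (AlgebraicClosure κ) (algebraMap B κ b / algebraMap B κ y) := by
    rw [map_div₀, eq_div_iff hyL, ← IsScalarTower.algebraMap_apply,
      ← IsScalarTower.algebraMap_apply, hb, Algebra.smul_def, mul_comm]
  refine ⟨algebraMap B κ b / algebraMap B κ y, ?_⟩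
  rw [hz', aeval_algebraMap_apply] at hz
  have := (map_eq_zero_iff _ (algebraMap κ (AlgebraicClosure κ)).injective).mp hz
  simpa using this

theorem exists_root_quotient (A : Type*) [CommRing A] [IsDomain A] [IsIntegrallyClosed A]
    [IsSepClosed (FractionRing A)] (p : Ideal A) [hpp : p.IsPrime] (hp : p ≠ ⊥)
    (g : (A ⧸ p)[X]) (hg : g.Monic) (hd : 0 < g.natDegree) : ∃ b, g.eval b = 0 := by
  classical
  obtain ⟨G₀, hG₀map, hG₀deg, hG₀mon⟩ := lifts_and_natDegree_eq_and_monic
    ((mem_lifts _).mpr (map_surjective _ Ideal.Quotient.mk_surjective g)) hg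
  obtain ⟨t, htp, ht0⟩ := Submodule.exists_mem_ne_zero_of_ne_bot hp
  have hinjK : Function.Injective (algebraMap A (FractionRing A)) := IsFractionRing.injective A _
  have hτ : algebraMap A (FractionRing A) t ≠ 0 :=
    fun h0 => ht0 (hinjK (by rw [h0, map_zero]))
  have hmkt : Ideal.Quotient.mk p t = 0 := Ideal.Quotient.eq_zero_iff_mem.mpr htp
  have hdegG₀ : (0 : WithBot ℕ) < G₀.degree := by
    rw [degree_eq_natDegree hG₀mon.ne_zero, hG₀deg]; exact_mod_cast hd
  obtain ⟨G, hGmon, hGmap, hGsep⟩ : ∃ G : A[X], G.Monic ∧ G.map (Ideal.Quotient.mk p) = g ∧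
      (G.map (algebraMap A (FractionRing A))).Separable := by
    by_cases hD : derivative (G₀.map (algebraMap A (FractionRing A))) = 0
    · -- case 1
      have hd2 : 1 < G₀.natDegree := by
        by_contra hlt
        have h1 : G₀.natDegree = 1 := by omega
        have hc := congrArg (fun P => P.coeff 0) hD
        simp only [coeff_derivative, coeff_zero] at hc
        rw [coeff_map] at hc
        have hlead : G₀.coeff 1 = 1 := by rw [← h1]; exact hG₀mon.coeff_natDegree
        rw [show (0 + 1 : ℕ) = 1 from rfl, hlead] at hc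
        simp at hc
      refine ⟨G₀ + C t * X, ?_, ?_, ?_⟩
      · apply hG₀mon.add_of_left
        calc (C t * X).degree ≤ 1 := degree_C_mul_X_le t
          _ < G₀.degree := by
            rw [degree_eq_natDegree hG₀mon.ne_zero]; exact_mod_cast hd2
      · rw [Polynomial.map_add, Polynomial.map_mul, map_C, map_X, hG₀map, hmkt, C_0, zero_mul,
          add_zero]
      · rw [separable_def, Polynomial.map_add, Polynomial.map_mul, map_C, map_X, derivative_add,
          hD, zero_add, derivative_C_mul, derivative_X, mul_one]
        obtain ⟨v, hv⟩ := (isUnit_C.mpr (IsUnit.mk0 _ hτ)).exists_left_inv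
        exact ⟨0, v, by rw [zero_mul, zero_add, hv]⟩
    · -- case 2
      set F₀ := G₀.map (algebraMap A (FractionRing A)) with hF₀
      let L := AlgebraicClosure (FractionRing A)
      let T : Set L := (fun a => - aeval a F₀) '' ((derivative F₀).rootSet L)
      have hT : T.Finite := (rootSet_finite _ L).image _
      let φ : A → L := fun c => algebraMap (FractionRing A) L
        (algebraMap A (FractionRing A) t * algebraMap A (FractionRing A) c)
      have hφ : Function.Injective φ := by
        intro c c' hcc
        have h1 := (algebraMap (FractionRing A) L).injective hcc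
        exact hinjK (mul_left_cancel₀ hτ h1)
      have hinf : Infinite A := by
        by_contra hfin
        rw [not_infinite_iff_finite] at hfin
        have hF : IsField A := Finite.isField_of_domain A
        obtain ⟨b, hb⟩ := hF.mul_inv_cancel ht0
        have : (1 : A) ∈ p := by rw [← hb]; exact p.mul_mem_right b htp
        exact hpp.ne_top ((Ideal.eq_top_iff_one p).mpr this)
      obtain ⟨c, hc⟩ : ∃ c, φ c ∉ T := by
        have hfin : (φ ⁻¹' T).Finite := hT.preimage (hφ.injOn)
        obtain ⟨c, hc⟩ := Infinite.exists_notMem_finset hfin.toFinset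
        exact ⟨c, by simpa using hc⟩
      refine ⟨G₀ + C (t * c), ?_, ?_, ?_⟩
      · apply hG₀mon.add_of_left
        exact lt_of_le_of_lt degree_C_le hdegG₀
      · rw [Polynomial.map_add, map_C, hG₀map, map_mul, hmkt, zero_mul, C_0, add_zero]
      · rw [separable_def, Polynomial.map_add, map_C, derivative_add, derivative_C, add_zero]
        refine (isCoprime_iff_aeval_ne_zero_of_isAlgClosed (FractionRing A) L _ _).mpr ?_
        intro a
        by_contra hcon
        push Not at hcon
        obtain ⟨h1, h2⟩ := hcon
        apply hc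
        refine ⟨a, (mem_rootSet.mpr ⟨hD, h2⟩), ?_⟩
        rw [map_add, aeval_C] at h1
        show -(aeval a F₀) = φ c
        simp only [φ]
        rw [← map_mul]
        exact neg_eq_of_add_eq_zero_right h1
  have hnat : (G.map (algebraMap A (FractionRing A))).natDegree = g.natDegree := by
    rw [hGmon.natDegree_map, ← hGmap, hGmon.natDegree_map]
  have hdeg : (G.map (algebraMap A (FractionRing A))).degree ≠ 0 := by
    intro h0
    have := natDegree_eq_zero_iff_degree_le_zero.mpr (le_of_eq h0)
    omega
  obtain ⟨β, hβ⟩ := IsSepClosed.exists_root _ hdeg hGsep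
  have hβint : IsIntegral A β := ⟨G, hGmon, by rw [← eval_map]; exact hβ⟩
  obtain ⟨b, rfl⟩ := IsIntegrallyClosed.algebraMap_eq_of_integral hβint
  rw [IsRoot.def, eval_map, eval₂_at_apply] at hβ
  have hGb : G.eval b = 0 := hinjK (by rw [hβ, map_zero])
  refine ⟨Ideal.Quotient.mk p b, ?_⟩
  rw [← hGmap, eval_map, eval₂_at_apply, hGb, map_zero]

theorem isAlgClosed_residueField (A : Type*) [CommRing A] [IsDomain A] [IsIntegrallyClosed A]
    [IsSepClosed (FractionRing A)] (p : Ideal A) [p.IsPrime] (hp : p ≠ ⊥) :
    IsAlgClosed p.ResidueField :=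
  isAlgClosed_of_forall_monic_exists_root (A ⧸ p) p.ResidueField
    (fun g hg hd => exists_root_quotient A p hp g hg hd)

end Groth.Agent.Helper6.SCN
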