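import Mathlib
import Groth.Agent.Lib.Helper6.SepClosedNormal

/-! Normal local domains with separably closed fraction field are strictly henselian. -/

set_option autoImplicit false

open Polynomial

namespace Groth.Agent.Helper6.SCN

theorem exists_root_of_separable (A : Type*) [CommRing A] [IsDomain A] [IsIntegrallyClosed A]
    [IsSepClosed (FractionRing A)] (G : A[X]) (hGmon : G.Monic) (hd : 0 < G.natDegree)
    (hGsep : (G.map (algebraMap A (FractionRing A))).Separable) : ∃ b, G.eval b = 0 := by
  have hinjK : Function.Injective (algebraMap A (FractionRing A)) := IsFractionRing.injective A _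
  have hdeg : (G.map (algebraMap A (FractionRing A))).degree ≠ 0 := by
    intro h0
    have := natDegree_eq_zero_iff_degree_le_zero.mpr (le_of_eq h0)
    rw [hGmon.natDegree_map] at this
    omega
  obtain ⟨β, hβ⟩ := IsSepClosed.exists_root _ hdeg hGsep
  have hβint : IsIntegral A β := ⟨G, hGmon, by rw [← eval_map]; exact hβ⟩
  obtain ⟨b, rfl⟩ := IsIntegrallyClosed.algebraMap_eq_of_integral hβint
  rw [IsRoot.def, eval_map, eval₂_at_apply] at hβ
  exact ⟨b, hinjK (by rw [hβ, map_zero])⟩

theorem exists_root_sub_mem {B : Type*} [CommRing B] [IsDomain B]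
    (H : ∀ g : B[X], g.Monic → 0 < g.natDegree → ∃ b, g.eval b = 0) (P : Ideal B) [hP : P.IsPrime]
    (g : B[X]) (hg : g.Monic) (b₀ : B) (h0 : g.eval b₀ ∈ P) :
    ∃ β, g.eval β = 0 ∧ b₀ - β ∈ P := by
  have key : ∀ n : ℕ, ∀ g : B[X], g.Monic → g.natDegree = n → g.eval b₀ ∈ P →
      ∃ β, g.eval β = 0 ∧ b₀ - β ∈ P := by
    intro n
    induction n with
    | zero =>
      intro g hg hn h0
      have h1 : g = 1 := eq_one_of_monic_natDegree_zero hg hn
      rw [h1, eval_one] at h0
      exact absurd ((Ideal.eq_top_iff_one P).mpr h0) hP.ne_top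
    | succ n ih =>
      intro g hg hn h0
      obtain ⟨b, hb⟩ := H g hg (by omega)
      have hfac : (X - C b) * (g /ₘ (X - C b)) = g := mul_divByMonic_eq_iff_isRoot.mpr hb
      have hmon : (g /ₘ (X - C b)).Monic := by
        apply Monic.of_mul_monic_left (monic_X_sub_C b)
        rw [hfac]; exact hg
      have hdeg : (g /ₘ (X - C b)).natDegree = n := by
        have := natDegree_divByMonic g (monic_X_sub_C b)
        rw [hn, natDegree_X_sub_C] at this
        omega
      rw [← hfac, eval_mul, eval_sub, eval_X, eval_C] at h0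
      rcases hP.mem_or_mem h0 with h1 | h1
      · exact ⟨b, hb, h1⟩
      · obtain ⟨β, hβ, hβP⟩ := ih _ hmon hdeg h1
        refine ⟨β, ?_, hβP⟩
        rw [← hfac, eval_mul, hβ, mul_zero]
  exact key _ g hg rfl h0

theorem henselian (A : Type*) [CommRing A] [IsDomain A] [IsLocalRing A] [IsIntegrallyClosed A]
    [IsSepClosed (FractionRing A)] : HenselianLocalRing A := by
  refine { is_henselian := ?_ }
  intro f hf a₀ h₁ h₂
  let K := FractionRing A
  let L := AlgebraicClosure K
  let B := integralClosure A L
  have hinjAL : Function.Injective (algebraMap A L) := by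
    rw [IsScalarTower.algebraMap_eq A K L]
    exact (algebraMap K L).injective.comp (IsFractionRing.injective A K)
  have hinjAB : Function.Injective (algebraMap A B) := by
    intro x y hxy
    apply hinjAL
    exact congrArg Subtype.val hxy
  have hinjBL : Function.Injective (algebraMap B L) := Subtype.val_injective
  -- evaluation compatibility
  have hE : ∀ (p : A[X]) (b : B), algebraMap B L ((p.map (algebraMap A B)).eval b) =
      aeval (b : L) p := by
    intro p b
    rw [eval_map, ← aeval_def]
    exact (aeval_algebraMap_apply L b p).symm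
  -- root property of B
  have HB : ∀ g : B[X], g.Monic → 0 < g.natDegree → ∃ b, g.eval b = 0 := by
    intro g hg hd
    have hdeg : (g.map (algebraMap B L)).degree ≠ 0 := by
      intro h0
      have := natDegree_eq_zero_iff_degree_le_zero.mpr (le_of_eq h0)
      rw [hg.natDegree_map] at this
      omega
    obtain ⟨x, hx⟩ := IsAlgClosed.exists_root (g.map (algebraMap B L)) hdeg
    have hxB : IsIntegral B x := ⟨g, hg, by rw [← eval_map]; exact hx⟩
    have hxA : IsIntegral A x := isIntegral_trans x hxB
    refine ⟨⟨x, hxA⟩, ?_⟩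
    apply hinjBL
    rw [map_zero]
    rw [IsRoot.def, eval_map] at hx
    have : eval₂ (algebraMap B L) (algebraMap B L ⟨x, hxA⟩) g = 0 := hx
    rw [eval₂_at_apply] at this
    exact this
  obtain ⟨P, hPprime, hPcomap⟩ :=
    Ideal.exists_ideal_over_prime_of_isIntegral_of_isDomain (S := B) (IsLocalRing.maximalIdeal A)
      (by rw [(RingHom.injective_iff_ker_eq_bot _).mp hinjAB]; exact bot_le)
  set fB := f.map (algebraMap A B) with hfB
  have hfBmon : fB.Monic := hf.map _
  set b₀ := algebraMap A B a₀ with hb₀
  have hfBb₀ : fB.eval b₀ ∈ P := by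
    rw [hfB, hb₀, eval_map, eval₂_at_apply, ← Ideal.mem_comap, hPcomap]
    exact h₁
  obtain ⟨β, hβ0, hβP⟩ := exists_root_sub_mem HB P fB hfBmon b₀ hfBb₀
  set h := fB /ₘ (X - C β) with hh
  have hfac : (X - C β) * h = fB := mul_divByMonic_eq_iff_isRoot.mpr hβ0
  have hder : derivative fB = h + (X - C β) * derivative h := by
    rw [← hfac, derivative_mul, derivative_X_sub_C, one_mul]
  have hder_b₀ : (derivative fB).eval b₀ = algebraMap A B ((derivative f).eval a₀) := by
    rw [hfB, derivative_map, hb₀, eval_map, eval₂_at_apply]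
  have hunit : IsUnit ((derivative fB).eval b₀) := by
    rw [hder_b₀]; exact h₂.map _
  have hnotP : ∀ x : B, IsUnit x → x ∉ P := fun x hx hxP =>
    hPprime.ne_top (Ideal.eq_top_of_isUnit_mem P hxP hx)
  have hb₀h : h.eval b₀ ∉ P := by
    intro hmem
    apply hnotP _ hunit
    rw [hder, eval_add, eval_mul, eval_sub, eval_X, eval_C]
    exact P.add_mem hmem (P.mul_mem_right _ hβP)
  have hβh : h.eval β ∉ P := by
    intro hmem
    apply hb₀h
    obtain ⟨c, hc⟩ := sub_dvd_eval_sub b₀ β h
    have : h.eval b₀ = (b₀ - β) * c + h.eval β := by rw [← hc]; ring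
    rw [this]
    exact P.add_mem (P.mul_mem_right _ hβP) hmem
  have hβne : h.eval β ≠ 0 := fun h0 => hβh (h0 ▸ P.zero_mem)
  have hderβ : (derivative fB).eval β = h.eval β := by
    rw [hder, eval_add, eval_mul, eval_sub, eval_X, eval_C, sub_self, zero_mul, add_zero]
  -- work in L
  have hβint : IsIntegral K (β : L) := Algebra.IsIntegral.isIntegral _
  have hirr : Irreducible (minpoly K (β : L)) := minpoly.irreducible hβint
  have haevalf : aeval (β : L) f = 0 := by
    rw [← hE f β, ← hfB, hβ0, map_zero]
  have haevalf' : aeval (β : L) (derivative f) ≠ 0 := by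
    rw [← hE (derivative f) β, ← derivative_map, ← hfB, hderβ]
    exact fun h0 => hβne (hinjBL (by rw [h0, map_zero]))
  have hsep : (minpoly K (β : L)).Separable := by
    by_contra hns
    have hd0 : derivative (minpoly K (β : L)) = 0 := by
      by_contra hne
      exact hns ((separable_iff_derivative_ne_zero hirr).mpr hne)
    have hdvd : minpoly K (β : L) ∣ f.map (algebraMap A K) :=
      minpoly.dvd K (β : L) (by rw [aeval_map_algebraMap]; exact haevalf)
    obtain ⟨g, hg⟩ := hdvd
    apply haevalf'
    have : aeval (β : L) (derivative (f.map (algebraMap A K))) = 0 := by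
      rw [hg, derivative_mul, hd0, zero_mul, zero_add, map_mul, minpoly.aeval, zero_mul]
    rw [derivative_map, aeval_map_algebraMap] at this
    exact this
  have hdeg1 := IsSepClosed.degree_eq_one_of_irreducible K hirr hsep
  obtain ⟨k, hk⟩ := minpoly.mem_range_of_degree_eq_one K (β : L) hdeg1
  have hkint : IsIntegral A k := by
    rw [← isIntegral_algebraMap_iff (algebraMap K L).injective, hk]
    exact β.2
  obtain ⟨a, ha⟩ := IsIntegrallyClosed.algebraMap_eq_of_integral hkint
  have hβa : algebraMap A B a = β := by
    apply Subtype.ext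
    change algebraMap A L a = (β : L)
    rw [IsScalarTower.algebraMap_apply A K L, ha, hk]
  refine ⟨a, ?_, ?_⟩
  · apply hinjAB
    rw [map_zero, ← eval₂_at_apply, ← eval_map, hβa]
    exact hβ0
  · rw [← hPcomap, Ideal.mem_comap, map_sub, hβa, ← hb₀, ← neg_sub]
    exact P.neg_mem hβP

theorem isSepClosed_residueField (A : Type*) [CommRing A] [IsDomain A] [IsLocalRing A]
    [IsIntegrallyClosed A] [IsSepClosed (FractionRing A)] :
    IsSepClosed (IsLocalRing.ResidueField A) := by
  by_cases hm : IsLocalRing.maximalIdeal A = ⊥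
  · apply IsSepClosed.of_exists_root
    intro q hq hirr hsep
    have hρinj : Function.Injective (IsLocalRing.residue A) := by
      rw [RingHom.injective_iff_ker_eq_bot, IsLocalRing.ker_residue, hm]
    have hρsurj : Function.Surjective (IsLocalRing.residue A) := IsLocalRing.residue_surjective
    obtain ⟨Q, hQmap, hQdeg, hQmon⟩ := lifts_and_natDegree_eq_and_monic
      ((mem_lifts _).mpr (map_surjective _ hρsurj q)) hq
    have hQsep : Q.Separable := by
      obtain ⟨a, b, hab⟩ := hsep
      obtain ⟨a', rfl⟩ := map_surjective _ hρsurj a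
      obtain ⟨b', rfl⟩ := map_surjective _ hρsurj b
      refine ⟨a', b', ?_⟩
      apply map_injective _ hρinj
      rw [Polynomial.map_add, Polynomial.map_mul, Polynomial.map_mul, ← derivative_map, hQmap,
        Polynomial.map_one]
      exact hab
    obtain ⟨b, hb⟩ := exists_root_of_separable A Q hQmon
      (by rw [hQdeg]; exact natDegree_pos_iff_degree_pos.mpr (degree_pos_of_irreducible hirr))
      hQsep.map
    refine ⟨IsLocalRing.residue A b, ?_⟩
    rw [← hQmap, eval_map, eval₂_at_apply, hb, map_zero]
  · have : IsAlgClosed (IsLocalRing.ResidueField A) := by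
      apply IsAlgClosed.of_exists_root
      intro q hq hirr
      have hd : 0 < q.natDegree :=
        natDegree_pos_iff_degree_pos.mpr (degree_pos_of_irreducible hirr)
      exact exists_root_quotient A (IsLocalRing.maximalIdeal A) hm q hq hd
    infer_instance

end Groth.Agent.Helper6.SCN
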