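import Mathlib
import Groth.Agent.Lib.Helper6.Spectral

set_option autoImplicit false
universe u

namespace Groth.Agent.Helper6

open Topology TopologicalSpace Set CategoryTheory CategoryTheory.Limits

section LimitBasics

variable {J : Type u} [SmallCategory J] {F : J ⥤ TopCat.{u}} (c : Cone F) (hc : IsLimit c)

/-- Compatibility of the projections of a cone with the transition maps. -/
lemma cone_map_app {i j : J} (a : i ⟶ j) (x : c.pt) :
    F.map a (c.π.app i x) = c.π.app j x := by
  rw [← c.w a]
  rfl

/-- The map from the cone point to the product of all the spaces. -/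
def toPi (x : c.pt) : ∀ j, F.obj j := fun j => c.π.app j x

include hc in
lemma toPi_injective : Function.Injective (toPi c) := by
  intro x y hxy
  let e := hc.conePointUniqueUpToIso (TopCat.limitConeIsLimit F)
  have h1 : ∀ (z : c.pt) (j : J), (e.hom z).val j = c.π.app j z := by
    intro z j
    have := ConcreteCategory.congr_hom
      (IsLimit.conePointUniqueUpToIso_hom_comp hc (TopCat.limitConeIsLimit F) j) z
    rw [TopCat.comp_app] at this
    exact this
  have h2 : e.hom x = e.hom y := by
    apply Subtype.ext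
    funext j
    rw [h1, h1]
    exact congrFun hxy j
  have : e.inv (e.hom x) = e.inv (e.hom y) := by rw [h2]
  simpa using this

include hc in
lemma exists_of_compatible (u : ∀ j, F.obj j)
    (hu : ∀ {i j : J} (a : i ⟶ j), F.map a (u i) = u j) : ∃ x : c.pt, toPi c x = u := by
  let e := hc.conePointUniqueUpToIso (TopCat.limitConeIsLimit F)
  refine ⟨e.inv ⟨u, fun a => hu a⟩, ?_⟩
  funext j
  have := ConcreteCategory.congr_hom
    (IsLimit.conePointUniqueUpToIso_inv_comp hc (TopCat.limitConeIsLimit F) j) ⟨u, fun a => hu a⟩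
  rw [TopCat.comp_app] at this
  exact this

include hc in
lemma range_toPi :
    range (toPi c) = {u : ∀ j, F.obj j | ∀ (i j : J) (a : i ⟶ j), F.map a (u i) = u j} := by
  ext u
  constructor
  · rintro ⟨x, rfl⟩ i j a
    exact cone_map_app c a x
  · intro hu
    exact exists_of_compatible c hc u (fun a => hu _ _ a)

include hc in
lemma isInducing_toPi : IsInducing (toPi c) := by
  constructor
  rw [TopCat.induced_of_isLimit c hc]
  simp only [Pi.topologicalSpace, induced_iInf, induced_compose]
  rfl

include hc in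
lemma isEmbedding_toPi : IsEmbedding (toPi c) :=
  ⟨isInducing_toPi c hc, toPi_injective c hc⟩

end LimitBasics

section PiConstructible

variable {ι : Type*} {X : ι → Type*} [t : ∀ i, TopologicalSpace (X i)]

/-- The product of the constructible topologies. -/
@[instance_reducible]
def piConstructibleTopology : TopologicalSpace (∀ i, X i) :=
  @Pi.topologicalSpace ι X (fun i => constructibleTopology (X i))

lemma piConstructibleTopology_le [∀ i, PrespectralSpace (X i)] :
    piConstructibleTopology (X := X) ≤ Pi.topologicalSpace := by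
  unfold piConstructibleTopology Pi.topologicalSpace
  exact iInf_mono fun i => induced_mono constructibleTopology_le

lemma compactSpace_piConstructibleTopology [∀ i, SpectralSpace (X i)] :
    @CompactSpace (∀ i, X i) piConstructibleTopology :=
  @Pi.compactSpace ι X (fun i => constructibleTopology (X i))
    (fun _ => compactSpace_constructibleTopology)

lemma t2Space_piConstructibleTopology [∀ i, SpectralSpace (X i)] :
    @T2Space (∀ i, X i) piConstructibleTopology :=
  @Pi.t2Space ι X (fun i => constructibleTopology (X i))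
    (fun _ => t2Space_constructibleTopology)

lemma continuous_apply_piConstructibleTopology (i : ι) :
    @Continuous (∀ i, X i) (X i) piConstructibleTopology (constructibleTopology (X i))
      (fun u => u i) :=
  @continuous_apply ι X (fun i => constructibleTopology (X i)) i

lemma isCompact_of_isClosed_piConstructibleTopology [∀ i, SpectralSpace (X i)]
    {K : Set (∀ i, X i)} (hK : IsClosed[piConstructibleTopology] K) : IsCompact K :=
  isCompact_of_le piConstructibleTopology_le
    (@IsClosed.isCompact _ piConstructibleTopology _ compactSpace_piConstructibleTopology hK)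

lemma isClosed_piConstructibleTopology_preimage_apply (i : ι) {Z : Set (X i)}
    (hZ : IsClosed[constructibleTopology (X i)] Z) :
    IsClosed[piConstructibleTopology] ((fun u : ∀ i, X i => u i) ⁻¹' Z) :=
  @IsClosed.preimage _ _ piConstructibleTopology (constructibleTopology (X i)) _
    (continuous_apply_piConstructibleTopology i) _ hZ

lemma isClosed_piConstructibleTopology_eqLocus [∀ i, SpectralSpace (X i)] {i j : ι}
    (f : X i → X j) (hf : IsSpectralMap f) :
    IsClosed[piConstructibleTopology] {u : ∀ i, X i | f (u i) = u j} :=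
  @isClosed_eq (X j) (∀ i, X i) (constructibleTopology (X j)) piConstructibleTopology
    t2Space_constructibleTopology _ _
    (@Continuous.comp _ _ _ piConstructibleTopology (constructibleTopology (X i))
      (constructibleTopology (X j)) _ _ (continuous_constructibleTopology_of_isSpectralMap hf)
      (continuous_apply_piConstructibleTopology i))
    (continuous_apply_piConstructibleTopology j)

end PiConstructible

section LimitCompact

variable {J : Type u} [SmallCategory J] {F : J ⥤ TopCat.{u}}
  (hF : ∀ j, SpectralSpace (F.obj j))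
  (hFm : ∀ {i j : J} (a : i ⟶ j), IsSpectralMap (F.map a : F.obj i → F.obj j))
  (c : Cone F) (hc : IsLimit c)

include hF hFm hc

/-- The set of compatible families is closed in the product of the constructible topologies. -/
lemma isClosed_piConstructibleTopology_range_toPi :
    IsClosed[piConstructibleTopology (X := fun j => F.obj j)] (range (toPi c)) := by
  rw [range_toPi c hc]
  have : {u : ∀ j, F.obj j | ∀ (i j : J) (a : i ⟶ j), F.map a (u i) = u j} =
      ⋂ (i : J) (j : J) (a : i ⟶ j), {u : ∀ j, F.obj j | F.map a (u i) = u j} := by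
    ext u; simp
  rw [this]
  refine @isClosed_iInter _ _ piConstructibleTopology _ fun i => ?_
  refine @isClosed_iInter _ _ piConstructibleTopology _ fun j => ?_
  refine @isClosed_iInter _ _ piConstructibleTopology _ fun a => ?_
  exact isClosed_piConstructibleTopology_eqLocus (X := fun j => F.obj j) _ (hFm a)

/-- A subset of the limit cut out by a closed (for the product of constructible topologies)
condition is compact. -/
lemma isCompact_preimage_toPi_of_isClosed {K : Set (∀ j, F.obj j)}
    (hK : IsClosed[piConstructibleTopology (X := fun j => F.obj j)] K) :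
    IsCompact (toPi c ⁻¹' K) := by
  have h1 : toPi c ⁻¹' K = toPi c ⁻¹' (K ∩ range (toPi c)) := by
    ext x; simp
  rw [h1]
  refine (isInducing_toPi c hc).isCompact_preimage' ?_ inter_subset_right
  exact isCompact_of_isClosed_piConstructibleTopology (X := fun j => F.obj j)
    (@IsClosed.inter _ _ _ piConstructibleTopology hK
      (isClosed_piConstructibleTopology_range_toPi hF hFm c hc))

/-- The preimage in the limit of a constructibly closed set is compact. -/
lemma isCompact_preimage_app_of_isClosed (j : J) {Z : Set (F.obj j)}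
    (hZ : IsClosed[constructibleTopology (F.obj j)] Z) :
    IsCompact (c.π.app j ⁻¹' Z) :=
  isCompact_preimage_toPi_of_isClosed hF hFm c hc
    (isClosed_piConstructibleTopology_preimage_apply (X := fun j => F.obj j) j hZ)

/-- The limit of a compatible family of constructibly closed subsets is compact. -/
lemma isCompact_limit_of_isClosed (Z : ∀ j, Set (F.obj j))
    (hZ : ∀ j, IsClosed[constructibleTopology (F.obj j)] (Z j)) :
    IsCompact {x : c.pt | ∀ j, c.π.app j x ∈ Z j} := by
  have : {x : c.pt | ∀ j, c.π.app j x ∈ Z j} =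
      toPi c ⁻¹' (⋂ j, (fun u : ∀ j, F.obj j => u j) ⁻¹' Z j) := by
    ext x; simp [toPi]
  rw [this]
  refine isCompact_preimage_toPi_of_isClosed hF hFm c hc ?_
  exact @isClosed_iInter _ _ piConstructibleTopology _ fun j =>
    isClosed_piConstructibleTopology_preimage_apply (X := fun j => F.obj j) j (hZ j)

lemma compactSpace_limit : CompactSpace c.pt := by
  rw [← isCompact_univ_iff]
  have := isCompact_preimage_toPi_of_isClosed hF hFm c hc
    (@isClosed_univ _ (piConstructibleTopology (X := fun j => F.obj j)))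
  simpa using this

/-- The projections from the limit are spectral. -/
lemma isSpectralMap_app (j : J) : IsSpectralMap (c.π.app j : c.pt → F.obj j) :=
  ⟨(c.π.app j).hom.continuous, fun _ hUo hUc => isCompact_preimage_app_of_isClosed hF hFm c hc j
    (isClosed_constructibleTopology_of_isCompact_isOpen hUo hUc)⟩

end LimitCompact

section LimitNonempty

variable {J : Type u} [SmallCategory J] [IsCofiltered J] {F : J ⥤ TopCat.{u}}
  (hF : ∀ j, SpectralSpace (F.obj j))
  (hFm : ∀ {i j : J} (a : i ⟶ j), IsSpectralMap (F.map a : F.obj i → F.obj j))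
  (c : Cone F) (hc : IsLimit c)

include hF hFm hc

/-- Key lemma: a family of constructibly closed nonempty subsets satisfying a finite
compatibility condition has a point of the limit lying in all of them. -/
lemma exists_limit_point_of_finite_condition (Z : ∀ j, Set (F.obj j))
    (hZ : ∀ j, IsClosed[constructibleTopology (F.obj j)] (Z j))
    (hne : ∀ j, (Z j).Nonempty)
    (hfin : ∀ (O : Finset J) (k : J) (T : ∀ m, m ∈ O → (k ⟶ m)),
      ∃ x : F.obj k, ∀ m (hm : m ∈ O), F.map (T m hm) x ∈ Z m) :
    ∃ x : c.pt, ∀ j, c.π.app j x ∈ Z j := by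
  classical
  let ι := (Σ (i : J) (j : J), (i ⟶ j)) ⊕ J
  let t : ι → Set (∀ j, F.obj j) := fun s => match s with
    | Sum.inl ⟨i, j, a⟩ => {u | F.map a (u i) = u j}
    | Sum.inr j => (fun u : ∀ j, F.obj j => u j) ⁻¹' Z j
  have htc : ∀ s, IsClosed[piConstructibleTopology (X := fun j => F.obj j)] (t s) := by
    rintro (⟨i, j, a⟩ | j)
    · exact isClosed_piConstructibleTopology_eqLocus (X := fun j => F.obj j) _ (hFm a)
    · exact isClosed_piConstructibleTopology_preimage_apply (X := fun j => F.obj j) j (hZ j)
  have hst : ∀ v : Finset ι, (⋂ s ∈ v, t s).Nonempty := by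
    intro v
    let v₁ : Finset (Σ (i : J) (j : J), (i ⟶ j)) := v.preimage Sum.inl Sum.inl_injective.injOn
    let v₂ : Finset J := v.preimage Sum.inr Sum.inr_injective.injOn
    let O : Finset J := v₂ ∪ v₁.image (fun s => s.1) ∪ v₁.image (fun s => s.2.1)
    have hO1 : ∀ s ∈ v₁, s.1 ∈ O := fun s hs =>
      Finset.mem_union_left _ (Finset.mem_union_right _ (Finset.mem_image_of_mem _ hs))
    have hO2 : ∀ s ∈ v₁, s.2.1 ∈ O := fun s hs =>
      Finset.mem_union_right _ (Finset.mem_image_of_mem _ hs)
    have hO3 : ∀ j ∈ v₂, j ∈ O := fun j hj =>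
      Finset.mem_union_left _ (Finset.mem_union_left _ hj)
    let H : Finset (Σ' (X Y : J) (_ : X ∈ O) (_ : Y ∈ O), X ⟶ Y) :=
      v₁.attach.image (fun s => ⟨s.1.1, s.1.2.1, hO1 s.1 s.2, hO2 s.1 s.2, s.1.2.2⟩)
    obtain ⟨k, T, hT⟩ := IsCofiltered.inf_exists O H
    obtain ⟨x, hx⟩ := hfin O k (fun m hm => T hm)
    let u : ∀ j, F.obj j := fun m => if hm : m ∈ O then F.map (T hm) x else (hne m).some
    refine ⟨u, ?_⟩
    simp only [mem_iInter]
    rintro (⟨i, j, a⟩ | j) hs
    · have hmem : (⟨i, j, a⟩ : Σ (i : J) (j : J), (i ⟶ j)) ∈ v₁ := by simpa [v₁] using hs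
      have hi : i ∈ O := hO1 _ hmem
      have hj : j ∈ O := hO2 _ hmem
      have hH : (⟨i, j, hi, hj, a⟩ : Σ' (X Y : J) (_ : X ∈ O) (_ : Y ∈ O), X ⟶ Y) ∈ H := by
        refine Finset.mem_image.mpr ⟨⟨⟨i, j, a⟩, hmem⟩, Finset.mem_attach _ _, rfl⟩
      have := hT hi hj hH
      change F.map a (u i) = u j
      simp only [u, dif_pos hi, dif_pos hj]
      rw [← this, F.map_comp]
      rfl
    · have hmem : j ∈ v₂ := by simpa [v₂] using hs
      have hj : j ∈ O := hO3 _ hmem
      change u j ∈ Z j
      simp only [u, dif_pos hj]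
      exact hx j hj
  have h := @IsCompact.inter_iInter_nonempty (∀ j, F.obj j)
    (piConstructibleTopology (X := fun j => F.obj j)) univ ι
    (@isCompact_univ _ (piConstructibleTopology (X := fun j => F.obj j))
      (compactSpace_piConstructibleTopology (X := fun j => F.obj j))) t htc
    (fun v => by simpa using hst v)
  obtain ⟨u, -, hu⟩ := h
  simp only [mem_iInter] at hu
  obtain ⟨x, rfl⟩ := exists_of_compatible c hc u (fun {i j} a => hu (Sum.inl ⟨i, j, a⟩))
  exact ⟨x, fun j => hu (Sum.inr j)⟩

/-- A compatible family of nonempty constructibly closed subsets has nonempty limit. -/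
lemma exists_limit_point_of_mapsTo (Z : ∀ j, Set (F.obj j))
    (hne : ∀ j, (Z j).Nonempty)
    (hZ : ∀ j, IsClosed[constructibleTopology (F.obj j)] (Z j))
    (hmap : ∀ {i j : J} (a : i ⟶ j), Set.MapsTo (F.map a) (Z i) (Z j)) :
    ∃ x : c.pt, ∀ j, c.π.app j x ∈ Z j := by
  refine exists_limit_point_of_finite_condition hF hFm c hc Z hZ hne ?_
  intro O k T
  obtain ⟨x, hx⟩ := hne k
  exact ⟨x, fun m hm => hmap (T m hm) hx⟩

/-- If the preimage in the limit of a constructibly closed set is empty, then already its
preimage at a finite stage is empty. -/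
lemma exists_preimage_eq_empty (i : J) (D : Set (F.obj i))
    (hD : IsClosed[constructibleTopology (F.obj i)] D) (hemp : c.π.app i ⁻¹' D = ∅) :
    ∃ (j : J) (a : j ⟶ i), F.map a ⁻¹' D = ∅ := by
  by_contra hcon
  push Not at hcon
  -- all the spaces are nonempty
  have hneX : ∀ m, Nonempty (F.obj m) := by
    intro m
    obtain ⟨x, _⟩ := hcon (IsCofiltered.min m i) (IsCofiltered.minToRight m i)
    exact ⟨F.map (IsCofiltered.minToLeft m i) x⟩
  let Z : ∀ m, Set (F.obj m) := fun m => {x | ∀ h : m = i, F.map (eqToHom h) x ∈ D}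
  have hZi : ∀ x : F.obj i, x ∈ Z i ↔ x ∈ D := by
    intro x
    constructor
    · intro hx
      have := hx rfl
      simpa using this
    · intro hx h
      simpa using hx
  have hZ : ∀ m, IsClosed[constructibleTopology (F.obj m)] (Z m) := by
    intro m
    have : Z m = ⋂ h : m = i, (F.map (eqToHom h)) ⁻¹' D := by
      ext x; simp [Z]
    rw [this]
    refine @isClosed_iInter _ _ (constructibleTopology (F.obj m)) _ fun h => ?_
    exact @IsClosed.preimage _ _ (constructibleTopology (F.obj m))
      (constructibleTopology (F.obj i)) _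
      (continuous_constructibleTopology_of_isSpectralMap (hFm (eqToHom h))) _ hD
  have hne : ∀ m, (Z m).Nonempty := by
    intro m
    by_cases h : m = i
    · subst h
      obtain ⟨x, hx⟩ := hcon m (𝟙 m)
      refine ⟨x, (hZi x).mpr ?_⟩
      simpa using hx
    · obtain ⟨x⟩ := hneX m
      exact ⟨x, fun h' => absurd h' h⟩
  have hfin : ∀ (O : Finset J) (k : J) (T : ∀ m, m ∈ O → (k ⟶ m)),
      ∃ x : F.obj k, ∀ m (hm : m ∈ O), F.map (T m hm) x ∈ Z m := by
    intro O k T
    by_cases hi : i ∈ O
    · obtain ⟨x, hx⟩ := hcon k (T i hi)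
      refine ⟨x, fun m hm h => ?_⟩
      subst h
      simpa using hx
    · obtain ⟨x⟩ := hneX k
      refine ⟨x, fun m hm h => ?_⟩
      subst h
      exact absurd hm hi
  obtain ⟨x, hx⟩ := exists_limit_point_of_finite_condition hF hFm c hc Z hZ hne hfin
  have : x ∈ c.π.app i ⁻¹' D := (hZi _).mp (hx i)
  rw [hemp] at this
  exact this

/-- An inclusion of preimages in the limit of a constructibly closed set in a constructibly open
set holds if and only if it holds at a finite stage. -/
lemma preimage_subset_preimage_iff (i : J) (E F' : Set (F.obj i))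
    (hE : IsClosed[constructibleTopology (F.obj i)] E)
    (hF' : IsOpen[constructibleTopology (F.obj i)] F') :
    (c.π.app i ⁻¹' E ⊆ c.π.app i ⁻¹' F') ↔
      ∃ (j : J) (a : j ⟶ i), F.map a ⁻¹' E ⊆ F.map a ⁻¹' F' := by
  constructor
  · intro h
    have hD : IsClosed[constructibleTopology (F.obj i)] (E \ F') :=
      @IsClosed.sdiff _ _ _ (constructibleTopology (F.obj i)) hE hF'
    have hemp : c.π.app i ⁻¹' (E \ F') = ∅ := by
      rw [preimage_sdiff]
      exact sdiff_eq_empty.mpr h
    obtain ⟨j, a, ha⟩ := exists_preimage_eq_empty hF hFm c hc i _ hD hemp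
    refine ⟨j, a, ?_⟩
    rw [preimage_sdiff] at ha
    exact sdiff_eq_empty.mp ha
  · rintro ⟨j, a, ha⟩ x hx
    have h1 : c.π.app i x = F.map a (c.π.app j x) := (cone_map_app c a x).symm
    have : c.π.app j x ∈ F.map a ⁻¹' E := by
      change F.map a (c.π.app j x) ∈ E
      rw [← h1]; exact hx
    have := ha this
    change c.π.app i x ∈ F'
    rw [h1]; exact this

/-- The preimages of compact opens form a basis of the limit. -/
lemma isTopologicalBasis_limit :
    IsTopologicalBasis {U : Set c.pt | ∃ (j : J) (V : Set (F.obj j)),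
      V ∈ {W : Set (F.obj j) | IsOpen W ∧ IsCompact W} ∧ U = c.π.app j ⁻¹' V} := by
  refine TopCat.isTopologicalBasis_cofiltered_limit F c hc
    (fun j => {W : Set (F.obj j) | IsOpen W ∧ IsCompact W})
    (fun j => PrespectralSpace.isTopologicalBasis) (fun j => ⟨isOpen_univ, isCompact_univ⟩)
    (fun j U V hU hV => ⟨hU.1.inter hV.1, hU.2.inter_of_isOpen hV.2 hU.1 hV.1⟩)
    (fun i j a V hV => ⟨hV.1.preimage (hFm a).continuous,
      (hFm a).isCompact_preimage_of_isOpen hV.1 hV.2⟩)

lemma t0Space_limit : T0Space c.pt := (isEmbedding_toPi c hc).t0Space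

lemma prespectralSpace_limit : PrespectralSpace c.pt := by
  refine PrespectralSpace.of_isTopologicalBasis (isTopologicalBasis_limit hF hFm c hc) ?_
  rintro U ⟨j, V, hV, rfl⟩
  exact (isSpectralMap_app hF hFm c hc j).isCompact_preimage_of_isOpen hV.1 hV.2

lemma quasiSeparatedSpace_limit : QuasiSeparatedSpace c.pt := by
  let b : (Σ j : J, {V : Set (F.obj j) // IsOpen V ∧ IsCompact V}) → Set c.pt :=
    fun s => c.π.app s.1 ⁻¹' s.2.1
  have hb : IsTopologicalBasis (range b) := by
    convert isTopologicalBasis_limit hF hFm c hc using 1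
    ext U
    simp only [mem_range, Sigma.exists, Subtype.exists, mem_ofPred_eq, b]
    constructor
    · rintro ⟨j, V, hV, rfl⟩; exact ⟨j, V, hV, rfl⟩
    · rintro ⟨j, V, hV, rfl⟩; exact ⟨j, V, hV, rfl⟩
  refine QuasiSeparatedSpace.of_isTopologicalBasis hb ?_
  rintro ⟨i, U, hU⟩ ⟨j, V, hV⟩
  have : b ⟨i, U, hU⟩ ∩ b ⟨j, V, hV⟩ =
      toPi c ⁻¹' ((fun u : ∀ j, F.obj j => u i) ⁻¹' U ∩ (fun u : ∀ j, F.obj j => u j) ⁻¹' V) := by
    ext x; simp [b, toPi]
  rw [this]
  refine isCompact_preimage_toPi_of_isClosed hF hFm c hc ?_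
  exact @IsClosed.inter _ _ _ piConstructibleTopology
    (isClosed_piConstructibleTopology_preimage_apply (X := fun j => F.obj j) i
      (isClosed_constructibleTopology_of_isCompact_isOpen hU.1 hU.2))
    (isClosed_piConstructibleTopology_preimage_apply (X := fun j => F.obj j) j
      (isClosed_constructibleTopology_of_isCompact_isOpen hV.1 hV.2))

lemma quasiSober_limit : QuasiSober c.pt := by
  constructor
  intro Z hZirr hZcl
  have hirr : ∀ j, IsIrreducible (closure (c.π.app j '' Z)) := fun j =>
    (hZirr.image _ (c.π.app j).hom.continuous.continuousOn).closure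
  choose ξ hξ using fun j => QuasiSober.sober (hirr j) isClosed_closure
  have hcompat : ∀ {i j : J} (a : i ⟶ j), F.map a (ξ i) = ξ j := by
    intro i j a
    have h1 := (hξ i).image (hFm a).continuous
    rw [closure_image_closure (hFm a).continuous, ← image_comp] at h1
    have h2 : (F.map a : F.obj i → F.obj j) ∘ (c.π.app i : c.pt → F.obj i) = c.π.app j := by
      funext x; exact cone_map_app c a x
    rw [h2] at h1
    exact h1.eq (hξ j)
  obtain ⟨x, hx⟩ := exists_of_compatible c hc ξ (fun a => hcompat a)
  have hxj : ∀ j, c.π.app j x = ξ j := fun j => congrFun hx j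
  refine ⟨x, ?_⟩
  have hxZ : x ∈ Z := by
    rw [← hZcl.closure_eq, (isTopologicalBasis_limit hF hFm c hc).mem_closure_iff]
    rintro o ⟨j, V, hV, rfl⟩ hxo
    have h1 : ξ j ∈ V := by rw [← hxj j]; exact hxo
    have h2 : ξ j ∈ closure (c.π.app j '' Z) := (hξ j).mem
    obtain ⟨y, hyV, ⟨z, hz, rfl⟩⟩ := mem_closure_iff.mp h2 V hV.1 h1
    exact ⟨z, hyV, hz⟩
  rw [isGenericPoint_def]
  apply subset_antisymm
  · exact (hZcl.closure_subset_iff).mpr (singleton_subset_iff.mpr hxZ)
  · intro z hz
    rw [← specializes_iff_mem_closure, ← (isInducing_toPi c hc).specializes_iff, specializes_pi]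
    intro j
    change c.π.app j x ⤳ c.π.app j z
    rw [hxj j, specializes_iff_mem_closure, (hξ j).def]
    exact subset_closure ⟨z, hz, rfl⟩

/-- A cofiltered limit of spectral spaces with spectral transition maps is spectral. -/
lemma spectralSpace_limit : SpectralSpace c.pt := by
  have h0 := t0Space_limit hF hFm c hc
  have h1 := compactSpace_limit hF hFm c hc
  have h2 := quasiSober_limit hF hFm c hc
  have h3 := quasiSeparatedSpace_limit hF hFm c hc
  have h4 := prespectralSpace_limit hF hFm c hc
  exact { }

omit hF hFm hc [IsCofiltered J] in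
lemma preimage_app_preimage_map {k i : J} (a : k ⟶ i) (W : Set (F.obj i)) :
    c.π.app k ⁻¹' (F.map a ⁻¹' W) = c.π.app i ⁻¹' W := by
  ext x
  simp only [mem_preimage]
  rw [cone_map_app c a x]

omit hF hFm hc [IsCofiltered J] c in
lemma preimage_map_comp {k j i : J} (a : k ⟶ j) (b : j ⟶ i) (W : Set (F.obj i)) :
    F.map (a ≫ b) ⁻¹' W = F.map a ⁻¹' (F.map b ⁻¹' W) := by
  ext x
  simp only [mem_preimage, F.map_comp, TopCat.comp_app]

/-- Every compact open subset of the limit comes from a finite stage. -/
lemma exists_isCompact_isOpen_preimage_eq (U : Set c.pt) (hUo : IsOpen U) (hUc : IsCompact U) :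
    ∃ (i : J) (Ui : Set (F.obj i)), IsOpen Ui ∧ IsCompact Ui ∧ c.π.app i ⁻¹' Ui = U := by
  classical
  let b : (Σ j : J, {V : Set (F.obj j) // IsOpen V ∧ IsCompact V}) → Set c.pt :=
    fun s => c.π.app s.1 ⁻¹' s.2.1
  have hb : IsTopologicalBasis (range b) := by
    convert isTopologicalBasis_limit hF hFm c hc using 1
    ext U
    simp only [mem_range, Sigma.exists, Subtype.exists, mem_ofPred_eq, b]
    constructor
    · rintro ⟨j, V, hV, rfl⟩; exact ⟨j, V, hV, rfl⟩
    · rintro ⟨j, V, hV, rfl⟩; exact ⟨j, V, hV, rfl⟩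
  have hb' : ∀ s, IsCompact (b s) := fun s =>
    (isSpectralMap_app hF hFm c hc s.1).isCompact_preimage_of_isOpen s.2.2.1 s.2.2.2
  obtain ⟨S, hS, rfl⟩ :=
    (isCompact_open_iff_eq_finite_iUnion_of_isTopologicalBasis b hb hb' U).mp ⟨hUc, hUo⟩
  clear hUo hUc
  induction S, hS using Set.Finite.induction_on with
  | empty =>
    obtain ⟨i⟩ := IsCofiltered.nonempty (C := J)
    exact ⟨i, ∅, isOpen_empty, isCompact_empty, by simp⟩
  | @insert s S hs hS ih =>
    obtain ⟨i, Ui, hUio, hUic, hUi⟩ := ih
    obtain ⟨j, V, hVo, hVc⟩ := s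
    refine ⟨IsCofiltered.min i j,
      F.map (IsCofiltered.minToLeft i j) ⁻¹' Ui ∪ F.map (IsCofiltered.minToRight i j) ⁻¹' V,
      ?_, ?_, ?_⟩
    · exact (hUio.preimage (hFm _).continuous).union (hVo.preimage (hFm _).continuous)
    · exact ((hFm _).isCompact_preimage_of_isOpen hUio hUic).union
        ((hFm _).isCompact_preimage_of_isOpen hVo hVc)
    · rw [preimage_union, preimage_app_preimage_map, preimage_app_preimage_map, hUi,
        biUnion_insert, union_comm]

/-- If two constructibly clopen sets have the same preimage in the limit, they have the same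
preimage at a finite stage. -/
lemma exists_preimage_eq_of_preimage_eq (i : J) (E E' : Set (F.obj i))
    (hE : @IsClopen _ (constructibleTopology (F.obj i)) E)
    (hE' : @IsClopen _ (constructibleTopology (F.obj i)) E')
    (h : c.π.app i ⁻¹' E = c.π.app i ⁻¹' E') :
    ∃ (j : J) (a : j ⟶ i), F.map a ⁻¹' E = F.map a ⁻¹' E' := by
  have hD : IsClosed[constructibleTopology (F.obj i)] ((E \ E') ∪ (E' \ E)) :=
    @IsClosed.union _ _ _ (constructibleTopology (F.obj i))
      (@IsClosed.sdiff _ _ _ (constructibleTopology (F.obj i)) hE.1 hE'.2)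
      (@IsClosed.sdiff _ _ _ (constructibleTopology (F.obj i)) hE'.1 hE.2)
  have hemp : c.π.app i ⁻¹' ((E \ E') ∪ (E' \ E)) = ∅ := by
    rw [preimage_union, preimage_sdiff, preimage_sdiff, h]
    simp
  obtain ⟨j, a, ha⟩ := exists_preimage_eq_empty hF hFm c hc i _ hD hemp
  refine ⟨j, a, ?_⟩
  rw [preimage_union, preimage_sdiff, preimage_sdiff, union_empty_iff, sdiff_eq_empty,
    sdiff_eq_empty] at ha
  exact subset_antisymm ha.1 ha.2

/-- Every constructible subset of the limit comes from a finite stage. -/
lemma exists_isConstructible_preimage_eq (E : Set c.pt) (hE : Topology.IsConstructible E) :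
    ∃ (i : J) (Ei : Set (F.obj i)), Topology.IsConstructible Ei ∧ c.π.app i ⁻¹' Ei = E := by
  have hsp := spectralSpace_limit hF hFm c hc
  induction hE using Topology.IsConstructible.empty_union_induction with
  | open_retrocompact U hUo hUr =>
    obtain ⟨i, Ui, hUio, hUic, hUi⟩ :=
      exists_isCompact_isOpen_preimage_eq hF hFm c hc U hUo hUr.isCompact
    exact ⟨i, Ui, hUic.isConstructible hUio, hUi⟩
  | union s hs t ht hs' ht' =>
    obtain ⟨i, Ei, hEi, rfl⟩ := hs'
    obtain ⟨j, Ej, hEj, rfl⟩ := ht'
    refine ⟨IsCofiltered.min i j,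
      F.map (IsCofiltered.minToLeft i j) ⁻¹' Ei ∪ F.map (IsCofiltered.minToRight i j) ⁻¹' Ej,
      ?_, ?_⟩
    · exact (isConstructible_preimage_of_isSpectralMap (hFm _) hEi).union
        (isConstructible_preimage_of_isSpectralMap (hFm _) hEj)
    · rw [preimage_union, preimage_app_preimage_map, preimage_app_preimage_map]
  | compl s hs hs' =>
    obtain ⟨i, Ei, hEi, rfl⟩ := hs'
    exact ⟨i, Eiᶜ, hEi.compl, preimage_compl⟩

lemma exists_isConstructible_isOpen_preimage_eq (E : Set c.pt) (hE : Topology.IsConstructible E)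
    (hEo : IsOpen E) :
    ∃ (i : J) (Ei : Set (F.obj i)), Topology.IsConstructible Ei ∧ IsOpen Ei ∧
      c.π.app i ⁻¹' Ei = E := by
  have hsp := spectralSpace_limit hF hFm c hc
  have hEc : IsCompact E := isCompact_of_isClosed_constructibleTopology
    (isClopen_constructibleTopology_of_isConstructible hE).1
  obtain ⟨i, Ui, hUio, hUic, hUi⟩ := exists_isCompact_isOpen_preimage_eq hF hFm c hc E hEo hEc
  exact ⟨i, Ui, hUic.isConstructible hUio, hUio, hUi⟩

lemma exists_isConstructible_isClosed_preimage_eq (E : Set c.pt)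
    (hE : Topology.IsConstructible E) (hEc : IsClosed E) :
    ∃ (i : J) (Ei : Set (F.obj i)), Topology.IsConstructible Ei ∧ IsClosed Ei ∧
      c.π.app i ⁻¹' Ei = E := by
  obtain ⟨i, Ui, hUi, hUio, hUie⟩ :=
    exists_isConstructible_isOpen_preimage_eq hF hFm c hc Eᶜ hE.compl hEc.isOpen_compl
  refine ⟨i, Uiᶜ, hUi.compl, hUio.isClosed_compl, ?_⟩
  rw [preimage_compl, hUie, compl_compl]

end LimitNonempty

end Groth.Agent.Helper6
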