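import Mathlib
import Groth.Agent.Lib.Helper6.Spectral

set_option autoImplicit false
universe u

namespace Groth.Agent.Helper6

open Topology TopologicalSpace Set

section Pi

variable {ι : Type*} {Y : ι → Type*} [∀ i, TopologicalSpace (Y i)]

/-- A finite family of open subsets of an irreducible set, each meeting the set, has a common
point in the set. -/
lemma IsPreirreducible.nonempty_inter_biInter {α : Type*} [TopologicalSpace α] {Z : Set α}
    (hZ : IsPreirreducible Z) (hZne : Z.Nonempty) {κ : Type*} (s : Finset κ) (U : κ → Set α)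
    (hU : ∀ k ∈ s, IsOpen (U k)) (hne : ∀ k ∈ s, (Z ∩ U k).Nonempty) :
    (Z ∩ ⋂ k ∈ s, U k).Nonempty := by
  classical
  induction s using Finset.induction_on with
  | empty => simpa using hZne
  | insert a s ha ih =>
    have h1 := ih (fun k hk => hU k (Finset.mem_insert_of_mem hk))
      (fun k hk => hne k (Finset.mem_insert_of_mem hk))
    have h2 := hne a (Finset.mem_insert_self a s)
    have ho : IsOpen (⋂ k ∈ s, U k) :=
      isOpen_biInter_finset fun k hk => hU k (Finset.mem_insert_of_mem hk)
    have := hZ (U a) (⋂ k ∈ s, U k) (hU a (Finset.mem_insert_self a s)) ho h2 h1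
    rwa [Finset.set_biInter_insert]

/-- An arbitrary product of quasi-sober spaces is quasi-sober. -/
lemma quasiSober_pi [∀ i, QuasiSober (Y i)] : QuasiSober (∀ i, Y i) := by
  constructor
  intro Z hZirr hZcl
  have hirr : ∀ i, IsIrreducible (closure ((fun g : ∀ i, Y i => g i) '' Z)) := fun i =>
    (hZirr.image _ (continuous_apply i).continuousOn).closure
  choose ξ hξ using fun i => QuasiSober.sober (hirr i) isClosed_closure
  refine ⟨ξ, ?_⟩
  have hmem : ξ ∈ Z := by
    rw [← hZcl.closure_eq, (isTopologicalBasis_pi (fun i => isTopologicalBasis_opens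
      (α := Y i))).mem_closure_iff]
    rintro o ⟨U, F, hU, rfl⟩ hξo
    have key : (Z ∩ ⋂ k ∈ F, (fun g : ∀ i, Y i => g k) ⁻¹' U k).Nonempty := by
      refine IsPreirreducible.nonempty_inter_biInter hZirr.isPreirreducible hZirr.nonempty F _
        (fun k hk => (hU k hk).preimage (continuous_apply k)) (fun k hk => ?_)
      have h1 : ξ k ∈ U k := hξo k hk
      have h2 : ξ k ∈ closure ((fun g : ∀ i, Y i => g k) '' Z) := (hξ k).mem
      obtain ⟨y, hyU, ⟨z, hz, rfl⟩⟩ := mem_closure_iff.mp h2 (U k) (hU k hk) h1
      exact ⟨z, hz, hyU⟩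
    obtain ⟨z, hzZ, hz⟩ := key
    refine ⟨z, ?_, hzZ⟩
    simp only [mem_iInter, mem_preimage] at hz
    exact fun k hk => hz k hk
  rw [isGenericPoint_def]
  apply subset_antisymm
  · exact (hZcl.closure_subset_iff).mpr (singleton_subset_iff.mpr hmem)
  · intro z hz
    rw [← specializes_iff_mem_closure, specializes_pi]
    intro i
    rw [specializes_iff_mem_closure, (hξ i).def]
    exact subset_closure ⟨z, hz, rfl⟩

/-- The index type of the basis of boxes with compact open sides. -/
def BoxIndex (Y : ι → Type*) [∀ i, TopologicalSpace (Y i)] : Type _ :=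
  {U : ∀ i, Set (Y i) // (∀ i, IsOpen (U i) ∧ IsCompact (U i)) ∧ {i | U i ≠ univ}.Finite}

/-- The box attached to an index. -/
def box (U : BoxIndex Y) : Set (∀ i, Y i) := Set.pi univ U.1

lemma box_eq (U : BoxIndex Y) : box U = Set.pi {i | U.1 i ≠ univ} U.1 := by
  ext g
  simp only [box, mem_pi, mem_univ, forall_const, mem_ofPred_eq]
  constructor
  · intro h i _; exact h i
  · intro h i
    by_cases hi : U.1 i = univ
    · rw [hi]; exact mem_univ _
    · exact h i hi

lemma isOpen_box (U : BoxIndex Y) : IsOpen (box U) := by
  rw [box_eq]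
  exact isOpen_set_pi U.2.2 fun i _ => (U.2.1 i).1

lemma isCompact_box (U : BoxIndex Y) : IsCompact (box U) :=
  isCompact_univ_pi fun i => (U.2.1 i).2

lemma isTopologicalBasis_box [∀ i, CompactSpace (Y i)] [∀ i, PrespectralSpace (Y i)] :
    IsTopologicalBasis (range (box (Y := Y))) := by
  classical
  refine IsTopologicalBasis.of_isOpen_of_subset ?_
    (isTopologicalBasis_pi (fun i => PrespectralSpace.isTopologicalBasis (X := Y i))) ?_
  · rintro _ ⟨U, rfl⟩; exact isOpen_box U
  · rintro _ ⟨U, F, hU, rfl⟩
    refine ⟨⟨fun i => if i ∈ F then U i else univ, fun i => ?_, ?_⟩, ?_⟩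
    · by_cases hi : i ∈ F
      · simp only [hi, if_true]; exact hU i hi
      · simp only [hi, if_false]; exact ⟨isOpen_univ, isCompact_univ⟩
    · refine F.finite_toSet.subset fun i hi => ?_
      by_contra hiF
      exact hi (by simp [show i ∉ F from hiF])
    · ext g
      simp only [box, mem_pi, mem_univ, forall_const, Finset.mem_coe]
      constructor
      · intro h i hi
        have := h i
        rwa [if_pos hi] at this
      · intro h i
        by_cases hi : i ∈ F
        · rw [if_pos hi]; exact h i hi
        · rw [if_neg hi]; exact mem_univ _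

/-- An arbitrary product of spectral spaces is spectral. -/
lemma spectralSpace_pi [∀ i, SpectralSpace (Y i)] : SpectralSpace (∀ i, Y i) := by
  have h2 : QuasiSober (∀ i, Y i) := quasiSober_pi
  have hb := isTopologicalBasis_box (Y := Y)
  have h3 : PrespectralSpace (∀ i, Y i) :=
    PrespectralSpace.of_isTopologicalBasis' hb isCompact_box
  have h4 : QuasiSeparatedSpace (∀ i, Y i) := by
    refine QuasiSeparatedSpace.of_isTopologicalBasis hb ?_
    intro U V
    have : box U ∩ box V = Set.pi univ (fun i => U.1 i ∩ V.1 i) := by
      simp only [box]; rw [← Set.pi_inter_distrib]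
    rw [this]
    exact isCompact_univ_pi fun i =>
      (U.2.1 i).2.inter_of_isOpen (V.2.1 i).2 (U.2.1 i).1 (V.2.1 i).1
  exact { }

/-- A map into a product of prespectral quasi-compact spaces is spectral as soon as its
components are, provided the source is quasi-compact and quasi-separated. -/
lemma isSpectralMap_pi {X : Type*} [TopologicalSpace X] [CompactSpace X] [QuasiSeparatedSpace X]
    [∀ i, CompactSpace (Y i)] [∀ i, PrespectralSpace (Y i)] (f : X → ∀ i, Y i)
    (hf : ∀ i, IsSpectralMap (fun x => f x i)) : IsSpectralMap f := by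
  refine ⟨continuous_pi fun i => (hf i).continuous, fun W hWo hWc => ?_⟩
  obtain ⟨S, hS, rfl⟩ := (isCompact_open_iff_eq_finite_iUnion_of_isTopologicalBasis box
    (isTopologicalBasis_box (Y := Y)) isCompact_box W).mp ⟨hWc, hWo⟩
  rw [preimage_iUnion₂]
  refine hS.isCompact_biUnion fun U _ => ?_
  rw [box_eq]
  have : f ⁻¹' Set.pi {i | U.1 i ≠ univ} U.1 =
      ⋂ i ∈ U.2.2.toFinset, (fun x => f x i) ⁻¹' U.1 i := by
    ext x; simp [mem_pi]
  rw [this]
  exact (isOpen_isCompact_biInter _ _ fun i _ =>
    ⟨(U.2.1 i).1.preimage (hf i).continuous,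
      (hf i).isCompact_preimage_of_isOpen (U.2.1 i).1 (U.2.1 i).2⟩).2

end Pi

section Sierpinski

lemma t0Space_Prop : T0Space Prop := by
  refine ⟨fun p q h => ?_⟩
  have := (inseparable_iff_forall_isOpen.mp h) {True} isOpen_singleton_true
  simp only [mem_singleton_iff, eq_iff_iff, iff_true] at this
  exact propext this

lemma isOpen_Prop_of_false_mem {s : Set Prop} (hs : IsOpen s) (h : False ∈ s) : s = univ := by
  have := hs.mem_nhds h
  rw [nhds_false] at this
  simpa using this

lemma quasiSober_Prop : QuasiSober Prop := by
  constructor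
  intro S hSirr hScl
  by_cases hT : True ∈ S
  · refine ⟨True, ?_⟩
    have hS : S = univ := by
      have ho := hScl.isOpen_compl
      by_contra hne
      have : False ∈ Sᶜ := by
        intro hF
        apply hne
        ext p
        by_cases hp : p
        · simp [eq_true hp, hT]
        · simp [eq_false hp, hF]
      have := isOpen_Prop_of_false_mem ho this
      have hT' : True ∈ Sᶜ := by rw [this]; exact mem_univ _
      exact hT' hT
    subst hS
    rw [isGenericPoint_def]
    rw [eq_univ_iff_forall]
    intro p
    rw [mem_closure_iff]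
    intro o ho hpo
    by_cases hp : p
    · exact ⟨True, by simpa [eq_true hp] using hpo, rfl⟩
    · have := isOpen_Prop_of_false_mem ho (by simpa [eq_false hp] using hpo)
      subst this
      exact ⟨True, mem_univ _, rfl⟩
  · refine ⟨False, ?_⟩
    have hS : S = {False} := by
      ext p
      by_cases hp : p
      · simp [eq_true hp, hT]
      · obtain ⟨q, hq⟩ := hSirr.nonempty
        have hqF : q = False := by
          by_cases hq' : q
          · rw [eq_true hq'] at hq; exact absurd hq hT
          · exact eq_false hq'
        subst hqF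
        simp [eq_false hp, hq]
    subst hS
    rw [isGenericPoint_def]
    refine IsClosed.closure_eq ?_
    have : ({False} : Set Prop) = {True}ᶜ := by
      ext p
      by_cases hp : p <;> simp [hp]
    rw [this]
    exact isOpen_singleton_true.isClosed_compl

lemma spectralSpace_Prop : SpectralSpace Prop := by
  have h0 := t0Space_Prop
  have h1 := quasiSober_Prop
  have : TopologicalSpace.NoetherianSpace Prop := inferInstance
  exact { }

lemma spectralSpace_pi_Prop (I : Type*) : SpectralSpace (I → Prop) := by
  have := spectralSpace_Prop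
  exact spectralSpace_pi

end Sierpinski

section Embedding

variable {X : Type u} [TopologicalSpace X]

/-- The canonical map of a space to the Sierpinski power indexed by its compact opens. -/
def toSierpinskiPi (X : Type u) [TopologicalSpace X] :
    X → ({U : Set X // IsOpen U ∧ IsCompact U} → Prop) := fun x U => x ∈ U.1

lemma isSpectralMap_mem [CompactSpace X] (U : Set X) (hUo : IsOpen U) (hUc : IsCompact U) :
    IsSpectralMap (fun x : X => x ∈ U) := by
  refine ⟨continuous_Prop.mpr hUo, fun s hso _ => ?_⟩
  by_cases hF : False ∈ s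
  · rw [isOpen_Prop_of_false_mem hso hF]
    simpa using isCompact_univ
  · by_cases hT : True ∈ s
    · have : (fun x : X => x ∈ U) ⁻¹' s = U := by
        ext x
        simp only [mem_preimage]
        by_cases hx : x ∈ U
        · simp [hx, hT]
        · simp [hx, hF]
      rw [this]; exact hUc
    · have : (fun x : X => x ∈ U) ⁻¹' s = ∅ := by
        ext x
        simp only [mem_preimage, mem_empty_iff_false, iff_false]
        by_cases hx : x ∈ U
        · simp [hx, hT]
        · simp [hx, hF]
      rw [this]; exact isCompact_empty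

lemma isEmbedding_toSierpinskiPi [T0Space X] [PrespectralSpace X] :
    IsEmbedding (toSierpinskiPi X) := by
  have hcont : Continuous (toSierpinskiPi X) :=
    continuous_pi fun U => continuous_Prop.mpr U.2.1
  refine ⟨⟨?_⟩, ?_⟩
  · apply le_antisymm
    · exact continuous_iff_le_induced.mp hcont
    · intro V hV
      have hV' : IsOpen V := hV
      have e : V = ⋃₀ {W | (IsOpen W ∧ IsCompact W) ∧ W ⊆ V} := by
        apply subset_antisymm
        · intro x hx
          obtain ⟨W, hW, hxW, hWV⟩ :=
            PrespectralSpace.isTopologicalBasis.exists_subset_of_mem_open hx hV'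
          exact ⟨W, ⟨hW, hWV⟩, hxW⟩
        · exact sUnion_subset fun W hW => hW.2
      rw [e]
      refine @isOpen_sUnion _ (induced (toSierpinskiPi X) _) _ fun W hW => ?_
      refine isOpen_induced_iff.mpr ⟨{g | g ⟨W, hW.1⟩}, ?_, ?_⟩
      · exact continuous_Prop.mp (continuous_apply (⟨W, hW.1⟩ : {U : Set X // IsOpen U ∧ IsCompact U}))
      · ext x; rfl
  · intro x y hxy
    by_contra hne
    obtain ⟨U, hU, hmem⟩ := exists_isOpen_xor_mem hne
    rcases hmem with ⟨hx, hy⟩ | ⟨hy, hx⟩
    · obtain ⟨W, hW, hxW, hWU⟩ :=
        PrespectralSpace.isTopologicalBasis.exists_subset_of_mem_open hx hU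
      have := congrFun hxy ⟨W, hW⟩
      simp only [toSierpinskiPi, eq_iff_iff] at this
      exact hy (hWU (this.mp hxW))
    · obtain ⟨W, hW, hyW, hWU⟩ :=
        PrespectralSpace.isTopologicalBasis.exists_subset_of_mem_open hy hU
      have := congrFun hxy ⟨W, hW⟩
      simp only [toSierpinskiPi, eq_iff_iff] at this
      exact hx (hWU (this.mpr hyW))

/-- A space is spectral iff it embeds into a Sierpinski power with constructibly closed image. -/
theorem spectralSpace_iff_embedding_pi_sierpinski (X : Type u) [TopologicalSpace X] :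
    SpectralSpace X ↔ ∃ (I : Type u) (f : X → (I → Prop)),
      Topology.IsEmbedding f ∧
        @IsClosed (I → Prop) (constructibleTopology (I → Prop)) (Set.range f) := by
  constructor
  · intro hX
    refine ⟨{U : Set X // IsOpen U ∧ IsCompact U}, toSierpinskiPi X, isEmbedding_toSierpinskiPi, ?_⟩
    have hsp := spectralSpace_pi_Prop {U : Set X // IsOpen U ∧ IsCompact U}
    have := spectralSpace_Prop
    refine isClosed_constructibleTopology_range_of_isSpectralMap ?_
    exact isSpectralMap_pi _ fun U => isSpectralMap_mem U.1 U.2.1 U.2.2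
  · rintro ⟨I, f, hf, hcl⟩
    have hsp := spectralSpace_pi_Prop I
    have hR : SpectralSpace (range f) := spectralSpace_of_isClosed_constructibleTopology hcl
    let e : X ≃ₜ range f := hf.toHomeomorph
    have : CompactSpace X := e.symm.compactSpace
    exact e.isOpenEmbedding.spectralSpace

end Embedding

end Groth.Agent.Helper6
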