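import Mathlib

set_option autoImplicit false

universe v u

open CategoryTheory Category Limits

namespace Groth.Agent.Helper6.SplitAcyc

variable {C : Type u} [Category.{v} C] [Abelian C] (Q : CochainComplex C ℕ)

lemma zero_of_cycle_of_retr (i : ℕ) [IsSplitMono (Q.iCycles i)] {T : C} (x : T ⟶ Q.X i)
    (h1 : x ≫ Q.d i (i + 1) = 0) (h2 : x ≫ retraction (Q.iCycles i) = 0) : x = 0 := by
  have e : Q.liftCycles x (i + 1) (by simp) h1 ≫ Q.iCycles i = x :=
    Q.liftCycles_i x (i + 1) _ h1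
  have h3 : Q.liftCycles x (i + 1) (by simp) h1 = 0 := by
    calc Q.liftCycles x (i + 1) (by simp) h1
        = (Q.liftCycles x (i + 1) (by simp) h1 ≫ Q.iCycles i) ≫ retraction (Q.iCycles i) := by
          rw [assoc, IsSplitMono.id, comp_id]
      _ = x ≫ retraction (Q.iCycles i) := by rw [e]
      _ = 0 := h2
  rw [← e, h3, zero_comp]

lemma exists_section (i : ℕ) (hac : IsZero (Q.homology (i + 1))) [IsSplitMono (Q.iCycles i)] :
    ∃ s : Q.cycles (i + 1) ⟶ Q.X i, s ≫ Q.d i (i + 1) = Q.iCycles (i + 1) ∧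
      s ≫ retraction (Q.iCycles i) = 0 := by
  have hex : (Q.sc' i (i + 1) (i + 1 + 1)).Exact :=
    (Q.exactAt_iff' i (i + 1) (i + 1 + 1) (by simp) (by simp)).1
      ((Q.exactAt_iff_isZero_homology (i + 1)).2 hac)
  obtain ⟨A', π, hπ, x, hx2⟩ : ∃ (A' : C) (π : A' ⟶ Q.cycles (i + 1)) (_ : Epi π)
      (x : A' ⟶ Q.X i), π ≫ Q.iCycles (i + 1) = x ≫ Q.d i (i + 1) :=
    hex.exact_up_to_refinements (Q.iCycles (i + 1)) (Q.iCycles_d (i + 1) (i + 1 + 1))
  have hx'd : (x - x ≫ retraction (Q.iCycles i) ≫ Q.iCycles i) ≫ Q.d i (i + 1) =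
      π ≫ Q.iCycles (i + 1) := by
    rw [Preadditive.sub_comp, assoc, assoc, Q.iCycles_d, comp_zero, comp_zero, sub_zero, hx2]
  have hx'r : (x - x ≫ retraction (Q.iCycles i) ≫ Q.iCycles i) ≫ retraction (Q.iCycles i) = 0 := by
    rw [Preadditive.sub_comp, assoc, assoc, IsSplitMono.id, comp_id, sub_self]
  have hker : kernel.ι π ≫ (x - x ≫ retraction (Q.iCycles i) ≫ Q.iCycles i) = 0 := by
    apply zero_of_cycle_of_retr Q i
    · rw [assoc, hx'd, kernel.condition_assoc, zero_comp]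
    · rw [assoc, hx'r, comp_zero]
  refine ⟨Abelian.epiDesc π _ hker, ?_, ?_⟩
  · rw [← cancel_epi π, Abelian.comp_epiDesc_assoc, hx'd]
  · rw [← cancel_epi π, Abelian.comp_epiDesc_assoc, hx'r, comp_zero]

theorem injective_of_split_acyclic (hinj : ∀ i : ℕ, Injective (Q.X i))
    (hac : ∀ i : ℕ, IsZero (Q.homology (i + 1)))
    (hsplit : ∀ i : ℕ, IsSplitMono (Q.iCycles i)) : Injective Q := by
  haveI := hsplit
  haveI := hinj
  choose s hs1 hs3 using fun i => exists_section Q i (hac i)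
  constructor
  intro X Y g m hm
  have hγ : ∀ j, ∃ γ : Y.X j ⟶ Q.X j,
      m.f j ≫ γ = g.f j ≫ retraction (Q.iCycles j) ≫ Q.iCycles j := fun j =>
    ⟨Injective.factorThru (g.f j ≫ retraction (Q.iCycles j) ≫ Q.iCycles j) (m.f j),
      Injective.comp_factorThru _ _⟩
  choose γ hγ using hγ
  have hβ : ∀ j, m.f j ≫ γ j ≫ retraction (Q.iCycles j) = g.f j ≫ retraction (Q.iCycles j) := by
    intro j
    rw [← assoc, hγ, assoc, assoc, IsSplitMono.id, comp_id]
  let g' : Y ⟶ Q :=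
    { f := fun j => (γ j ≫ retraction (Q.iCycles j)) ≫ Q.iCycles j +
        Y.d j (j + 1) ≫ (γ (j + 1) ≫ retraction (Q.iCycles (j + 1))) ≫ s j
      comm' := by
        intro i j hij
        obtain rfl : i + 1 = j := hij
        simp only [Preadditive.add_comp, assoc, Q.iCycles_d, comp_zero, zero_add, hs1,
          Preadditive.comp_add, HomologicalComplex.d_comp_d_assoc, zero_comp, add_zero] }
  have hg' : ∀ j, g'.f j = (γ j ≫ retraction (Q.iCycles j)) ≫ Q.iCycles j +
        Y.d j (j + 1) ≫ (γ (j + 1) ≫ retraction (Q.iCycles (j + 1))) ≫ s j := fun j => rfl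
  refine ⟨g', ?_⟩
  have key : ∀ j, (m ≫ g' - g).f j ≫ retraction (Q.iCycles j) = 0 := by
    intro j
    simp only [HomologicalComplex.sub_f_apply, HomologicalComplex.comp_f, hg',
      Preadditive.sub_comp, Preadditive.add_comp, Preadditive.comp_add, assoc, IsSplitMono.id,
      comp_id, hs3, comp_zero, add_zero, hβ, sub_self]
  have hc : ∀ j, (m ≫ g' - g).f j = 0 := by
    intro j
    have hd : (m ≫ g' - g).f j ≫ Q.d j (j + 1) = 0 := by
      rw [(m ≫ g' - g).comm j (j + 1)]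
      apply zero_of_cycle_of_retr Q (j + 1)
      · rw [assoc, (m ≫ g' - g).comm (j + 1) (j + 1 + 1), HomologicalComplex.d_comp_d_assoc,
          zero_comp]
      · rw [assoc, key (j + 1), comp_zero]
    exact zero_of_cycle_of_retr Q j _ hd (key j)
  have h0 : m ≫ g' - g = 0 := by
    ext j
    exact hc j
  exact sub_eq_zero.1 h0

end Groth.Agent.Helper6.SplitAcyc
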