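import Mathlib

set_option autoImplicit false

universe v u

open CategoryTheory Category Limits

namespace Groth.Agent.Helper6.SplitAcyc

variable {C : Type u} [Category.{v} C] [Abelian C] (I : ℕ → C)

/-- the differential `(a, b) ↦ (b, 0)`. -/
noncomputable abbrev dd (i : ℕ) : I i ⊞ I (i + 1) ⟶ I (i + 1) ⊞ I (i + 1 + 1) :=
  biprod.snd ≫ biprod.inl

lemma dd_dd (i : ℕ) : dd I i ≫ dd I (i + 1) = 0 := by
  simp [dd]

lemma fst_inl_dd (i : ℕ) : (biprod.fst ≫ biprod.inl : I i ⊞ I (i + 1) ⟶ I i ⊞ I (i + 1)) ≫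
    dd I i = 0 := by
  simp [dd]

/-- the complex with terms `I i ⊞ I (i+1)` and differential `(a, b) ↦ (b, 0)`. -/
noncomputable def diskCx : CochainComplex C ℕ :=
  CochainComplex.of (fun i => I i ⊞ I (i + 1)) (dd I) (dd_dd I)

lemma diskCx_d (i : ℕ) : (diskCx I).d i (i + 1) = dd I i :=
  CochainComplex.of_d (fun i => I i ⊞ I (i + 1)) (dd I) i

lemma snd_eq_zero {T : C} (i : ℕ) (x : T ⟶ I i ⊞ I (i + 1)) (hx : x ≫ dd I i = 0) :
    x ≫ biprod.snd = 0 := by
  have := congrArg (· ≫ (biprod.fst : I (i + 1) ⊞ I (i + 1 + 1) ⟶ I (i + 1))) hx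
  simpa [dd] using this

lemma eq_fst_inl {T : C} (i : ℕ) (x : T ⟶ I i ⊞ I (i + 1)) (hx : x ≫ biprod.snd = 0) :
    x = x ≫ biprod.fst ≫ biprod.inl := by
  apply biprod.hom_ext
  · simp
  · simp [hx]

lemma diskCx_exact (i : ℕ) : IsZero ((diskCx I).homology (i + 1)) := by
  rw [← HomologicalComplex.exactAt_iff_isZero_homology,
    (diskCx I).exactAt_iff' i (i + 1) (i + 1 + 1) (by simp) (by simp),
    ShortComplex.exact_iff_exact_up_to_refinements]
  intro T x₂ hx₂
  have hx : (show T ⟶ I (i + 1) ⊞ I (i + 1 + 1) from x₂) ≫ dd I (i + 1) = 0 := by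
    have : x₂ ≫ (diskCx I).d (i + 1) (i + 1 + 1) = 0 := hx₂
    rw [diskCx_d] at this
    exact this
  have h0 := snd_eq_zero I (i + 1) _ hx
  refine ⟨T, 𝟙 T, inferInstance,
    (show T ⟶ I (i + 1) ⊞ I (i + 1 + 1) from x₂) ≫ biprod.fst ≫
      (biprod.inr : I (i + 1) ⟶ I i ⊞ I (i + 1)), ?_⟩
  show 𝟙 T ≫ x₂ = _ ≫ (diskCx I).d i (i + 1)
  rw [diskCx_d, id_comp]
  have e := eq_fst_inl I (i + 1) _ h0
  show (show T ⟶ I (i + 1) ⊞ I (i + 1 + 1) from x₂) =
    ((show T ⟶ I (i + 1) ⊞ I (i + 1 + 1) from x₂) ≫ biprod.fst ≫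
      (biprod.inr : I (i + 1) ⟶ I i ⊞ I (i + 1))) ≫ dd I i
  rw [assoc, assoc, dd, biprod.inr_snd_assoc]
  exact e

lemma diskCx_isSplitMono (i : ℕ) : IsSplitMono ((diskCx I).iCycles i) := by
  have h1 : (show (diskCx I).X i ⟶ (diskCx I).X i from
      (biprod.fst ≫ biprod.inl : I i ⊞ I (i + 1) ⟶ I i ⊞ I (i + 1))) ≫
      (diskCx I).d i (i + 1) = 0 := by
    rw [diskCx_d]
    exact fst_inl_dd I i
  refine ⟨⟨⟨(diskCx I).liftCycles _ (i + 1) (by simp) h1, ?_⟩⟩⟩
  rw [← cancel_mono ((diskCx I).iCycles i), assoc, HomologicalComplex.liftCycles_i, id_comp]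
  have h2 : (show (diskCx I).cycles i ⟶ I i ⊞ I (i + 1) from (diskCx I).iCycles i) ≫
      dd I i = 0 := by
    have := (diskCx I).iCycles_d i (i + 1)
    rw [diskCx_d] at this
    exact this
  exact (eq_fst_inl I i _ (snd_eq_zero I i _ h2)).symm

section

variable [EnoughInjectives C] (A : CochainComplex C ℕ)

/-- components of the embedding of `A` into the disk complex on injective hulls. -/
noncomputable abbrev toDiskF (i : ℕ) :
    A.X i ⟶ Injective.under (A.X i) ⊞ Injective.under (A.X (i + 1)) :=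
  biprod.lift (Injective.ι (A.X i)) (A.d i (i + 1) ≫ Injective.ι (A.X (i + 1)))

lemma toDiskF_comm (i : ℕ) :
    toDiskF A i ≫ dd (fun i => Injective.under (A.X i)) i = A.d i (i + 1) ≫ toDiskF A (i + 1) := by
  apply biprod.hom_ext
  · simp [dd, toDiskF]
  · simp [dd, toDiskF]

/-- the embedding of `A` into the disk complex on injective hulls. -/
noncomputable def toDisk : A ⟶ diskCx (fun i => Injective.under (A.X i)) where
  f i := toDiskF A i
  comm' := by
    intro i j hij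
    obtain rfl : i + 1 = j := hij
    rw [diskCx_d]
    exact toDiskF_comm A i

theorem main : ∃ (Q : CochainComplex C ℕ) (f : A ⟶ Q), Mono f ∧ (∀ i : ℕ, Injective (Q.X i)) ∧
    (∀ i : ℕ, IsZero (Q.homology (i + 1))) ∧ ∀ i : ℕ, IsSplitMono (Q.iCycles i) := by
  refine ⟨diskCx (fun i => Injective.under (A.X i)), toDisk A, ?_, ?_, diskCx_exact _,
    diskCx_isSplitMono _⟩
  · apply HomologicalComplex.mono_of_mono_f
    intro i
    show Mono (toDiskF A i)
    have : Mono (toDiskF A i ≫ biprod.fst) := by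
      rw [biprod.lift_fst]
      infer_instance
    exact mono_of_mono _ biprod.fst
  · intro i
    show Injective (Injective.under (A.X i) ⊞ Injective.under (A.X (i + 1)))
    infer_instance

end

end Groth.Agent.Helper6.SplitAcyc
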