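import Mathlib

set_option autoImplicit false
universe w v u v' u'
open CategoryTheory CategoryTheory.Limits CategoryTheory.Pretriangulated CategoryTheory.Triangulated
open ZeroObject

namespace Groth.Agent.Helper6.TorsionLoc

section
variable {A : Type w} [CommRing A] (S : Submonoid A)
  {T : Type u} [Category.{v} T] [Preadditive T] [Linear A T] [HasZeroObject T] [HasShift T ℤ]
  [∀ n : ℤ, (shiftFunctor T n).Additive] [∀ n : ℤ, (shiftFunctor T n).Linear A]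
  [Pretriangulated T]

/-- objects whose identity is killed by some element of `S` -/
def killed : ObjectProperty T := fun Z => ∃ f : A, f ∈ S ∧ f • 𝟙 Z = 0

instance : (killed S (T := T)).IsClosedUnderIsomorphisms where
  of_iso {X Y} e := by
    rintro ⟨f, hf, h⟩
    refine ⟨f, hf, ?_⟩
    have : f • 𝟙 Y = e.inv ≫ (f • 𝟙 X) ≫ e.hom := by
      rw [Linear.smul_comp, Linear.comp_smul, Category.id_comp, e.inv_hom_id]
    rw [this, h, zero_comp, comp_zero]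

instance : (killed S (T := T)).IsStableUnderRetracts where
  of_retract {X Y} h := by
    rintro ⟨f, hf, hY⟩
    refine ⟨f, hf, ?_⟩
    have : f • 𝟙 X = h.i ≫ (f • 𝟙 Y) ≫ h.r := by
      rw [Linear.smul_comp, Linear.comp_smul, Category.id_comp, h.retract]
    rw [this, hY, zero_comp, comp_zero]

instance : (killed S (T := T)).ContainsZero where
  exists_zero := ⟨0, isZero_zero T, 1, S.one_mem, (isZero_zero T).eq_of_src _ _⟩

instance : (killed S (T := T)).IsStableUnderShift ℤ where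
  isStableUnderShiftBy n :=
    { le_shift := by
        rintro Z ⟨f, hf, h⟩
        change ∃ g : A, g ∈ S ∧ g • 𝟙 (Z⟦n⟧) = 0
        refine ⟨f, hf, ?_⟩
        have : f • 𝟙 ((shiftFunctor T n).obj Z) = (shiftFunctor T n).map (f • 𝟙 Z) := by
          rw [Functor.map_smul, CategoryTheory.Functor.map_id]
        rw [this, h, Functor.map_zero] }

instance : (killed S (T := T)).IsTriangulatedClosed₂ :=
  .mk' (by
    rintro Tr hTr ⟨f₁, hf₁, h₁⟩ ⟨f₃, hf₃, h₃⟩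
    refine ⟨f₁ * f₃, S.mul_mem hf₁ hf₃, ?_⟩
    have e1 : (f₃ • 𝟙 Tr.obj₂) ≫ Tr.mor₂ = 0 := by
      have : (f₃ • 𝟙 Tr.obj₂) ≫ Tr.mor₂ = Tr.mor₂ ≫ (f₃ • 𝟙 Tr.obj₃) := by
        rw [Linear.smul_comp, Linear.comp_smul, Category.id_comp, Category.comp_id]
      rw [this, h₃, comp_zero]
    obtain ⟨a, ha⟩ := Triangle.coyoneda_exact₂ Tr hTr (f₃ • 𝟙 Tr.obj₂) e1
    have e2 : f₁ • a = 0 := by
      have : f₁ • a = a ≫ (f₁ • 𝟙 Tr.obj₁) := by
        rw [Linear.comp_smul, Category.comp_id]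
      rw [this, h₁, comp_zero]
    calc (f₁ * f₃) • 𝟙 Tr.obj₂ = f₁ • (f₃ • 𝟙 Tr.obj₂) := by rw [mul_smul]
      _ = f₁ • (a ≫ Tr.mor₁) := by rw [ha]
      _ = (f₁ • a) ≫ Tr.mor₁ := by rw [Linear.smul_comp]
      _ = 0 := by rw [e2, zero_comp])

instance : (killed S (T := T)).IsTriangulated where

lemma killed_cone (X : T) (f : A) (hf : f ∈ S) (Z : T) (g : X ⟶ Z) (h : Z ⟶ X⟦(1 : ℤ)⟧)
    (hT : Triangle.mk (f • 𝟙 X) g h ∈ distTriang T) : killed S Z := by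
  refine ⟨f * f, S.mul_mem hf hf, ?_⟩
  have e1 : (f • 𝟙 Z) ≫ h = 0 := by
    have e0 := comp_distTriang_mor_zero₃₁ _ hT
    have e0' : h ≫ (shiftFunctor T (1 : ℤ)).map (f • 𝟙 X) = 0 := e0
    have : (f • 𝟙 Z) ≫ h = h ≫ (shiftFunctor T (1 : ℤ)).map (f • 𝟙 X) := by
      rw [Functor.map_smul, CategoryTheory.Functor.map_id, Linear.smul_comp, Linear.comp_smul,
        Category.id_comp, Category.comp_id]
    rw [this, e0']
  obtain ⟨k, hk'⟩ : ∃ k : Z ⟶ X, f • 𝟙 Z = k ≫ g :=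
    Triangle.coyoneda_exact₃ _ hT (f • 𝟙 Z) e1
  have e2 : (f • 𝟙 X) ≫ g = 0 := comp_distTriang_mor_zero₁₂ _ hT
  calc (f * f) • 𝟙 Z = f • (f • 𝟙 Z) := by rw [mul_smul]
    _ = f • (k ≫ g) := by rw [hk']
    _ = k ≫ ((f • 𝟙 X) ≫ g) := by
        rw [Linear.smul_comp, Category.id_comp, Linear.comp_smul]
    _ = 0 := by rw [e2, comp_zero]

omit [∀ n : ℤ, (shiftFunctor T n).Linear A] in
lemma exists_factor {U : ObjectProperty T} (hle : U ≤ killed S) {X' X : T} (σ : X' ⟶ X)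
    (hσ : U.trW σ) :
    ∃ (f : A) (_ : f ∈ S) (k : X ⟶ X'), f • 𝟙 X = k ≫ σ := by
  obtain ⟨Z, g, h, hT, hZ⟩ := hσ
  obtain ⟨f, hf, hfZ⟩ := hle _ hZ
  have e1 : (f • 𝟙 X) ≫ g = 0 := by
    have : (f • 𝟙 X) ≫ g = g ≫ (f • 𝟙 Z) := by
      rw [Linear.smul_comp, Linear.comp_smul, Category.id_comp, Category.comp_id]
    rw [this, hfZ, comp_zero]
  obtain ⟨k, hk⟩ : ∃ k : X ⟶ X', f • 𝟙 X = k ≫ σ :=
    Triangle.coyoneda_exact₂ _ hT (f • 𝟙 X) e1
  exact ⟨f, hf, k, hk⟩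

end

theorem main
    {A : Type w} [CommRing A] (S : Submonoid A)
    {T : Type u} [Category.{v} T] [Preadditive T] [Linear A T] [HasZeroObject T] [HasShift T ℤ]
    [∀ n : ℤ, (shiftFunctor T n).Additive] [∀ n : ℤ, (shiftFunctor T n).Linear A]
    [Pretriangulated T] [IsTriangulated T]
    (U : ObjectProperty T) [U.IsTriangulated] [U.IsClosedUnderIsomorphisms] [U.IsStableUnderRetracts]
    (hU : ∀ (X : T) (f : A), f ∈ S → ∀ (Z : T) (g : X ⟶ Z) (h : Z ⟶ X⟦(1 : ℤ)⟧),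
      Triangle.mk (f • 𝟙 X) g h ∈ distTriang T → U Z)
    (hmin : ∀ (U' : ObjectProperty T) [U'.IsTriangulated] [U'.IsClosedUnderIsomorphisms]
      [U'.IsStableUnderRetracts],
      (∀ (X : T) (f : A), f ∈ S → ∀ (Z : T) (g : X ⟶ Z) (h : Z ⟶ X⟦(1 : ℤ)⟧),
        Triangle.mk (f • 𝟙 X) g h ∈ distTriang T → U' Z) → U ≤ U')
    {E : Type u'} [Category.{v'} E] [Preadditive E] [Linear A E]
    (Q : T ⥤ E) [Q.Additive] [Q.Linear A] [Q.IsLocalization U.trW] (X Y : T) :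
    IsLocalizedModule S (Q.mapLinearMap A : (X ⟶ Y) →ₗ[A] (Q.obj X ⟶ Q.obj Y)) := by
  have hle : U ≤ killed S :=
    hmin (killed S) (fun X f hf Z g h hT => killed_cone S X f hf Z g h hT)
  have hinv : ∀ (s : A) (_ : s ∈ S) (X : T), IsIso (Q.map (s • 𝟙 X)) := by
    intro s hs X
    obtain ⟨Z, g, h, hT⟩ := distinguished_cocone_triangle (s • 𝟙 X)
    exact Localization.inverts Q U.trW _ ⟨Z, g, h, hT, hU X s hs Z g h hT⟩
  refine ⟨?_, ?_, ?_⟩
  · rintro ⟨s, hs⟩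
    rw [Module.End.isUnit_iff]
    have := hinv s hs X
    have key : ∀ φ : Q.obj X ⟶ Q.obj Y, s • φ = Q.map (s • 𝟙 X) ≫ φ := by
      intro φ
      rw [Functor.map_smul, CategoryTheory.Functor.map_id, Linear.smul_comp, Category.id_comp]
    constructor
    · intro φ₁ φ₂ h
      have h' : s • φ₁ = s • φ₂ := h
      rw [key, key] at h'
      exact (cancel_epi _).1 h'
    · intro φ
      refine ⟨inv (Q.map (s • 𝟙 X)) ≫ φ, ?_⟩
      show s • (inv (Q.map (s • 𝟙 X)) ≫ φ) = φ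
      rw [key, IsIso.hom_inv_id_assoc]
  · intro φ
    obtain ⟨ψ, hψ⟩ := Localization.exists_rightFraction Q U.trW φ
    obtain ⟨f, hf, k, hk⟩ := exists_factor S hle ψ.s ψ.hs
    refine ⟨(k ≫ ψ.f, ⟨f, hf⟩), ?_⟩
    show f • φ = Q.map (k ≫ ψ.f)
    have key : f • φ = Q.map (f • 𝟙 X) ≫ φ := by
      rw [Functor.map_smul, CategoryTheory.Functor.map_id, Linear.smul_comp, Category.id_comp]
    rw [key, hk, CategoryTheory.Functor.map_comp, Category.assoc, hψ,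
      MorphismProperty.RightFraction.map_s_comp_map, ← CategoryTheory.Functor.map_comp]
  · intro g₁ g₂ h
    have h' : Q.map g₁ = Q.map g₂ := h
    obtain ⟨X', σ, hσ, fac⟩ := (MorphismProperty.map_eq_iff_precomp Q U.trW g₁ g₂).1 h'
    obtain ⟨f, hf, k, hk⟩ := exists_factor S hle σ hσ
    refine ⟨⟨f, hf⟩, ?_⟩
    show f • g₁ = f • g₂
    calc f • g₁ = (f • 𝟙 X) ≫ g₁ := by rw [Linear.smul_comp, Category.id_comp]
      _ = k ≫ σ ≫ g₁ := by rw [hk, Category.assoc]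
      _ = k ≫ σ ≫ g₂ := by rw [fac]
      _ = (f • 𝟙 X) ≫ g₂ := by rw [hk, Category.assoc]
      _ = f • g₂ := by rw [Linear.smul_comp, Category.id_comp]

end Groth.Agent.Helper6.TorsionLoc
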