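import Mathlib
import Groth.Prelude.Def_DerCA
import Groth.Agent.Lib.Helper6.EssConst4

set_option autoImplicit false

universe w v u

open CategoryTheory CategoryTheory.Limits

namespace Groth.Agent.Helper6.TruncFactor

open Pretriangulated DerivedCategory Groth.Agent.Helper6.EssConst

variable {A : Type u} [Category.{v} A] [Abelian A] [HasDerivedCategory.{w} A]

set_option backward.defeqAttrib.useBackward true in
set_option backward.isDefEq.respectTransparency false in
/-- The distinguished triangle `τ≤m L ⟶ L ⟶ τ≥(m+1) L ⟶` in the derived category, with the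
canonical chain-level maps. -/
lemma trunc_triangle (L : CochainComplex A ℤ) (m m' : ℤ) (h : m + 1 = m') :
    ∃ δ : Q.obj (L.truncGE m') ⟶ (Q.obj (L.truncLE m))⟦(1 : ℤ)⟧,
      Triangle.mk (Q.map (L.ιTruncLE m)) (Q.map (L.πTruncGE m')) δ ∈
        distTriang (DerivedCategory A) := by
  have hS := L.shortComplexTruncLE_shortExact m
  refine ⟨inv (Q.map (L.shortComplexTruncLEX₃ToTruncGE m m' h)) ≫ (triangleOfSES hS).mor₃,
    isomorphic_distinguished _ (triangleOfSES_distinguished hS) _ (Iso.symm ?_)⟩
  refine Triangle.isoMk _ _ (Iso.refl _) (Iso.refl _)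
    (asIso (Q.map (L.shortComplexTruncLEX₃ToTruncGE m m' h))) ?_ ?_ (by simp)
  · dsimp
    first | rfl | (simp only [Category.id_comp, Category.comp_id]; rfl)
  · dsimp
    rw [← Q.map_comp, CochainComplex.g_shortComplexTruncLEX₃ToTruncGE .., Category.id_comp]

/-- A morphism from an object `≤ m` to an object `≥ m` which vanishes on `H^m` is zero. -/
lemma eq_zero_of_H_eq_zero (m : ℤ) (P R : DerivedCategory A) [P.IsLE m] [R.IsGE m] (φ : P ⟶ R)
    (h : (homologyFunctor A m).map φ = 0) : φ = 0 := by
  have e1 : ((tS A).truncGEπ m).app P ≫ (tS A).descTruncGE φ m = φ := (tS A).π_descTruncGE φ m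
  have i1 : (tS A).IsLE (((tS A).truncGE m).obj P) m := inferInstance
  have i2 : (tS A).IsGE (((tS A).truncGE m).obj P) m := inferInstance
  have e2 : (tS A).liftTruncLT ((tS A).descTruncGE φ m) m (m + 1) rfl ≫
      ((tS A).truncLTι (m + 1)).app R = (tS A).descTruncGE φ m :=
    (tS A).liftTruncLT_ι _ m (m + 1) rfl
  have i3 : (tS A).IsGE (((tS A).truncLT (m + 1)).obj R) m := inferInstance
  have i4 : (tS A).IsLE (((tS A).truncLT (m + 1)).obj R) m := inferInstance
  have j1 := isIso_H_truncGEπ P m m le_rfl
  have j2 := isIso_H_truncLTι R (m + 1) m (by omega)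
  have h3 : (homologyFunctor A m).map (((tS A).truncGEπ m).app P) ≫
      ((homologyFunctor A m).map ((tS A).liftTruncLT ((tS A).descTruncGE φ m) m (m + 1) rfl) ≫
        (homologyFunctor A m).map (((tS A).truncLTι (m + 1)).app R)) = 0 := by
    rw [← CategoryTheory.Functor.map_comp, ← CategoryTheory.Functor.map_comp, e2, e1, h]
  have h4 : (homologyFunctor A m).map ((tS A).liftTruncLT ((tS A).descTruncGE φ m) m (m + 1) rfl) ≫
        (homologyFunctor A m).map (((tS A).truncLTι (m + 1)).app R) = 0 := by
    rw [← cancel_epi ((homologyFunctor A m).map (((tS A).truncGEπ m).app P)), h3, comp_zero]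
  have h5 : (homologyFunctor A m).map
      ((tS A).liftTruncLT ((tS A).descTruncGE φ m) m (m + 1) rfl) = 0 := by
    rw [← cancel_mono ((homologyFunctor A m).map (((tS A).truncLTι (m + 1)).app R)), h4, zero_comp]
  have h6 : (tS A).liftTruncLT ((tS A).descTruncGE φ m) m (m + 1) rfl = 0 := by
    apply (bijective_H_of_single_degree m _ _).1
    show (homologyFunctor A m).map _ = (homologyFunctor A m).map 0
    rw [h5, Functor.map_zero]
  calc φ = ((tS A).truncGEπ m).app P ≫
        ((tS A).liftTruncLT ((tS A).descTruncGE φ m) m (m + 1) rfl ≫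
          ((tS A).truncLTι (m + 1)).app R) := by rw [e2, e1]
    _ = 0 := by rw [h6, zero_comp, comp_zero]

/-- Vanishing of the chain-level homology map gives vanishing in the derived category. -/
lemma H_Q_map_eq_zero {K L : CochainComplex A ℤ} (f : K ⟶ L) (i : ℤ)
    (h : HomologicalComplex.homologyMap f i = 0) :
    (homologyFunctor A i).map (Q.map f) = 0 := by
  have nat := (homologyFunctorFactors A i).hom.naturality f
  have h2 : (HomologicalComplex.homologyFunctor A (ComplexShape.up ℤ) i).map f = 0 := h
  rw [h2, comp_zero] at nat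
  have h3 : (homologyFunctor A i).map (Q.map f) ≫ (homologyFunctorFactors A i).hom.app L = 0 := nat
  rw [← cancel_mono ((homologyFunctorFactors A i).hom.app L), h3, zero_comp]

end Groth.Agent.Helper6.TruncFactor
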