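import Mathlib
import Groth.Prelude.Def_DerCA
import Groth.Agent.Lib.Helper6.EssConst4
import Groth.Agent.Lib.Helper6.TruncFactor

set_option autoImplicit false

universe w v u

open CategoryTheory CategoryTheory.Limits

namespace Groth.Agent.Helper6.TruncFactor

open Pretriangulated DerivedCategory Groth.Agent.Helper6.EssConst

variable {A : Type u} [Category.{v} A] [Abelian A] [HasDerivedCategory.{w} A]

set_option backward.defeqAttrib.useBackward true in
set_option backward.isDefEq.respectTransparency false in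
/-- A map out of `τ≥n X` to an object `≥ n-1` is zero as soon as it is zero on `X`. -/
lemma eq_zero_of_truncGEπ_comp {X Z : DerivedCategory A} (n : ℤ) [Z.IsGE (n - 1)]
    (d : ((tS A).truncGE n).obj X ⟶ Z) (hd : ((tS A).truncGEπ n).app X ≫ d = 0) : d = 0 := by
  obtain ⟨g, hg⟩ := Triangle.yoneda_exact₃ _ ((tS A).triangleLTGE_distinguished n X) d hd
  have hg' := (tS A).zero_of_isLE_of_isGE g (n - 2) (n - 1) (by omega)
    (by exact (tS A).isLE_shift _ (n - 1) 1 (n - 2) (by omega)) inferInstance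
  rw [hg, hg', comp_zero]

set_option backward.defeqAttrib.useBackward true in
set_option backward.isDefEq.respectTransparency false in
/-- A map from an object `≤ n` to `τ<n Y` is zero as soon as it is zero in `Y`. -/
lemma eq_zero_of_comp_truncLTι {W Y : DerivedCategory A} (n : ℤ) [W.IsLE n]
    (v : W ⟶ ((tS A).truncLT n).obj Y) (hv : v ≫ ((tS A).truncLTι n).app Y = 0) : v = 0 := by
  obtain ⟨g, hg⟩ := Triangle.coyoneda_exact₂ _ (inv_rot_of_distTriang _
    ((tS A).triangleLTGE_distinguished n Y)) v hv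
  have hg' := (tS A).zero_of_isLE_of_isGE g n (n + 1) (by omega) inferInstance
    (by dsimp; apply ((tS A).isGE_shift _ n (-1) (n + 1) (by omega)))
  rw [hg, hg', zero_comp]

/-- On objects concentrated in a single degree, `H^d` reflects isomorphisms. -/
lemma isIso_of_isIso_H_single_degree (d : ℤ) {P Q : DerivedCategory A}
    [P.IsGE d] [P.IsLE d] [Q.IsGE d] [Q.IsLE d] (φ : P ⟶ Q)
    [IsIso ((homologyFunctor A d).map φ)] : IsIso φ := by
  obtain ⟨ψ, hψ⟩ := (bijective_H_of_single_degree d Q P).2 (inv ((homologyFunctor A d).map φ))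
  have hψ' : (homologyFunctor A d).map ψ = inv ((homologyFunctor A d).map φ) := hψ
  refine ⟨ψ, ?_, ?_⟩
  · apply (bijective_H_of_single_degree d P P).1
    show (homologyFunctor A d).map (φ ≫ ψ) = (homologyFunctor A d).map (𝟙 P)
    rw [CategoryTheory.Functor.map_comp, hψ', IsIso.hom_inv_id, CategoryTheory.Functor.map_id]
  · apply (bijective_H_of_single_degree d Q Q).1
    show (homologyFunctor A d).map (ψ ≫ φ) = (homologyFunctor A d).map (𝟙 Q)
    rw [CategoryTheory.Functor.map_comp, hψ', IsIso.inv_hom_id, CategoryTheory.Functor.map_id]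

/-- The unique "connecting" morphism `τ_[q,q] K ⟶ τ_[q-1,q-1] K'` attached to a morphism
vanishing on `H^{q-1}` and `H^q`. -/
theorem existsUnique_truncMap {K K' : DerivedCategory A} (f : K ⟶ K') (q : ℤ)
    (h₁ : (homologyFunctor A (q - 1)).map f = 0)
    (h₂ : (homologyFunctor A q).map f = 0) :
    ∃! L : (((tS A).truncGE q).obj (((tS A).truncLT (q + 1)).obj K)) ⟶ (((tS A).truncGE (q - 1)).obj (((tS A).truncLT q).obj K')), (((tS A).truncGE (q - 1)).map (((tS A).truncLT (q + 1)).map f)) = (((tS A).natTransTruncGEOfLE (q - 1) q (sub_one_lt q).le).app (((tS A).truncLT (q + 1)).obj K)) ≫ L ≫ (((tS A).truncGE (q - 1)).map (((tS A).natTransTruncLTOfLE q (q + 1) (lt_add_one q).le).app K')) := by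
  have F1 : (((tS A).truncGEπ (q - 1)).app (((tS A).truncLT (q + 1)).obj K)) ≫ (((tS A).natTransTruncGEOfLE (q - 1) q (sub_one_lt q).le).app (((tS A).truncLT (q + 1)).obj K)) = (((tS A).truncGEπ q).app (((tS A).truncLT (q + 1)).obj K)) :=
    (tS A).π_natTransTruncGEOfLE_app (q - 1) q (sub_one_lt q).le _
  have F2 : (((tS A).truncGEπ (q - 1)).app (((tS A).truncLT (q + 1)).obj K)) ≫ (((tS A).truncGE (q - 1)).map (((tS A).truncLT (q + 1)).map f)) = (((tS A).truncLT (q + 1)).map f) ≫ (((tS A).truncGEπ (q - 1)).app (((tS A).truncLT (q + 1)).obj K')) :=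
    (tS A).truncGEπ_naturality (q - 1) (((tS A).truncLT (q + 1)).map f)
  have F3 : (((tS A).truncGEπ (q - 1)).app (((tS A).truncLT q).obj K')) ≫ (((tS A).truncGE (q - 1)).map (((tS A).natTransTruncLTOfLE q (q + 1) (lt_add_one q).le).app K')) = (((tS A).natTransTruncLTOfLE q (q + 1) (lt_add_one q).le).app K') ≫ (((tS A).truncGEπ (q - 1)).app (((tS A).truncLT (q + 1)).obj K')) :=
    (tS A).truncGEπ_naturality (q - 1) (((tS A).natTransTruncLTOfLE q (q + 1) (lt_add_one q).le).app K')
  have F4 : (((tS A).natTransTruncLTOfLE q (q + 1) (lt_add_one q).le).app K') ≫ (((tS A).truncLTι (q + 1)).app K') = (((tS A).truncLTι q).app K') :=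
    (tS A).natTransTruncLTOfLE_ι_app q (q + 1) (lt_add_one q).le K'
  have F5 : (((tS A).truncLT (q + 1)).map f) ≫ (((tS A).truncLTι (q + 1)).app K') = (((tS A).truncLTι (q + 1)).app K) ≫ f := ((tS A).truncLTι (q + 1)).naturality f
  have key : ∀ L : (((tS A).truncGE q).obj (((tS A).truncLT (q + 1)).obj K)) ⟶ (((tS A).truncGE (q - 1)).obj (((tS A).truncLT q).obj K')), ((((tS A).truncGE (q - 1)).map (((tS A).truncLT (q + 1)).map f)) = (((tS A).natTransTruncGEOfLE (q - 1) q (sub_one_lt q).le).app (((tS A).truncLT (q + 1)).obj K)) ≫ L ≫ (((tS A).truncGE (q - 1)).map (((tS A).natTransTruncLTOfLE q (q + 1) (lt_add_one q).le).app K'))) ↔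
      ((((tS A).truncLT (q + 1)).map f) ≫ (((tS A).truncGEπ (q - 1)).app (((tS A).truncLT (q + 1)).obj K')) = (((tS A).truncGEπ q).app (((tS A).truncLT (q + 1)).obj K)) ≫ L ≫ (((tS A).truncGE (q - 1)).map (((tS A).natTransTruncLTOfLE q (q + 1) (lt_add_one q).le).app K'))) := by
    intro L
    constructor
    · intro h
      rw [← F2, h, ← Category.assoc, F1]
    · intro h
      apply (tS A).from_truncGE_obj_ext
      rw [F2, ← Category.assoc, F1]
      exact h
  -- Step 1
  have hfq : ((homologyFunctor A q)).map (((tS A).truncLT (q + 1)).map f) = 0 := by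
    have := isIso_H_truncLTι K' (q + 1) q (by omega)
    rw [← cancel_mono (((homologyFunctor A q)).map (((tS A).truncLTι (q + 1)).app K')), zero_comp, ← CategoryTheory.Functor.map_comp, F5,
      CategoryTheory.Functor.map_comp, h₂, comp_zero]
  have s1 : (((tS A).truncLT (q + 1)).map f) ≫ (((tS A).truncGEπ q).app (((tS A).truncLT (q + 1)).obj K')) = 0 := by
    apply eq_zero_of_H_eq_zero q
    rw [CategoryTheory.Functor.map_comp, hfq, zero_comp]
  -- Step 2
  obtain ⟨f'', hf''⟩ : ∃ f'' : (((tS A).truncLT (q + 1)).obj K) ⟶ (((tS A).truncLT q).obj K'), (((tS A).truncLT (q + 1)).map f) = f'' ≫ (((tS A).natTransTruncLTOfLE q (q + 1) (lt_add_one q).le).app K') :=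
    Triangle.coyoneda_exact₂ _
      ((tS A).triangleLTLTGELT_distinguished q (q + 1) (lt_add_one q).le K') (((tS A).truncLT (q + 1)).map f) s1
  -- Step 3
  have hf''q : ((homologyFunctor A (q - 1))).map f'' = 0 := by
    have := isIso_H_truncLTι K' q (q - 1) (by omega)
    have e : f'' ≫ (((tS A).truncLTι q).app K') = (((tS A).truncLTι (q + 1)).app K) ≫ f := by rw [← F4, ← Category.assoc, ← hf'', F5]
    rw [← cancel_mono (((homologyFunctor A (q - 1))).map (((tS A).truncLTι q).app K')), zero_comp, ← CategoryTheory.Functor.map_comp, e,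
      CategoryTheory.Functor.map_comp, h₁, comp_zero]
  have s3 : (((tS A).truncLTι q).app (((tS A).truncLT (q + 1)).obj K)) ≫ (f'' ≫ (((tS A).truncGEπ (q - 1)).app (((tS A).truncLT q).obj K'))) = 0 := by
    apply eq_zero_of_H_eq_zero (q - 1)
    rw [CategoryTheory.Functor.map_comp, CategoryTheory.Functor.map_comp, hf''q, zero_comp,
      comp_zero]
  obtain ⟨L, hL⟩ : ∃ L : (((tS A).truncGE q).obj (((tS A).truncLT (q + 1)).obj K)) ⟶ (((tS A).truncGE (q - 1)).obj (((tS A).truncLT q).obj K')), f'' ≫ (((tS A).truncGEπ (q - 1)).app (((tS A).truncLT q).obj K')) = (((tS A).truncGEπ q).app (((tS A).truncLT (q + 1)).obj K)) ≫ L :=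
    Triangle.yoneda_exact₂ _ ((tS A).triangleLTGE_distinguished q (((tS A).truncLT (q + 1)).obj K)) (f'' ≫ (((tS A).truncGEπ (q - 1)).app (((tS A).truncLT q).obj K'))) s3
  have hLi : (((tS A).truncLT (q + 1)).map f) ≫ (((tS A).truncGEπ (q - 1)).app (((tS A).truncLT (q + 1)).obj K')) = (((tS A).truncGEπ q).app (((tS A).truncLT (q + 1)).obj K)) ≫ L ≫ (((tS A).truncGE (q - 1)).map (((tS A).natTransTruncLTOfLE q (q + 1) (lt_add_one q).le).app K')) :=
    calc (((tS A).truncLT (q + 1)).map f) ≫ (((tS A).truncGEπ (q - 1)).app (((tS A).truncLT (q + 1)).obj K')) = (f'' ≫ (((tS A).natTransTruncLTOfLE q (q + 1) (lt_add_one q).le).app K')) ≫ (((tS A).truncGEπ (q - 1)).app (((tS A).truncLT (q + 1)).obj K')) := by rw [← hf'']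
      _ = f'' ≫ ((((tS A).truncGEπ (q - 1)).app (((tS A).truncLT q).obj K')) ≫ (((tS A).truncGE (q - 1)).map (((tS A).natTransTruncLTOfLE q (q + 1) (lt_add_one q).le).app K'))) := by rw [Category.assoc, F3]
      _ = (f'' ≫ (((tS A).truncGEπ (q - 1)).app (((tS A).truncLT q).obj K'))) ≫ (((tS A).truncGE (q - 1)).map (((tS A).natTransTruncLTOfLE q (q + 1) (lt_add_one q).le).app K')) := by rw [Category.assoc]
      _ = ((((tS A).truncGEπ q).app (((tS A).truncLT (q + 1)).obj K)) ≫ L) ≫ (((tS A).truncGE (q - 1)).map (((tS A).natTransTruncLTOfLE q (q + 1) (lt_add_one q).le).app K')) := by rw [hL]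
      _ = (((tS A).truncGEπ q).app (((tS A).truncLT (q + 1)).obj K)) ≫ L ≫ (((tS A).truncGE (q - 1)).map (((tS A).natTransTruncLTOfLE q (q + 1) (lt_add_one q).le).app K')) := by rw [Category.assoc]
  refine ⟨L, (key L).2 hLi, ?_⟩
  intro L' hL'
  have hL'2 : (((tS A).truncLT (q + 1)).map f) ≫ (((tS A).truncGEπ (q - 1)).app (((tS A).truncLT (q + 1)).obj K')) = (((tS A).truncGEπ q).app (((tS A).truncLT (q + 1)).obj K)) ≫ L' ≫ (((tS A).truncGE (q - 1)).map (((tS A).natTransTruncLTOfLE q (q + 1) (lt_add_one q).le).app K')) := (key L').1 hL'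
  have hD : (((tS A).truncGEπ q).app (((tS A).truncLT (q + 1)).obj K)) ≫ ((L' - L) ≫ (((tS A).truncGE (q - 1)).map (((tS A).natTransTruncLTOfLE q (q + 1) (lt_add_one q).le).app K'))) = 0 := by
    rw [Preadditive.sub_comp, Preadditive.comp_sub, ← hL'2, ← hLi, sub_self]
  have hD1 : (L' - L) ≫ (((tS A).truncGE (q - 1)).map (((tS A).natTransTruncLTOfLE q (q + 1) (lt_add_one q).le).app K')) = 0 := eq_zero_of_truncGEπ_comp q _ hD
  have hi' : ((tS A).liftTruncLT (((tS A).truncGE (q - 1)).map (((tS A).natTransTruncLTOfLE q (q + 1) (lt_add_one q).le).app K')) (q - 1) q (by omega)) ≫ (((tS A).truncLTι q).app (((tS A).truncGE (q - 1)).obj (((tS A).truncLT (q + 1)).obj K'))) = (((tS A).truncGE (q - 1)).map (((tS A).natTransTruncLTOfLE q (q + 1) (lt_add_one q).le).app K')) := (tS A).liftTruncLT_ι (((tS A).truncGE (q - 1)).map (((tS A).natTransTruncLTOfLE q (q + 1) (lt_add_one q).le).app K')) (q - 1) q (by omega)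
  have hD2 : ((L' - L) ≫ ((tS A).liftTruncLT (((tS A).truncGE (q - 1)).map (((tS A).natTransTruncLTOfLE q (q + 1) (lt_add_one q).le).app K')) (q - 1) q (by omega))) ≫ (((tS A).truncLTι q).app (((tS A).truncGE (q - 1)).obj (((tS A).truncLT (q + 1)).obj K'))) = 0 := by rw [Category.assoc, hi', hD1]
  have hD3 : (L' - L) ≫ ((tS A).liftTruncLT (((tS A).truncGE (q - 1)).map (((tS A).natTransTruncLTOfLE q (q + 1) (lt_add_one q).le).app K')) (q - 1) q (by omega)) = 0 := eq_zero_of_comp_truncLTι q _ hD2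
  -- `i'` is an isomorphism
  have a1 := isIso_H_truncLTι K' q (q - 1) (by omega)
  have a2 := isIso_H_truncLTι K' (q + 1) (q - 1) (by omega)
  have a3 : IsIso (((homologyFunctor A (q - 1))).map (((tS A).natTransTruncLTOfLE q (q + 1) (lt_add_one q).le).app K')) := by
    have w : ((homologyFunctor A (q - 1))).map (((tS A).natTransTruncLTOfLE q (q + 1) (lt_add_one q).le).app K') ≫ ((homologyFunctor A (q - 1))).map (((tS A).truncLTι (q + 1)).app K') = ((homologyFunctor A (q - 1))).map (((tS A).truncLTι q).app K') := by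
      rw [← CategoryTheory.Functor.map_comp, F4]
    exact IsIso.of_isIso_fac_right w
  have a4 := isIso_H_truncGEπ (((tS A).truncLT q).obj K') (q - 1) (q - 1) le_rfl
  have a5 := isIso_H_truncGEπ (((tS A).truncLT (q + 1)).obj K') (q - 1) (q - 1) le_rfl
  have a6 : IsIso (((homologyFunctor A (q - 1))).map (((tS A).truncGE (q - 1)).map (((tS A).natTransTruncLTOfLE q (q + 1) (lt_add_one q).le).app K'))) := by
    have w : ((homologyFunctor A (q - 1))).map (((tS A).truncGEπ (q - 1)).app (((tS A).truncLT q).obj K')) ≫ ((homologyFunctor A (q - 1))).map (((tS A).truncGE (q - 1)).map (((tS A).natTransTruncLTOfLE q (q + 1) (lt_add_one q).le).app K')) = ((homologyFunctor A (q - 1))).map (((tS A).natTransTruncLTOfLE q (q + 1) (lt_add_one q).le).app K') ≫ ((homologyFunctor A (q - 1))).map (((tS A).truncGEπ (q - 1)).app (((tS A).truncLT (q + 1)).obj K')) := by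
      rw [← CategoryTheory.Functor.map_comp, F3, CategoryTheory.Functor.map_comp]
    exact IsIso.of_isIso_fac_left w
  have a7 := isIso_H_truncLTι (((tS A).truncGE (q - 1)).obj (((tS A).truncLT (q + 1)).obj K')) q (q - 1) (by omega)
  have a8 : IsIso (((homologyFunctor A (q - 1))).map ((tS A).liftTruncLT (((tS A).truncGE (q - 1)).map (((tS A).natTransTruncLTOfLE q (q + 1) (lt_add_one q).le).app K')) (q - 1) q (by omega))) := by
    have w : ((homologyFunctor A (q - 1))).map ((tS A).liftTruncLT (((tS A).truncGE (q - 1)).map (((tS A).natTransTruncLTOfLE q (q + 1) (lt_add_one q).le).app K')) (q - 1) q (by omega)) ≫ ((homologyFunctor A (q - 1))).map (((tS A).truncLTι q).app (((tS A).truncGE (q - 1)).obj (((tS A).truncLT (q + 1)).obj K'))) = ((homologyFunctor A (q - 1))).map (((tS A).truncGE (q - 1)).map (((tS A).natTransTruncLTOfLE q (q + 1) (lt_add_one q).le).app K')) := by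
      rw [← CategoryTheory.Functor.map_comp, hi']
    exact IsIso.of_isIso_fac_right w
  have b1 : (tS A).IsGE (((tS A).truncGE (q - 1)).obj (((tS A).truncLT q).obj K')) (q - 1) := inferInstance
  have b2 : (tS A).IsLE (((tS A).truncGE (q - 1)).obj (((tS A).truncLT q).obj K')) (q - 1) := inferInstance
  have b3 : (tS A).IsGE (((tS A).truncLT q).obj (((tS A).truncGE (q - 1)).obj (((tS A).truncLT (q + 1)).obj K'))) (q - 1) := inferInstance
  have b4 : (tS A).IsLE (((tS A).truncLT q).obj (((tS A).truncGE (q - 1)).obj (((tS A).truncLT (q + 1)).obj K'))) (q - 1) := inferInstance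
  have a9 : IsIso ((tS A).liftTruncLT (((tS A).truncGE (q - 1)).map (((tS A).natTransTruncLTOfLE q (q + 1) (lt_add_one q).le).app K')) (q - 1) q (by omega)) := isIso_of_isIso_H_single_degree (q - 1) _
  have hz : L' - L = 0 := by
    rw [← cancel_mono ((tS A).liftTruncLT (((tS A).truncGE (q - 1)).map (((tS A).natTransTruncLTOfLE q (q + 1) (lt_add_one q).le).app K')) (q - 1) q (by omega)), hD3, zero_comp]
  exact sub_eq_zero.1 hz

end Groth.Agent.Helper6.TruncFactor
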