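import Mathlib

set_option autoImplicit false

universe w v u

open CategoryTheory Category Limits CochainComplex.HomComplex

namespace Groth.Agent.Helper6.TwoTerm

variable {C : Type u} [Category.{v} C] [Abelian C]

section PB

variable {K K' : CochainComplex C ℤ} (s : K ⟶ K') [QuasiIso s]
  (hK : ∀ i : ℤ, i ≤ -2 → IsZero (K.X i)) (hK' : ∀ i : ℤ, i ≤ -2 → IsZero (K'.X i))

include hK in
lemma pb_unique {T : C} (x : T ⟶ K.X (-1)) (h1 : x ≫ K.d (-1) 0 = 0)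
    (h2 : x ≫ s.f (-1) = 0) : x = 0 := by
  have hmono := (HomologicalComplex.mono_homologyMap_iff_up_to_refinements s (-2) (-1) 0
    (by simp) (by simp)).1 inferInstance
  obtain ⟨A', π, hπ, x₁, hx₁⟩ := hmono x h1 0 (by rw [h2, zero_comp])
  have hx0 : x₁ = 0 := (hK (-2) le_rfl).eq_of_tgt _ _
  rw [hx0, zero_comp] at hx₁
  rw [← cancel_epi π, hx₁, comp_zero]

include hK hK' in
lemma pb_exists {T : C} (a : T ⟶ K.X 0) (ha : a ≫ K.d 0 1 = 0) (b : T ⟶ K'.X (-1))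
    (hab : a ≫ s.f 0 = b ≫ K'.d (-1) 0) :
    ∃ k : T ⟶ K.X (-1), k ≫ K.d (-1) 0 = a ∧ k ≫ s.f (-1) = b := by
  have hmono := (HomologicalComplex.mono_homologyMap_iff_up_to_refinements s (-1) 0 1
    (by simp) (by simp)).1 inferInstance
  have hepi := (HomologicalComplex.epi_homologyMap_iff_up_to_refinements s (-2) (-1) 0
    (by simp) (by simp)).1 inferInstance
  obtain ⟨A₁, π₁, hπ₁, x₁, hx₁⟩ := hmono a ha b hab
  have hb₁ : (π₁ ≫ b - x₁ ≫ s.f (-1)) ≫ K'.d (-1) 0 = 0 := by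
    have e1 : x₁ ≫ s.f (-1) ≫ K'.d (-1) 0 = π₁ ≫ a ≫ s.f 0 := by
      rw [s.comm (-1) 0, ← assoc, ← hx₁, assoc]
    rw [Preadditive.sub_comp, assoc, assoc, e1, hab, sub_self]
  obtain ⟨A₂, π₂, hπ₂, x₂, hx₂, y₁, hy₁⟩ := hepi (π₁ ≫ b - x₁ ≫ s.f (-1)) hb₁
  have hy0 : y₁ = 0 := (hK' (-2) le_rfl).eq_of_tgt _ _
  rw [hy0, zero_comp, add_zero] at hy₁
  have hk'1 : (π₂ ≫ x₁ + x₂) ≫ K.d (-1) 0 = (π₂ ≫ π₁) ≫ a := by
    rw [Preadditive.add_comp, hx₂, add_zero, assoc, assoc, hx₁]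
  have hk'2 : (π₂ ≫ x₁ + x₂) ≫ s.f (-1) = (π₂ ≫ π₁) ≫ b := by
    have e : x₂ ≫ s.f (-1) = π₂ ≫ π₁ ≫ b - π₂ ≫ x₁ ≫ s.f (-1) := by
      rw [← hy₁, Preadditive.comp_sub]
    rw [Preadditive.add_comp, e, assoc, assoc]
    abel
  haveI : Epi (π₂ ≫ π₁) := epi_comp _ _
  have hker : kernel.ι (π₂ ≫ π₁) ≫ (π₂ ≫ x₁ + x₂) = 0 := by
    apply pb_unique s hK
    · rw [assoc, hk'1, kernel.condition_assoc, zero_comp]
    · rw [assoc, hk'2, kernel.condition_assoc, zero_comp]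
  refine ⟨Abelian.epiDesc (π₂ ≫ π₁) (π₂ ≫ x₁ + x₂) hker, ?_, ?_⟩
  · rw [← cancel_epi (π₂ ≫ π₁), Abelian.comp_epiDesc_assoc, hk'1]
  · rw [← cancel_epi (π₂ ≫ π₁), Abelian.comp_epiDesc_assoc, hk'2]

end PB

section Maps

variable {M K : CochainComplex C ℤ}

/-- chain map with (possibly) nonzero components only in degrees `-1` and `0`. -/
noncomputable def mkHom2 (a1 : M.X (-1) ⟶ K.X (-1)) (a0 : M.X 0 ⟶ K.X 0)
    (h1 : M.d (-2) (-1) ≫ a1 = 0) (h2 : a1 ≫ K.d (-1) 0 = M.d (-1) 0 ≫ a0)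
    (h3 : a0 ≫ K.d 0 1 = 0) : M ⟶ K :=
  Cocycle.homOf (Cocycle.mk (Cochain.single a1 0 + Cochain.single a0 0) 1 (zero_add 1) (by
    rw [δ_add, Cochain.δ_single a1 0 1 (zero_add 1) (-2) 0 (by norm_num) (by norm_num),
      Cochain.δ_single a0 0 1 (zero_add 1) (-1) 1 (by norm_num) (by norm_num), h1, h2, h3]
    simp))

lemma mkHom2_f_neg_one (a1 : M.X (-1) ⟶ K.X (-1)) (a0 : M.X 0 ⟶ K.X 0)
    (h1 : M.d (-2) (-1) ≫ a1 = 0) (h2 : a1 ≫ K.d (-1) 0 = M.d (-1) 0 ≫ a0)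
    (h3 : a0 ≫ K.d 0 1 = 0) : (mkHom2 a1 a0 h1 h2 h3).f (-1) = a1 := by
  show (Cochain.single a1 0 + Cochain.single a0 0).v (-1) (-1) (add_zero _) = a1
  rw [Cochain.add_v, Cochain.single_v a1 0 (add_zero _),
    Cochain.single_v_eq_zero a0 0 (-1) (-1) (add_zero _) (by norm_num), add_zero]

lemma mkHom2_f_zero (a1 : M.X (-1) ⟶ K.X (-1)) (a0 : M.X 0 ⟶ K.X 0)
    (h1 : M.d (-2) (-1) ≫ a1 = 0) (h2 : a1 ≫ K.d (-1) 0 = M.d (-1) 0 ≫ a0)
    (h3 : a0 ≫ K.d 0 1 = 0) : (mkHom2 a1 a0 h1 h2 h3).f 0 = a0 := by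
  show (Cochain.single a1 0 + Cochain.single a0 0).v 0 0 (add_zero _) = a0
  rw [Cochain.add_v, Cochain.single_v a0 0 (add_zero _),
    Cochain.single_v_eq_zero a1 0 0 0 (add_zero _) (by norm_num), zero_add]

lemma cochain_ext2 (hM : ∀ i : ℤ, 0 < i → IsZero (M.X i))
    (hK : ∀ i : ℤ, i ≤ -2 → IsZero (K.X i)) (z₁ z₂ : Cochain M K 0)
    (h1 : z₁.v (-1) (-1) (add_zero _) = z₂.v (-1) (-1) (add_zero _))
    (h0 : z₁.v 0 0 (add_zero _) = z₂.v 0 0 (add_zero _)) : z₁ = z₂ := by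
  apply Cochain.ext₀
  intro p
  by_cases hp : p ≤ -2
  · exact (hK p hp).eq_of_tgt _ _
  · by_cases hp' : 0 < p
    · exact (hM p hp').eq_of_src _ _
    · have : p = -1 ∨ p = 0 := by omega
      rcases this with rfl | rfl
      · exact h1
      · exact h0

/-- homotopy given by a single map `M⁰ ⟶ K⁻¹`. -/
noncomputable def mkHomotopy1 (hM : ∀ i : ℤ, 0 < i → IsZero (M.X i))
    (hK : ∀ i : ℤ, i ≤ -2 → IsZero (K.X i)) (f g : M ⟶ K) (h : M.X 0 ⟶ K.X (-1))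
    (e0 : f.f 0 = h ≫ K.d (-1) 0 + g.f 0) (e1 : f.f (-1) = M.d (-1) 0 ≫ h + g.f (-1)) :
    Homotopy f g :=
  (Cochain.equivHomotopy f g).symm ⟨Cochain.single h (-1), by
    rw [Cochain.δ_single h (-1) 0 (by norm_num) (-1) 0 (by norm_num) (by norm_num)]
    apply cochain_ext2 hM hK
    · simp only [Cochain.add_v, Cochain.units_smul_v, Cochain.ofHom_v, Cochain.single_v,
        Cochain.single_v_eq_zero (h ≫ K.d (-1) 0) 0 (-1) (-1) (add_zero _) (by norm_num),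
        Int.negOnePow_zero, one_smul, zero_add]
      exact e1
    · simp only [Cochain.add_v, Cochain.units_smul_v, Cochain.ofHom_v, Cochain.single_v,
        Cochain.single_v_eq_zero (M.d (-1) 0 ≫ h) 0 0 0 (add_zero _) (by norm_num),
        Int.negOnePow_zero, one_smul, add_zero]
      exact e0⟩

end Maps

section Lift

variable {M K K' : CochainComplex C ℤ} (s : K ⟶ K') [QuasiIso s]
  (hM : ∀ i : ℤ, 0 < i → IsZero (M.X i)) [Projective (M.X 0)]
  (hK : ∀ i : ℤ, i ≤ -2 → IsZero (K.X i)) (hK' : ∀ i : ℤ, i ≤ -2 → IsZero (K'.X i))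

include hM in
lemma exists_a0 (g : M ⟶ K') : ∃ (a0 : M.X 0 ⟶ K.X 0) (h : M.X 0 ⟶ K'.X (-1)),
    a0 ≫ K.d 0 1 = 0 ∧ g.f 0 = a0 ≫ s.f 0 + h ≫ K'.d (-1) 0 := by
  have hepi := (HomologicalComplex.epi_homologyMap_iff_up_to_refinements s (-1) 0 1
    (by simp) (by simp)).1 inferInstance
  have hMd : M.d 0 1 = 0 := (hM 1 one_pos).eq_of_tgt _ _
  have hg0 : g.f 0 ≫ K'.d 0 1 = 0 := by rw [g.comm 0 1, hMd, zero_comp]
  obtain ⟨A, π, hπ, x₂, hx₂, y₁, hy₁⟩ := hepi (g.f 0) hg0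
  have hσ : Projective.factorThru (𝟙 (M.X 0)) π ≫ π = 𝟙 _ := Projective.factorThru_comp _ _
  refine ⟨Projective.factorThru (𝟙 (M.X 0)) π ≫ x₂, Projective.factorThru (𝟙 (M.X 0)) π ≫ y₁,
    by rw [assoc, hx₂, comp_zero], ?_⟩
  calc g.f 0 = (Projective.factorThru (𝟙 (M.X 0)) π ≫ π) ≫ g.f 0 := by rw [hσ, id_comp]
    _ = Projective.factorThru (𝟙 (M.X 0)) π ≫ (x₂ ≫ s.f 0 + y₁ ≫ K'.d (-1) 0) := by
      rw [assoc, hy₁]
    _ = _ := by rw [Preadditive.comp_add, assoc, assoc]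

include hM hK hK' in
lemma lift_exists (g : M ⟶ K') : ∃ g' : M ⟶ K, Nonempty (Homotopy (g' ≫ s) g) := by
  obtain ⟨a0, h, ha0, hg⟩ := exists_a0 s hM g
  have hψ : (M.d (-1) 0 ≫ a0) ≫ K.d 0 1 = 0 := by rw [assoc, ha0, comp_zero]
  have hψθ : (M.d (-1) 0 ≫ a0) ≫ s.f 0 = (g.f (-1) - M.d (-1) 0 ≫ h) ≫ K'.d (-1) 0 := by
    have e : a0 ≫ s.f 0 = g.f 0 - h ≫ K'.d (-1) 0 := by rw [hg]; abel
    rw [assoc, e, Preadditive.comp_sub, Preadditive.sub_comp, g.comm (-1) 0, assoc]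
  obtain ⟨a1, ha1, ha1'⟩ := pb_exists s hK hK' _ hψ _ hψθ
  have h1 : M.d (-2) (-1) ≫ a1 = 0 := by
    apply pb_unique s hK
    · rw [assoc, ha1, HomologicalComplex.d_comp_d_assoc, zero_comp]
    · rw [assoc, ha1', Preadditive.comp_sub, HomologicalComplex.d_comp_d_assoc, zero_comp,
        sub_zero, ← g.comm (-2) (-1), (hK' (-2) le_rfl).eq_of_tgt (g.f (-2)) 0, zero_comp]
  refine ⟨mkHom2 a1 a0 h1 ha1 ha0, ⟨mkHomotopy1 hM hK' _ _ (-h) ?_ ?_⟩⟩
  · rw [HomologicalComplex.comp_f, mkHom2_f_zero, hg, Preadditive.neg_comp]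
    abel
  · rw [HomologicalComplex.comp_f, mkHom2_f_neg_one, ha1', Preadditive.comp_neg]
    abel

include hM hK hK' in
lemma null_of_null (g : M ⟶ K) (hg : Homotopy (g ≫ s) 0) : Nonempty (Homotopy g 0) := by
  have hMd : M.d 0 1 = 0 := (hM 1 one_pos).eq_of_tgt _ _
  have e0 := hg.comm 0
  have e1 := hg.comm (-1)
  rw [dNext_eq hg.hom (show (ComplexShape.up ℤ).Rel 0 1 by simp),
    prevD_eq hg.hom (show (ComplexShape.up ℤ).Rel (-1) 0 by simp), hMd, zero_comp, zero_add,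
    HomologicalComplex.zero_f, add_zero, HomologicalComplex.comp_f] at e0
  rw [dNext_eq hg.hom (show (ComplexShape.up ℤ).Rel (-1) 0 by simp),
    prevD_eq hg.hom (show (ComplexShape.up ℤ).Rel (-2) (-1) by simp),
    (hK' (-2) le_rfl).eq_of_tgt (hg.hom (-1) (-2)) 0, zero_comp, add_zero,
    HomologicalComplex.zero_f, add_zero, HomologicalComplex.comp_f] at e1
  have hg0 : g.f 0 ≫ K.d 0 1 = 0 := by rw [g.comm 0 1, hMd, zero_comp]
  obtain ⟨k, hk, hk'⟩ := pb_exists s hK hK' (g.f 0) hg0 (hg.hom 0 (-1)) e0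
  have hk1 : g.f (-1) = M.d (-1) 0 ≫ k := by
    rw [← sub_eq_zero]
    apply pb_unique s hK
    · rw [Preadditive.sub_comp, assoc, hk, g.comm (-1) 0, sub_self]
    · rw [Preadditive.sub_comp, assoc, hk', e1, sub_self]
  exact ⟨mkHomotopy1 hM hK g 0 k (by rw [hk, HomologicalComplex.zero_f, add_zero])
    (by rw [← hk1, HomologicalComplex.zero_f, add_zero])⟩

end Lift

section Main

variable [HasDerivedCategory.{w} C]

theorem main (M K : CochainComplex C ℤ) (hM : ∀ i : ℤ, 0 < i → IsZero (M.X i))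
    [Projective (M.X 0)] (hK : ∀ i : ℤ, i ≤ -2 → IsZero (K.X i)) :
    Function.Bijective (fun φ : (HomotopyCategory.quotient C (ComplexShape.up ℤ)).obj M ⟶
      (HomotopyCategory.quotient C (ComplexShape.up ℤ)).obj K => DerivedCategory.Qh.map φ) := by
  haveI : K.IsStrictlyGE (-1) := by
    rw [CochainComplex.isStrictlyGE_iff]
    intro i hi
    exact hK i (by omega)
  constructor
  · intro φ₁ φ₂ h
    dsimp only at h
    obtain ⟨f₁, rfl⟩ := (HomotopyCategory.quotient _ _).map_surjective φ₁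
    obtain ⟨f₂, rfl⟩ := (HomotopyCategory.quotient _ _).map_surjective φ₂
    rw [MorphismProperty.map_eq_iff_postcomp DerivedCategory.Qh
      (HomotopyCategory.quasiIso C (ComplexShape.up ℤ))] at h
    obtain ⟨Z, t, ht, fac⟩ := h
    obtain ⟨Z, rfl⟩ := HomotopyCategory.quotient_obj_surjective Z
    obtain ⟨t, rfl⟩ := (HomotopyCategory.quotient _ _).map_surjective t
    rw [HomotopyCategory.quotient_map_mem_quasiIso_iff, HomologicalComplex.mem_quasiIso_iff] at ht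
    haveI := ht
    haveI : QuasiIso (t ≫ CochainComplex.πTruncGE Z (-1)) := by
      rw [← CochainComplex.πTruncGE_naturality t (-1)]
      haveI : QuasiIso (CochainComplex.truncGEMap t (-1)) := by
        rw [CochainComplex.quasiIso_truncGEMap_iff]
        intro i _
        infer_instance
      infer_instance
    have hZ : ∀ i : ℤ, i ≤ -2 → IsZero ((CochainComplex.truncGE Z (-1)).X i) := fun i hi =>
      CochainComplex.isZero_of_isStrictlyGE (CochainComplex.truncGE Z (-1)) (-1) i (by omega)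
    have h0 : (HomotopyCategory.quotient C (ComplexShape.up ℤ)).map
        ((f₁ - f₂) ≫ t ≫ CochainComplex.πTruncGE Z (-1)) = 0 := by
      rw [Functor.map_comp, Functor.map_sub, Functor.map_comp, ← assoc, Preadditive.sub_comp,
        fac, sub_self, zero_comp]
    obtain ⟨hh⟩ := (HomotopyCategory.quotient_map_eq_zero_iff _).1 h0
    have h1 := (HomotopyCategory.quotient_map_eq_zero_iff _).2
      (null_of_null (t ≫ CochainComplex.πTruncGE Z (-1)) hM hK hZ (f₁ - f₂) hh)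
    rw [Functor.map_sub, sub_eq_zero] at h1
    exact h1
  · intro (φ : DerivedCategory.Q.obj M ⟶ DerivedCategory.Q.obj K)
    obtain ⟨Y', hY', g, s, hs, fac⟩ := DerivedCategory.left_fac_of_isStrictlyGE φ (-1)
    haveI := (DerivedCategory.isIso_Q_map_iff_quasiIso (φ := s)).1 hs
    have hY : ∀ i : ℤ, i ≤ -2 → IsZero (Y'.X i) := fun i hi =>
      Y'.isZero_of_isStrictlyGE (-1) i (by omega)
    obtain ⟨g', ⟨hg'⟩⟩ := lift_exists s hM hK hY g
    refine ⟨(HomotopyCategory.quotient _ _).map g', ?_⟩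
    have e : DerivedCategory.Q.map g' ≫ DerivedCategory.Q.map s = DerivedCategory.Q.map g := by
      rw [← Functor.map_comp]
      exact DerivedCategory.Q_map_eq_of_homotopy (h := hg')
    show DerivedCategory.Q.map g' = φ
    rw [fac, ← e, assoc, IsIso.hom_inv_id, comp_id]

end Main

end Groth.Agent.Helper6.TwoTerm
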