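import Groth.Agent.Lib.Helper6.TwoTermT

set_option autoImplicit false
set_option linter.style.haveILetI false

universe w v u t'

open CategoryTheory Category Limits Pretriangulated DerivedCategory

namespace Groth.Agent.Helper6.TwoTermComp

open Groth.Agent.Helper6.TwoTermT

variable {C : Type u} [Category.{v} C] [Abelian C] [HasDerivedCategory.{w} C]

/-- `H^n` is faithful on objects isomorphic to `n`-th singles. -/
lemma eq_zero_of_single {X Y : DerivedCategory C} (n : ℤ) {A B : C}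
    (eX : X ≅ (singleFunctor C n).obj A) (eY : Y ≅ (singleFunctor C n).obj B) (χ : X ⟶ Y)
    (h : (homologyFunctor C n).map χ = 0) : χ = 0 := by
  obtain ⟨t, ht⟩ := (singleFunctor C n).map_surjective (eX.inv ≫ χ ≫ eY.hom)
  have h1 : (homologyFunctor C n).map ((singleFunctor C n).map t) = 0 := by
    rw [ht, Functor.map_comp, Functor.map_comp, h, zero_comp, comp_zero]
  have hnat := (singleFunctorCompHomologyFunctorIso C n).hom.naturality t
  have h2 : ((singleFunctor C n ⋙ homologyFunctor C n).map t) = 0 := h1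
  rw [h2, zero_comp] at hnat
  have ht0 : t = 0 := by
    have h3 : (singleFunctorCompHomologyFunctorIso C n).hom.app A ≫ t = 0 := hnat.symm
    rw [← cancel_epi ((singleFunctorCompHomologyFunctorIso C n).hom.app A), h3, comp_zero]
  have h4 : eX.inv ≫ χ ≫ eY.hom = 0 := by rw [← ht, ht0, Functor.map_zero]
  have : χ = eX.hom ≫ (eX.inv ≫ χ ≫ eY.hom) ≫ eY.inv := by simp
  rw [this, h4, zero_comp, comp_zero]

theorem comp_eq_zero {K₁ K₂ K₃ : DerivedCategory C} (φ : K₁ ⟶ K₂) (ψ : K₂ ⟶ K₃)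
    (d₁ : Data K₁) (d₂ : Data K₂) (d₃ : Data K₃)
    (hφ : (homologyFunctor C 0).map φ = 0) (hψ : (homologyFunctor C (-1)).map ψ = 0) :
    φ ≫ ψ = 0 := by
  haveI hX₁ : d₁.X.IsLE (-1) := (TStructure.t).isLE_of_iso d₁.eX.symm (-1)
  haveI hX₂ : d₂.X.IsLE (-1) := (TStructure.t).isLE_of_iso d₂.eX.symm (-1)
  haveI hY₂ : d₂.Y.IsGE 0 := (TStructure.t).isGE_of_iso d₂.eY.symm 0
  haveI hY₃ : d₃.Y.IsGE 0 := (TStructure.t).isGE_of_iso d₃.eY.symm 0
  -- step (ii)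
  have hii : d₂.f ≫ ψ = 0 := by
    have hz : (d₂.f ≫ ψ) ≫ d₃.g = 0 :=
      (TStructure.t (C := C)).zero_of_isLE_of_isGE _ (-1) 0 (by norm_num) hX₂ hY₃
    obtain ⟨χ, hχ⟩ : ∃ χ : d₂.X ⟶ d₃.X, d₂.f ≫ ψ = χ ≫ d₃.f :=
      Triangle.coyoneda_exact₂ _ d₃.dist (d₂.f ≫ ψ) hz
    haveI : Mono ((homologyFunctor C (-1)).map d₃.f) :=
      (HomologySequence.mono_homologyMap_mor₁_iff _ d₃.dist (-2) (-1) (by norm_num)).2
        ((d₃.Y.isZero_of_isGE 0 (-2) (by norm_num)).eq_of_src _ _)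
    have h1 : (homologyFunctor C (-1)).map χ = 0 := by
      rw [← cancel_mono ((homologyFunctor C (-1)).map d₃.f), ← Functor.map_comp, ← hχ,
        Functor.map_comp, hψ, comp_zero, zero_comp]
    rw [hχ, eq_zero_of_single (-1) d₂.eX d₃.eX χ h1, zero_comp]
  -- step (i)
  have hi : φ ≫ d₂.g = 0 := by
    have hz : d₁.f ≫ (φ ≫ d₂.g) = 0 :=
      (TStructure.t (C := C)).zero_of_isLE_of_isGE _ (-1) 0 (by norm_num) hX₁ hY₂
    obtain ⟨χ, hχ⟩ : ∃ χ : d₁.Y ⟶ d₂.Y, φ ≫ d₂.g = d₁.g ≫ χ :=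
      Triangle.yoneda_exact₂ _ d₁.dist (φ ≫ d₂.g) hz
    haveI : Epi ((homologyFunctor C 0).map d₁.g) :=
      (HomologySequence.epi_homologyMap_mor₂_iff _ d₁.dist 0 1 (by norm_num)).2
        ((d₁.X.isZero_of_isLE (-1) 1 (by norm_num)).eq_of_tgt _ _)
    have h1 : (homologyFunctor C 0).map χ = 0 := by
      rw [← cancel_epi ((homologyFunctor C 0).map d₁.g), ← Functor.map_comp, ← hχ,
        Functor.map_comp, hφ, zero_comp, comp_zero]
    rw [hχ, eq_zero_of_single 0 d₁.eY d₂.eY χ h1, comp_zero]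
  obtain ⟨φ', hφ'⟩ : ∃ φ' : K₁ ⟶ d₂.X, φ = φ' ≫ d₂.f :=
    Triangle.coyoneda_exact₂ _ d₂.dist φ hi
  rw [hφ', assoc, hii, comp_zero]

end Groth.Agent.Helper6.TwoTermComp
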