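import Mathlib

set_option autoImplicit false

universe w v u

open CategoryTheory Category Limits Pretriangulated DerivedCategory

namespace Groth.Agent.Helper6.TwoTermCone

variable {C : Type u} [Category.{v} C] [Abelian C] [HasDerivedCategory.{w} C]

/-- If `α : K ⟶ K'` between objects with cohomology in `[-1,0]` is iso on `H^0` and epi on
`H^{-1}`, any map out of `K'` to an object of `D^{≥ -1}` killed by `α` is zero. -/
theorem eq_zero_of_comp_eq_zero {K K' : DerivedCategory C} (α : K ⟶ K')
    (hK : ∀ i : ℤ, i ≠ -1 → i ≠ 0 → IsZero ((homologyFunctor C i).obj K))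
    (hK' : ∀ i : ℤ, i ≠ -1 → i ≠ 0 → IsZero ((homologyFunctor C i).obj K'))
    (h0 : IsIso ((homologyFunctor C 0).map α)) (h1 : Epi ((homologyFunctor C (-1)).map α))
    {Z : DerivedCategory C} (hZ : Z.IsGE (-1)) (ξ : K' ⟶ Z) (h : α ≫ ξ = 0) : ξ = 0 := by
  obtain ⟨W, β, γ, dist⟩ := distinguished_cocone_triangle α
  have hepi : ∀ i : ℤ, -1 ≤ i → Epi ((homologyFunctor C i).map α) := by
    intro i hi
    by_cases hi1 : i = -1
    · subst hi1; exact h1
    by_cases hi0 : i = 0
    · subst hi0; infer_instance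
    · exact ⟨fun _ _ _ => (hK' i hi1 hi0).eq_of_src _ _⟩
  have hmono : ∀ i : ℤ, 0 ≤ i → Mono ((homologyFunctor C i).map α) := by
    intro i hi
    by_cases hi0 : i = 0
    · subst hi0; infer_instance
    · exact ⟨fun _ _ _ => (hK i (by omega) hi0).eq_of_tgt _ _⟩
  have hW : W.IsLE (-2) := by
    rw [isLE_iff]
    intro i hi
    have hi' : -1 ≤ i := by omega
    refine (HomologySequence.exact₃ _ dist i (i + 1) rfl).isZero_of_both_zeros ?_ ?_
    · exact (HomologySequence.epi_homologyMap_mor₁_iff _ dist i).1 (hepi i hi')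
    · exact (HomologySequence.mono_homologyMap_mor₁_iff _ dist i (i + 1) rfl).1
        (hmono (i + 1) (by omega))
  obtain ⟨g, hg⟩ := Triangle.yoneda_exact₂ _ dist ξ h
  have hgz : g = 0 := (TStructure.t (C := C)).zero_of_isLE_of_isGE g (-2) (-1) (by norm_num) hW hZ
  rw [hg, hgz]
  exact comp_zero

end Groth.Agent.Helper6.TwoTermCone
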