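import Groth.Agent.Lib.Helper6.TwoTerm

set_option autoImplicit false

universe w v u

open CategoryTheory Category Limits CochainComplex.HomComplex

namespace Groth.Agent.Helper6.TwoTerm

variable {C : Type u} [Category.{v} C] [Abelian C] [HasDerivedCategory.{w} C]

/-- the complex `N[1]`, i.e. `N` in degree `-1`. -/
noncomputable abbrev sL (N : C) : CochainComplex C ℤ :=
  (HomologicalComplex.single C (ComplexShape.up ℤ) (-1)).obj N

lemma sL_isZero (N : C) (i : ℤ) (hi : i ≠ -1) : IsZero ((sL N).X i) :=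
  HomologicalComplex.isZero_single_obj_X _ _ _ _ hi

noncomputable def eIso (N : C) :
    ((DerivedCategory.singleFunctor C 0).obj N)⟦(1 : ℤ)⟧ ≅ DerivedCategory.Q.obj (sL N) :=
  ((DerivedCategory.singleFunctors C).shiftIso 1 (-1) 0 (by norm_num)).app N ≪≫
    (DerivedCategory.singleFunctorIsoCompQ C (-1)).app N

lemma ext_one_zero_of_h {M K : CochainComplex C ℤ} (hM : ∀ i : ℤ, 0 < i → IsZero (M.X i))
    (hK : ∀ i : ℤ, i ≠ -1 → i ≠ 0 → IsZero (K.X i)) [Projective (K.X 0)] (a : M ⟶ K)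
    (h : M.X 0 ⟶ K.X (-1)) (hh : a.f (-1) + M.d (-1) 0 ≫ h = 0) (N : C)
    (ξ : DerivedCategory.Q.obj K ⟶ ((DerivedCategory.singleFunctor C 0).obj N)⟦(1 : ℤ)⟧) :
    DerivedCategory.Q.map a ≫ ξ = 0 := by
  have hL : ∀ i : ℤ, i ≤ -2 → IsZero ((sL N).X i) := fun i hi => sL_isZero N i (by omega)
  have hK' : ∀ i : ℤ, 0 < i → IsZero (K.X i) := fun i hi => hK i (by omega) (by omega)
  obtain ⟨φ, hφ⟩ := (main K (sL N) hK' hL).2 (ξ ≫ (eIso N).hom)
  obtain ⟨f, rfl⟩ := (HomotopyCategory.quotient _ _).map_surjective φ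
  have hf : DerivedCategory.Q.map f = ξ ≫ (eIso N).hom := hφ
  have hξ : ξ = DerivedCategory.Q.map f ≫ (eIso N).inv := by
    rw [hf, assoc, Iso.hom_inv_id, comp_id]
  have hnull : Homotopy (a ≫ f) 0 := mkHomotopy1 hM hL (a ≫ f) 0 (-(h ≫ f.f (-1)))
    ((sL_isZero N 0 (by norm_num)).eq_of_tgt _ _) (by
      rw [HomologicalComplex.comp_f, HomologicalComplex.zero_f, add_zero,
        eq_neg_of_add_eq_zero_left hh, Preadditive.comp_neg, Preadditive.neg_comp, assoc])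
  rw [hξ, ← assoc, ← Functor.map_comp, DerivedCategory.Q_map_eq_of_homotopy (h := hnull),
    Functor.map_zero, zero_comp]

lemma h_of_ext_one_zero {M K : CochainComplex C ℤ} (hM : ∀ i : ℤ, 0 < i → IsZero (M.X i))
    [Projective (M.X 0)]
    (hK : ∀ i : ℤ, i ≠ -1 → i ≠ 0 → IsZero (K.X i)) (a : M ⟶ K)
    (H : ∀ ξ : DerivedCategory.Q.obj K ⟶
        ((DerivedCategory.singleFunctor C 0).obj (K.X (-1)))⟦(1 : ℤ)⟧,
      DerivedCategory.Q.map a ≫ ξ = 0) :
    ∃ h : M.X 0 ⟶ K.X (-1), a.f (-1) + M.d (-1) 0 ≫ h = 0 := by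
  have hL : ∀ i : ℤ, i ≤ -2 → IsZero ((sL (K.X (-1))).X i) :=
    fun i hi => sL_isZero _ i (by omega)
  obtain ⟨f, hf⟩ : ∃ f : K ⟶ sL (K.X (-1)), f.f (-1) = 𝟙 (K.X (-1)) ≫
      (HomologicalComplex.singleObjXSelf (ComplexShape.up ℤ) (-1) (K.X (-1))).inv :=
    ⟨HomologicalComplex.mkHomToSingle (𝟙 (K.X (-1))) (by
      intro i hi
      have hi' : i + 1 = -1 := hi
      have : i = -2 := by omega
      subst this
      exact (hK (-2) (by norm_num) (by norm_num)).eq_of_src _ _),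
      HomologicalComplex.mkHomToSingle_f _ _⟩
  have hQ : DerivedCategory.Q.map (a ≫ f) = DerivedCategory.Q.map 0 := by
    have := H (DerivedCategory.Q.map f ≫ (eIso (K.X (-1))).inv)
    rw [← assoc, ← Functor.map_comp] at this
    rw [Functor.map_zero, ← cancel_mono (eIso (K.X (-1))).inv, this, zero_comp]
  have hinj := (main M (sL (K.X (-1))) hM hL).1
  have hq := @hinj ((HomotopyCategory.quotient _ _).map (a ≫ f))
    ((HomotopyCategory.quotient _ _).map 0) hQ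
  have hh := HomotopyCategory.homotopyOfEq _ _ hq
  have e1 := hh.comm (-1)
  rw [dNext_eq hh.hom (show (ComplexShape.up ℤ).Rel (-1) 0 by simp),
    prevD_eq hh.hom (show (ComplexShape.up ℤ).Rel (-2) (-1) by simp),
    (hL (-2) le_rfl).eq_of_tgt (hh.hom (-1) (-2)) 0, zero_comp, add_zero,
    HomologicalComplex.zero_f, add_zero, HomologicalComplex.comp_f, hf, id_comp] at e1
  refine ⟨-(hh.hom 0 (-1) ≫
    (HomologicalComplex.singleObjXSelf (ComplexShape.up ℤ) (-1) (K.X (-1))).hom), ?_⟩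
  rw [Preadditive.comp_neg, ← assoc, ← e1, assoc, Iso.inv_hom_id, comp_id, add_neg_cancel]

theorem ext_one_iff (M K : CochainComplex C ℤ) (hM : ∀ i : ℤ, 0 < i → IsZero (M.X i))
    [Projective (M.X 0)]
    (hK : ∀ i : ℤ, i ≠ -1 → i ≠ 0 → IsZero (K.X i)) [Projective (K.X 0)] (a : M ⟶ K) :
    (∀ (N : C) (ξ : DerivedCategory.Q.obj K ⟶
        ((DerivedCategory.singleFunctor C 0).obj N)⟦(1 : ℤ)⟧),
        DerivedCategory.Q.map a ≫ ξ = 0) ↔
      ∃ h : M.X 0 ⟶ K.X (-1), a.f (-1) + M.d (-1) 0 ≫ h = 0 := by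
  constructor
  · intro H
    exact h_of_ext_one_zero hM hK a (fun ξ => H _ ξ)
  · rintro ⟨h, hh⟩ N ξ
    exact ext_one_zero_of_h hM hK a h hh N ξ

end Groth.Agent.Helper6.TwoTerm
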