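import Mathlib

set_option autoImplicit false
set_option linter.style.haveILetI false

universe w v u

open CategoryTheory Category Limits

namespace Groth.Agent.Helper6.TwoTermRep

variable {C : Type u} [Category.{v} C] [Abelian C]

section Construct

variable (L : CochainComplex C ℤ) (hL : ∀ i : ℤ, i ≠ -1 → i ≠ 0 → IsZero (L.X i))
  {F : C} (p : F ⟶ L.X 0)

/-- the two-term complex `F ×_{L⁰} L⁻¹ ⟶ F`. -/
noncomputable def E : CochainComplex C ℤ :=
  HomologicalComplex.double (pullback.fst p (L.d (-1) 0))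
    (show (ComplexShape.up ℤ).Rel (-1) 0 by simp)

noncomputable def i0 : (E L p).X (-1) ≅ pullback p (L.d (-1) 0) :=
  HomologicalComplex.doubleXIso₀ _ _

noncomputable def i1 : (E L p).X 0 ≅ F :=
  HomologicalComplex.doubleXIso₁ _ _ (by norm_num)

lemma E_d : (E L p).d (-1) 0 = (i0 L p).hom ≫ pullback.fst p (L.d (-1) 0) ≫ (i1 L p).inv :=
  HomologicalComplex.double_d _ _ (by norm_num)

lemma E_isZero (i : ℤ) (h1 : i ≠ -1) (h0 : i ≠ 0) : IsZero ((E L p).X i) :=
  HomologicalComplex.isZero_double_X _ _ i h1 h0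

include hL in
lemma hφ (k : ℤ) (hk : (ComplexShape.up ℤ).Rel 0 k) : p ≫ L.d 0 k = 0 := by
  have hk' : (0 : ℤ) + 1 = k := hk
  exact (hL k (by omega) (by omega)).eq_of_tgt _ _

noncomputable def s : E L p ⟶ L :=
  HomologicalComplex.mkHomFromDouble (show (ComplexShape.up ℤ).Rel (-1) 0 by simp) (by norm_num)
    (pullback.snd p (L.d (-1) 0)) p pullback.condition.symm (hφ L hL p)

lemma s_f_neg_one : (s L hL p).f (-1) = (i0 L p).hom ≫ pullback.snd p (L.d (-1) 0) :=
  HomologicalComplex.mkHomFromDouble_f₀ _ _ _ _ _ _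

lemma s_f_zero : (s L hL p).f 0 = (i1 L p).hom ≫ p :=
  HomologicalComplex.mkHomFromDouble_f₁ _ _ _ _ _ _

theorem quasiIso_s (hp : Epi (biprod.desc p (L.d (-1) 0))) : QuasiIso (s L hL p) := by
  rw [quasiIso_iff]
  intro n
  rw [quasiIsoAt_iff_isIso_homologyMap]
  by_cases hn1 : n = -1
  · subst hn1
    haveI : Mono (HomologicalComplex.homologyMap (s L hL p) (-1)) := by
      rw [HomologicalComplex.mono_homologyMap_iff_up_to_refinements (s L hL p) (-2) (-1) 0
        (by simp) (by simp)]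
      intro A x₂ hx₂ y₁ hy₁
      have hy0 : y₁ = 0 := (hL (-2) (by norm_num) (by norm_num)).eq_of_tgt _ _
      have hx : x₂ = 0 := by
        rw [← cancel_mono (i0 L p).hom, zero_comp]
        apply pullback.hom_ext
        · have h1 : (x₂ ≫ (i0 L p).hom ≫ pullback.fst p (L.d (-1) 0)) ≫ (i1 L p).inv = 0 := by
            rw [assoc, assoc, ← E_d]
            exact hx₂
          rw [zero_comp, assoc, ← cancel_mono (i1 L p).inv, h1, zero_comp]
        · rw [zero_comp, assoc, ← s_f_neg_one L hL p, hy₁, hy0, zero_comp]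
      exact ⟨A, 𝟙 A, inferInstance, 0, by rw [hx, comp_zero, zero_comp]⟩
    haveI : Epi (HomologicalComplex.homologyMap (s L hL p) (-1)) := by
      rw [HomologicalComplex.epi_homologyMap_iff_up_to_refinements (s L hL p) (-2) (-1) 0
        (by simp) (by simp)]
      intro A y₂ hy₂
      refine ⟨A, 𝟙 A, inferInstance,
        pullback.lift 0 y₂ (by rw [zero_comp, hy₂]) ≫ (i0 L p).inv, ?_, 0, ?_⟩
      · rw [E_d, assoc, Iso.inv_hom_id_assoc, pullback.lift_fst_assoc, zero_comp]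
      · rw [s_f_neg_one, assoc, Iso.inv_hom_id_assoc, pullback.lift_snd, id_comp, zero_comp,
          add_zero]
    exact isIso_of_mono_of_epi _
  by_cases hn0 : n = 0
  · subst hn0
    haveI : Mono (HomologicalComplex.homologyMap (s L hL p) 0) := by
      rw [HomologicalComplex.mono_homologyMap_iff_up_to_refinements (s L hL p) (-1) 0 1
        (by simp) (by simp)]
      intro A x₂ hx₂ y₁ hy₁
      rw [s_f_zero] at hy₁
      refine ⟨A, 𝟙 A, inferInstance,
        pullback.lift (x₂ ≫ (i1 L p).hom) y₁ (by rw [assoc, hy₁]) ≫ (i0 L p).inv, ?_⟩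
      rw [id_comp, E_d, assoc, Iso.inv_hom_id_assoc, pullback.lift_fst_assoc, assoc,
        Iso.hom_inv_id, comp_id]
    haveI : Epi (HomologicalComplex.homologyMap (s L hL p) 0) := by
      rw [HomologicalComplex.epi_homologyMap_iff_up_to_refinements (s L hL p) (-1) 0 1
        (by simp) (by simp)]
      intro A y₂ hy₂
      haveI := hp
      refine ⟨pullback y₂ (biprod.desc p (L.d (-1) 0)), pullback.fst _ _, inferInstance,
        pullback.snd _ _ ≫ biprod.fst ≫ (i1 L p).inv,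
        (E_isZero L p 1 (by norm_num) (by norm_num)).eq_of_tgt _ _,
        pullback.snd _ _ ≫ biprod.snd, ?_⟩
      rw [pullback.condition, s_f_zero, biprod.desc_eq, Preadditive.comp_add]
      simp only [assoc, Iso.inv_hom_id_assoc]
    exact isIso_of_mono_of_epi _
  · have h1 : IsZero ((E L p).homology n) :=
      ShortComplex.isZero_homology_of_isZero_X₂ _ (E_isZero L p n hn1 hn0)
    have h2 : IsZero (L.homology n) :=
      ShortComplex.isZero_homology_of_isZero_X₂ _ (hL n hn1 hn0)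
    exact ⟨⟨0, h1.eq_of_src _ _, h2.eq_of_src _ _⟩⟩

end Construct

theorem exists_rep (L : CochainComplex C ℤ) (hL : ∀ i : ℤ, i ≠ -1 → i ≠ 0 → IsZero (L.X i))
    {F : C} (p : F ⟶ L.X 0) (hp : Epi (biprod.desc p (L.d (-1) 0))) :
    ∃ (E : CochainComplex C ℤ) (s : E ⟶ L) (_ : E.X 0 ≅ F),
      (∀ i : ℤ, i ≠ -1 → i ≠ 0 → IsZero (E.X i)) ∧ QuasiIso s :=
  ⟨E L p, s L hL p, i1 L p, E_isZero L p, quasiIso_s L hL p hp⟩

section Derived

open DerivedCategory

variable [HasDerivedCategory.{w} C]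

theorem exists_twoTerm (K : DerivedCategory C)
    (hK : ∀ i : ℤ, i ≠ -1 → i ≠ 0 → IsZero ((homologyFunctor C i).obj K)) :
    ∃ L : CochainComplex C ℤ, (∀ i : ℤ, i ≠ -1 → i ≠ 0 → IsZero (L.X i)) ∧
      Nonempty (Q.obj L ≅ K) := by
  haveI : K.IsGE (-1) := by
    rw [isGE_iff]
    intro i hi
    exact hK i (by omega) (by omega)
  haveI : K.IsLE 0 := by
    rw [isLE_iff]
    intro i hi
    exact hK i (by omega) (by omega)
  obtain ⟨L, h1, h2, ⟨e⟩⟩ := exists_iso_Q_obj_of_isGE_of_isLE K (-1) 0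
  refine ⟨L, fun i hi1 hi0 => ?_, ⟨e.symm⟩⟩
  by_cases h : i < -1
  · exact L.isZero_of_isStrictlyGE (-1) i h
  · exact L.isZero_of_isStrictlyLE 0 i (by omega)

/-- a two-term representative with prescribed degree-zero term. -/
theorem exists_twoTerm_of_epi (L : CochainComplex C ℤ)
    (hL : ∀ i : ℤ, i ≠ -1 → i ≠ 0 → IsZero (L.X i))
    {F : C} (p : F ⟶ L.X 0) (hp : Epi (biprod.desc p (L.d (-1) 0))) :
    ∃ (E : CochainComplex C ℤ) (_ : E.X 0 ≅ F),
      (∀ i : ℤ, i ≠ -1 → i ≠ 0 → IsZero (E.X i)) ∧ Nonempty (Q.obj E ≅ Q.obj L) := by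
  obtain ⟨E, s, e0, hE, hs⟩ := exists_rep L hL p hp
  haveI : IsIso (Q.map s) := by
    rw [isIso_Q_map_iff_quasiIso]
    exact hs
  exact ⟨E, e0, hE, ⟨asIso (Q.map s)⟩⟩

end Derived

end Groth.Agent.Helper6.TwoTermRep
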