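import Mathlib

set_option autoImplicit false
set_option linter.style.haveILetI false

universe v u

open CategoryTheory Category Limits

namespace Groth.Agent.Helper6.TwoTermSplit

variable {C : Type u} [Category.{v} C] [Abelian C]

lemma isZero_homology_iff_mono (E : CochainComplex C ℤ)
    (hE : ∀ i : ℤ, i ≠ -1 → i ≠ 0 → IsZero (E.X i)) :
    IsZero (E.homology (-1)) ↔ Mono (E.d (-1) 0) := by
  rw [← HomologicalComplex.exactAt_iff_isZero_homology,
    E.exactAt_iff' (-2) (-1) 0 (by simp) (by simp)]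
  exact ShortComplex.exact_iff_mono _
    ((hE (-2) (by norm_num) (by norm_num)).eq_of_src _ _)

/-- for a two-term complex with projective degree-zero term, the differential has a retraction
iff `H^{-1} = 0` and `H^0` is projective. -/
theorem retraction_iff (E : CochainComplex C ℤ)
    (hE : ∀ i : ℤ, i ≠ -1 → i ≠ 0 → IsZero (E.X i)) [Projective (E.X 0)] :
    (∃ r : E.X 0 ⟶ E.X (-1), E.d (-1) 0 ≫ r = 𝟙 _) ↔
      IsZero (E.homology (-1)) ∧ Projective (E.homology 0) := by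
  have hq := E.opcyclesIsCokernel (-1) 0 (by simp)
  have h01 : E.d 0 1 = 0 := (hE 1 (by norm_num) (by norm_num)).eq_of_tgt _ _
  have j : E.homology 0 ≅ E.opcycles 0 := E.isoHomologyι 0 1 (by simp) h01
  have hdq : E.d (-1) 0 ≫ E.pOpcycles 0 = 0 := E.d_pOpcycles (-1) 0
  rw [isZero_homology_iff_mono E hE]
  constructor
  · rintro ⟨r, hr⟩
    have hmono : Mono (E.d (-1) 0) := by
      haveI : Mono (E.d (-1) 0 ≫ r) := by rw [hr]; infer_instance
      exact mono_of_mono (E.d (-1) 0) r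
    refine ⟨hmono, ?_⟩
    have h0 : E.d (-1) 0 ≫ (𝟙 (E.X 0) - r ≫ E.d (-1) 0) = 0 := by
      rw [Preadditive.comp_sub, comp_id, ← assoc, hr, id_comp, sub_self]
    obtain ⟨σ, hσ'⟩ : ∃ σ : E.opcycles 0 ⟶ E.X 0,
        E.pOpcycles 0 ≫ σ = 𝟙 (E.X 0) - r ≫ E.d (-1) 0 := by
      obtain ⟨σ, hσ⟩ := CokernelCofork.IsColimit.desc' hq _ h0
      exact ⟨σ, hσ⟩
    have hσq : σ ≫ E.pOpcycles 0 = 𝟙 _ := by
      rw [← cancel_epi (E.pOpcycles 0), ← assoc, hσ', Preadditive.sub_comp, id_comp, assoc, hdq,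
        comp_zero, sub_zero, comp_id]
    have hP : Projective (E.opcycles 0) :=
      ⟨fun f e _ => ⟨σ ≫ Projective.factorThru (E.pOpcycles 0 ≫ f) e, by
        rw [assoc, Projective.factorThru_comp, ← assoc, hσq, id_comp]⟩⟩
    exact Projective.of_iso j.symm hP
  · rintro ⟨hmono, hproj⟩
    haveI := hmono
    haveI : Projective (E.opcycles 0) := Projective.of_iso j hproj
    have hσq : Projective.factorThru (𝟙 (E.opcycles 0)) (E.pOpcycles 0) ≫ E.pOpcycles 0 = 𝟙 _ :=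
      Projective.factorThru_comp _ _
    obtain ⟨σ, hσ⟩ : ∃ σ : E.opcycles 0 ⟶ E.X 0, σ ≫ E.pOpcycles 0 = 𝟙 _ := ⟨_, hσq⟩
    have hker := Abelian.monoIsKernelOfCokernel _ hq
    have h0 : (𝟙 (E.X 0) - E.pOpcycles 0 ≫ σ) ≫ E.pOpcycles 0 = 0 := by
      rw [Preadditive.sub_comp, id_comp, assoc, hσ, comp_id, sub_self]
    obtain ⟨r, hr'⟩ : ∃ r : E.X 0 ⟶ E.X (-1),
        r ≫ E.d (-1) 0 = 𝟙 (E.X 0) - E.pOpcycles 0 ≫ σ := by
      obtain ⟨r, hr⟩ := KernelFork.IsLimit.lift' hker _ h0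
      exact ⟨r, hr⟩
    refine ⟨r, ?_⟩
    rw [← cancel_mono (E.d (-1) 0), assoc, hr', Preadditive.comp_sub, comp_id, ← assoc, hdq,
      zero_comp, sub_zero, id_comp]

end Groth.Agent.Helper6.TwoTermSplit
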