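import Mathlib

set_option autoImplicit false

universe w v u t'

open CategoryTheory Category Limits Pretriangulated DerivedCategory

namespace Groth.Agent.Helper6.TwoTermT

section Lin

variable {R : Type*} [Ring R] {D : Type*} [Category D] [Preadditive D] [Linear R D]

lemma smul_eq_id_comp {X Y : D} (a : R) (f : X ⟶ Y) : a • f = (a • 𝟙 X) ≫ f := by
  rw [Linear.smul_comp, id_comp]

lemma kills_of_iso {X Y : D} (e : X ≅ Y) (a : R) (h : a • 𝟙 X = 0) : a • 𝟙 Y = 0 := by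
  have : a • 𝟙 Y = e.inv ≫ (a • 𝟙 X) ≫ e.hom := by
    rw [Linear.smul_comp, Linear.comp_smul, id_comp, e.inv_hom_id]
  rw [this, h, zero_comp, comp_zero]

end Lin

variable {R : Type t'} [CommRing R] {C : Type u} [Category.{v} C] [Abelian C] [Linear R C]
  [HasDerivedCategory.{w} C]

/-- the truncation triangle of a complex with cohomology in degrees `-1` and `0`. -/
structure Data (K : DerivedCategory C) where
  X : DerivedCategory C
  Y : DerivedCategory C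
  f : X ⟶ K
  g : K ⟶ Y
  h : Y ⟶ X⟦(1 : ℤ)⟧
  dist : Triangle.mk f g h ∈ distTriang (DerivedCategory C)
  A : C
  B : C
  eX : X ≅ (singleFunctor C (-1)).obj A
  eY : Y ≅ (singleFunctor C 0).obj B
  α : A ≅ (homologyFunctor C (-1)).obj K
  β : B ≅ (homologyFunctor C 0).obj K

lemma exists_data (K : DerivedCategory C)
    (hK : ∀ i : ℤ, i ≠ -1 → i ≠ 0 → IsZero ((homologyFunctor C i).obj K)) :
    Nonempty (Data K) := by
  obtain ⟨X, Y, hX, hY, f, g, h, dist⟩ :=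
    (TStructure.t (C := C)).exists_triangle K (-1) 0 (by norm_num)
  haveI : X.IsLE (-1) := ⟨hX⟩
  haveI : Y.IsGE 0 := ⟨hY⟩
  have HXz : ∀ i : ℤ, i ≠ -1 → IsZero ((homologyFunctor C i).obj X) := by
    intro i hi
    by_cases h1 : -1 < i
    · exact X.isZero_of_isLE (-1) i h1
    · have h2 : i < -1 := by omega
      refine (HomologySequence.exact₁ _ dist (i - 1) i (by omega)).isZero_of_both_zeros ?_ ?_
      · exact (Y.isZero_of_isGE 0 (i - 1) (by omega)).eq_of_src _ _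
      · exact (hK i (by omega) (by omega)).eq_of_tgt _ _
  have HYz : ∀ i : ℤ, i ≠ 0 → IsZero ((homologyFunctor C i).obj Y) := by
    intro i hi
    by_cases h1 : i < 0
    · exact Y.isZero_of_isGE 0 i h1
    · have h2 : 0 < i := by omega
      refine (HomologySequence.exact₃ _ dist i (i + 1) rfl).isZero_of_both_zeros ?_ ?_
      · exact (hK i (by omega) (by omega)).eq_of_src _ _
      · exact (HXz (i + 1) (by omega)).eq_of_tgt _ _
  haveI : X.IsGE (-1) := by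
    rw [isGE_iff]
    intro i hi
    exact HXz i (by omega)
  haveI : Y.IsLE 0 := by
    rw [isLE_iff]
    intro i hi
    exact HYz i (by omega)
  obtain ⟨A, ⟨eX⟩⟩ := exists_iso_singleFunctor_obj_of_isGE_of_isLE X (-1)
  obtain ⟨B, ⟨eY⟩⟩ := exists_iso_singleFunctor_obj_of_isGE_of_isLE Y 0
  haveI : IsIso ((homologyFunctor C (-1)).map f) := by
    haveI : Mono ((homologyFunctor C (-1)).map f) :=
      (HomologySequence.mono_homologyMap_mor₁_iff _ dist (-2) (-1) (by norm_num)).2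
        ((HYz (-2) (by norm_num)).eq_of_src _ _)
    haveI : Epi ((homologyFunctor C (-1)).map f) :=
      (HomologySequence.epi_homologyMap_mor₁_iff _ dist (-1)).2
        ((HYz (-1) (by norm_num)).eq_of_tgt _ _)
    exact isIso_of_mono_of_epi _
  haveI : IsIso ((homologyFunctor C 0).map g) := by
    haveI : Mono ((homologyFunctor C 0).map g) :=
      (HomologySequence.mono_homologyMap_mor₂_iff _ dist 0).2
        ((HXz 0 (by norm_num)).eq_of_src _ _)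
    haveI : Epi ((homologyFunctor C 0).map g) :=
      (HomologySequence.epi_homologyMap_mor₂_iff _ dist 0 1 (by norm_num)).2
        ((HXz 1 (by norm_num)).eq_of_tgt _ _)
    exact isIso_of_mono_of_epi _
  exact ⟨{ X := X, Y := Y, f := f, g := g, h := h, dist := dist, A := A, B := B, eX := eX, eY := eY
           α := ((singleFunctorCompHomologyFunctorIso C (-1)).app A).symm ≪≫
             (homologyFunctor C (-1)).mapIso eX.symm ≪≫ asIso ((homologyFunctor C (-1)).map f)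
           β := ((singleFunctorCompHomologyFunctorIso C 0).app B).symm ≪≫
             (homologyFunctor C 0).mapIso eY.symm ≪≫
             (asIso ((homologyFunctor C 0).map g)).symm }⟩

/-- `N[1]` as `Q` of a single complex. -/
noncomputable def eIso' (N : C) : ((singleFunctor C 0).obj N)⟦(1 : ℤ)⟧ ≅
    Q.obj ((CochainComplex.singleFunctor C (-1)).obj N) :=
  ((singleFunctors C).shiftIso 1 (-1) 0 (by norm_num)).app N ≪≫
    (singleFunctorIsoCompQ C (-1)).app N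

variable {K : DerivedCategory C} (d : Data K)

lemma V1 (N : C) (ψ : d.X⟦(1 : ℤ)⟧ ⟶ ((singleFunctor C 0).obj N)⟦(1 : ℤ)⟧) : ψ = 0 := by
  haveI : d.X.IsLE (-1) := (TStructure.t).isLE_of_iso d.eX.symm (-1)
  haveI : (TStructure.t (C := C)).IsLE (d.X⟦(1 : ℤ)⟧) (-2) :=
    (TStructure.t).isLE_shift d.X (-1) 1 (-2) (by norm_num)
  haveI : (TStructure.t (C := C)).IsGE (((singleFunctor C 0).obj N)⟦(1 : ℤ)⟧) (-1) :=
    (TStructure.t).isGE_shift ((singleFunctor C 0).obj N) 0 1 (-1) (by norm_num)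
  exact (TStructure.t).zero ψ (-2) (-1) (by norm_num)

lemma V2 (E : C) [Injective E]
    (φ : d.Y⟦(-1 : ℤ)⟧ ⟶ ((singleFunctor C 0).obj E)⟦(1 : ℤ)⟧) : φ = 0 := by
  haveI : d.Y.IsGE 0 := (TStructure.t).isGE_of_iso d.eY.symm 0
  haveI : (d.Y⟦(-1 : ℤ)⟧).IsGE 1 := (TStructure.t).isGE_shift d.Y 0 (-1) 1 (by norm_num)
  obtain ⟨K', hK', ⟨e⟩⟩ := exists_iso_Q_obj_of_isGE (d.Y⟦(-1 : ℤ)⟧) 1
  have h0 : e.inv ≫ φ ≫ (eIso' E).hom = 0 :=
    to_singleFunctor_obj_eq_zero_of_injective (K := K') (i := -1) _ 1 (by norm_num)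
  have : φ = e.hom ≫ (e.inv ≫ φ ≫ (eIso' E).hom) ≫ (eIso' E).inv := by simp
  rw [this, h0, zero_comp, comp_zero]

include d in
lemma P2b_of_P1 (a : R) (N : C)
    (H : ∀ ξ : K ⟶ ((singleFunctor C 0).obj N)⟦(1 : ℤ)⟧, a • ξ = 0)
    (ξ : (singleFunctor C 0).obj ((homologyFunctor C 0).obj K) ⟶
      ((singleFunctor C 0).obj N)⟦(1 : ℤ)⟧) :
    a • ξ = 0 := by
  obtain ⟨u, -⟩ : ∃ u : d.Y ≅ (singleFunctor C 0).obj ((homologyFunctor C 0).obj K), u = u :=
    ⟨d.eY ≪≫ (singleFunctor C 0).mapIso d.β, rfl⟩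
  have h1 : d.g ≫ (a • (u.hom ≫ ξ)) = 0 := by
    rw [Linear.comp_smul]
    exact H _
  obtain ⟨ψ, hψ⟩ : ∃ ψ : d.X⟦(1 : ℤ)⟧ ⟶ ((singleFunctor C 0).obj N)⟦(1 : ℤ)⟧,
      a • (u.hom ≫ ξ) = d.h ≫ ψ := Triangle.yoneda_exact₃ _ d.dist (a • (u.hom ≫ ξ)) h1
  rw [V1 d N ψ, comp_zero] at hψ
  have : a • ξ = u.inv ≫ (a • (u.hom ≫ ξ)) := by
    rw [Linear.comp_smul, u.inv_hom_id_assoc]
  rw [this, hψ, comp_zero]

include d in
lemma P2a_of_P1 [EnoughInjectives C] (a : R)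
    (H : ∀ (N : C) (ξ : K ⟶ ((singleFunctor C 0).obj N)⟦(1 : ℤ)⟧), a • ξ = 0) :
    a • 𝟙 ((homologyFunctor C (-1)).obj K) = 0 := by
  apply kills_of_iso d.α
  obtain ⟨s, -⟩ : ∃ s : (singleFunctor C (-1)).obj d.A ≅
      ((singleFunctor C 0).obj d.A)⟦(1 : ℤ)⟧, s = s :=
    ⟨(((singleFunctors C).shiftIso 1 (-1) 0 (by norm_num)).app d.A).symm, rfl⟩
  obtain ⟨ψ, hψdef⟩ : ∃ ψ : d.X ⟶ ((singleFunctor C 0).obj (Injective.under d.A))⟦(1 : ℤ)⟧,
      ψ = d.eX.hom ≫ s.hom ≫ ((singleFunctor C 0).map (Injective.ι d.A))⟦(1 : ℤ)⟧' := ⟨_, rfl⟩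
  have hψ0 : (Triangle.mk d.f d.g d.h).invRotate.mor₁ ≫ ψ = 0 := V2 d (Injective.under d.A) _
  obtain ⟨ξ, hξ⟩ : ∃ ξ : K ⟶ ((singleFunctor C 0).obj (Injective.under d.A))⟦(1 : ℤ)⟧,
      ψ = d.f ≫ ξ :=
    Triangle.yoneda_exact₂ _ (inv_rot_of_distTriang _ d.dist) ψ hψ0
  have h1 : a • ψ = 0 := by
    rw [hξ, ← Linear.comp_smul, H _ ξ, comp_zero]
  have h2 : a • ((singleFunctor C 0).map (Injective.ι d.A))⟦(1 : ℤ)⟧' = 0 := by
    have : ((singleFunctor C 0).map (Injective.ι d.A))⟦(1 : ℤ)⟧' = s.inv ≫ d.eX.inv ≫ ψ := by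
      rw [hψdef]
      simp
    rw [this, ← Linear.comp_smul, ← Linear.comp_smul, h1, comp_zero, comp_zero]
  have h3 : a • Injective.ι d.A = 0 := by
    apply (singleFunctor C 0).map_injective
    apply (shiftFunctor (DerivedCategory C) (1 : ℤ)).map_injective
    rw [Functor.map_smul, Functor.map_smul, h2, Functor.map_zero, Functor.map_zero]
  rw [← cancel_mono (Injective.ι d.A), Linear.smul_comp, id_comp, h3, zero_comp]

include d in
lemma P1_of_P2 (a b : R) (N : C) (hb : b • 𝟙 ((homologyFunctor C (-1)).obj K) = 0)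
    (ha : ∀ ξ : (singleFunctor C 0).obj ((homologyFunctor C 0).obj K) ⟶
      ((singleFunctor C 0).obj N)⟦(1 : ℤ)⟧, a • ξ = 0)
    (ξ : K ⟶ ((singleFunctor C 0).obj N)⟦(1 : ℤ)⟧) : (a * b) • ξ = 0 := by
  have hA : b • 𝟙 d.A = 0 := kills_of_iso d.α.symm b hb
  have hX : b • 𝟙 d.X = 0 := by
    apply kills_of_iso d.eX.symm
    rw [← CategoryTheory.Functor.map_id, ← CategoryTheory.Functor.map_smul, hA, Functor.map_zero]
  have h1 : d.f ≫ (b • ξ) = 0 := by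
    rw [Linear.comp_smul, smul_eq_id_comp b (d.f ≫ ξ), hX, zero_comp]
  obtain ⟨ζ, hζ⟩ : ∃ ζ : d.Y ⟶ ((singleFunctor C 0).obj N)⟦(1 : ℤ)⟧, b • ξ = d.g ≫ ζ :=
    Triangle.yoneda_exact₂ _ d.dist (b • ξ) h1
  obtain ⟨u, -⟩ : ∃ u : d.Y ≅ (singleFunctor C 0).obj ((homologyFunctor C 0).obj K), u = u :=
    ⟨d.eY ≪≫ (singleFunctor C 0).mapIso d.β, rfl⟩
  have h2 : a • ζ = 0 := by
    have : a • ζ = u.hom ≫ (a • (u.inv ≫ ζ)) := by
      rw [Linear.comp_smul, u.hom_inv_id_assoc]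
    rw [this, ha, comp_zero]
  rw [mul_smul, hζ, ← Linear.comp_smul, h2, comp_zero]

theorem main_iff [EnoughInjectives C] (I : Ideal R) (K : DerivedCategory C)
    (hK : ∀ i : ℤ, i ≠ -1 → i ≠ 0 → IsZero ((homologyFunctor C i).obj K)) :
    (∃ c : ℕ, ∀ (N : C) (a : R), a ∈ I ^ c →
        ∀ ξ : K ⟶ ((singleFunctor C 0).obj N)⟦(1 : ℤ)⟧, a • ξ = 0) ↔
      ∃ c : ℕ, (∀ a : R, a ∈ I ^ c → a • 𝟙 ((homologyFunctor C (-1)).obj K) = 0) ∧
        ∀ (N : C) (a : R), a ∈ I ^ c →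
          ∀ ξ : (singleFunctor C 0).obj ((homologyFunctor C 0).obj K) ⟶
            ((singleFunctor C 0).obj N)⟦(1 : ℤ)⟧, a • ξ = 0 := by
  obtain ⟨d⟩ := exists_data K hK
  constructor
  · rintro ⟨c, H⟩
    exact ⟨c, fun a ha => P2a_of_P1 d a (fun N ξ => H N a ha ξ),
      fun N a ha ξ => P2b_of_P1 d a N (fun ξ => H N a ha ξ) ξ⟩
  · rintro ⟨c, H1, H2⟩
    refine ⟨c + c, fun N x hx ξ => ?_⟩
    rw [pow_add] at hx
    refine Submodule.mul_induction_on (C := fun r => r • ξ = 0) hx ?_ ?_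
    · intro a ha b hb
      exact P1_of_P2 d a b N (H1 b hb) (H2 N a ha) ξ
    · intro x y hx hy
      show (x + y) • ξ = 0
      rw [add_smul, hx, hy, add_zero]

end Groth.Agent.Helper6.TwoTermT
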