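import Mathlib
import Groth.Prelude.Def_W4stkdualitygroupp2Univ

set_option autoImplicit false

namespace Groth.Agent.Helper6.UnivAlgEtale

open MvPolynomial Synt Algebra

variable (n d : ℕ) (hd : 1 ≤ d)

/-- the naive pre-submersive presentation of UnivAlg -/
noncomputable def P : PreSubmersivePresentation (UnivBase n d) (UnivAlg n d) (Fin n) (Fin n) :=
  PreSubmersivePresentation.naive (v := univPoly n d) id Function.injective_id

include hd in
lemma one_lt : 1 < d + 1 := by omega

/-- the unit vector index -/
def e (i : Fin n) : UnivIdx n d :=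
  ⟨fun j => if j = i then ⟨1, one_lt d hd⟩ else ⟨0, Nat.succ_pos d⟩, by
    have h : ∀ j : Fin n, ((if j = i then (⟨1, one_lt d hd⟩ : Fin (d + 1))
        else ⟨0, Nat.succ_pos d⟩ : Fin (d + 1)) : ℕ) = if j = i then 1 else 0 := by
      intro j; split_ifs <;> rfl
    simp only [h, Finset.sum_ite_eq', Finset.mem_univ, if_true]
    exact hd⟩

lemma e_exponent (i : Fin n) : (e n d hd i).exponent = Finsupp.single i 1 := by
  ext j
  by_cases h : j = i
  · subst h; simp [UnivIdx.exponent, e]
  · simp [UnivIdx.exponent, e, h, Finsupp.single_eq_of_ne h]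

/-- the point: a_{i,E} = 1 if E = e_i, 0 otherwise -/
noncomputable def pt (p : Fin n × UnivIdx n d) : ℤ := if p.2 = e n d hd p.1 then 1 else 0

noncomputable def chi0 : MvPolynomial (Fin n) (UnivBase n d) →+* ℤ :=
  (MvPolynomial.eval (pt n d hd)).comp constantCoeff

lemma chi0_monomial (s : Fin n →₀ ℕ) (a : UnivBase n d) :
    chi0 n d hd (monomial s a) = if s = 0 then MvPolynomial.eval (pt n d hd) a else 0 := by
  classical
  simp only [chi0, RingHom.comp_apply, constantCoeff_monomial]
  split_ifs <;> simp

lemma chi0_univPoly (i : Fin n) : chi0 n d hd (univPoly n d i) = 0 := by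
  rw [univPoly, map_sum]
  apply Finset.sum_eq_zero
  intro E _
  rw [chi0_monomial]
  split_ifs with h
  · rw [eval_X]
    unfold pt
    rw [if_neg]
    intro hE
    have hE' : E = e n d hd i := hE
    rw [hE', e_exponent] at h
    simp at h
  · rfl

lemma chi0_pderiv (i j : Fin n) :
    chi0 n d hd (pderiv i (univPoly n d j)) = if i = j then 1 else 0 := by
  rw [univPoly, map_sum, map_sum]
  rw [Finset.sum_eq_single (e n d hd j)]
  · rw [pderiv_monomial, chi0_monomial, e_exponent]
    by_cases h : i = j
    · subst h; simp [pt]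
    · have h0 : (Finsupp.single j 1 : Fin n →₀ ℕ) i = 0 := Finsupp.single_eq_of_ne h
      simp [h0, h]
  · intro E _ hE
    rw [pderiv_monomial, chi0_monomial]
    simp [pt, hE]
  · intro h; exact absurd (Finset.mem_univ _) h

noncomputable def chi : UnivAlg n d →+* ℤ :=
  Ideal.Quotient.lift (univIdeal n d) (chi0 n d hd) (by
    have hle : univIdeal n d ≤ RingHom.ker (chi0 n d hd) := by
      rw [univIdeal, Ideal.span_le]
      rintro _ ⟨i, rfl⟩
      exact (RingHom.mem_ker).mpr (chi0_univPoly n d hd i)
    exact fun a ha => (RingHom.mem_ker).mp (hle ha))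

lemma chi_jacobian : chi n d hd (P n d).jacobian = 1 := by
  classical
  have h1 : (P n d).jacobian =
      algebraMap (P n d).Ring (UnivAlg n d) (P n d).jacobiMatrix.det :=
    PreSubmersivePresentation.jacobian_eq_jacobiMatrix_det _
  have h2 : chi n d hd (P n d).jacobian = chi0 n d hd (P n d).jacobiMatrix.det := by
    rw [h1]
    exact Ideal.Quotient.lift_mk (univIdeal n d) (chi0 n d hd) _
  rw [h2, RingHom.map_det]
  have : (chi0 n d hd).mapMatrix (P n d).jacobiMatrix = 1 := by
    ext i j
    rw [RingHom.mapMatrix_apply, Matrix.map_apply, PreSubmersivePresentation.jacobiMatrix_apply]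
    show chi0 n d hd (pderiv i (univPoly n d j)) = _
    rw [chi0_pderiv, Matrix.one_apply]
  rw [this, Matrix.det_one]

include hd in
theorem exists_prime : ∃ q : PrimeSpectrum (UnivAlg n d),
    Algebra.QuasiFiniteAt (UnivBase n d) q.asIdeal ∧ Algebra.IsEtaleAt (UnivBase n d) q.asIdeal := by
  classical
  have hJ := chi_jacobian n d hd
  set J : UnivAlg n d := (P n d).jacobian with hJdef
  let T := Localization.Away J
  let subP : SubmersivePresentation (UnivBase n d) T (Unit ⊕ Fin n) (Unit ⊕ Fin n) :=
    { toPreSubmersivePresentation := (PreSubmersivePresentation.localizationAway T J).comp (P n d)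
      jacobian_isUnit := by
        rw [PreSubmersivePresentation.comp_jacobian_eq_jacobian_smul_jacobian, Algebra.smul_def,
          IsUnit.mul_iff]
        refine ⟨IsLocalization.Away.algebraMap_isUnit J, ?_⟩
        rw [PreSubmersivePresentation.localizationAway_jacobian]
        exact IsLocalization.Away.algebraMap_isUnit J }
  have hsm : IsStandardSmoothOfRelativeDimension 0 (UnivBase n d) T :=
    subP.isStandardSmoothOfRelativeDimension (Nat.sub_self _)
  have het : Algebra.FormallyEtale (UnivBase n d) T := inferInstance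
  have hsub := Algebra.basicOpen_subset_etaleLocus_iff.mpr het
  obtain ⟨q, hqdef⟩ : ∃ q : PrimeSpectrum (UnivAlg n d), q.asIdeal = RingHom.ker (chi n d hd) :=
    ⟨⟨_, RingHom.ker_isPrime _⟩, rfl⟩
  have hq : q ∈ (PrimeSpectrum.basicOpen J : Set (PrimeSpectrum (UnivAlg n d))) := by
    show J ∉ q.asIdeal
    rw [hqdef, RingHom.mem_ker, hJ]
    exact one_ne_zero
  have hetq : Algebra.IsEtaleAt (UnivBase n d) q.asIdeal := hsub hq
  refine ⟨q, ?_, hetq⟩
  have : Algebra.FiniteType (UnivBase n d) (UnivAlg n d) :=
    (P n d).toPresentation.toGenerators.finiteType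
  have : Algebra.FormallyEtale (UnivBase n d) (Localization.AtPrime q.asIdeal) := hetq
  show Algebra.QuasiFinite (UnivBase n d) (Localization.AtPrime q.asIdeal)
  infer_instance

end Groth.Agent.Helper6.UnivAlgEtale
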