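import Mathlib
import Groth.Prelude.Def_W4stkdualitygroupp2Univ

set_option autoImplicit false

namespace Groth.Agent.Helper6.UnivAlgIso

open MvPolynomial Synt

variable (n d : ℕ)

/-- zero exponent index -/
def E0 : UnivIdx n d := ⟨fun _ => 0, by simp⟩

lemma E0_exponent : (E0 n d).exponent = 0 := by
  ext i
  simp [UnivIdx.exponent, E0]

abbrev Tau : Type := {p : Fin n × UnivIdx n d // p.2 ≠ E0 n d}

abbrev P : Type := MvPolynomial (Fin n) (MvPolynomial (Tau n d) ℤ)

noncomputable def g (i : Fin n) (E : UnivIdx n d) : P n d :=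
  if h : E = E0 n d then 0 else C (X ⟨(i, E), h⟩) * monomial E.exponent 1

noncomputable def G (i : Fin n) : P n d := ∑ E : UnivIdx n d, g n d i E

noncomputable def psiX (p : Fin n × UnivIdx n d) : P n d :=
  if h : p.2 = E0 n d then - G n d p.1 else C (X ⟨p, h⟩)

noncomputable def psi : UnivBase n d →+* P n d :=
  eval₂Hom (Int.castRingHom _) (psiX n d)

noncomputable def phi : MvPolynomial (Fin n) (UnivBase n d) →+* P n d :=
  eval₂Hom (psi n d) X

lemma phi_monomial (e : Fin n →₀ ℕ) (a : UnivBase n d) :
    phi n d (monomial e a) = psi n d a * monomial e 1 := by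
  simp only [phi, coe_eval₂Hom, eval₂_monomial]
  rw [monomial_eq, C_1, one_mul]

lemma psi_X (p : Fin n × UnivIdx n d) : psi n d (X p) = psiX n d p := by
  simp [psi]

lemma psiX_E0 (i : Fin n) : psiX n d (i, E0 n d) = - G n d i := by
  simp [psiX]

lemma psiX_ne (i : Fin n) (E : UnivIdx n d) (h : E ≠ E0 n d) :
    psiX n d (i, E) = C (X ⟨(i, E), h⟩) := by
  simp [psiX, h]

lemma term_eq (i : Fin n) (E : UnivIdx n d) :
    psi n d (X (i, E)) * monomial E.exponent 1 =
      (if E = E0 n d then - G n d i else 0) + g n d i E := by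
  rw [psi_X]
  by_cases h : E = E0 n d
  · subst h
    simp [psiX_E0, g, E0_exponent]
  · simp [psiX_ne n d i E h, g, h]

lemma phi_univPoly (i : Fin n) : phi n d (univPoly n d i) = 0 := by
  rw [univPoly, map_sum]
  simp_rw [phi_monomial, term_eq]
  rw [Finset.sum_add_distrib, Finset.sum_ite_eq']
  simp [G]

lemma univIdeal_le_ker : univIdeal n d ≤ RingHom.ker (phi n d) := by
  rw [univIdeal, Ideal.span_le]
  rintro _ ⟨i, rfl⟩
  exact (RingHom.mem_ker).mpr (phi_univPoly n d i)

noncomputable def phibar : UnivAlg n d →+* P n d :=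
  Ideal.Quotient.lift (univIdeal n d) (phi n d)
    (fun _ ha => (RingHom.mem_ker).mp (univIdeal_le_ker n d ha))

noncomputable def mkR : MvPolynomial (Fin n) (UnivBase n d) →+* UnivAlg n d :=
  Ideal.Quotient.mk (univIdeal n d)

lemma mkR_surjective : Function.Surjective (mkR n d) := Ideal.Quotient.mk_surjective

lemma phibar_mkR (x : MvPolynomial (Fin n) (UnivBase n d)) :
    phibar n d (mkR n d x) = phi n d x :=
  Ideal.Quotient.lift_mk (univIdeal n d) (phi n d) _

lemma mkR_univPoly (i : Fin n) : mkR n d (univPoly n d i) = 0 :=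
  Ideal.Quotient.eq_zero_iff_mem.mpr (Ideal.subset_span ⟨i, rfl⟩)

noncomputable def renameHom : MvPolynomial (Tau n d) ℤ →+* UnivBase n d :=
  (rename (Subtype.val : Tau n d → Fin n × UnivIdx n d) :
    MvPolynomial (Tau n d) ℤ →ₐ[ℤ] UnivBase n d).toRingHom

lemma renameHom_X (p : Tau n d) : renameHom n d (X p) = X p.1 := by
  simp [renameHom]

noncomputable def theta' : P n d →+* MvPolynomial (Fin n) (UnivBase n d) :=
  MvPolynomial.map (renameHom n d)

lemma psi_comp_renameHom : (psi n d).comp (renameHom n d) = C := by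
  apply MvPolynomial.ringHom_ext
  · intro r
    exact RingHom.congr_fun (RingHom.ext_int (((psi n d).comp (renameHom n d)).comp C)
      ((C : _ →+* P n d).comp C)) r
  · intro p
    simp only [RingHom.comp_apply, renameHom_X, psi_X]
    rw [psiX_ne n d p.1.1 p.1.2 p.2]

lemma phi_comp_theta' : (phi n d).comp (theta' n d) = RingHom.id _ := by
  apply MvPolynomial.ringHom_ext
  · intro r
    simp only [RingHom.comp_apply, theta', map_C, phi, eval₂Hom_C, RingHom.id_apply]
    exact RingHom.congr_fun (psi_comp_renameHom n d) r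
  · intro j
    simp [theta', phi]

lemma term2 (i : Fin n) (E : UnivIdx n d) :
    mkR n d (theta' n d (g n d i E)) +
        (if E = E0 n d then mkR n d (C (X (i, E0 n d))) else 0)
      = mkR n d (monomial E.exponent (X (i, E))) := by
  by_cases h : E = E0 n d
  · subst h
    simp [g, E0_exponent]
  · have h1 : theta' n d (g n d i E) = monomial E.exponent (X (i, E)) := by
      simp [g, h, theta', renameHom_X, C_mul_monomial]
    simp [h1, h]

lemma key (i : Fin n) :
    mkR n d (theta' n d (G n d i)) + mkR n d (C (X (i, E0 n d))) = 0 := by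
  have h0 : mkR n d (univPoly n d i) = 0 := mkR_univPoly n d i
  rw [univPoly, map_sum] at h0
  have h1 : ∑ E : UnivIdx n d, mkR n d (monomial E.exponent (X (i, E))) =
      ∑ E : UnivIdx n d, (mkR n d (theta' n d (g n d i E)) +
        (if E = E0 n d then mkR n d (C (X (i, E0 n d))) else 0)) :=
    Finset.sum_congr rfl (fun E _ => (term2 n d i E).symm)
  rw [Finset.sum_add_distrib, Finset.sum_ite_eq'] at h1
  simp only [Finset.mem_univ, if_true] at h1
  rw [G, map_sum, map_sum, ← h1, h0]

lemma mk_theta'_psi :
    ((mkR n d).comp (theta' n d)).comp (psi n d) = (mkR n d).comp C := by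
  apply MvPolynomial.ringHom_ext
  · intro r
    exact RingHom.congr_fun (RingHom.ext_int
      ((((mkR n d).comp (theta' n d)).comp (psi n d)).comp C) (((mkR n d).comp C).comp C)) r
  · rintro ⟨i, E⟩
    simp only [RingHom.comp_apply, psi_X]
    by_cases h : E = E0 n d
    · subst h
      rw [psiX_E0, map_neg, map_neg, neg_eq_iff_eq_neg, ← add_eq_zero_iff_eq_neg]
      exact key n d i
    · rw [psiX_ne n d i E h]
      simp [theta', renameHom_X]

lemma theta_comp_phi : ((mkR n d).comp (theta' n d)).comp (phi n d) = mkR n d := by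
  apply MvPolynomial.ringHom_ext
  · intro a
    simp only [RingHom.comp_apply, phi, eval₂Hom_C]
    exact RingHom.congr_fun (mk_theta'_psi n d) a
  · intro j
    simp [phi, theta']

noncomputable def equiv : UnivAlg n d ≃+* P n d :=
  RingEquiv.ofRingHom (phibar n d) ((mkR n d).comp (theta' n d))
    (RingHom.ext fun x => by
      show phibar n d (mkR n d (theta' n d x)) = x
      rw [phibar_mkR]
      exact RingHom.congr_fun (phi_comp_theta' n d) x)
    (RingHom.ext fun y => by
      obtain ⟨x, rfl⟩ := mkR_surjective n d y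
      show mkR n d (theta' n d (phibar n d (mkR n d x))) = mkR n d x
      rw [phibar_mkR]
      exact RingHom.congr_fun (theta_comp_phi n d) x)

theorem isDomain : IsDomain (UnivAlg n d) := MulEquiv.isDomain (P n d) (equiv n d).toMulEquiv

theorem isRegularRing : IsRegularRing (UnivAlg n d) :=
  IsRegularRing.of_ringEquiv (equiv n d).symm

end Groth.Agent.Helper6.UnivAlgIso
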