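import Mathlib
import Groth.Prelude.Def_Pi1

/-! Descent of module/algebra properties along universally injective ring maps. -/

set_option autoImplicit false

open scoped TensorProduct

universe u

namespace Groth.Agent.Helper6.UnivInj

variable {R S : Type u} [CommRing R] [CommRing S] [Algebra R S]

theorem mk_one_injective (h : Pi1.UnivInjective R S) (P : Type u) [AddCommGroup P] [Module R P] :
    Function.Injective (TensorProduct.mk R S P 1) := by
  have h1 := h P
  intro x y hxy
  apply (TensorProduct.rid R P).symm.injective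
  apply h1
  apply (TensorProduct.comm R P S).injective
  simpa using hxy

theorem subsingleton_of_tensor (h : Pi1.UnivInjective R S) (P : Type u) [AddCommGroup P]
    [Module R P] [Subsingleton (S ⊗[R] P)] : Subsingleton P :=
  (mk_one_injective h P).subsingleton

theorem surjective_of_lTensor (h : Pi1.UnivInjective R S) {N M : Type u} [AddCommGroup N]
    [Module R N] [AddCommGroup M] [Module R M] (f : N →ₗ[R] M)
    (hf : ∀ z : S ⊗[R] M, ∃ w : S ⊗[R] N, f.lTensor S w = z) :
    Function.Surjective f := by
  intro m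
  have hinj := mk_one_injective h (M ⧸ LinearMap.range f)
  have h0 : (LinearMap.range f).mkQ m = 0 := by
    apply hinj
    rw [map_zero]
    obtain ⟨z, hz⟩ := hf (1 ⊗ₜ m)
    have e : TensorProduct.mk R S _ 1 ((LinearMap.range f).mkQ m) =
        ((LinearMap.range f).mkQ.lTensor S) (f.lTensor S z) := by
      rw [hz]; simp
    rw [e, ← LinearMap.comp_apply, ← LinearMap.lTensor_comp, LinearMap.range_mkQ_comp,
      LinearMap.lTensor_zero, LinearMap.zero_apply]
  rw [Submodule.mkQ_apply, Submodule.Quotient.mk_eq_zero] at h0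
  exact LinearMap.mem_range.mp h0

theorem injective_of_lTensor (h : Pi1.UnivInjective R S) {N M : Type u} [AddCommGroup N]
    [Module R N] [AddCommGroup M] [Module R M] (f : N →ₗ[R] M)
    (hf : Function.Injective (f.lTensor S)) : Function.Injective f := by
  intro x y hxy
  apply mk_one_injective h N
  apply hf
  simp [hxy]

theorem finite (h : Pi1.UnivInjective R S) (M : Type u) [AddCommGroup M] [Module R M]
    [Module.Finite S (S ⊗[R] M)] : Module.Finite R M := by
  obtain ⟨n, s, hs⟩ := Module.Finite.exists_fin (R := S) (M := S ⊗[R] M)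
  choose k t m hm using fun i : Fin n ↦ TensorProduct.exists_sum_tmul_eq (s i)
  let f₀ : ((Σ i, Fin (k i)) → R) →ₗ[R] M := (Pi.basisFun R _).constr R fun ⟨i, j⟩ ↦ m i j
  apply Module.Finite.of_surjective f₀
  have hsurj : Function.Surjective (TensorProduct.AlgebraTensorModule.lTensor S S f₀) := by
    rw [← LinearMap.range_eq_top, eq_top_iff, ← hs, Submodule.span_le, Set.range_subset_iff]
    intro i
    use ∑ (j : Fin (k i)), t i j ⊗ₜ Pi.basisFun R _ ⟨i, j⟩
    simp [f₀, -Pi.basisFun_equivFun, -Pi.basisFun_apply, hm i]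
  apply surjective_of_lTensor h f₀
  intro z
  obtain ⟨w, hw⟩ := hsurj z
  exact ⟨w, hw⟩

theorem finiteType (h : Pi1.UnivInjective R S) (A : Type u) [CommRing A] [Algebra R A]
    [Algebra.FiniteType S (S ⊗[R] A)] : Algebra.FiniteType R A := by
  obtain ⟨s, hs⟩ := Algebra.FiniteType.out (R := S) (A := S ⊗[R] A)
  have (x : s) := TensorProduct.exists_sum_tmul_eq x.1
  choose k t m hm using this
  let f : MvPolynomial (Σ x : s, Fin (k x)) R →ₐ[R] A := MvPolynomial.aeval (fun ⟨x, i⟩ ↦ m x i)
  apply Algebra.FiniteType.of_surjective f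
  have hf : Function.Surjective (Algebra.TensorProduct.map (.id S S) f) := by
    rw [← AlgHom.range_eq_top, _root_.eq_top_iff, ← hs, Algebra.adjoin_le_iff]
    intro x hx
    let i : s := ⟨x, hx⟩
    use ∑ (j : Fin (k i)), t i j ⊗ₜ MvPolynomial.X ⟨i, j⟩
    simp [f, ← hm, i]
  apply surjective_of_lTensor h f.toLinearMap
  intro z
  obtain ⟨w, hw⟩ := hf z
  exact ⟨w, hw⟩

end Groth.Agent.Helper6.UnivInj
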