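import Mathlib
import Groth.Agent.Lib.Helper6.UnivInj

/-! Descent of finite presentation along universally injective ring maps. -/

set_option autoImplicit false

open scoped TensorProduct

universe u

namespace Groth.Agent.Helper6.UnivInj

variable {R S : Type u} [CommRing R] [CommRing S] [Algebra R S]

theorem finitePresentation (h : Pi1.UnivInjective R S) (M : Type u) [AddCommGroup M] [Module R M]
    [Module.FinitePresentation S (S ⊗[R] M)] : Module.FinitePresentation R M := by
  classical
  have : Module.Finite R M := finite h M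
  obtain ⟨n, π, hπ⟩ := Module.Finite.exists_fin' R M
  let πS : S ⊗[R] (Fin n → R) →ₗ[S] S ⊗[R] M := π.baseChange S
  have hπS : Function.Surjective πS := LinearMap.lTensor_surjective S hπ
  have hfg : (LinearMap.ker πS).FG := Module.FinitePresentation.fg_ker πS hπS
  have hex : ∀ z ∈ LinearMap.ker πS, ∃ w : S ⊗[R] (LinearMap.ker π),
      (LinearMap.ker π).subtype.lTensor S w = z := by
    intro z hz
    have hexact := lTensor_exact S (LinearMap.exact_subtype_ker_map π) hπ
    exact (hexact z).mp hz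
  obtain ⟨G, hG⟩ := hfg
  have hG' : ∀ g : G, ∃ (k : ℕ) (t : Fin k → S) (x : Fin k → LinearMap.ker π),
      g.1 = ∑ j, t j ⊗ₜ[R] ((x j : LinearMap.ker π) : Fin n → R) := by
    intro g
    obtain ⟨w, hw⟩ := hex g.1 (hG ▸ Submodule.subset_span g.2)
    obtain ⟨k, t, x, hx⟩ := TensorProduct.exists_sum_tmul_eq w
    refine ⟨k, t, x, ?_⟩
    rw [← hw, hx, map_sum]
    simp
  choose k t x hx using hG'
  let K' : Submodule R (Fin n → R) :=
    Submodule.span R (Set.range fun p : Σ g : G, Fin (k g) =>
      ((x p.1 p.2 : LinearMap.ker π) : Fin n → R))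
  have hK'fg : K'.FG := Submodule.fg_span (Set.finite_range _)
  have hK'le : K' ≤ LinearMap.ker π :=
    Submodule.span_le.mpr (by rintro _ ⟨p, rfl⟩; exact (x p.1 p.2).2)
  have hle : LinearMap.ker π ≤ K' := by
    intro y hy
    have hmem : (1 : S) ⊗ₜ[R] y ∈ LinearMap.ker πS := by
      simp [πS, LinearMap.mem_ker.mp hy]
    have hsub : LinearMap.ker πS ≤ LinearMap.ker (K'.mkQ.baseChange S) := by
      rw [← hG, Submodule.span_le]
      intro g hg
      have e := hx ⟨g, hg⟩
      simp only [SetLike.mem_coe, LinearMap.mem_ker]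
      change K'.mkQ.baseChange S g = 0
      have e' : g = ∑ j, t ⟨g, hg⟩ j ⊗ₜ[R] ((x ⟨g, hg⟩ j : LinearMap.ker π) : Fin n → R) := e
      rw [e', map_sum]
      apply Finset.sum_eq_zero
      intro j _
      have hxK : ((x ⟨g, hg⟩ j : LinearMap.ker π) : Fin n → R) ∈ K' :=
        Submodule.subset_span ⟨⟨⟨g, hg⟩, j⟩, rfl⟩
      rw [LinearMap.baseChange_tmul, Submodule.mkQ_apply,
        (Submodule.Quotient.mk_eq_zero K').mpr hxK, TensorProduct.tmul_zero]
    have h0 : (K'.mkQ.baseChange S) ((1 : S) ⊗ₜ[R] y) = 0 := hsub hmem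
    have h1 : K'.mkQ y = 0 := by
      apply mk_one_injective h ((Fin n → R) ⧸ K')
      rw [map_zero]
      simpa using h0
    simpa using h1
  have hker : LinearMap.ker π = K' := le_antisymm hle hK'le
  exact Module.finitePresentation_of_surjective π hπ (hker ▸ hK'fg)

theorem exists_fg_le_map_eq {P Q : Type*} [CommRing P] [CommRing Q] (φ : P →+* Q) (I : Ideal P)
    (hfg : (I.map φ).FG) : ∃ I' : Ideal P, I'.FG ∧ I' ≤ I ∧ I'.map φ = I.map φ := by
  classical
  have hfg' : (Submodule.span Q (φ '' (I : Set P))).FG := hfg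
  obtain ⟨s', hs'sub, hs'eq⟩ := (Submodule.fg_span_iff_fg_span_finset_subset _).mp hfg'
  obtain ⟨t, ht_sub, ht_img⟩ := Finset.subset_set_image_iff.mp hs'sub
  refine ⟨Ideal.span (t : Set P), ⟨t, rfl⟩, Ideal.span_le.mpr ht_sub, ?_⟩
  rw [Ideal.map_span]
  change Submodule.span Q (φ '' (t : Set P)) = Submodule.span Q (φ '' (I : Set P))
  rw [hs'eq, ← ht_img]
  simp

theorem algFinitePresentation (h : Pi1.UnivInjective R S) (A : Type u) [CommRing A] [Algebra R A]
    [Algebra.FinitePresentation S (S ⊗[R] A)] : Algebra.FinitePresentation R A := by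
  have hft : Algebra.FiniteType R A := finiteType h A
  rw [Algebra.FiniteType.iff_quotient_mvPolynomial''] at hft
  obtain ⟨n, f, hf⟩ := hft
  let fS : S ⊗[R] MvPolynomial (Fin n) R →ₐ[S] S ⊗[R] A := Algebra.TensorProduct.map (.id S S) f
  have hfS : Function.Surjective fS := Algebra.FiniteType.baseChangeAux_surj S hf
  have hker : RingHom.ker fS.toRingHom =
      (RingHom.ker f.toRingHom).map (Algebra.TensorProduct.includeRight :
        MvPolynomial (Fin n) R →ₐ[R] S ⊗[R] MvPolynomial (Fin n) R).toRingHom :=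
    Algebra.TensorProduct.lTensor_ker f hf
  have hfg : (RingHom.ker fS.toRingHom).FG :=
    Algebra.FinitePresentation.ker_fG_of_surjective fS hfS
  rw [hker] at hfg
  obtain ⟨I', hI'fg, hI'le, hI'map⟩ := exists_fg_le_map_eq _ _ hfg
  have hle : RingHom.ker f.toRingHom ≤ I' := by
    intro x hx
    have h1 : (Algebra.TensorProduct.includeRight :
        MvPolynomial (Fin n) R →ₐ[R] S ⊗[R] MvPolynomial (Fin n) R).toRingHom x ∈
        I'.map (Algebra.TensorProduct.includeRight :
        MvPolynomial (Fin n) R →ₐ[R] S ⊗[R] MvPolynomial (Fin n) R).toRingHom := by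
      rw [hI'map]; exact Ideal.mem_map_of_mem _ hx
    have hq := Algebra.TensorProduct.lTensor_ker (A := S) (Ideal.Quotient.mkₐ R I')
      (Ideal.Quotient.mkₐ_surjective R I')
    have hkq : RingHom.ker (Ideal.Quotient.mkₐ R I') = I' := by
      ext y
      simp [RingHom.mem_ker, Ideal.Quotient.eq_zero_iff_mem]
    rw [hkq] at hq
    have h1' : (Algebra.TensorProduct.includeRight :
        MvPolynomial (Fin n) R →ₐ[R] S ⊗[R] MvPolynomial (Fin n) R) x ∈
        I'.map (Algebra.TensorProduct.includeRight :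
        MvPolynomial (Fin n) R →ₐ[R] S ⊗[R] MvPolynomial (Fin n) R) := h1
    rw [← hq, RingHom.mem_ker] at h1'
    have h2 : (1 : S) ⊗ₜ[R] (Ideal.Quotient.mk I' x) = 0 := by simpa using h1'
    have h3 : Ideal.Quotient.mk I' x = 0 := by
      apply mk_one_injective h (MvPolynomial (Fin n) R ⧸ I')
      rw [map_zero]
      simpa using h2
    exact Ideal.Quotient.eq_zero_iff_mem.mp h3
  have hkerI : RingHom.ker f.toRingHom = I' := le_antisymm hle hI'le
  exact Algebra.FinitePresentation.of_surjective hf (hkerI ▸ hI'fg)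

end Groth.Agent.Helper6.UnivInj
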