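import Mathlib
import Groth.Agent.Lib.Helper6.UnivInj2

/-! Descent of flatness and étaleness along universally injective ring maps. -/

set_option autoImplicit false

open scoped TensorProduct

universe u

namespace Groth.Agent.Helper6.UnivInj

variable {R S : Type u} [CommRing R] [CommRing S] [Algebra R S]

theorem char_ext_tmul {A B : Type*} [AddCommGroup A] [Module R A] [AddCommGroup B] [Module R B]
    (c c' : CharacterModule (A ⊗[R] B)) (h : ∀ a b, c (a ⊗ₜ b) = c' (a ⊗ₜ b)) : c = c' := by
  ext z
  induction z with
  | zero => simp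
  | tmul a b => exact h a b
  | add x y hx hy => rw [map_add, map_add, hx, hy]

instance isScalarTower_char (N : Type u) [AddCommGroup N] [Module R N] :
    IsScalarTower R S (CharacterModule (S ⊗[R] N)) where
  smul_assoc a s c := by
    ext z
    simp only [CharacterModule.smul_apply]
    rw [smul_assoc, smul_comm]

theorem dual_eval {A B : Type*} [AddCommGroup A] [Module R A] [AddCommGroup B] [Module R B]
    (f : A →ₗ[R] B) (c : CharacterModule B) (a : A) : CharacterModule.dual f c a = c (f a) := rfl

theorem curry_eval {A B : Type*} [AddCommGroup A] [Module R A] [AddCommGroup B] [Module R B]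
    (c : CharacterModule (A ⊗[R] B)) (a : A) (b : B) :
    CharacterModule.curry c a b = c (a ⊗ₜ b) := rfl

theorem uncurry_eval {A B : Type*} [AddCommGroup A] [Module R A] [AddCommGroup B] [Module R B]
    (c : A →ₗ[R] CharacterModule B) (a : A) (b : B) :
    CharacterModule.uncurry c (a ⊗ₜ b) = c a b := rfl

/-- existence of a splitting of `C(S) → C(R)` -/
theorem exists_sigma (h : Pi1.UnivInjective R S) :
    ∃ σ : CharacterModule R →ₗ[R] CharacterModule S,
      ∀ (φ : CharacterModule R) (r : R), σ φ (algebraMap R S r) = φ r := by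
  obtain ⟨γ, hγ⟩ := CharacterModule.dual_surjective_of_injective _ (h (CharacterModule R))
    (CharacterModule.uncurry (LinearMap.id : CharacterModule R →ₗ[R] CharacterModule R))
  refine ⟨CharacterModule.curry γ, fun φ r => ?_⟩
  have e := DFunLike.congr_fun hγ (φ ⊗ₜ[R] r)
  rw [dual_eval, uncurry_eval, LinearMap.lTensor_tmul] at e
  rw [curry_eval]
  exact e

variable (σ : CharacterModule R →ₗ[R] CharacterModule S)

/-- the natural map `C(N) → C(S ⊗ N)` induced by `σ`. -/
noncomputable def sec (N : Type u) [AddCommGroup N] [Module R N] :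
    CharacterModule N →ₗ[R] CharacterModule (S ⊗[R] N) :=
  (CharacterModule.dual (TensorProduct.comm R S N).toLinearMap) ∘ₗ CharacterModule.uncurry ∘ₗ
    (LinearMap.compRight R σ) ∘ₗ CharacterModule.curry ∘ₗ
      (CharacterModule.dual (TensorProduct.rid R N).toLinearMap)

theorem sec_tmul (N : Type u) [AddCommGroup N] [Module R N] (c : CharacterModule N) (x : S)
    (n : N) : sec σ N c (x ⊗ₜ n) =
      σ (CharacterModule.curry (CharacterModule.dual (TensorProduct.rid R N).toLinearMap c) n) x := by
  rfl

theorem dual_mk_sec (hσ : ∀ (φ : CharacterModule R) (r : R), σ φ (algebraMap R S r) = φ r)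
    (N : Type u) [AddCommGroup N] [Module R N] (c : CharacterModule N) :
    CharacterModule.dual (TensorProduct.mk R S N 1) (sec σ N c) = c := by
  ext n
  have := hσ (CharacterModule.curry (CharacterModule.dual (TensorProduct.rid R N).toLinearMap c) n) 1
  rw [map_one] at this
  rw [dual_eval]
  change sec σ N c ((1 : S) ⊗ₜ[R] n) = c n
  rw [sec_tmul, this, curry_eval, dual_eval]
  simp

theorem sec_natural {N N' : Type u} [AddCommGroup N] [Module R N] [AddCommGroup N'] [Module R N']
    (g : N →ₗ[R] N') (c : CharacterModule N') :
    sec σ N (CharacterModule.dual g c) = CharacterModule.dual (g.baseChange S) (sec σ N' c) := by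
  apply char_ext_tmul
  intro x n
  rw [sec_tmul, dual_eval, LinearMap.baseChange_tmul, sec_tmul]
  congr 2
  ext r
  simp only [curry_eval, dual_eval, LinearEquiv.coe_coe, TensorProduct.rid_tmul, map_smul]

theorem flat (h : Pi1.UnivInjective R S) (M : Type u) [AddCommGroup M] [Module R M]
    [Module.Flat S (S ⊗[R] M)] : Module.Flat R M := by
  obtain ⟨σ, hσ⟩ := exists_sigma h
  -- free cover
  let F := M →₀ R
  let π : F →ₗ[R] M := Finsupp.linearCombination R id
  have hπ : Function.Surjective π := Finsupp.linearCombination_id_surjective R M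
  have hBF : Module.Baer R (CharacterModule F) := Module.Flat.iff_characterModule_baer.mp inferInstance
  have hBS : Module.Baer S (CharacterModule (S ⊗[R] M)) :=
    Module.Flat.iff_characterModule_baer.mp inferInstance
  let πS : S ⊗[R] F →ₗ[S] S ⊗[R] M := π.baseChange S
  have hπS : Function.Surjective πS := LinearMap.lTensor_surjective S hπ
  have hdinj : Function.Injective (CharacterModule.dual πS) :=
    CharacterModule.dual_injective_of_surjective πS hπS
  obtain ⟨r, hr⟩ := hBS.extension_property (CharacterModule.dual πS) hdinj LinearMap.id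
  obtain ⟨ρ, hρ⟩ : ∃ ρ : CharacterModule F →ₗ[R] CharacterModule M,
      ∀ c : CharacterModule M, ρ (CharacterModule.dual π c) = c := by
    refine ⟨(CharacterModule.dual (TensorProduct.mk R S M 1)) ∘ₗ (r.restrictScalars R) ∘ₗ
      (sec σ F), fun c => ?_⟩
    simp only [LinearMap.comp_apply, LinearMap.restrictScalars_apply]
    rw [sec_natural σ π c]
    have e : r (CharacterModule.dual πS (sec σ M c)) = sec σ M c := by
      have := LinearMap.congr_fun hr (sec σ M c)
      simpa using this
    have e' : CharacterModule.dual (π.baseChange S) (sec σ M c) =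
        CharacterModule.dual πS (sec σ M c) := rfl
    rw [e', e]
    exact dual_mk_sec σ hσ M c
  rw [Module.Flat.iff_characterModule_baer]
  intro I g
  obtain ⟨g', hg'⟩ := hBF I ((CharacterModule.dual π) ∘ₗ g)
  refine ⟨ρ ∘ₗ g', fun x mem => ?_⟩
  rw [LinearMap.comp_apply, hg' x mem, LinearMap.comp_apply, hρ]

theorem etale (h : Pi1.UnivInjective R S) (A : Type u) [CommRing A] [Algebra R A]
    [Algebra.Etale S (S ⊗[R] A)] : Algebra.Etale R A := by
  have : Algebra.FinitePresentation R A := algFinitePresentation h A
  have : Module.Flat R A := flat h A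
  have : Algebra.FormallyUnramified R A := by
    constructor
    let _ : Algebra A (S ⊗[R] A) := Algebra.TensorProduct.rightAlgebra
    have : Subsingleton (S ⊗[R] Ω[A⁄R]) :=
      (KaehlerDifferential.tensorKaehlerEquivBase R S A (S ⊗[R] A)).subsingleton
    exact subsingleton_of_tensor h _
  exact Algebra.Etale.of_formallyUnramified_of_flat

end Groth.Agent.Helper6.UnivInj
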